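/-
B & G, Appendix C, Lemmas C.1 and C.2 (the finite field part).
-/
import Mathlib

set_option autoImplicit false

namespace CA.BG.AppC

open Polynomial

section C1

variable {p : ℕ} [Fact p.Prime] {F : Type*} [Field F] [Algebra (ZMod p) F] [Finite F]

theorem norm_sub_eq_eval (a : F) (k : ZMod p) :
    Algebra.norm (ZMod p) (algebraMap (ZMod p) F k - a) =
      (Algebra.lmul (ZMod p) F a).charpoly.eval k := by
  rw [LinearMap.eval_charpoly, Algebra.norm_apply]
  congr 1
  ext x
  simp [sub_mul, Algebra.smul_def]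

/-- Lemma C.1. -/
theorem lemmaC1
    (hinv : ∀ a : F, Algebra.norm (ZMod p) a = 1 ∧ Algebra.norm (ZMod p) (2 - a) = 1 →
      Algebra.norm (ZMod p) a⁻¹ = 1 ∧ Algebra.norm (ZMod p) (2 - a⁻¹) = 1)
    {a : F} (ha : Algebra.norm (ZMod p) a = 1 ∧ Algebra.norm (ZMod p) (2 - a) = 1) (a1 : a ≠ 1) :
    p ≤ Module.finrank (ZMod p) F := by
  have hp : p.Prime := Fact.out
  have nz : ∀ x : F, Algebra.norm (ZMod p) x = 1 → x ≠ 0 := by
    rintro x hx rfl
    rw [Algebra.norm_zero] at hx
    exact zero_ne_one hx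
  have key : ∀ k : ℕ, Algebra.norm (ZMod p) (a + (k + 1 : ℕ) * (1 - a)) = 1 ∧
      Algebra.norm (ZMod p) ((a + k * (1 - a)) / (a + (k + 1 : ℕ) * (1 - a))) = 1 ∧
      Algebra.norm (ZMod p) (2 - (a + k * (1 - a)) / (a + (k + 1 : ℕ) * (1 - a))) = 1 := by
    intro k
    induction k with
    | zero => simpa using ha
    | succ k ih =>
      obtain ⟨h1, h2, h3⟩ := ih
      have n1 := nz _ h1
      have e : 2 - (a + k * (1 - a)) / (a + (k + 1 : ℕ) * (1 - a)) =
          (a + (k + 1 + 1 : ℕ) * (1 - a)) / (a + (k + 1 : ℕ) * (1 - a)) := by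
        rw [eq_div_iff n1, sub_mul, div_mul_cancel₀ _ n1]
        push_cast
        ring
      have h4 := hinv _ ⟨h3, by rwa [sub_sub_cancel]⟩
      rw [e, inv_div] at h4
      refine ⟨?_, h4⟩
      rw [e] at h3
      have := map_mul (Algebra.norm (ZMod p))
        ((a + (k + 1 + 1 : ℕ) * (1 - a)) / (a + (k + 1 : ℕ) * (1 - a))) (a + (k + 1 : ℕ) * (1 - a))
      rw [div_mul_cancel₀ _ n1, h3, h1, one_mul] at this
      exact this
  have c0 : (1 - a) ≠ 0 := sub_ne_zero.2 a1.symm
  have key2 : ∀ k : ZMod p, (Algebra.lmul (ZMod p) F (-(1 - a)⁻¹)).charpoly.eval k =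
      Algebra.norm (ZMod p) (1 - a)⁻¹ := by
    intro k
    rw [← norm_sub_eq_eval]
    have h := (key k.val).1
    have e : algebraMap (ZMod p) F k - -(1 - a)⁻¹ =
        (1 - a)⁻¹ * (a + (k.val + 1 : ℕ) * (1 - a)) := by
      have : algebraMap (ZMod p) F k = (k.val : F) := by
        conv_lhs => rw [← ZMod.natCast_zmod_val k]
        rw [map_natCast]
      rw [this]
      push_cast
      field_simp
      ring
    rw [e, map_mul, h, mul_one]
  set χ := (Algebra.lmul (ZMod p) F (-(1 - a)⁻¹)).charpoly with hχ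
  have mon : χ.Monic := LinearMap.charpoly_monic _
  have deg : χ.natDegree = Module.finrank (ZMod p) F := LinearMap.charpoly_natDegree _
  have pos : 0 < χ.natDegree := deg ▸ Module.finrank_pos
  by_contra hlt
  push Not at hlt
  have deg2 : (χ - C (Algebra.norm (ZMod p) (1 - a)⁻¹)).natDegree = χ.natDegree :=
    natDegree_sub_C
  have z : χ - C (Algebra.norm (ZMod p) (1 - a)⁻¹) = 0 := by
    refine eq_zero_of_natDegree_lt_card_of_eval_eq_zero _ (f := fun k : ZMod p => k)
      (fun _ _ h => h) (fun k => ?_) ?_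
    · rw [eval_sub, eval_C, key2, sub_self]
    · rw [deg2, deg, ZMod.card]; exact hlt
  rw [z, natDegree_zero] at deg2
  omega

/-- Lemma C.2 for `q = 3`. -/
theorem lemmaC2_three (hp2 : p ≠ 2) (h3 : Module.finrank (ZMod p) F = 3) :
    ∃ a : F, a ≠ 1 ∧ Algebra.norm (ZMod p) a = 1 ∧ Algebra.norm (ZMod p) (2 - a) = 1 := by
  have hp : p.Prime := Fact.out
  classical
  obtain ⟨c, hc⟩ : ∃ c : ZMod p, ∀ x : ZMod p, x * (x - 2) * (x - c) + (x - 1) ≠ 0 := by
    have hcard : ((Finset.univ.erase (0 : ZMod p)).image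
        (fun x : ZMod p => x + (x - 1) / (x * (x - 2)))).card < (Finset.univ : Finset (ZMod p)).card :=
      lt_of_le_of_lt Finset.card_image_le (Finset.card_erase_lt_of_mem (Finset.mem_univ _))
    obtain ⟨c, -, hc⟩ := Finset.exists_mem_notMem_of_card_lt_card hcard
    refine ⟨c, fun x hx => hc (Finset.mem_image.2 ⟨x, ?_, ?_⟩)⟩
    · refine Finset.mem_erase.2 ⟨?_, Finset.mem_univ _⟩
      rintro rfl
      simp at hx
    · have x0 : x ≠ 0 := by
        rintro rfl
        simp at hx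
      have x2 : x - 2 ≠ 0 := by
        intro h
        rw [h, sub_eq_zero.1 h] at hx
        norm_num at hx
      field_simp
      linear_combination hx
  set f : (ZMod p)[X] := X * (X - C 2) * (X - C c) + (X - C 1) with hf
  have ev : ∀ x, f.eval x = x * (x - 2) * (x - c) + (x - 1) := by
    intro x; simp [hf]
  have deg : f.natDegree = 3 := by rw [hf]; compute_degree!
  have mon : f.Monic := by rw [hf]; monicity!
  have irr : Irreducible f :=
    irreducible_of_degree_le_three_of_not_isRoot (by rw [deg]; decide)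
      (fun x hx => hc x (by rw [← ev]; exact hx))
  haveI := Fact.mk irr
  haveI : Module.Finite (ZMod p) (AdjoinRoot f) := (AdjoinRoot.powerBasis irr.ne_zero).finite
  haveI : Finite (AdjoinRoot f) := Module.finite_of_finite (ZMod p)
  have fr : Module.finrank (ZMod p) (AdjoinRoot f) = 3 := by
    rw [(AdjoinRoot.powerBasis irr.ne_zero).finrank, AdjoinRoot.powerBasis_dim, deg]
  obtain ⟨φ⟩ := FiniteField.nonempty_algHom_of_finrank_dvd (F := ZMod p) (K := AdjoinRoot f)
    (L := F) (by rw [fr, h3])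
  set a := φ (AdjoinRoot.root f) with ha
  have fa : aeval a f = 0 := by
    rw [ha, aeval_algHom_apply, AdjoinRoot.aeval_eq, AdjoinRoot.mk_self, map_zero]
  have mp : f = minpoly (ZMod p) a := minpoly.eq_of_irreducible_of_monic irr fa mon
  have hχ : (Algebra.lmul (ZMod p) F a).charpoly = f := by
    refine eq_of_monic_of_dvd_of_natDegree_le mon (LinearMap.charpoly_monic _) ?_ ?_
    · rw [mp]; exact minpoly.dvd _ _ (Algebra.aeval_self_charpoly_lmul a)
    · rw [LinearMap.charpoly_natDegree, h3, deg]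
  have nk : ∀ k : ZMod p, Algebra.norm (ZMod p) (algebraMap (ZMod p) F k - a) =
      k * (k - 2) * (k - c) + (k - 1) := by
    intro k; rw [norm_sub_eq_eval, hχ, ev]
  refine ⟨a, ?_, ?_, ?_⟩
  · intro h
    have := nk 1
    rw [h, map_one, sub_self, Algebra.norm_zero] at this
    exact hc 1 this.symm
  · have h0 := nk 0
    have e : algebraMap (ZMod p) F 0 - a = algebraMap (ZMod p) F (-1) * a := by simp
    rw [e, map_mul, Algebra.norm_algebraMap, h3] at h0
    linear_combination -h0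
  · have h2 := nk 2
    rw [map_ofNat] at h2
    rw [h2]; ring

end C1

section C2

variable {p : ℕ} [Fact p.Prime] {F : Type*} [Field F] [Algebra (ZMod p) F] [Fintype F]

theorem exists_normChar (χ : MulChar (ZMod p) ℂ) :
    ∃ ψ : MulChar F ℂ, ∀ x, ψ x = χ (Algebra.norm (ZMod p) x) := by
  refine ⟨⟨χ.toMonoidHom.comp (Algebra.norm (ZMod p)), fun a ha => ?_⟩, fun _ => rfl⟩
  have : a = 0 := by simpa using ha
  subst this
  simp [MulChar.map_zero]

theorem norm_jacobiSum_le (p : ℕ) [Fact p.Prime] [Algebra (ZMod p) F] {χ φ : MulChar F ℂ} (h : χ ≠ 1 ∨ φ ≠ 1) :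
    ‖jacobiSum χ φ‖ ^ 2 ≤ Fintype.card F := by
  have hp : p.Prime := Fact.out
  have one : (1 : ℝ) ≤ Fintype.card F := by exact_mod_cast Fintype.card_pos
  by_cases h1 : χ = 1
  · subst h1
    rw [jacobiSum_one_nontrivial (h.resolve_left (fun h => h rfl))]
    simpa using one
  by_cases h2 : φ = 1
  · subst h2
    rw [jacobiSum_comm, jacobiSum_one_nontrivial h1]
    simpa using one
  by_cases h3 : χ * φ = 1
  · rw [eq_inv_of_mul_eq_one_right h3, jacobiSum_nontrivial_inv h1, norm_neg, ← norm_pow, ← map_pow]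
    simpa using one
  haveI : CharP F p := charP_of_injective_algebraMap (algebraMap (ZMod p) F).injective p
  have hc : ringChar ℂ ≠ ringChar F := by
    rw [ringChar.eq_zero, ringChar.eq F p]; exact hp.ne_zero.symm
  have e := jacobiSum_mul_jacobiSum_inv hc h1 h2 h3
  have s : jacobiSum χ⁻¹ φ⁻¹ = (starRingEnd ℂ) (jacobiSum χ φ) := by
    simp only [jacobiSum, map_sum, map_mul]
    refine Finset.sum_congr rfl fun x _ => ?_
    rw [← MulChar.star_apply', ← MulChar.star_apply']
    rfl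
  rw [s, Complex.mul_conj, Complex.normSq_eq_norm_sq] at e
  exact le_of_eq (by exact_mod_cast e)

theorem norm_mulChar_unit (χ : MulChar (ZMod p) ℂ) {x : ZMod p} (hx : x ≠ 0) : ‖χ x‖ = 1 := by
  have hp : p.Prime := Fact.out
  have h : ‖χ x‖ ^ (p - 1) = 1 := by
    rw [← norm_pow, ← map_pow, ZMod.pow_card_sub_one_eq_one hx]; simp
  exact (pow_eq_one_iff_of_nonneg (norm_nonneg _) (by have := hp.two_le; omega)).1 h

/-- Lemma C.2 for `q ≥ 4`. -/
theorem lemmaC2_large (hp2 : p ≠ 2) (h4 : 4 ≤ Module.finrank (ZMod p) F) :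
    ∃ a : F, a ≠ 1 ∧ Algebra.norm (ZMod p) a = 1 ∧ Algebra.norm (ZMod p) (2 - a) = 1 := by
  have hp : p.Prime := Fact.out
  classical
  by_contra hne
  push Not at hne
  haveI : NeZero p := ⟨hp.ne_zero⟩
  haveI : CharP F p := charP_of_injective_algebraMap (algebraMap (ZMod p) F).injective p
  have two : (2 : F) ≠ 0 := by
    intro h
    have : ((2 : ℕ) : F) = 0 := by exact_mod_cast h
    rw [CharP.cast_eq_zero_iff F p] at this
    exact hp2 ((Nat.prime_dvd_prime_iff_eq hp Nat.prime_two).1 this)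
  have N2 : Algebra.norm (ZMod p) (2 : F) ≠ 0 := by
    rwa [Ne, Algebra.norm_eq_zero_iff]
  choose L hL using fun χ : MulChar (ZMod p) ℂ => exists_normChar (F := F) χ
  have L1 : L 1 = 1 := by
    ext x
    rw [hL, MulChar.one_apply_coe, MulChar.one_apply]
    exact (x.isUnit.map _)
  have Lne : ∀ χ, χ ≠ 1 → L χ ≠ 1 := by
    intro χ hχ h
    apply hχ
    ext x
    obtain ⟨y, hy⟩ := FiniteField.norm_surjective (ZMod p) F (x : ZMod p)
    have y0 : y ≠ 0 := by
      rintro rfl
      rw [Algebra.norm_zero] at hy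
      exact x.ne_zero hy.symm
    rw [← hy, ← hL, h, MulChar.one_apply (Ne.isUnit y0), hy, MulChar.one_apply_coe]
  -- the character sum
  have hsum : ∑ χ : DirichletCharacter ℂ p, ∑ φ : DirichletCharacter ℂ p,
      χ (Algebra.norm (ZMod p) (2 : F)) * φ (Algebra.norm (ZMod p) (2 : F)) * jacobiSum (L χ) (L φ)
      = ((p - 1 : ℕ) : ℂ) ^ 2 := by
    have e1 : ∀ χ φ : DirichletCharacter ℂ p,
        χ (Algebra.norm (ZMod p) (2 : F)) * φ (Algebra.norm (ZMod p) (2 : F)) * jacobiSum (L χ) (L φ)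
        = ∑ a : F, χ (Algebra.norm (ZMod p) a) * φ (Algebra.norm (ZMod p) (2 - a)) := by
      intro χ φ
      rw [jacobiSum, Finset.mul_sum]
      conv_rhs => rw [← Equiv.sum_comp (Equiv.mulLeft₀ (2 : F) two)]
      refine Finset.sum_congr rfl fun x _ => ?_
      have : (2 : F) - 2 * x = 2 * (1 - x) := by ring
      simp only [Equiv.mulLeft₀_apply, this, map_mul, hL]
      ring
    simp only [e1]
    have e2 : ∑ χ : DirichletCharacter ℂ p, ∑ φ : DirichletCharacter ℂ p,
        ∑ a : F, χ (Algebra.norm (ZMod p) a) * φ (Algebra.norm (ZMod p) (2 - a)) =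
        ∑ a : F, (∑ χ : DirichletCharacter ℂ p, χ (Algebra.norm (ZMod p) a)) *
          ∑ φ : DirichletCharacter ℂ p, φ (Algebra.norm (ZMod p) (2 - a)) := by
      simp only [Finset.sum_mul_sum]
      rw [Finset.sum_comm]
      conv_rhs => rw [Finset.sum_comm]
      conv_lhs => rw [Finset.sum_comm]
      exact Finset.sum_congr rfl fun _ _ => Finset.sum_comm
    rw [e2]
    simp only [DirichletCharacter.sum_characters_eq, Nat.totient_prime hp]
    rw [Finset.sum_eq_single (1 : F)]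
    · have : (2 : F) - 1 = 1 := by ring
      simp [this, sq]
    · intro a _ ha
      by_cases h : Algebra.norm (ZMod p) a = 1
      · rw [if_neg (hne a ha h), mul_zero]
      · rw [if_neg h, zero_mul]
    · intro h; exact absurd (Finset.mem_univ _) h
  rw [← Finset.sum_product', ← Finset.add_sum_erase _ _ (a := ((1, 1) :
    DirichletCharacter ℂ p × DirichletCharacter ℂ p))
    (Finset.mem_product.2 ⟨Finset.mem_univ _, Finset.mem_univ _⟩)] at hsum
  simp only [L1, jacobiSum_one_one, MulChar.one_apply (Ne.isUnit N2), one_mul] at hsum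
  set s : ℝ := √(Fintype.card F) with hs
  have s0 : 0 ≤ s := Real.sqrt_nonneg _
  have s2 : s ^ 2 = Fintype.card F := Real.sq_sqrt (Nat.cast_nonneg _)
  have hb : ‖∑ x ∈ (Finset.univ ×ˢ Finset.univ).erase ((1, 1) :
      DirichletCharacter ℂ p × DirichletCharacter ℂ p),
      x.1 (Algebra.norm (ZMod p) (2 : F)) * x.2 (Algebra.norm (ZMod p) (2 : F)) *
        jacobiSum (L x.1) (L x.2)‖ ≤ (((p - 1) ^ 2 - 1 : ℕ) : ℝ) * s := by
    refine (norm_sum_le _ _).trans ?_
    refine (Finset.sum_le_card_nsmul _ _ s fun x hx => ?_).trans (le_of_eq ?_)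
    · rw [norm_mul, norm_mul, norm_mulChar_unit _ N2, norm_mulChar_unit _ N2, one_mul, one_mul]
      refine Real.le_sqrt_of_sq_le (norm_jacobiSum_le p ?_)
      by_contra h
      push Not at h
      refine (Finset.mem_erase.1 hx).1 (Prod.ext ?_ ?_)
      · by_contra h'; exact Lne _ h' h.1
      · by_contra h'; exact Lne _ h' h.2
    · rw [Finset.card_erase_of_mem (Finset.mem_product.2 ⟨Finset.mem_univ _, Finset.mem_univ _⟩),
        Finset.card_product, Finset.card_univ, ← Nat.card_eq_fintype_card,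
        DirichletCharacter.card_eq_totient_of_hasEnoughRootsOfUnity, Nat.totient_prime hp,
        nsmul_eq_mul, sq]
  rw [← eq_sub_iff_add_eq'] at hsum
  rw [hsum] at hb
  have p3 : 3 ≤ p := by have := hp.two_le; omega
  have hcard : (p : ℝ) ^ 4 ≤ Fintype.card F := by
    rw [Module.card_eq_pow_finrank (K := ZMod p), ZMod.card]
    exact_mod_cast Nat.pow_le_pow_right hp.pos h4
  have sp : (p : ℝ) ^ 2 ≤ s := Real.le_sqrt_of_sq_le (by rw [← pow_mul]; exact hcard)
  obtain ⟨r, rfl⟩ : ∃ r, p = r + 1 := ⟨p - 1, by omega⟩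
  have r2 : (2 : ℝ) ≤ r := by exact_mod_cast (by omega : 2 ≤ r)
  have e3 : (((r + 1 - 1) ^ 2 - 1 : ℕ) : ℝ) = (r : ℝ) ^ 2 - 1 := by
    rw [Nat.add_sub_cancel, Nat.cast_sub (Nat.one_le_pow _ _ (by omega))]; push_cast; ring
  have e4 : ((r + 1 - 1 : ℕ) : ℂ) ^ 2 - ((Fintype.card F : ℂ) - 2) =
      (((r : ℝ) ^ 2 - (s ^ 2 - 2) : ℝ) : ℂ) := by
    rw [s2, Nat.add_sub_cancel]; push_cast; ring
  rw [e3, e4, Complex.norm_real, Real.norm_eq_abs, abs_le] at hb
  push_cast at sp
  nlinarith [hb.1, mul_nonneg s0 (sub_nonneg.2 sp), mul_nonneg (sub_nonneg.2 sp) (sub_nonneg.2 r2)]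

/-- Lemma C.2. -/
theorem lemmaC2 (hp2 : p ≠ 2) (h3 : 3 ≤ Module.finrank (ZMod p) F) :
    ∃ a : F, a ≠ 1 ∧ Algebra.norm (ZMod p) a = 1 ∧ Algebra.norm (ZMod p) (2 - a) = 1 := by
  rcases h3.eq_or_lt with h | h
  · exact lemmaC2_three hp2 h.symm
  · exact lemmaC2_large hp2 h

end C2

end CA.BG.AppC
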