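/-
B & G, Appendix C, Lemma C.3 and Theorem C.
-/
import Cfsg.Agent.BG.AppC1
import Cfsg.Agent.BG.I01

set_option autoImplicit false
set_option linter.unusedSectionVars false

namespace CA.BG.AppC

open Subgroup
open scoped commutatorElement

section Setup

variable {G : Type*} [Group G] [Finite G] {p q : ℕ} [Fact p.Prime] [Fact q.Prime]
  {F : Type*} [Field F] [Fintype F] {P U Q : Subgroup G} {f ψ : G → F}
  (hA : Nat.Coprime ((p ^ q - 1) / (p - 1)) (p - 1))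
  (hF : Fintype.card F = p ^ q)
  (hf : Set.BijOn f (P : Set G) Set.univ) (hfadd : ∀ x ∈ P, ∀ z ∈ P, f (x * z) = f x + f z)
  (hUP : U ≤ Subgroup.normalizer (P : Set G))
  (hψ : ∀ u ∈ U, ψ u ≠ 0 ∧ ∀ x ∈ P, f (u * x * u⁻¹) = ψ u * f x)
  (hψmul : ∀ u ∈ U, ∀ v ∈ U, ψ (u * v) = ψ u * ψ v) (hψinj : Set.InjOn ψ (U : Set G))
  (hUcard : Nat.card U * (p - 1) = p ^ q - 1)

include hfadd in
theorem f_one : f 1 = 0 := by
  have := hfadd 1 P.one_mem 1 P.one_mem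
  rw [one_mul] at this
  linear_combination -this

include hfadd in
theorem f_inv {x : G} (hx : x ∈ P) : f x⁻¹ = -f x := by
  have := hfadd x hx x⁻¹ (P.inv_mem hx)
  rw [mul_inv_cancel, f_one hfadd] at this
  linear_combination -this

include hfadd in
theorem f_pow {x : G} (hx : x ∈ P) (m : ℕ) : f (x ^ m) = m * f x := by
  induction m with
  | zero => simp [f_one hfadd]
  | succ m ih => rw [pow_succ, hfadd _ (P.pow_mem hx m) _ hx, ih]; push_cast; ring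

include hfadd in
theorem f_zpow {x : G} (hx : x ∈ P) (m : ℤ) : f (x ^ m) = m * f x := by
  cases m with
  | ofNat m => simp [f_pow hfadd hx]
  | negSucc m => rw [zpow_negSucc, f_inv hfadd (P.pow_mem hx _), f_pow hfadd hx]; simp; ring

include hf hfadd in
theorem f_eq_zero {x : G} (hx : x ∈ P) (h : f x = 0) : x = 1 :=
  hf.injOn hx P.one_mem (h.trans (f_one hfadd).symm)

include hf hfadd in
theorem P_comm {x z : G} (hx : x ∈ P) (hz : z ∈ P) : x * z = z * x :=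
  hf.injOn (P.mul_mem hx hz) (P.mul_mem hz hx) (by rw [hfadd x hx z hz, hfadd z hz x hx, add_comm])

include hF hf hfadd in
theorem P_pow_p {x : G} (hx : x ∈ P) : x ^ p = 1 := by
  haveI := charP_of_card_eq_prime_pow hF
  exact f_eq_zero hf hfadd (P.pow_mem hx p) (by rw [f_pow hfadd hx, CharP.cast_eq_zero, zero_mul])

include hψ hψmul in
theorem psi_one : ψ 1 = 1 := by
  have := hψmul 1 U.one_mem 1 U.one_mem
  rw [one_mul] at this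
  exact (mul_left_cancel₀ (hψ 1 U.one_mem).1 (this.symm.trans (mul_one _).symm))

include hψ hψmul in
theorem psi_pow {u : G} (hu : u ∈ U) (m : ℕ) : ψ (u ^ m) = ψ u ^ m := by
  induction m with
  | zero => simp [psi_one hψ hψmul]
  | succ m ih => rw [pow_succ, hψmul _ (U.pow_mem hu m) _ hu, ih, pow_succ]

include hψ hψmul in
theorem psi_inv {u : G} (hu : u ∈ U) : ψ u⁻¹ = (ψ u)⁻¹ := by
  have := hψmul u hu u⁻¹ (U.inv_mem hu)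
  rw [mul_inv_cancel, psi_one hψ hψmul] at this
  exact eq_inv_of_mul_eq_one_right this.symm

include hψ hψmul hψinj in
theorem psi_eq_one {u : G} (hu : u ∈ U) (h : ψ u = 1) : u = 1 :=
  hψinj hu U.one_mem (h.trans (psi_one hψ hψmul).symm)

include hψmul hψinj in
theorem U_comm {u v : G} (hu : u ∈ U) (hv : v ∈ U) : u * v = v * u :=
  hψinj (U.mul_mem hu hv) (U.mul_mem hv hu) (by rw [hψmul u hu v hv, hψmul v hv u hu, mul_comm])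

include hUcard in
theorem cardU : Nat.card U = (p ^ q - 1) / (p - 1) := by
  have : 2 ≤ p := (Fact.out : p.Prime).two_le
  rw [← hUcard, Nat.mul_div_cancel _ (by omega)]

include hA hUcard in
theorem U_pow_pred {u : G} (hu : u ∈ U) (h : u ^ (p - 1) = 1) : u = 1 := by
  rw [← cardU hUcard] at hA
  have h1 : orderOf u ∣ Nat.card U := orderOf_dvd_natCard _ hu
  have h2 : orderOf u ∣ p - 1 := orderOf_dvd_of_pow_eq_one h
  exact orderOf_eq_one_iff.1 (Nat.eq_one_of_dvd_coprimes hA h1 h2)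

include hA hUcard in
theorem U_pow_p_eq {u : G} (hu : u ∈ U) (h : u ^ p = u) : u = 1 := by
  have : 2 ≤ p := (Fact.out : p.Prime).two_le
  refine U_pow_pred hA hUcard hu (mul_right_cancel (b := u) ?_)
  rw [← pow_succ, Nat.sub_add_cancel (by omega), h, one_mul]

include hUcard in
theorem U_pow_p {u : G} (hu : u ∈ U) (h : u ^ p = 1) : u = 1 := by
  have hp : p.Prime := Fact.out
  have hq : q.Prime := Fact.out
  have h1 : orderOf u ∣ p ^ q - 1 :=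
    (orderOf_dvd_natCard _ hu).trans (hUcard ▸ Dvd.intro _ rfl)
  have h2 : orderOf u ∣ p ^ q := (orderOf_dvd_of_pow_eq_one h).trans (dvd_pow_self p hq.ne_zero)
  have h3 : 1 ≤ p ^ q := Nat.one_le_pow _ _ hp.pos
  have := Nat.dvd_sub h2 h1
  rw [Nat.sub_sub_self h3, Nat.dvd_one] at this
  exact orderOf_eq_one_iff.1 this

include hUcard in
theorem exists_U_ne_one : ∃ u ∈ U, u ≠ 1 := by
  have hp : p.Prime := Fact.out
  have hq : q.Prime := Fact.out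
  by_contra h
  push Not at h
  have : U = ⊥ := (eq_bot_iff_forall _).2 h
  rw [this, card_bot, one_mul] at hUcard
  have h1 : p ^ 2 ≤ p ^ q := Nat.pow_le_pow_right hp.pos hq.two_le
  have := hp.two_le
  have h2 : p < p ^ 2 := by nlinarith
  omega

include hψ hψmul hψinj hUcard in
theorem psi_surj {z : F} (hz : z ^ ((p ^ q - 1) / (p - 1)) = 1) : ∃ u ∈ U, ψ u = z := by
  classical
  rw [← cardU hUcard] at hz
  haveI := Fintype.ofFinite U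
  have pos : 0 < Nat.card U := Nat.card_pos
  have sub : (Finset.univ.image fun u : U => ψ u) ⊆ (Polynomial.nthRoots (Nat.card U) (1 : F)).toFinset := by
    intro x hx
    obtain ⟨u, -, rfl⟩ := Finset.mem_image.1 hx
    rw [Multiset.mem_toFinset, Polynomial.mem_nthRoots pos, ← psi_pow hψ hψmul u.2]
    have : (u : G) ^ Nat.card U = 1 := by exact_mod_cast pow_card_eq_one' (x := u)
    rw [this, psi_one hψ hψmul]
  have c1 : (Finset.univ.image fun u : U => ψ u).card = Nat.card U := by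
    rw [Finset.card_image_of_injective (f := fun u : U => ψ u) _
      (fun u v h => Subtype.ext (hψinj u.2 v.2 h)), Finset.card_univ, Nat.card_eq_fintype_card]
  have c2 : (Polynomial.nthRoots (Nat.card U) (1 : F)).toFinset.card ≤ Nat.card U :=
    (Multiset.toFinset_card_le _).trans (Polynomial.card_nthRoots _ _)
  have := Finset.eq_of_subset_of_card_le sub (c1 ▸ c2)
  have hz' : z ∈ (Polynomial.nthRoots (Nat.card U) (1 : F)).toFinset := by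
    rw [Multiset.mem_toFinset, Polynomial.mem_nthRoots pos]; exact hz
  rw [← this] at hz'
  obtain ⟨u, -, hu⟩ := Finset.mem_image.1 hz'
  exact ⟨u, u.2, hu⟩

include hF in
theorem prime_field {c : F} (hc : c ^ p = c) : ∃ m : ℤ, c = m := by
  haveI := charP_of_card_eq_prime_pow hF
  have : c ∈ (⊥ : Subfield F) := (Subfield.mem_bot_iff_pow_eq_self (F := F) (p := p)).2 hc
  obtain ⟨n, rfl⟩ := (mem_bot_iff_intCast p F).1 this
  exact ⟨n, rfl⟩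

include hF in
theorem int_pow_p (m : ℤ) : (m : F) ^ p = m := by
  haveI := charP_of_card_eq_prime_pow hF
  exact (Subfield.mem_bot_iff_pow_eq_self (F := F) (p := p)).1 ((mem_bot_iff_intCast p F).2 ⟨m, rfl⟩)

include hA hF hψ hψmul hψinj hUcard in
theorem split_F (r : F) : ∃ u ∈ U, ∃ m : ℤ, r = ψ u * m := by
  have hp : p.Prime := Fact.out
  rcases eq_or_ne r 0 with rfl | r0
  · exact ⟨1, U.one_mem, 0, by simp⟩
  have hn : (p ^ q - 1) / (p - 1) * (p - 1) = p ^ q - 1 := by rw [← cardU hUcard, hUcard]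
  set n := (p ^ q - 1) / (p - 1) with hn'
  have hr : r ^ (n * (p - 1)) = 1 := by rw [hn, ← hF]; exact FiniteField.pow_card_sub_one_eq_one r r0
  obtain ⟨a, b, hab⟩ := Nat.isCoprime_iff_coprime.2 hA
  have h1 : (r ^ (b * (p - 1 : ℕ) : ℤ)) ^ n = 1 := by
    rw [← zpow_natCast, ← zpow_mul, mul_assoc, mul_comm (b : ℤ), zpow_mul, ← Nat.cast_mul,
      zpow_natCast, mul_comm, hr, one_zpow]
  have h2 : (r ^ (a * n : ℤ)) ^ p = r ^ (a * n : ℤ) := by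
    have : (r ^ (a * n : ℤ)) ^ (p - 1) = 1 := by
      rw [← zpow_natCast, ← zpow_mul, mul_assoc, mul_comm (a : ℤ), zpow_mul, ← Nat.cast_mul,
        zpow_natCast, hr, one_zpow]
    conv_lhs => rw [← Nat.sub_add_cancel hp.one_le, pow_succ, this, one_mul]
  obtain ⟨u, hu, e⟩ := psi_surj hψ hψmul hψinj hUcard h1
  obtain ⟨m, hm⟩ := prime_field hF h2
  refine ⟨u, hu, m, ?_⟩
  rw [e, ← hm, ← zpow_add₀ r0, add_comm, hab, zpow_one]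

include hUP in
theorem conj_P {u x : G} (hu : u ∈ U) (hx : x ∈ P) : u * x * u⁻¹ ∈ P :=
  (mem_normalizer_iff.1 (hUP hu) x).1 hx

include hf hfadd hψ hψmul hψinj in
theorem PU_TI {x : G} (hx : x ∈ P) (hu : x ∈ U) : x = 1 := by
  obtain ⟨s, hs, e⟩ := hf.surjOn (Set.mem_univ (1 : F))
  have := (hψ x hu).2 s hs
  rw [P_comm hf hfadd hx hs, mul_inv_cancel_right, e, mul_one] at this
  exact psi_eq_one hψ hψmul hψinj hu this.symm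

include hf hfadd hUP hψ hψmul hψinj in
theorem key {x₁ x₂ x₃ j u v : G} (h₁ : x₁ ∈ P) (h₂ : x₂ ∈ P) (h₃ : x₃ ∈ P) (hj : j ∈ U)
    (hu : u ∈ U) (hv : v ∈ U) :
    x₁ * j * x₂ = u * x₃ * v ↔ j = u * v ∧ f x₁ + ψ j * f x₂ = ψ u * f x₃ := by
  have a2 := conj_P hUP hj h₂
  have a3 := conj_P hUP hu h₃
  rw [← (hψ j hj).2 _ h₂, ← (hψ u hu).2 _ h₃, ← hfadd _ h₁ _ a2]
  constructor
  · intro h
    have e : (u * x₃ * u⁻¹)⁻¹ * (x₁ * (j * x₂ * j⁻¹)) = u * v * j⁻¹ := by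
      rw [show x₁ * (j * x₂ * j⁻¹) = x₁ * j * x₂ * j⁻¹ by group, h]; group
    have e1 := PU_TI hf hfadd hψ hψmul hψinj (P.mul_mem (P.inv_mem a3) (P.mul_mem h₁ a2))
      (e ▸ U.mul_mem (U.mul_mem hu hv) (U.inv_mem hj))
    refine ⟨(mul_inv_eq_one.1 (e.symm.trans e1)).symm, ?_⟩
    rw [inv_mul_eq_one.1 e1]
  · rintro ⟨rfl, h⟩
    have := hf.injOn (P.mul_mem h₁ a2) a3 h
    calc x₁ * (u * v) * x₂ = x₁ * (u * v * x₂ * (u * v)⁻¹) * (u * v) := by group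
      _ = u * x₃ * v := by rw [this]; group

include hF hf hfadd hUP hψ hψmul hψinj in
theorem frob {x₁ x₂ x₃ j u v : G} (h₁ : x₁ ∈ P) (h₂ : x₂ ∈ P) (h₃ : x₃ ∈ P)
    (f₁ : f x₁ ^ p = f x₁) (f₂ : f x₂ ^ p = f x₂) (f₃ : f x₃ ^ p = f x₃) (hj : j ∈ U)
    (hu : u ∈ U) (hv : v ∈ U) (h : x₁ * j * x₂ = u * x₃ * v) :
    x₁ * j ^ p * x₂ = u ^ p * x₃ * v ^ p := by
  haveI := charP_of_card_eq_prime_pow hF
  rw [key hf hfadd hUP hψ hψmul hψinj h₁ h₂ h₃ hj hu hv] at h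
  rw [key hf hfadd hUP hψ hψmul hψinj h₁ h₂ h₃ (U.pow_mem hj p) (U.pow_mem hu p) (U.pow_mem hv p)]
  refine ⟨by rw [h.1, Commute.mul_pow (U_comm hψmul hψinj hu hv)], ?_⟩
  have := congrArg (· ^ p) h.2
  simp only [add_pow_char, mul_pow, f₁, f₂, f₃] at this
  rwa [psi_pow hψ hψmul hj, psi_pow hψ hψmul hu]

include hA hF hf hfadd hUP hψ hψmul hψinj hUcard in
/-- Step 1. -/
theorem step1 {s : G} (hs : s ∈ P) (fs : f s = 1) {x₁ x₂ j : G} (h₁ : x₁ ∈ P) (h₂ : x₂ ∈ P)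
    (hj : j ∈ U) : ∃ u ∈ U, ∃ v ∈ U, ∃ m : ℤ, x₁ * j * x₂ = u * s ^ m * v := by
  obtain ⟨u, hu, m, e⟩ := split_F hA hF hψ hψmul hψinj hUcard (f x₁ + ψ j * f x₂)
  refine ⟨u, hu, u⁻¹ * j, U.mul_mem (U.inv_mem hu) hj, m, ?_⟩
  rw [key hf hfadd hUP hψ hψmul hψinj h₁ h₂ (P.zpow_mem hs _) hj hu (U.mul_mem (U.inv_mem hu) hj),
    f_zpow hfadd hs, fs, e]
  exact ⟨by group, by rw [mul_one]⟩

include hA hF hf hfadd hUP hψ hψmul hψinj hUcard in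
/-- Step 2. -/
theorem step2 {x₁ x₂ u : G} (h₁ : x₁ ∈ P) (h₂ : x₂ ∈ P) (f₁ : f x₁ ^ p = f x₁)
    (f₂ : f x₂ ^ p = f x₂) (hu : u ∈ U) (h : x₁ * u * x₂ ∈ U) :
    (f x₁ = 0 ∧ f x₂ = 0) ∨ (u = 1 ∧ f x₁ + f x₂ = 0) := by
  haveI := charP_of_card_eq_prime_pow hF
  have hp : p.Prime := Fact.out
  have e := ((key hf hfadd hUP hψ hψmul hψinj h₁ h₂ P.one_mem hu h U.one_mem).1 (by group)).2
  rw [f_one hfadd, mul_zero] at e
  by_cases h0 : f x₂ = 0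
  · left; rw [h0, mul_zero, add_zero] at e; exact ⟨e, h0⟩
  right
  have e1 : ψ u ^ p * f x₂ = ψ u * f x₂ := by
    have e3 := congrArg (· ^ p) e
    simp only [add_pow_char, mul_pow, f₁, f₂, zero_pow hp.ne_zero] at e3
    linear_combination e3 - e
  have e4 : u ^ p = u := hψinj (U.pow_mem hu p) hu
    (by rw [psi_pow hψ hψmul hu]; exact mul_right_cancel₀ h0 e1)
  have u1 := U_pow_p_eq hA hUcard hu e4
  refine ⟨u1, ?_⟩
  rwa [u1, psi_one hψ hψmul, one_mul] at e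

include hUP hUcard in
theorem mem_P_of_pow {g : G} (hg : g ∈ P ⊔ U) (h : g ^ p = 1) (TI : ∀ x ∈ P, x ∈ U → x = 1) :
    g ∈ P := by
  obtain ⟨z, hz, w, hw, rfl⟩ := (CA.FG.mem_sup_of_right_le_norm hUP).1 hg
  have k : ∀ m : ℕ, (z * w) ^ m * (w ^ m)⁻¹ ∈ P := by
    intro m
    induction m with
    | zero => simpa using P.one_mem
    | succ m ih =>
      have : (z * w) ^ (m + 1) * (w ^ (m + 1))⁻¹ =
          (z * w) ^ m * (w ^ m)⁻¹ * (w ^ m * z * (w ^ m)⁻¹) := by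
        rw [pow_succ, pow_succ]; group
      rw [this]
      exact P.mul_mem ih (conj_P hUP (U.pow_mem hw m) hz)
  have k2 := k p
  rw [h, one_mul] at k2
  have := TI _ k2 (U.inv_mem (U.pow_mem hw p))
  rw [U_pow_p hUcard hw (inv_eq_one.1 this), mul_one]
  exact hz

variable (hQ : IsMulCommutative Q) (hQp : (Nat.card Q).Coprime p)
  (hP0Q : ∀ x ∈ P, f x ^ p = f x → x ∈ Subgroup.normalizer (Q : Set G))
  {y : G} (hy : y ∈ Q)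
  (hP0U : ∀ x ∈ P, f x ^ p = f x → y * x * y⁻¹ ∈ Subgroup.normalizer (U : Set G))

include hQp in
theorem Q_pow_p {d : G} (hd : d ∈ Q) (h : d ^ p = 1) : d = 1 :=
  orderOf_eq_one_iff.1 (Nat.eq_one_of_dvd_coprimes hQp (orderOf_dvd_natCard _ hd)
    (orderOf_dvd_of_pow_eq_one h))

include hA hF hf hfadd hUP hψ hψmul hψinj hUcard hQp hP0Q hy hP0U in
/-- Step 3. -/
theorem step3 {x h : G} (hx : x ∈ P) (fx : f x ^ p = f x) (x1 : f x ≠ 0) (hh : h ∈ P ⊔ U)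
    (hh' : (y * x * y⁻¹) * h * (y * x * y⁻¹)⁻¹ ∈ P ⊔ U) : h ∈ U := by
  have nUt := hP0U x hx fx
  have nQx := hP0Q x hx fx
  set t := y * x * y⁻¹ with ht
  have cU : ∀ u ∈ U, t * u * t⁻¹ ∈ P ⊔ U := fun u hu =>
    mem_sup_right ((mem_normalizer_iff.1 nUt u).1 hu)
  have cQ : ∀ d ∈ Q, x * d * x⁻¹ ∈ Q := fun d hd => (mem_normalizer_iff.1 nQx d).1 hd
  obtain ⟨z, hz, w, hw, rfl⟩ := (CA.FG.mem_sup_of_right_le_norm hUP).1 hh
  by_cases z0 : f z = 0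
  · rw [f_eq_zero hf hfadd hz z0, one_mul]; exact hw
  exfalso
  have hz' : t * z * t⁻¹ ∈ P ⊔ U := by
    have : t * z * t⁻¹ = t * (z * w) * t⁻¹ * (t * w * t⁻¹)⁻¹ := by group
    rw [this]
    exact mul_mem hh' (inv_mem (cU w hw))
  obtain ⟨u, hu, m, e⟩ := split_F hA hF hψ hψmul hψinj hUcard (f x⁻¹ / f z)
  have e2 : x⁻¹ = u * z ^ m * u⁻¹ := by
    refine hf.injOn (P.inv_mem hx) (conj_P hUP hu (P.zpow_mem hz m)) ?_
    rw [(hψ u hu).2 _ (P.zpow_mem hz m), f_zpow hfadd hz, ← mul_assoc, ← e, div_mul_cancel₀ _ z0]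
  have h1 : t * x⁻¹ * t⁻¹ ∈ P ⊔ U := by
    have : t * x⁻¹ * t⁻¹ = (t * u * t⁻¹) * (t * z * t⁻¹) ^ m * (t * u * t⁻¹)⁻¹ := by
      rw [e2, conj_zpow]; group
    rw [this]
    exact mul_mem (mul_mem (cU u hu) (zpow_mem hz' m)) (inv_mem (cU u hu))
  have h2 : t * x⁻¹ * t⁻¹ ∈ P := by
    refine mem_P_of_pow hUP hUcard h1 ?_ fun a ha ha' => PU_TI hf hfadd hψ hψmul hψinj ha ha'
    rw [conj_pow, P_pow_p hF hf hfadd (P.inv_mem hx)]; group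
  have h3 : x * (t * x⁻¹ * t⁻¹) = 1 := by
    refine Q_pow_p hQp ?_ (P_pow_p hF hf hfadd (P.mul_mem hx h2))
    have : x * (t * x⁻¹ * t⁻¹) = (x * y * x⁻¹) * (x * (x * y⁻¹ * x⁻¹) * x⁻¹) * (x * y * x⁻¹) * y⁻¹ := by
      rw [ht]; group
    rw [this]
    exact mul_mem (mul_mem (mul_mem (cQ y hy) (cQ _ (cQ _ (inv_mem hy)))) (cQ y hy)) (inv_mem hy)
  have cxt : Commute t x⁻¹ := by
    have : t * x⁻¹ = x⁻¹ * (x * (t * x⁻¹ * t⁻¹)) * t := by group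
    rw [h3, mul_one] at this
    exact this
  have h4 : t * x⁻¹ = 1 := by
    refine Q_pow_p hQp ?_ ?_
    · have : t * x⁻¹ = y * (x * y⁻¹ * x⁻¹) := by rw [ht]; group
      rw [this]
      exact mul_mem hy (cQ _ (inv_mem hy))
    · rw [cxt.mul_pow, ht, conj_pow, P_pow_p hF hf hfadd hx, P_pow_p hF hf hfadd (P.inv_mem hx)]
      group
  rw [mul_inv_eq_one.1 h4] at nUt
  obtain ⟨v, hv, v1⟩ := exists_U_ne_one hUcard
  have fx' : f x⁻¹ ^ p = f x⁻¹ := by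
    obtain ⟨k, hk⟩ := prime_field hF fx
    rw [f_inv hfadd hx, hk, ← Int.cast_neg, int_pow_p hF]
  rcases step2 hA hF hf hfadd hUP hψ hψmul hψinj hUcard hx (P.inv_mem hx) fx fx' hv
    ((mem_normalizer_iff.1 nUt v).1 hv) with h | h
  · exact x1 h.1
  · exact v1 h.1

theorem comm_aux1 {A : Type*} [CommGroup A] {a b c d e g k : A}
    (h : a⁻¹ * b * c⁻¹ * d * e⁻¹ * g = 1) : b * e⁻¹ * (d * k⁻¹) = a * k⁻¹ * (c * g⁻¹) := by
  rw [← mul_one (a * k⁻¹ * (c * g⁻¹)), ← h]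
  apply Additive.ofMul.injective
  simp only [ofMul_mul, ofMul_inv]
  abel

theorem comm_aux2 {A : Type*} [CommGroup A] {a c g k : A}
    (h : a * k⁻¹ * (c * g⁻¹) = 1) : c⁻¹ * k * a⁻¹ * g = 1 := by
  rw [← inv_one, ← h]
  apply Additive.ofMul.injective
  simp only [ofMul_mul, ofMul_inv]
  abel

variable {s : G} (hs : s ∈ P) (fs : f s = 1)

include hfadd hs fs in
theorem f_s (m : ℤ) : f (s ^ m) = m := by rw [f_zpow hfadd hs, fs, mul_one]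

include hF hfadd hs fs in
theorem f_s_p (m : ℤ) : f (s ^ m) ^ p = f (s ^ m) := by rw [f_s hfadd hs fs, int_pow_p hF]

include hF hfadd hP0Q hs fs in
theorem conj_Q (m : ℤ) {d : G} (hd : d ∈ Q) : s ^ (-m) * d * s ^ m ∈ Q := by
  have := (mem_normalizer_iff.1 (hP0Q _ (P.zpow_mem hs (-m)) (f_s_p hF hfadd hs fs _)) d).1 hd
  rwa [← zpow_neg, neg_neg] at this

include hF hfadd hP0U hs fs in
theorem conj_U (m : ℤ) {u : G} (hu : u ∈ U) :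
    (y * s * y⁻¹) ^ (-m) * u * (y * s * y⁻¹) ^ m ∈ U := by
  have := (mem_normalizer_iff.1 (hP0U _ (P.zpow_mem hs (-m)) (f_s_p hF hfadd hs fs _)) u).1 hu
  rwa [← conj_zpow, ← zpow_neg, neg_neg] at this

include hA hF hf hfadd hUP hψ hψmul hψinj hUcard hQ hQp hP0Q hy hP0U hs fs in
theorem step4c {n₁ n₂ n₃ : ℤ} (h₃ : (n₃ : F) ≠ 0)
    (h : s ^ n₁ * (y * s * y⁻¹)⁻¹ * s ^ n₂ * (y * s * y⁻¹)⁻¹ * s ^ n₃ * (y * s * y⁻¹) ^ 2 = 1) :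
    (n₁ : F) = -1 := by
  have hp : p.Prime := Fact.out
  let Y : ℤ → Q := fun i => ⟨s ^ (-i) * y⁻¹ * s ^ i, conj_Q hF hfadd hP0Q hs fs i (inv_mem hy)⟩
  have hY : ∀ i, (Y i : G) = s ^ (-i) * y⁻¹ * s ^ i := fun _ => rfl
  have r : ∀ n : ℤ, s ^ n₁ * (y * s * y⁻¹)⁻¹ * s ^ n * (y * s * y⁻¹)⁻¹ * s ^ n₃ * (y * s * y⁻¹) ^ 2 =
      s ^ (n₁ + n + n₃) * (((Y (n + n₃))⁻¹ * Y (n + n₃ + 1) * (Y (n₃ + 1))⁻¹ * Y (n₃ + 2) *
        (Y 2)⁻¹ * Y 0 : Q) : G) := by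
    intro n
    simp only [coe_mul, coe_inv, hY]
    rw [conj_pow, ← zpow_natCast]
    group
  have s0 : s ^ (n₁ + n₂ + n₃) = 1 := by
    refine Q_pow_p hQp ?_ (P_pow_p hF hf hfadd (P.zpow_mem hs _))
    rw [r] at h
    rw [eq_inv_of_mul_eq_one_left h]
    exact inv_mem (SetLike.coe_mem _)
  have s2 : s ^ n₂ = s ^ (-n₁ - n₃) := by
    calc s ^ n₂ = s ^ (n₁ + n₂ + n₃) * s ^ (-n₁ - n₃) := by group
      _ = _ := by rw [s0, one_mul]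
  rw [s2, r, show n₁ + (-n₁ - n₃) + n₃ = 0 by ring, zpow_zero, one_mul,
    show -n₁ - n₃ + n₃ = -n₁ by ring, OneMemClass.coe_eq_one] at h
  letI : CommGroup Q := { (inferInstance : Group Q) with mul_comm := hQ.is_comm.comm }
  have h1 := congrArg Subtype.val (comm_aux1 (k := Y 1) h)
  have hc : ∀ i j, ((Y i * (Y j)⁻¹ : Q) : G) ∈ ⁅Q, zpowers s⁆ := by
    intro i j
    have : ((Y i * (Y j)⁻¹ : Q) : G) = ⁅(Y i : G), s ^ (i - j)⁆ := by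
      simp only [coe_mul, coe_inv, hY, commutatorElement_def]
      group
    rw [this]
    exact commutator_mem_commutator (Y i).2 (zpow_mem_zpowers s _)
  have nQs : zpowers s ≤ normalizer (Q : Set G) := by
    rw [zpowers_le]; exact hP0Q s hs (by rw [fs, one_pow])
  have co : (Nat.card Q).Coprime (Nat.card (zpowers s)) := by
    rw [Nat.card_zpowers]
    exact Nat.Coprime.coprime_dvd_right (orderOf_dvd_of_pow_eq_one (P_pow_p hF hf hfadd hs)) hQp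
  have z1 : Y (-n₁) * (Y 1)⁻¹ * (Y (n₃ + 1) * (Y 0)⁻¹) = 1 := by
    apply Subtype.ext
    rw [OneMemClass.coe_one, ← mem_bot, ← CA.BG.coprime_abel_cent_TI nQs co hQ]
    refine mem_inf.2 ⟨mul_mem (hc _ _) (hc _ _), mem_centralizer_iff.2 ?_⟩
    rintro _ ⟨k, rfl⟩
    refine (Commute.zpow_left ?_ k).eq
    have e : ((Y (-n₁ + 1) * (Y 2)⁻¹ * (Y (n₃ + 2) * (Y 1)⁻¹) : Q) : G) =
        s⁻¹ * ((Y (-n₁) * (Y 1)⁻¹ * (Y (n₃ + 1) * (Y 0)⁻¹) : Q) : G) * s := by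
      simp only [coe_mul, coe_inv, hY]
      group
    rw [e] at h1
    calc s * _ = s * (s⁻¹ * ((Y (-n₁) * (Y 1)⁻¹ * (Y (n₃ + 1) * (Y 0)⁻¹) : Q) : G) * s) := by rw [h1]
      _ = _ := by group
  have z2 := congrArg Subtype.val (comm_aux2 z1)
  simp only [coe_mul, coe_inv, hY, OneMemClass.coe_one] at z2
  have t1 : y * s ^ n₁ * y⁻¹ = s ^ (-(n₃ + 1)) * (y * s ^ n₃ * y⁻¹) * s ^ (n₁ + 1) := by
    calc y * s ^ n₁ * y⁻¹ = 1 * (y * s ^ n₁ * y⁻¹) := by group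
      _ = _ := by rw [← z2]; group
  obtain ⟨u, hu, u1⟩ := exists_U_ne_one hUcard
  have hu' := conj_U hF hfadd hP0U hs fs n₁ hu
  rw [zpow_neg, conj_zpow] at hu'
  have e : (y * s ^ (-n₃) * y⁻¹) * (s ^ (n₃ + 1) * u * s ^ (-(n₃ + 1))) * (y * s ^ (-n₃) * y⁻¹)⁻¹ =
      s ^ (n₁ + 1) * ((y * s ^ n₁ * y⁻¹)⁻¹ * u * (y * s ^ n₁ * y⁻¹)) * s ^ (-(n₁ + 1)) := by
    rw [t1]; group
  have sP : ∀ k : ℤ, s ^ k ∈ P ⊔ U := fun k => mem_sup_left (P.zpow_mem hs k)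
  have hh := step3 hA hF hf hfadd hUP hψ hψmul hψinj hUcard hQp hP0Q hy hP0U
    (P.zpow_mem hs (-n₃)) (f_s_p hF hfadd hs fs _) (by rw [f_s hfadd hs fs]; simpa using h₃)
    (mul_mem (mul_mem (sP (n₃ + 1)) (mem_sup_right hu)) (sP (-(n₃ + 1))))
    (e ▸ mul_mem (mul_mem (sP _) (mem_sup_right hu')) (sP _))
  have hh2 := (mem_normalizer_iff.1 (hP0U _ (P.zpow_mem hs (-n₃)) (f_s_p hF hfadd hs fs _)) _).1 hh
  rw [e] at hh2
  rcases step2 hA hF hf hfadd hUP hψ hψmul hψinj hUcard (P.zpow_mem hs _) (P.zpow_mem hs _)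
    (f_s_p hF hfadd hs fs _) (f_s_p hF hfadd hs fs _) hu' hh2 with h | h
  · have := h.1
    rw [f_s hfadd hs fs] at this
    push_cast at this
    linear_combination this
  · exfalso
    apply u1
    calc u = (y * s ^ n₁ * y⁻¹) * ((y * s ^ n₁ * y⁻¹)⁻¹ * u * (y * s ^ n₁ * y⁻¹)) *
        (y * s ^ n₁ * y⁻¹)⁻¹ := by group
      _ = 1 := by rw [h.1]; group

include hA hF hf hfadd hUP hψ hψmul hψinj hUcard hQp hP0Q hy hP0U hs fs in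
theorem step4b {n₁ n₂ n₃ : ℤ} (h₂ : (n₂ : F) ≠ 0) (h₃ : (n₃ : F) ≠ 0) {w₁ w₂ w₃ v₁ v₂ v₃ : G}
    (hw₁ : w₁ ∈ U) (hw₂ : w₂ ∈ U) (hw₃ : w₃ ∈ U) (hv₁ : v₁ ∈ U) (hv₂ : v₂ ∈ U) (hv₃ : v₃ ∈ U)
    (hw : s ^ n₁ * w₃ * (y * s * y⁻¹)⁻¹ * s ^ n₂ * w₁ * (y * s * y⁻¹)⁻¹ * s ^ n₃ * w₂ *
      (y * s * y⁻¹) ^ 2 = 1)
    (hv : s ^ n₁ * v₃ * (y * s * y⁻¹)⁻¹ * s ^ n₂ * v₁ * (y * s * y⁻¹)⁻¹ * s ^ n₃ * v₂ *
      (y * s * y⁻¹) ^ 2 = 1) : v₁ = w₁ ∧ v₂ = w₂ ∧ v₃ = w₃ := by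
  have fs' : f s ^ p = f s := by rw [fs, one_pow]
  have nUt := hP0U s hs fs'
  have st3 := fun (h : G) hh hh' => step3 hA hF hf hfadd hUP hψ hψmul hψinj hUcard hQp hP0Q hy hP0U
    hs fs' (by rw [fs]; exact one_ne_zero) (h := h) hh hh'
  set t := y * s * y⁻¹ with ht
  have cU : ∀ u ∈ U, t * u * t⁻¹ ∈ U := fun u hu => (mem_normalizer_iff.1 nUt u).1 hu
  have sP : ∀ k : ℤ, s ^ k ∈ P ⊔ U := fun k => mem_sup_left (P.zpow_mem hs k)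
  have e : t * ((s ^ n₂ * v₁)⁻¹ * (t * (v₃⁻¹ * w₃) * t⁻¹) * (s ^ n₂ * w₁)) * t⁻¹ =
      s ^ n₃ * (v₂ * w₂⁻¹) * s ^ (-n₃) := by
    calc _ = s ^ n₃ * v₂ * t ^ 2 *
        (s ^ n₁ * v₃ * t⁻¹ * s ^ n₂ * v₁ * t⁻¹ * s ^ n₃ * v₂ * t ^ 2)⁻¹ *
        (s ^ n₁ * w₃ * t⁻¹ * s ^ n₂ * w₁ * t⁻¹ * s ^ n₃ * w₂ * t ^ 2) *
        (s ^ n₃ * w₂ * t ^ 2)⁻¹ := by group
      _ = _ := by rw [hw, hv]; group
  have g3 := cU _ (mul_mem (inv_mem hv₃) hw₃)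
  have hh := st3 _ (mul_mem (mul_mem (inv_mem (mul_mem (sP n₂) (mem_sup_right hv₁)))
    (mem_sup_right g3)) (mul_mem (sP n₂) (mem_sup_right hw₁)))
    (e ▸ mul_mem (mul_mem (sP _) (mem_sup_right (mul_mem hv₂ (inv_mem hw₂)))) (sP _))
  have hh2 := cU _ hh
  rw [e] at hh2
  have st2 := fun (a b : ℤ) (u : G) hu h => step2 hA hF hf hfadd hUP hψ hψmul hψinj hUcard
    (P.zpow_mem hs a) (P.zpow_mem hs b) (f_s_p hF hfadd hs fs _) (f_s_p hF hfadd hs fs _)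
    (u := u) hu h
  simp only [f_s hfadd hs fs] at st2
  have e2 : v₂ * w₂⁻¹ = 1 :=
    ((st2 _ _ _ (mul_mem hv₂ (inv_mem hw₂)) hh2).resolve_left fun h => h₃ h.1).1
  rw [e2] at e
  have e3 : s ^ (-n₂) * (t * (v₃⁻¹ * w₃) * t⁻¹) * s ^ n₂ = v₁ * w₁⁻¹ := by
    calc _ = v₁ * t⁻¹ * (t * ((s ^ n₂ * v₁)⁻¹ * (t * (v₃⁻¹ * w₃) * t⁻¹) * (s ^ n₂ * w₁)) * t⁻¹) *
        t * w₁⁻¹ := by group
      _ = _ := by rw [e]; group
  have e4 : t * (v₃⁻¹ * w₃) * t⁻¹ = 1 :=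
    ((st2 _ _ _ g3 (e3 ▸ mul_mem hv₁ (inv_mem hw₁))).resolve_left fun h => h₂ h.2).1
  rw [e4] at e3
  refine ⟨mul_inv_eq_one.1 (e3.symm.trans (by group)), mul_inv_eq_one.1 e2, inv_mul_eq_one.1 ?_⟩
  calc v₃⁻¹ * w₃ = t⁻¹ * (t * (v₃⁻¹ * w₃) * t⁻¹) * t := by group
    _ = 1 := by rw [e4]; group

include hF hf hfadd hUP hψ hψmul hQ hP0Q hy hs fs in
theorem step4a {A B t : G} (ht : t = y * s * y⁻¹) (hA' : A ∈ U) (hB : B ∈ U) (hAB : ψ A + ψ B = 2) :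
    s ^ (1 : ℤ) * (t ^ (-3 : ℤ) * A * t ^ (3 : ℤ)) * s ^ (-2 : ℤ) * t⁻¹ *
      (s ^ (3 : ℤ) * (t ^ (-2 : ℤ) * (A⁻¹ * B) * t ^ (2 : ℤ)) * s ^ (-1 : ℤ)) * t⁻¹ *
      (s ^ (2 : ℤ) * (t ^ (-1 : ℤ) * B⁻¹ * t ^ (1 : ℤ)) * s ^ (-3 : ℤ)) * t ^ 2 = 1 := by
  have qi : ∀ i : ℤ, s ^ (-i) * t ^ i ∈ Q := by
    intro i
    have : s ^ (-i) * t ^ i = s ^ (-i) * y * s ^ i * y⁻¹ := by rw [ht, conj_zpow]; group
    rw [this]
    exact mul_mem (conj_Q hF hfadd hP0Q hs fs i hy) (inv_mem hy)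
  have cm : ∀ i j : ℤ, s ^ (-i) * t ^ i * (s ^ (-j) * t ^ j) = s ^ (-j) * t ^ j * (s ^ (-i) * t ^ i) :=
    fun i j => congrArg Subtype.val (hQ.is_comm.comm ⟨_, qi i⟩ ⟨_, qi j⟩)
  have C2 : A * s * A⁻¹ * (B * s * B⁻¹) = s ^ (2 : ℤ) := by
    refine hf.injOn (P.mul_mem (conj_P hUP hA' hs) (conj_P hUP hB hs)) (P.zpow_mem hs _) ?_
    rw [hfadd _ (conj_P hUP hA' hs) _ (conj_P hUP hB hs), (hψ A hA').2 s hs, (hψ B hB).2 s hs,
      f_s hfadd hs fs, fs, mul_one, mul_one, hAB]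
    norm_num
  have R1 : t ^ (3 : ℤ) * s ^ (-2 : ℤ) * t⁻¹ * s ^ (3 : ℤ) * t ^ (-2 : ℤ) = s := by
    calc _ = s ^ (3 : ℤ) * (s ^ (-3 : ℤ) * t ^ (3 : ℤ) * (s ^ (-2 : ℤ) * t ^ (2 : ℤ))) *
        t ^ (-3 : ℤ) * s ^ (3 : ℤ) * t ^ (-2 : ℤ) := by group
      _ = s := by rw [cm 3 2]; group
  have R2 : t ^ (2 : ℤ) * s ^ (-1 : ℤ) * t⁻¹ * s ^ (2 : ℤ) * t ^ (-1 : ℤ) = s := by
    calc _ = s ^ (2 : ℤ) * (s ^ (-2 : ℤ) * t ^ (2 : ℤ) * (s ^ (-1 : ℤ) * t ^ (1 : ℤ))) *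
        t ^ (-2 : ℤ) * s ^ (2 : ℤ) * t ^ (-1 : ℤ) := by group
      _ = s := by rw [cm 2 1]; group
  have R3 : t ^ (1 : ℤ) * s ^ (-3 : ℤ) * t ^ 2 * s * t ^ (-3 : ℤ) = s ^ (-2 : ℤ) := by
    calc _ = s * (s ^ (-1 : ℤ) * t ^ (1 : ℤ) * (s ^ (-3 : ℤ) * t ^ (3 : ℤ))) *
        t ^ (-1 : ℤ) * s * t ^ (-3 : ℤ) := by group
      _ = _ := by rw [cm 1 3]; group
  calc _ = s * t ^ (-3 : ℤ) * (A * (t ^ (3 : ℤ) * s ^ (-2 : ℤ) * t⁻¹ * s ^ (3 : ℤ) * t ^ (-2 : ℤ)) * A⁻¹ *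
        (B * (t ^ (2 : ℤ) * s ^ (-1 : ℤ) * t⁻¹ * s ^ (2 : ℤ) * t ^ (-1 : ℤ)) * B⁻¹)) *
        (t ^ (1 : ℤ) * s ^ (-3 : ℤ) * t ^ 2 * s * t ^ (-3 : ℤ)) * t ^ (3 : ℤ) * s⁻¹ := by group
    _ = 1 := by rw [R1, R2, R3, C2]; group

include hA hF hf hfadd hUP hψ hψmul hψinj hUcard hQ hQp hP0Q hy hP0U hs fs in
theorem step4 (hp2 : p ≠ 2) {A B t : G} (ht : t = y * s * y⁻¹) (hA' : A ∈ U) (hB : B ∈ U)
    (hAB : ψ A + ψ B = 2) :
    ∃ B' ∈ U, ψ (t ^ (-3 : ℤ) * A⁻¹ * t ^ (3 : ℤ)) + ψ B' = 2 := by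
  haveI := charP_of_card_eq_prime_pow hF
  have hp : p.Prime := Fact.out
  have two : (2 : F) ≠ 0 := by
    intro h
    have : ((2 : ℕ) : F) = 0 := by exact_mod_cast h
    rw [CharP.cast_eq_zero_iff F p] at this
    exact hp2 ((Nat.prime_dvd_prime_iff_eq hp Nat.prime_two).1 this)
  have cU : ∀ (m : ℤ) {u : G}, u ∈ U → t ^ (-m) * u * t ^ m ∈ U := fun m u hu =>
    ht ▸ conj_U hF hfadd hP0U hs fs m hu
  have c1 := cU 3 hA'
  have c2 := cU 2 (mul_mem (inv_mem hA') hB)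
  have c3 := cU 1 (inv_mem hB)
  have sP : ∀ k : ℤ, s ^ k ∈ P := fun k => P.zpow_mem hs k
  have st1 := fun (a b : ℤ) (j : G) hj => step1 hA hF hf hfadd hUP hψ hψmul hψinj hUcard hs fs
    (sP a) (sP b) (j := j) hj
  obtain ⟨u₁, hu₁, v₁, hv₁, n₁, e₁⟩ := st1 1 (-2) _ c1
  obtain ⟨u₂, hu₂, v₂, hv₂, n₂, e₂⟩ := st1 3 (-1) _ c2
  obtain ⟨u₃, hu₃, v₃, hv₃, n₃, e₃⟩ := st1 2 (-3) _ c3
  have nz : ∀ (a b n : ℤ) (j u v : G), j ∈ U → u ∈ U → v ∈ U → s ^ a * j * s ^ b = u * s ^ n * v →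
      (a : F) + b ≠ 0 → (n : F) ≠ 0 := by
    intro a b n j u v hj hu hv e hab hn
    have : s ^ n = 1 := f_eq_zero hf hfadd (sP n) (by rw [f_s hfadd hs fs, hn])
    rw [this, mul_one] at e
    have := step2 hA hF hf hfadd hUP hψ hψmul hψinj hUcard (sP a) (sP b) (f_s_p hF hfadd hs fs _)
      (f_s_p hF hfadd hs fs _) hj (e ▸ mul_mem hu hv)
    simp only [f_s hfadd hs fs] at this
    rcases this with h | h
    · exact hab (by rw [h.1, h.2, add_zero])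
    · exact hab h.2
  have h₂ := nz _ _ _ _ _ _ c2 hu₂ hv₂ e₂ (by push_cast; norm_num; exact two)
  have h₃ := nz _ _ _ _ _ _ c3 hu₃ hv₃ e₃ (by push_cast; norm_num)
  have fr := fun (a b n : ℤ) (j u v : G) hj hu hv h => frob hF hf hfadd hUP hψ hψmul hψinj
    (sP a) (sP b) (sP n) (f_s_p hF hfadd hs fs _) (f_s_p hF hfadd hs fs _) (f_s_p hF hfadd hs fs _)
    (j := j) (u := u) (v := v) hj hu hv h
  have cp : ∀ (m : ℤ) (u : G), (t ^ (-m) * u * t ^ m) ^ p = t ^ (-m) * u ^ p * t ^ m := by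
    intro m u
    have := conj_pow (i := p) (a := t ^ (-m)) (b := u)
    rwa [← zpow_neg, neg_neg] at this
  have cmU : ∀ {u v : G}, u ∈ U → v ∈ U → Commute u v := fun hu hv => U_comm hψmul hψinj hu hv
  have e₁' := fr _ _ _ _ _ _ c1 hu₁ hv₁ e₁
  have e₂' := fr _ _ _ _ _ _ c2 hu₂ hv₂ e₂
  have e₃' := fr _ _ _ _ _ _ c3 hu₃ hv₃ e₃
  rw [cp] at e₁' e₂' e₃'
  rw [(cmU (inv_mem hA') hB).mul_pow, inv_pow] at e₂'
  rw [inv_pow] at e₃'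
  have r := step4a hF hf hfadd hUP hψ hψmul hQ hP0Q hy hs fs ht hA' hB hAB
  have r' := step4a hF hf hfadd hUP hψ hψmul hQ hP0Q hy hs fs ht (pow_mem hA' p) (pow_mem hB p) (by
    rw [psi_pow hψ hψmul hA', psi_pow hψ hψmul hB, ← add_pow_char, hAB]
    exact_mod_cast int_pow_p hF 2)
  rw [e₁, e₂, e₃] at r
  rw [e₁', e₂', e₃'] at r'
  have tr : ∀ {u₁ u₂ u₃ v₁ v₂ v₃ : G},
      u₁ * s ^ n₁ * v₁ * t⁻¹ * (u₂ * s ^ n₂ * v₂) * t⁻¹ * (u₃ * s ^ n₃ * v₃) * t ^ 2 = 1 →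
      s ^ n₁ * (v₁ * (t ^ (-1 : ℤ) * u₂ * t ^ (1 : ℤ))) * t⁻¹ * s ^ n₂ *
        (v₂ * (t ^ (-1 : ℤ) * u₃ * t ^ (1 : ℤ))) * t⁻¹ * s ^ n₃ *
        (v₃ * (t ^ (-(-2) : ℤ) * u₁ * t ^ (-2 : ℤ))) * t ^ 2 = 1 := by
    intro u₁ u₂ u₃ v₁ v₂ v₃ h
    calc _ = u₁⁻¹ * (u₁ * s ^ n₁ * v₁ * t⁻¹ * (u₂ * s ^ n₂ * v₂) * t⁻¹ * (u₃ * s ^ n₃ * v₃) * t ^ 2) *
        u₁ := by group
      _ = 1 := by rw [h]; group
  have k := tr r
  have k' := tr r'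
  rw [← cp, ← cp, ← cp, ← (cmU hv₁ (cU 1 hu₂)).mul_pow, ← (cmU hv₂ (cU 1 hu₃)).mul_pow,
    ← (cmU hv₃ (cU (-2) hu₁)).mul_pow] at k'
  have w₃ := mul_mem hv₁ (cU 1 hu₂)
  have w₁ := mul_mem hv₂ (cU 1 hu₃)
  have w₂ := mul_mem hv₃ (cU (-2) hu₁)
  subst ht
  obtain ⟨a₁, a₂, a₃⟩ := step4b hA hF hf hfadd hUP hψ hψmul hψinj hUcard hQp hP0Q hy hP0U hs fs
    h₂ h₃ w₁ w₂ w₃ (pow_mem w₁ p) (pow_mem w₂ p) (pow_mem w₃ p) k k'
  rw [U_pow_p_eq hA hUcard w₁ a₁, U_pow_p_eq hA hUcard w₂ a₂, U_pow_p_eq hA hUcard w₃ a₃,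
    mul_one, mul_one, mul_one] at k
  have h₁ := step4c hA hF hf hfadd hUP hψ hψmul hψinj hUcard hQ hQp hP0Q hy hP0U hs fs h₃ k
  obtain ⟨d₁, d₂⟩ := (key hf hfadd hUP hψ hψmul hψinj (sP _) (sP _) (sP _) c1 hu₁ hv₁).1 e₁
  simp only [f_s hfadd hs fs] at d₂
  refine ⟨v₁⁻¹, inv_mem hv₁, ?_⟩
  have : (y * s * y⁻¹) ^ (-3 : ℤ) * A⁻¹ * (y * s * y⁻¹) ^ (3 : ℤ) =
      ((y * s * y⁻¹) ^ (-3 : ℤ) * A * (y * s * y⁻¹) ^ (3 : ℤ))⁻¹ := by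
    generalize y * s * y⁻¹ = t
    group
  rw [this, psi_inv hψ hψmul c1, psi_inv hψ hψmul hv₁]
  rw [d₁, hψmul _ hu₁ _ hv₁] at d₂ ⊢
  rw [h₁] at d₂
  have := (hψ _ hu₁).1
  have := (hψ _ hv₁).1
  push_cast at d₂
  field_simp
  linear_combination d₂

include hA hF hf hfadd hUP hψ hψmul hψinj hUcard hQ hQp hP0Q hy hP0U in
/-- Lemma C.3. -/
theorem lemmaC3 (hp2 : p ≠ 2) {A B : G} (hA' : A ∈ U) (hB : B ∈ U) (hAB : ψ A + ψ B = 2) :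
    ∃ B' ∈ U, ψ A⁻¹ + ψ B' = 2 := by
  have hp : p.Prime := Fact.out
  obtain ⟨s, hs, fs⟩ := hf.surjOn (Set.mem_univ (1 : F))
  obtain ⟨t, ht⟩ : ∃ t, t = y * s * y⁻¹ := ⟨_, rfl⟩
  have st := fun (A B : G) hA' hB hAB => step4 hA hF hf hfadd hUP hψ hψmul hψinj hUcard hQ hQp hP0Q
    hy hP0U hs fs hp2 (A := A) (B := B) ht hA' hB hAB
  have cU : ∀ (m : ℤ) {u : G}, u ∈ U → t ^ (-m) * u * t ^ m ∈ U := fun m u hu =>
    ht ▸ conj_U hF hfadd hP0U hs fs m hu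
  have k : ∀ m : ℕ, ∃ B' ∈ U,
      ψ (t ^ (-(3 * (2 * m + 1)) : ℤ) * A⁻¹ * t ^ (3 * (2 * m + 1) : ℤ)) + ψ B' = 2 := by
    intro m
    induction m with
    | zero => simpa using st A B hA' hB hAB
    | succ m ih =>
      obtain ⟨B₁, hB₁, e₁⟩ := ih
      have c1 := cU (3 * (2 * m + 1)) (inv_mem hA')
      obtain ⟨B₂, hB₂, e₂⟩ := st _ _ c1 hB₁ e₁
      obtain ⟨B₃, hB₃, e₃⟩ := st _ _ (cU 3 (inv_mem c1)) hB₂ e₂
      refine ⟨B₃, hB₃, ?_⟩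
      rw [← e₃]
      congr 2
      push_cast
      group
  obtain ⟨m, hm⟩ := hp.odd_of_ne_two hp2
  obtain ⟨B', hB', e⟩ := k m
  refine ⟨B', hB', ?_⟩
  have tp : t ^ (3 * (2 * m + 1) : ℤ) = 1 := by
    have : (2 * m + 1 : ℤ) = p := by rw [hm]; push_cast; ring
    rw [this, mul_comm, zpow_mul, zpow_natCast, ht, conj_pow, P_pow_p hF hf hfadd hs]
    group
  rwa [zpow_neg, tp, inv_one, one_mul, mul_one] at e

include hA hF hf hfadd hUP hψ hψmul hψinj hUcard hQ hQp hP0Q hy hP0U in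
/-- Theorem C. -/
theorem theoremC : p ≤ q := by
  have hp : p.Prime := Fact.out
  have hq : q.Prime := Fact.out
  haveI := charP_of_card_eq_prime_pow hF
  letI : Algebra (ZMod p) F := ZMod.algebra F p
  by_cases hp2 : p = 2
  · rw [hp2]; exact hq.two_le
  have fr : Module.finrank (ZMod p) F = q := by
    have := Module.card_eq_pow_finrank (K := ZMod p) (V := F)
    rw [hF, ZMod.card] at this
    exact (Nat.pow_right_injective hp.two_le this).symm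
  have hq2 : q ≠ 2 := by
    rintro rfl
    obtain ⟨m, rfl⟩ := hp.odd_of_ne_two hp2
    have m0 : 0 < m := by have := hp.two_le; omega
    have e : ((2 * m + 1) ^ 2 - 1) / (2 * m + 1 - 1) = 2 * (m + 1) := by
      refine Nat.div_eq_of_eq_mul_left (by omega) ?_
      rw [Nat.add_sub_cancel, Nat.sub_eq_iff_eq_add (Nat.one_le_pow _ _ (by omega))]; ring
    rw [e, Nat.add_sub_cancel] at hA
    exact absurd (Nat.eq_one_of_dvd_coprimes hA (Dvd.intro _ rfl) (Dvd.intro _ rfl)) (by decide)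
  have nrm : ∀ a : F, Algebra.norm (ZMod p) a = 1 ↔ a ^ ((p ^ q - 1) / (p - 1)) = 1 := by
    intro a
    rw [← (algebraMap (ZMod p) F).injective.eq_iff, FiniteField.algebraMap_norm_eq_pow, map_one,
      Nat.card_zmod, Nat.card_eq_fintype_card, hF]
  have nU : ∀ u ∈ U, Algebra.norm (ZMod p) (ψ u) = 1 := by
    intro u hu
    have : u ^ Nat.card U = 1 := congrArg Subtype.val (pow_card_eq_one' (x := (⟨u, hu⟩ : U)))
    rw [nrm, ← cardU hUcard, ← psi_pow hψ hψmul hu, this, psi_one hψ hψmul]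
  obtain ⟨a, a1, ha⟩ := lemmaC2 (F := F) hp2 (by have := hq.two_le; omega)
  rw [← fr]
  refine lemmaC1 (fun a ha => ?_) ha a1
  obtain ⟨A, hA', rfl⟩ := psi_surj hψ hψmul hψinj hUcard ((nrm _).1 ha.1)
  obtain ⟨B, hB, e⟩ := psi_surj hψ hψmul hψinj hUcard ((nrm _).1 ha.2)
  obtain ⟨B', hB', e'⟩ := lemmaC3 hA hF hf hfadd hUP hψ hψmul hψinj hUcard hQ hQp hP0Q hy hP0U hp2
    hA' hB (by rw [e]; ring)
  rw [← psi_inv hψ hψmul hA', ← e', add_sub_cancel_left]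
  exact ⟨nU _ (inv_mem hA'), nU _ hB'⟩

end Setup

end CA.BG.AppC
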