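/-
Bender-Glauberman, Section 5: the definition of narrow groups (as in the Coq development: via maximal
elementary abelian subgroups of rank 2).  FROZEN.
-/
import Cfsg.Agent.FG.Defs

set_option autoImplicit false

namespace CA.BG

open Cfsg CA.FG

universe u

variable {G : Type u} [Group G]

/-- `p.-narrow R`: if `r_p(R) > 2` then `R` has a maximal elementary abelian `p`-subgroup of rank 2. -/
def Narrow (p : ℕ) (R : Subgroup G) : Prop :=
  2 < pRank p R → ∃ E : Subgroup G, IsPnElem p 2 E R ∧ IsPMaxElem p E R

theorem realizeEqnsNarrow : True := by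
  have := @CA.BG.Narrow.eq_1.{0}
  have := @CA.BG.Narrow.eq_def.{0}
  have := @CA.BG.Narrow.congr_simp.{0}
  trivial

end CA.BG
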