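/-
Vocabulary for the local analysis (Bender-Glauberman sections 5-16).  FROZEN: additions go to new files.
-/
import Cfsg.Agent.BG.NarrowDef

set_option autoImplicit false

namespace CA.BG

open Cfsg CA.FG

universe u

variable {G : Type u} [Group G]

/-- The stabilizer `C(U / V | 'Q)` of the section `U / V`: the elements of `N(V)` centralizing `U / V`. -/
abbrev centQ (U V : Subgroup G) : Subgroup G := quotPre V 𝒞(U /ₛ V)

/-- `K` acts transitively by conjugation on the set `S` of subgroups (no nonemptiness required). -/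
def TransOn (K : Subgroup G) (S : Set (Subgroup G)) : Prop :=
  ∀ Q₁ ∈ S, ∀ Q₂ ∈ S, ∃ k ∈ K, Q₂ = Q₁ :^ k

/-- Hypothesis 7.1 (equivalent to `Cfsg.TransitivityHypothesis`). -/
def NormedConstrained (A : Subgroup G) : Prop :=
  A ≠ ⊥ ∧ A ≠ ⊤ ∧ ∀ X Y : Subgroup G, A ≤ X → X ≠ ⊤ → Y ∈ invSubgroups X A (primesOf A)ᶜ →
    Y ≤ piCoreOf (primesOf A)ᶜ X

/-- The union of the `H`-conjugates of the set `A`. -/
def classSupport (A : Set G) (H : Subgroup G) : Set G := {y | ∃ a ∈ A, ∃ g ∈ H, y = g * a * g⁻¹}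

/-- `A` is a nonempty TI-subset of `H` with normalizer `L` in `H`. -/
def NormedTI (A : Set G) (H L : Subgroup G) : Prop :=
  A.Nonempty ∧ L ≤ H ∧ ∀ a ∈ A, ∀ g ∈ H, (g * a * g⁻¹ ∈ A ↔ g ∈ L)

/-- `H^#`. -/
def sharp (H : Subgroup G) : Set G := {x | x ∈ H ∧ x ≠ 1}

/-- Hypothesis 11.1 (apart from the maximality of `M`). -/
structure Exceptional (p : ℕ) (M A₀ A : Subgroup G) : Prop where
  prime : p.Prime
  sigma' : p ∉ sigma M
  A₀_elem : IsPnElem p 1 A₀ M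
  norm_le : 𝒩(A₀) ≤ M
  A_elem : IsPnElem p 2 A M
  A₀_le : A₀ ≤ A

/-- The complement data `E, E₁, E₂, E₃` of section 12 (`E₂ E₁` is a group). -/
structure SigmaCompl (M E E₁ E₂ E₃ : Subgroup G) : Prop where
  hallE : IsPiHallOf (sigma M)ᶜ E M
  hallE₁ : IsPiHallOf (tau1 M) E₁ E
  hallE₂ : IsPiHallOf (tau2 M) E₂ E
  hallE₃ : IsPiHallOf (tau3 M) E₃ E
  mul_grp : ∀ x ∈ E₂ ⊔ E₁, ∃ a ∈ E₂, ∃ b ∈ E₁, x = a * b

/-- The complement data `U, K` of section 14 (`U K` is a group). -/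
structure KappaCompl (M U K : Subgroup G) : Prop where
  hallK : IsPiHallOf (kappa M) K M
  hallU : IsPiHallOf (sigma M ∪ kappa M)ᶜ U M
  mul_grp : ∀ x ∈ U ⊔ K, ∃ a ∈ U, ∃ b ∈ K, x = a * b

/-- `M ∈ 𝓜_𝓕`. -/
def TypeF (M : Subgroup G) : Prop := IsCoatom M ∧ IsPiGrp (kappa M)ᶜ M

/-- `M ∈ 𝓜_𝓟`. -/
def TypeP (M : Subgroup G) : Prop := IsCoatom M ∧ ¬ IsPiGrp (kappa M)ᶜ M

/-- `M ∈ 𝓜_𝓟₁`. -/
def TypeP1 (M : Subgroup G) : Prop := TypeP M ∧ IsPiGrp (sigma M ∪ kappa M) M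

/-- `M ∈ 𝓜_𝓟₂`. -/
def TypeP2 (M : Subgroup G) : Prop := TypeP M ∧ ¬ IsPiGrp (sigma M ∪ kappa M) M

/-- `𝓜_σ[x]`: the maximal subgroups `M` with `x ∈ M_σ`. -/
def sigmaMmax (x : G) : Set (Subgroup G) := {M | IsCoatom M ∧ x ∈ sigmaCore M}

/-- `ℓ_σ(x) = 1`. -/
def Ell1 (x : G) : Prop := x ≠ 1 ∧ (sigmaMmax x).Nonempty

open scoped Classical in
/-- `N(x)`, the base of the signalizer of `x`. -/
noncomputable def sigBase (x : G) : Subgroup G :=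
  if h : (sigmaMmax x).Nontrivial ∧ ∃ M : Subgroup G, IsCoatom M ∧ 𝒞[x] ≤ M then Classical.choose h.2
  else ⊥

/-- `R(x) = C_{N(x)_σ}(x)`. -/
noncomputable def sigR (x : G) : Subgroup G := sigmaCore (sigBase x) ⊓ 𝒞[x]

/-- `M~ = ⋃_{x ∈ M_σ^#} x R(x)`. -/
def sigmaCover (M : Subgroup G) : Set G := {y | ∃ x ∈ sigmaCore M, x ≠ 1 ∧ ∃ r ∈ sigR x, y = x * r}

/-- `Ẑ = K K* - (K ∪ K*)`. -/
def zHat (K Ks : Subgroup G) : Set G := ((K ⊔ Ks : Subgroup G) : Set G) \ ((K : Set G) ∪ (Ks : Set G))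

theorem realizeEqnsDefs : True := by
  have := @CA.BG.TypeP1.eq_1.{0}
  have := @CA.BG.TypeP1.eq_def.{0}
  have := @CA.BG.TypeP1.congr_simp.{0}
  have := @CA.BG.NormedConstrained.eq_1.{0}
  have := @CA.BG.NormedConstrained.eq_def.{0}
  have := @CA.BG.NormedConstrained.congr_simp.{0}
  have := @CA.BG.NormedTI.eq_1.{0}
  have := @CA.BG.NormedTI.eq_def.{0}
  have := @CA.BG.NormedTI.congr_simp.{0}
  have := @CA.BG.sigR.eq_1.{0}
  have := @CA.BG.sigR.eq_def.{0}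
  have := @CA.BG.sigR.congr_simp.{0}
  have := @CA.BG.TypeF.eq_1.{0}
  have := @CA.BG.TypeF.eq_def.{0}
  have := @CA.BG.TypeF.congr_simp.{0}
  have := @CA.BG.zHat.eq_1.{0}
  have := @CA.BG.zHat.eq_def.{0}
  have := @CA.BG.zHat.congr_simp.{0}
  have := @CA.BG.TypeP2.eq_1.{0}
  have := @CA.BG.TypeP2.eq_def.{0}
  have := @CA.BG.TypeP2.congr_simp.{0}
  have := @CA.BG.sharp.eq_1.{0}
  have := @CA.BG.sharp.eq_def.{0}
  have := @CA.BG.sharp.congr_simp.{0}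
  have := @CA.BG.sigBase.eq_1.{0}
  have := @CA.BG.sigBase.eq_def.{0}
  have := @CA.BG.sigBase.congr_simp.{0}
  have := @CA.BG.sigmaMmax.eq_1.{0}
  have := @CA.BG.sigmaMmax.eq_def.{0}
  have := @CA.BG.sigmaMmax.congr_simp.{0}
  have := @CA.BG.TransOn.eq_1.{0}
  have := @CA.BG.TransOn.eq_def.{0}
  have := @CA.BG.TransOn.congr_simp.{0}
  have := @CA.BG.sigmaCover.eq_1.{0}
  have := @CA.BG.sigmaCover.eq_def.{0}
  have := @CA.BG.sigmaCover.congr_simp.{0}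
  have := @CA.BG.Ell1.eq_1.{0}
  have := @CA.BG.Ell1.eq_def.{0}
  have := @CA.BG.Ell1.congr_simp.{0}
  have := @CA.BG.centQ.eq_1.{0}
  have := @CA.BG.centQ.eq_def.{0}
  have := @CA.BG.centQ.congr_simp.{0}
  have := @CA.BG.classSupport.eq_1.{0}
  have := @CA.BG.classSupport.eq_def.{0}
  have := @CA.BG.classSupport.congr_simp.{0}
  have := @CA.BG.TypeP.eq_1.{0}
  have := @CA.BG.TypeP.eq_def.{0}
  have := @CA.BG.TypeP.congr_simp.{0}
  trivial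

end CA.BG
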