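/-
Definitions for B & G section 16 / Peterfalvi section 8 (types of maximal subgroups, supports), in ambient
style, following the Coq development.  Type-`P` data is `Cfsg.IsTypePWith M W₁ U W₂`.  FROZEN.
-/
import Cfsg.Agent.BG.Defs
import Cfsg.Prelude.Def_OddOrderChar

set_option autoImplicit false

namespace CA.BG

open Cfsg CA.FG

universe u

variable {G : Type u} [Group G]

/-- `is_typeF_inertia M U U₁`. -/
def TypeFInertia (M U U₁ : Subgroup G) : Prop :=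
  U₁ ⊲ U ∧ IsMulCommutative U₁ ∧ ∀ x ∈ fittingHallOf M, x ≠ 1 → U ⊓ 𝒞[x] ≤ U₁

/-- `is_typeF_complement M U U₀`. -/
def TypeFCompl (M U U₀ : Subgroup G) : Prop :=
  U₀ ≤ U ∧ Monoid.exponent U₀ = Monoid.exponent U ∧ IsFrob (fittingHallOf M ⊔ U₀) (fittingHallOf M) U₀

/-- Peterfalvi (8.1): `M` is of type `F` with complement `U`. -/
def OfTypeF (M U : Subgroup G) : Prop :=
  (fittingHallOf M ≠ ⊥ ∧ U ≠ ⊥ ∧ SDProd (fittingHallOf M) U M) ∧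
  (∃ U₁, TypeFInertia M U U₁) ∧ ∃ U₀, TypeFCompl M U U₀

/-- Peterfalvi (8.3). -/
def OfTypeI (M U : Subgroup G) : Prop :=
  OfTypeF M U ∧
  (NormedTI (sharp (fittingHallOf M)) ⊤ M ∨
    (IsMulCommutative (fittingHallOf M) ∧ rank (fittingHallOf M) = 2) ∨
    ((∀ p ∈ primesOf (fittingHallOf M), Monoid.exponent U ∣ p - 1) ∧
      ∃ p ∈ primesOf (fittingHallOf M), IsCyclic (pPrimeCoreOf p (fittingHallOf M))))

/-- Peterfalvi (8.6), common part of types II, III, IV. -/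
def OfTypeII_IV (M W₁ U W₂ : Subgroup G) : Prop :=
  IsTypePWith M W₁ U W₂ ∧ U ≠ ⊥ ∧ (Nat.card W₁).Prime ∧ NormedTI (sharp (fittingOf M)) ⊤ M

def OfTypeII (M W₁ U W₂ : Subgroup G) : Prop :=
  OfTypeII_IV M W₁ U W₂ ∧ IsMulCommutative U ∧ ¬ 𝒩(U) ≤ M ∧ OfTypeF ⁅M, M⁆ U ∧
    fittingHallOf ⁅M, M⁆ = fittingHallOf M

def OfTypeIII (M W₁ U W₂ : Subgroup G) : Prop :=
  OfTypeII_IV M W₁ U W₂ ∧ IsMulCommutative U ∧ 𝒩(U) ≤ M

def OfTypeIV (M W₁ U W₂ : Subgroup G) : Prop :=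
  OfTypeII_IV M W₁ U W₂ ∧ ¬ IsMulCommutative U ∧ 𝒩(U) ≤ M

/-- Peterfalvi (8.7). -/
def OfTypeV (M W₁ U W₂ : Subgroup G) : Prop :=
  IsTypePWith M W₁ U W₂ ∧ U = ⊥ ∧
  (NormedTI (sharp (fittingHallOf M)) ⊤ M ∨
    ∃ p ∈ primesOf (fittingHallOf M), IsCyclic (pPrimeCoreOf p (fittingHallOf M)) ∧
      (Nat.card W₁ ∣ p - 1 ∨
        (Nat.card (pCoreOf p (fittingHallOf M)) = p ^ 3 ∧ Nat.card W₁ ∣ p + 1)))

open scoped Classical in
/-- The type (1 to 5) of a maximal subgroup. -/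
noncomputable def FTtype (M : Subgroup G) : ℕ :=
  if IsPiGrp (kappa M)ᶜ M then 1
  else if sigmaCore M ≠ ⁅M, M⁆ then 2
  else if sigmaCore M = fittingHallOf M then 5
  else if IsMulCommutative (sigmaCore M /ₛ fittingHallOf M) then 3 else 4

/-- `M` in type I, `M'` in the other types. -/
noncomputable def FTder (M : Subgroup G) : Subgroup G := if FTtype M = 1 then M else ⁅M, M⁆

/-- `A₁(M) = M_s^#`; the core `M_s` is `Cfsg.sigmaCore M`. -/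
def FTsupp1 (M : Subgroup G) : Set G := sharp (sigmaCore M)

/-- `A(M)`. -/
def FTsupp (M : Subgroup G) : Set G :=
  {a | a ∈ FTder M ∧ a ≠ 1 ∧ ∃ x ∈ sigmaCore M, x ≠ 1 ∧ a ∈ 𝒞[x]}

/-- `A₀(M)`. -/
def FTsupp0 (M : Subgroup G) : Set G :=
  FTsupp M ∪ {x | x ∈ M ∧ ¬ IsPiElt (primesOf (FTder M)) x ∧ ¬ IsPiElt (primesOf (FTder M))ᶜ x}

open scoped Classical in
/-- The signalizer functor `R_M` of the Dade hypothesis of `M`. -/
noncomputable def FTsig (M : Subgroup G) (x : G) : Subgroup G :=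
  if 𝒞[x] ≤ M then ⊥ else fittingHallOf (sigBase x) ⊓ 𝒞[x]

/-- `A~(M, A)`: the support of the image of the Dade isometry of `M` restricted to `A`. -/
def FTDadeSupp (M : Subgroup G) (A : Set G) : Set G :=
  {g | ∃ a ∈ A, ∃ r ∈ FTsig M a, ∃ y : G, g = y * (a * r) * y⁻¹}

/-- `L` supports `M`. -/
def FTsupports (M L : Subgroup G) : Prop := ∃ x ∈ FTsupp M, ¬ 𝒞[x] ≤ M ∧ 𝒞[x] ≤ L

/-- Peterfalvi (8.8)(b); `W = W₁ ⊔ W₂`. -/
structure TypePPair (S T W₁ W₂ : Subgroup G) : Prop where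
  cycTI : IsSelfNormalizingCyclic W₁ W₂
  maxS : IsCoatom S
  maxT : IsCoatom T
  defS : SDProd ⁅S, S⁆ W₁ S
  defT : SDProd ⁅T, T⁆ W₂ T
  inf_eq : S ⊓ T = W₁ ⊔ W₂
  type2 : FTtype S = 2 ∨ FTtype T = 2
  S_ne_one : FTtype S ≠ 1
  T_ne_one : FTtype T ≠ 1
  conj : ∀ M : Subgroup G, IsCoatom M → FTtype M ≠ 1 → ∃ g, M = S :^ g ∨ M = T :^ g

theorem realizeEqnsDef16 : True := by
  have := @CA.BG.TypeFCompl.eq_1.{0}
  have := @CA.BG.TypeFCompl.eq_def.{0}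
  have := @CA.BG.TypeFCompl.congr_simp.{0}
  have := @CA.BG.FTsupp0.eq_1.{0}
  have := @CA.BG.FTsupp0.eq_def.{0}
  have := @CA.BG.FTsupp0.congr_simp.{0}
  have := @CA.BG.FTsupp.eq_1.{0}
  have := @CA.BG.FTsupp.eq_def.{0}
  have := @CA.BG.FTsupp.congr_simp.{0}
  have := @CA.BG.FTDadeSupp.eq_1.{0}
  have := @CA.BG.FTDadeSupp.eq_def.{0}
  have := @CA.BG.FTDadeSupp.congr_simp.{0}
  have := @CA.BG.FTsig.eq_1.{0}
  have := @CA.BG.FTsig.eq_def.{0}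
  have := @CA.BG.FTsig.congr_simp.{0}
  have := @CA.BG.FTsupports.eq_1.{0}
  have := @CA.BG.FTsupports.eq_def.{0}
  have := @CA.BG.FTsupports.congr_simp.{0}
  have := @CA.BG.OfTypeIV.eq_1.{0}
  have := @CA.BG.OfTypeIV.eq_def.{0}
  have := @CA.BG.OfTypeIV.congr_simp.{0}
  have := @CA.BG.FTsupp1.eq_1.{0}
  have := @CA.BG.FTsupp1.eq_def.{0}
  have := @CA.BG.FTsupp1.congr_simp.{0}
  have := @CA.BG.FTder.eq_1.{0}
  have := @CA.BG.FTder.eq_def.{0}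
  have := @CA.BG.FTder.congr_simp.{0}
  have := @CA.BG.OfTypeIII.eq_1.{0}
  have := @CA.BG.OfTypeIII.eq_def.{0}
  have := @CA.BG.OfTypeIII.congr_simp.{0}
  have := @CA.BG.OfTypeV.eq_1.{0}
  have := @CA.BG.OfTypeV.eq_def.{0}
  have := @CA.BG.OfTypeV.congr_simp.{0}
  have := @CA.BG.TypeFInertia.eq_1.{0}
  have := @CA.BG.TypeFInertia.eq_def.{0}
  have := @CA.BG.TypeFInertia.congr_simp.{0}
  have := @CA.BG.FTtype.eq_1.{0}
  have := @CA.BG.FTtype.eq_def.{0}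
  have := @CA.BG.FTtype.congr_simp.{0}
  have := @CA.BG.OfTypeF.eq_1.{0}
  have := @CA.BG.OfTypeF.eq_def.{0}
  have := @CA.BG.OfTypeF.congr_simp.{0}
  have := @CA.BG.OfTypeII.eq_1.{0}
  have := @CA.BG.OfTypeII.eq_def.{0}
  have := @CA.BG.OfTypeII.congr_simp.{0}
  have := @CA.BG.OfTypeI.eq_1.{0}
  have := @CA.BG.OfTypeI.eq_def.{0}
  have := @CA.BG.OfTypeI.congr_simp.{0}
  have := @CA.BG.OfTypeII_IV.eq_1.{0}
  have := @CA.BG.OfTypeII_IV.eq_def.{0}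
  have := @CA.BG.OfTypeII_IV.congr_simp.{0}
  trivial

end CA.BG
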