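/-
The largest normal nilpotent Hall subgroup `H_F = Cfsg.fittingHallOf H`.
-/
import Cfsg.Agent.FG.Nil

set_option autoImplicit false
set_option linter.unusedSectionVars false

namespace CA.BG

open Cfsg CA.FG

universe u v

variable {G : Type u} [Group G] [Finite G]

omit [Finite G] in
theorem isHallOf_top_iff {H : Subgroup G} : IsHallOf H ⊤ ↔ (Nat.card H).Coprime H.index := by
  simp [IsHallOf, Subgroup.relIndex_top_right]

theorem fittingHall_spec (G : Type u) [Group G] [Finite G] :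
    (fittingHall G).Normal ∧ Group.IsNilpotent (fittingHall G) ∧
      (Nat.card (fittingHall G)).Coprime (fittingHall G).index := by
  apply sSup_mem_of_sup_closed
    (S := {N : Subgroup G | N.Normal ∧ Group.IsNilpotent N ∧ (Nat.card N).Coprime N.index})
  · exact ⟨inferInstance, inferInstance, by simp⟩
  · rintro A ⟨nA, nilA, hA⟩ B ⟨nB, nilB, hB⟩
    have h1 : A ≤ 𝒩(B) := le_top.trans (normal_iff_top_le_norm.1 nB)
    have h2 : B ≤ 𝒩(A) := le_top.trans (normal_iff_top_le_norm.1 nA)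
    refine ⟨inferInstance, nil_sup_of_norm nilA nilB h1 h2, ?_⟩
    have := ((isHallOf_top_iff.2 hA).pHall.sup (isHallOf_top_iff.2 hB).pHall (Or.inl h1)).isHallOf
    exact isHallOf_top_iff.1 this

omit [Finite G] in
theorem Fcore_normal (H : Subgroup G) : fittingHallOf H ⊲ H := normalIn_map_subtype _

omit [Finite G] in
theorem Fcore_le (H : Subgroup G) : fittingHallOf H ≤ H := (Fcore_normal H).1

omit [Finite G] in
theorem Fcore_norm (H : Subgroup G) : H ≤ 𝒩(fittingHallOf H) := (Fcore_normal H).2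

theorem Fcore_nil (H : Subgroup G) : Group.IsNilpotent (fittingHallOf H) :=
  nil_map _ (fittingHall_spec H).2.1

omit [Finite G] in
theorem Fcore_subgroupOf (H : Subgroup G) : (fittingHallOf H).subgroupOf H = fittingHall H :=
  subgroupOf_map_subtype' _

theorem Fcore_Hall (H : Subgroup G) : IsHallOf (fittingHallOf H) H := by
  have h := (isHallOf_top_iff.2 (fittingHall_spec H).2.2).pHall
  exact (pHall_map_subtype_iff.2 h).isHallOf

omit [Finite G] in
theorem Fcore_max {H K : Subgroup G} (hallK : IsHallOf K H) (nKH : H ≤ 𝒩(K))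
    (nilK : Group.IsNilpotent K) : K ≤ fittingHallOf H := by
  have sKH := hallK.1
  rw [← map_subtype_subgroupOf sKH]
  apply Subgroup.map_mono
  apply le_sSup
  refine ⟨normal_subgroupOf_of_normalIn ⟨sKH, nKH⟩, (subgroupOf_nil_iff sKH).2 nilK, ?_⟩
  rw [card_subgroupOf sKH]
  exact hallK.2

theorem Fcore_sub_Fitting (H : Subgroup G) : fittingHallOf H ≤ fittingOf H :=
  fitting_max (Fcore_normal H) (Fcore_nil H)

omit [Finite G] in
theorem isHallOf_map_of_inj {G' : Type v} [Group G'] {H K : Subgroup G} {f : G →* G'}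
    (hf : Function.Injective f) (h : IsHallOf K H) : IsHallOf (K.map f) (H.map f) :=
  ((pHall_map_iff_of_inj hf).2 h.pHall).isHallOf

omit [Finite G] in
theorem isHallOf_conjg {H K : Subgroup G} (h : IsHallOf K H) (g : G) : IsHallOf (K :^ g) (H :^ g) :=
  (h.pHall.conjg g).isHallOf

theorem FcoreJ_le (H : Subgroup G) (g : G) : fittingHallOf H :^ g ≤ fittingHallOf (H :^ g) :=
  Fcore_max (isHallOf_conjg (Fcore_Hall H) g) (conjg_le_norm_iff.2 (Fcore_norm H))
    (nil_conjg.2 (Fcore_nil H))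

theorem FcoreJ (H : Subgroup G) (g : G) : fittingHallOf (H :^ g) = fittingHallOf H :^ g := by
  refine le_antisymm ?_ (FcoreJ_le H g)
  have := FcoreJ_le (H :^ g) g⁻¹
  rw [conjg_inv_cancel] at this
  exact le_conjg_iff.2 this

theorem norm_Fcore {A H : Subgroup G} (h : A ≤ 𝒩(H)) : A ≤ 𝒩(fittingHallOf H) := by
  rw [le_norm_iff_conjg]
  intro a ha
  rw [← FcoreJ, conjg_of_mem_norm (h ha)]

theorem Fcore_charIn (H : Subgroup G) : CharIn (fittingHallOf H) H :=
  (Fcore_Hall H).pHall.charIn (Fcore_norm H)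

/-- A normal Sylow subgroup lies in `H_F`. -/
theorem Fcore_max_Sylow {H P : Subgroup G} {p : ℕ} (sylP : IsSylowOf p P H)
    (nPH : H ≤ 𝒩(P)) : P ≤ fittingHallOf H :=
  Fcore_max sylP.isHallOf nPH sylP.pGrp.nil

/-- For `p ∈ π(H_F)`, `O_p(H_F) = O_p(H)` is a Sylow `p`-subgroup of `H`. -/
theorem Fcore_pcore_Sylow {H : Subgroup G} {p : ℕ} (hp : p.Prime) (h : p ∣ Nat.card (fittingHallOf H)) :
    pCoreOf p (fittingHallOf H) = pCoreOf p H ∧ IsSylowOf p (pCoreOf p H) H := by
  have h1 : IsSylowOf p (pCoreOf p (fittingHallOf H)) H :=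
    IsSylowOf.trans_isHall (nilpotent_pcore_Hall {p} (Fcore_nil H)) (Fcore_Hall H) hp h
  have h2 : pCoreOf p H = pCoreOf p (fittingHallOf H) := h1.pcore_eq ((Fcore_normal H).pcore {p}).2
  exact ⟨h2.symm, h2 ▸ h1⟩

/-- `H_F` of a nilpotent group. -/
theorem Fcore_of_nil {H : Subgroup G} (h : Group.IsNilpotent H) : fittingHallOf H = H :=
  le_antisymm (Fcore_le H) (Fcore_max ⟨le_rfl, by simp⟩ Subgroup.le_normalizer h)

/-- For a normal Hall subgroup `K` of `H`: `K_F ≤ H_F`. -/
theorem Fcore_le_of_normal_Hall {H K : Subgroup G} (hallK : IsHallOf K H) (nKH : H ≤ 𝒩(K)) :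
    fittingHallOf K ≤ fittingHallOf H := by
  refine Fcore_max ?_ (norm_Fcore nKH) (Fcore_nil K)
  exact ((Fcore_Hall K).pHall.trans hallK.pHall (primesOf_mono (Fcore_le K))).isHallOf

/-- If `H_F ≤ K ≤ H` then `H_F ≤ K_F`. -/
theorem Fcore_le_of_le {H K : Subgroup G} (sFK : fittingHallOf H ≤ K) (sKH : K ≤ H) :
    fittingHallOf H ≤ fittingHallOf K :=
  Fcore_max ((Fcore_Hall H).pHall.of_le sFK sKH).isHallOf (sKH.trans (Fcore_norm H)) (Fcore_nil H)

/-- The quotient by `H_F` used in the statements. -/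
theorem Fcore_quot_equiv (H : Subgroup G) : Nonempty (H ⧸ fittingHall H ≃* H /ₛ fittingHallOf H) := by
  obtain ⟨e⟩ := map_mk'_equiv_quot (fittingHall H) (⊤ : Subgroup H)
  rw [map_subtype_top] at e
  refine ⟨MulEquiv.trans ?_ e⟩
  have : (⊤ : Subgroup H).map (QuotientGroup.mk' (fittingHall H)) = ⊤ :=
    Subgroup.map_top_of_surjective _ (QuotientGroup.mk'_surjective _)
  rw [this]
  exact Subgroup.topEquiv.symm

end CA.BG
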