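/-
Linear algebra for group representations: averaging, eigenbases, free modules.
Owner: helper6.
-/
import Cfsg.Agent.EqAll

set_option autoImplicit false

namespace CA.BG.Rep

open Module

universe u v w

variable {k : Type u} {V : Type v} [Field k] [AddCommGroup V] [Module k V]

/-- Maschke's projection onto an invariant subspace. -/
theorem exists_proj {K : Type w} [Group K] [Finite K] (hk : (Nat.card K : k) ≠ 0)
    (σ : K →* End k V) (W : Submodule k V) (hW : ∀ g, ∀ v ∈ W, σ g v ∈ W) :
    ∃ e : End k V, (∀ g, σ g * e = e * σ g) ∧ (∀ v, e v ∈ W) ∧ (∀ v ∈ W, e v = v) := by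
  classical
  have := Fintype.ofFinite K
  obtain ⟨W', hW'⟩ := W.exists_isCompl
  let e0 : End k V := W.subtype ∘ₗ W.projectionOnto W' hW'
  have he0 : ∀ v, e0 v ∈ W := fun v => (W.projectionOnto W' hW' v).2
  have he1 : ∀ v ∈ W, e0 v = v := fun v hv =>
    congrArg Subtype.val (Submodule.projectionOnto_apply_left hW' ⟨v, hv⟩)
  refine ⟨(Nat.card K : k)⁻¹ • ∑ g : K, σ g * e0 * σ g⁻¹, ?_, ?_, ?_⟩
  · intro h
    rw [mul_smul_comm, smul_mul_assoc, Finset.mul_sum, Finset.sum_mul]
    congr 1
    refine Fintype.sum_equiv (Equiv.mulLeft h) _ _ ?_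
    intro g
    simp only [Equiv.coe_mulLeft, map_mul, mul_inv_rev, mul_assoc]
    rw [← map_mul σ h⁻¹ h]
    simp
  · intro v
    simp only [LinearMap.smul_apply, LinearMap.sum_apply]
    exact W.smul_mem _ (W.sum_mem fun g _ => hW _ _ (he0 _))
  · intro v hv
    simp only [LinearMap.smul_apply, LinearMap.sum_apply, End.mul_apply]
    have : ∀ g : K, σ g (e0 (σ g⁻¹ v)) = v := by
      intro g
      rw [he1 _ (hW _ _ hv), ← End.mul_apply, ← map_mul]
      simp
    simp only [this, Finset.sum_const, Finset.card_univ]
    rw [← Nat.cast_smul_eq_nsmul k, smul_smul, ← Nat.card_eq_fintype_card, inv_mul_cancel₀ hk, one_smul]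

/-- An endomorphism of finite order prime to the characteristic is semisimple. -/
theorem isSemisimple_of_pow_eq_one (f : End k V) {n : ℕ} (hn : (n : k) ≠ 0) (hf : f ^ n = 1) :
    f.IsSemisimple := by
  refine End.isSemisimple_of_squarefree_aeval_eq_zero (p := Polynomial.X ^ n - Polynomial.C 1) ?_ ?_
  · exact (Polynomial.separable_X_pow_sub_C (1 : k) hn one_ne_zero).squarefree
  · simp [hf]

/-- A representation with commutative image over an algebraically closed field of coprime characteristic
has an eigenbasis. -/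
theorem exists_eigenbasis [IsAlgClosed k] [FiniteDimensional k V] {K : Type w} [Group K] [Finite K]
    (hk : (Nat.card K : k) ≠ 0) (σ : K →* End k V) (hc : ∀ g h, σ g * σ h = σ h * σ g) :
    ∃ (n : ℕ) (b : Basis (Fin n) k V) (wt : Fin n → (K →* kˣ)),
      ∀ g i, σ g (b i) = (wt i g : k) • b i := by
  classical
  have hss : ∀ g, (σ g).IsSemisimple := fun g =>
    isSemisimple_of_pow_eq_one _ hk (by rw [← map_pow, pow_card_eq_one', map_one])
  have htop := End.iSup_iInf_maxGenEigenspace_eq_top_of_iSup_maxGenEigenspace_eq_top_of_commute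
    (fun g => σ g) (fun g h _ => hc g h) (fun g => End.iSup_maxGenEigenspace_eq_top _)
  let S : Set V := {v | ∃ χ : K → k, ∀ g, σ g v = χ g • v}
  have hS : Submodule.span k S = ⊤ := by
    rw [eq_top_iff, ← htop]
    refine iSup_le fun χ v hv => Submodule.subset_span ⟨χ, fun g => ?_⟩
    have := (Submodule.mem_iInf _).1 hv g
    rwa [(hss g).isFinitelySemisimple.maxGenEigenspace_eq_eigenspace, End.mem_eigenspace_iff] at this
  obtain ⟨T, hTS, hT, hli⟩ := exists_linearIndependent k S
  let b0 : Basis T k V := Basis.mk hli (by rw [Subtype.range_coe_subtype]; simp [hT, hS])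
  have : Finite T := Module.Finite.finite_basis b0
  obtain ⟨n, ⟨e⟩⟩ := Finite.exists_equiv_fin T
  have hb : ∀ t : T, ∃ μ : K →* kˣ, ∀ g, σ g (b0 t) = (μ g : k) • b0 t := by
    intro t
    obtain ⟨χ, hχ⟩ := hTS t.2
    have hb0 : b0 t = t := by simp [b0]
    have hne : (t : V) ≠ 0 := hb0 ▸ b0.ne_zero t
    have h1 : χ 1 = 1 := by
      have := hχ 1
      rw [map_one, End.one_apply] at this
      exact smul_left_injective k hne (by simpa using this.symm)
    have hmul : ∀ g h, χ (g * h) = χ g * χ h := by
      intro g h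
      have := hχ (g * h)
      rw [map_mul, End.mul_apply, hχ h, map_smul, hχ g, smul_smul] at this
      exact smul_left_injective k hne (by simpa [mul_comm] using this.symm)
    let χ' : K →* k := ⟨⟨χ, h1⟩, hmul⟩
    exact ⟨χ'.toHomUnits, fun g => by rw [hb0]; exact hχ g⟩
  choose wt hwt using hb
  exact ⟨n, b0.reindex e, fun i => wt (e.symm i), fun g i => by simp [hwt]⟩

/-- Dimension of a joint eigenspace of operators that are diagonal in a basis. -/
theorem finrank_eq_card_of_diag {ι J : Type*} [Fintype ι] (b : Basis ι k V) (f : J → End k V)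
    (c : ι → J → k) (hf : ∀ i j, f j (b i) = c i j • b i) (d : J → k) (W : Submodule k V)
    (hW : ∀ v, v ∈ W ↔ ∀ j, f j v = d j • v) :
    finrank k W = Nat.card {i // ∀ j, c i j = d j} := by
  classical
  have : W = Submodule.span k (Set.range fun i : {i // ∀ j, c i j = d j} => b i) := by
    apply le_antisymm
    · intro v hv
      rw [hW] at hv
      rw [← b.sum_repr v]
      refine Submodule.sum_mem _ fun i _ => ?_
      by_cases hi : ∀ j, c i j = d j
      · exact Submodule.smul_mem _ _ (Submodule.subset_span ⟨⟨i, hi⟩, rfl⟩)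
      · push Not at hi
        obtain ⟨j, hj⟩ := hi
        have h1 : b.repr (f j v) i = c i j * b.repr v i := by
          have h3 : f j v = ∑ i, (b.repr v i * c i j) • b i := by
            conv_lhs => rw [← b.sum_repr v]
            simp only [map_sum, map_smul, hf, smul_smul]
          rw [h3, b.repr_sum_self, mul_comm]
        rw [hv j] at h1
        have h2 : b.repr v i = 0 := by
          simp only [map_smul, Finsupp.coe_smul, Pi.smul_apply, smul_eq_mul] at h1
          exact (mul_eq_mul_right_iff.1 h1).resolve_left hj.symm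
        simp [h2]
    · rw [Submodule.span_le]
      rintro _ ⟨⟨i, hi⟩, rfl⟩
      exact (hW _).2 fun j => by rw [hf, hi]
  rw [this, Nat.card_eq_fintype_card]
  exact finrank_span_eq_card (b.linearIndependent.comp _ Subtype.val_injective)

/-- A module that is the sum of the image of an invariant projection `e` and a free module generated by
the image of `π`. -/
theorem finrank_of_free [FiniteDimensional k V] {R : Type w} [Group R] [Fintype R]
    (τ : Representation k R V) (e π : End k V) (he : ∀ x, τ x * e = e * τ x) (hee : e * e = e)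
    (heπ : e * π = 0) (hπe : π * e = 0) (h0 : ∀ x, x ≠ 1 → π * τ x * π = 0)
    (h1 : e + ∑ x, τ x * π * τ x⁻¹ = 1) :
    finrank k V = finrank k (LinearMap.range e) + Fintype.card R * finrank k (LinearMap.range π) ∧
      finrank k τ.invariants =
        finrank k ↥(LinearMap.range e ⊓ τ.invariants) + finrank k (LinearMap.range π) := by
  classical
  have hππ : π * π = π := by
    have : π * (e + ∑ x, τ x * π * τ x⁻¹) = π := by rw [h1, mul_one]
    rw [mul_add, hπe, zero_add, Finset.mul_sum, Finset.sum_eq_single 1] at this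
    · simpa using this
    · intro x _ hx
      rw [← mul_assoc, ← mul_assoc, h0 x hx, zero_mul]
    · simp
  have hv1 : ∀ v, e v + ∑ x, τ x (π (τ x⁻¹ v)) = v := fun v => by
    simpa [LinearMap.sum_apply] using LinearMap.congr_fun h1 v
  have hev : ∀ x v, e (τ x v) = τ x (e v) := fun x v => (LinearMap.congr_fun (he x) v).symm
  have heev : ∀ v, e (e v) = e v := fun v => LinearMap.congr_fun hee v
  have heπv : ∀ v, e (π v) = 0 := fun v => LinearMap.congr_fun heπ v
  have hπev : ∀ v, π (e v) = 0 := fun v => LinearMap.congr_fun hπe v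
  have hππv : ∀ v, π (π v) = π v := fun v => LinearMap.congr_fun hππ v
  have h0v : ∀ x, x ≠ 1 → ∀ v, π (τ x (π v)) = 0 := fun x hx v => LinearMap.congr_fun (h0 x hx) v
  have key : ∀ (y : R) (f : R → LinearMap.range π), π (τ y⁻¹ (∑ x, τ x (f x))) = f y := by
    intro y f
    rw [map_sum, map_sum, Finset.sum_eq_single y]
    · obtain ⟨u, hu⟩ := (f y).2
      rw [← End.mul_apply (τ y⁻¹), ← map_mul, inv_mul_cancel, map_one, End.one_apply, ← hu, hππv]
    · intro x _ hx
      obtain ⟨u, hu⟩ := (f x).2
      rw [← End.mul_apply (τ y⁻¹), ← map_mul, ← hu, h0v]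
      intro h
      exact hx (inv_mul_eq_one.1 h).symm
    · simp
  have key2 : ∀ (f : R → LinearMap.range π), e (∑ x, τ x (f x)) = 0 := by
    intro f
    rw [map_sum]
    refine Finset.sum_eq_zero fun x _ => ?_
    obtain ⟨u, hu⟩ := (f x).2
    rw [hev, ← hu, heπv, map_zero]
  constructor
  · let Φ : V →ₗ[k] LinearMap.range e × (R → LinearMap.range π) :=
      LinearMap.prod e.rangeRestrict (LinearMap.pi fun x => π.rangeRestrict ∘ₗ τ x⁻¹)
    have hΦ : Function.Bijective Φ := by
      constructor
      · rw [injective_iff_map_eq_zero]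
        intro v hv
        have h1 : e v = 0 := congrArg Subtype.val (congrArg Prod.fst hv)
        have h2 : ∀ x, π (τ x⁻¹ v) = 0 := fun x =>
          congrArg Subtype.val (congrFun (congrArg Prod.snd hv) x)
        rw [← hv1 v, h1]
        simp [h2]
      · rintro ⟨⟨_, w, rfl⟩, f⟩
        refine ⟨e w + ∑ x, τ x (f x), Prod.ext (Subtype.ext ?_) (funext fun y => Subtype.ext ?_)⟩
        · show e (e w + ∑ x, τ x (f x)) = e w
          rw [map_add, key2, heev, add_zero]
        · show π (τ y⁻¹ (e w + ∑ x, τ x (f x))) = f y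
          rw [map_add, map_add, key, ← hev, hπev, zero_add]
    rw [(LinearEquiv.ofBijective Φ hΦ).finrank_eq, finrank_prod, finrank_pi_fintype]
    simp
  · let Ψ : τ.invariants →ₗ[k] ↥(LinearMap.range e ⊓ τ.invariants) × LinearMap.range π :=
      LinearMap.prod
        (LinearMap.codRestrict _ (e ∘ₗ τ.invariants.subtype) fun v =>
          ⟨⟨v, rfl⟩, fun x => by
            show τ x (e v) = e v
            rw [← hev, v.2 x]⟩)
        (π.rangeRestrict ∘ₗ τ.invariants.subtype)
    have hΨ : Function.Bijective Ψ := by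
      constructor
      · rw [injective_iff_map_eq_zero]
        intro v hv
        have h1 : e v = 0 := congrArg Subtype.val (congrArg Prod.fst hv)
        have h2 : π v = 0 := congrArg Subtype.val (congrArg Prod.snd hv)
        apply Subtype.ext
        rw [← hv1 v, h1]
        simp [v.2 _, h2]
      · rintro ⟨⟨w, ⟨w', hw'⟩, hw⟩, u⟩
        refine ⟨⟨w + ∑ x, τ x u, fun y => ?_⟩, Prod.ext (Subtype.ext ?_) (Subtype.ext ?_)⟩
        · rw [map_add, hw y, map_sum]
          congr 1
          refine Fintype.sum_equiv (Equiv.mulLeft y) _ _ fun x => ?_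
          simp
        · show e (w + ∑ x, τ x u) = w
          rw [map_add, key2 fun _ => u, add_zero, ← hw', heev]
        · show π (w + ∑ x, τ x u) = u
          have := key 1 fun _ => u
          simp only [inv_one, map_one, End.one_apply] at this
          rw [map_add, this, ← hw', hπev, zero_add]
    rw [(LinearEquiv.ofBijective Ψ hΨ).finrank_eq, finrank_prod]

end CA.BG.Rep
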