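/-
Central idempotents of a group algebra permuted by a fixed point free group of automorphisms.
Owner: helper6.
-/
import Cfsg.Agent.BG.Rep1

set_option autoImplicit false

namespace CA.BG.Rep

open Module MonoidAlgebra

universe u v w w'

variable {k : Type u} [Field k]

/-- The invariant functions of a permutation module. -/
def invFun (k : Type u) [Field k] (R : Type w) (S : Type v) [Group R] [MulAction R S] :
    Submodule k (S → k) where
  carrier := {f | ∀ (x : R) (s : S), f (x • s) = f s}
  add_mem' := fun {a b} ha hb x s => by simp [ha x s, hb x s]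
  zero_mem' := fun _ _ => rfl
  smul_mem' := fun c a ha x s => by simp [ha x s]

theorem finrank_invFun (R : Type w) (S : Type v) [Group R] [MulAction R S] [Finite S] :
    finrank k (invFun k R S) = Nat.card (MulAction.orbitRel.Quotient R S) := by
  classical
  have := Fintype.ofFinite (MulAction.orbitRel.Quotient R S)
  let φ : (MulAction.orbitRel.Quotient R S → k) →ₗ[k] invFun k R S :=
    LinearMap.codRestrict _ (LinearMap.funLeft k k (Quotient.mk'' : S → _)) fun f x s => by
      simp only [LinearMap.funLeft_apply]
      congr 1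
      exact Quotient.sound' (MulAction.mem_orbit s x)
  have hφ : Function.Bijective φ := by
    constructor
    · intro f g h
      funext q
      induction q using Quotient.inductionOn' with
      | h s => exact congrFun (congrArg Subtype.val h) s
    · rintro ⟨f, hf⟩
      refine ⟨fun q => Quotient.liftOn' q f ?_, rfl⟩
      rintro a b ⟨x, rfl⟩
      exact hf x b
  rw [← (LinearEquiv.ofBijective φ hφ).finrank_eq, finrank_pi, Nat.card_eq_fintype_card]

/-- Brauer's permutation lemma (summed form). -/
theorem sum_card_fixedBy_eq {R : Type w} {S₁ : Type v} {S₂ : Type w'} [Group R] [Fintype R]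
    [MulAction R S₁] [MulAction R S₂] [Finite S₁] [Finite S₂] (φ : (S₁ → k) ≃ₗ[k] (S₂ → k))
    (h : ∀ (x : R) (f : S₁ → k) (s : S₂), φ (fun t => f (x • t)) s = φ f (x • s)) :
    ∑ x : R, Nat.card (MulAction.fixedBy S₁ x) = ∑ x : R, Nat.card (MulAction.fixedBy S₂ x) := by
  classical
  have := Fintype.ofFinite S₁
  have := Fintype.ofFinite S₂
  have := Fintype.ofFinite (MulAction.orbitRel.Quotient R S₁)
  have := Fintype.ofFinite (MulAction.orbitRel.Quotient R S₂)
  have hm : (invFun k R S₁).map φ.toLinearMap = invFun k R S₂ := by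
    apply le_antisymm
    · rintro _ ⟨f, hf, rfl⟩ x s
      show φ f (x • s) = φ f s
      rw [← h, show (fun t => f (x • t)) = f from funext (hf x)]
    · intro g hg
      refine ⟨φ.symm g, fun x t => ?_, by simp⟩
      have : (fun t => φ.symm g (x • t)) = φ.symm g := by
        apply φ.injective
        funext s
        rw [h]
        simp [hg x s]
      exact congrFun this t
  have h1 : finrank k (invFun k R S₁) = finrank k (invFun k R S₂) := by
    rw [← hm, LinearEquiv.finrank_map_eq]
  rw [finrank_invFun, finrank_invFun] at h1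
  simp only [Nat.card_eq_fintype_card] at h1 ⊢
  rw [MulAction.sum_card_fixedBy_eq_card_orbits_mul_card_group,
    MulAction.sum_card_fixedBy_eq_card_orbits_mul_card_group]
  congr 1

section Center

variable {K : Type v} [Group K]

theorem mem_center_iff_coeff (z : k[K]) :
    z ∈ Subalgebra.center k k[K] ↔ ∀ g h : K, z.coeff (g * h * g⁻¹) = z.coeff h := by
  rw [Subalgebra.mem_center_iff]
  constructor
  · intro hz g h
    have := congrArg (fun y : k[K] => y.coeff (g * h)) (hz (single g 1))
    simpa [mul_assoc] using this.symm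
  · intro hz b
    induction b using MonoidAlgebra.induction_linear with
    | zero => simp
    | add a b ha hb => rw [add_mul, mul_add, ha, hb]
    | single g c =>
      apply MonoidAlgebra.coeff_injective
      ext h
      simp only [coeff_single_mul_apply, coeff_mul_single_apply, mul_comm c]
      congr 1
      rw [← hz g]
      simp [mul_assoc]

theorem center_isReduced [Finite K] (hk : (Nat.card K : k) ≠ 0) :
    IsReduced (Subalgebra.center k k[K]) := by
  haveI : NeZero (Nat.card K : k) := ⟨hk⟩
  refine ⟨fun z hz => ?_⟩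
  obtain ⟨e, he, hI⟩ := IsSemisimpleRing.ideal_eq_span_idempotent (Ideal.span {(z : k[K])})
  have hz' : IsNilpotent (z : k[K]) := hz.map (Subalgebra.center k k[K]).val
  have he0 : e = 0 := by
    have : e ∈ Ideal.span {(z : k[K])} := hI ▸ Ideal.subset_span rfl
    obtain ⟨a, rfl⟩ := Ideal.mem_span_singleton'.1 this
    have hc : Commute a (z : k[K]) := Subalgebra.mem_center_iff.1 z.2 a
    exact he.eq_zero_of_isNilpotent (hc.isNilpotent_mul_left hz')
  have : (z : k[K]) ∈ Ideal.span {e} := hI ▸ Ideal.subset_span rfl
  rw [he0] at this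
  exact Subtype.ext (by simpa using this)

/-- The centre of the group algebra and class functions. -/
noncomputable def centerToClass : Subalgebra.center k k[K] →ₗ[k] (ConjClasses K → k) where
  toFun := fun z c => Quotient.liftOn' (s₁ := IsConj.setoid K) c (fun g => (z : k[K]).coeff g) (by
    rintro a b hab
    obtain ⟨c, hc⟩ := isConj_iff.1 hab
    rw [← hc, (mem_center_iff_coeff _).1 z.2])
  map_add' := fun a b => by
    funext c
    induction c using Quotient.inductionOn' with
    | h g => rfl
  map_smul' := fun a b => by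
    funext c
    induction c using Quotient.inductionOn' with
    | h g => rfl

/-- The centre of the group algebra and class functions. -/
noncomputable def centerEquivClass [Finite K] :
    Subalgebra.center k k[K] ≃ₗ[k] (ConjClasses K → k) :=
  LinearEquiv.ofBijective centerToClass (by
    constructor
    · intro a b h
      apply Subtype.ext
      apply MonoidAlgebra.coeff_injective
      ext g
      exact congrFun h (ConjClasses.mk g)
    · intro f
      refine ⟨⟨MonoidAlgebra.ofCoeff (Finsupp.equivFunOnFinite.symm fun g => f (ConjClasses.mk g)), ?_⟩, ?_⟩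
      · rw [mem_center_iff_coeff]
        intro g h
        show f _ = f _
        congr 1
        rw [ConjClasses.mk_eq_mk_iff_isConj]
        exact (isConj_iff.2 ⟨g, rfl⟩).symm
      · funext c
        induction c using Quotient.inductionOn' with
        | h g => rfl)

theorem centerEquivClass_mk [Finite K] (z : Subalgebra.center k k[K]) (g : K) :
    centerEquivClass z (ConjClasses.mk g) = (z : k[K]).coeff g := rfl

end Center

/-- A reduced finite dimensional commutative algebra over an algebraically closed field is the algebra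
of functions on its characters. -/
theorem ev_bijective [IsAlgClosed k] (Z : Type v) [CommRing Z] [Algebra k Z] [FiniteDimensional k Z]
    [IsReduced Z] : Finite (Z →ₐ[k] k) ∧
      Function.Bijective (AlgHom.pi (fun χ : Z →ₐ[k] k => χ)) := by
  classical
  have hli := linearIndependent_algHom_toLinearMap k Z k
  have hfin : Finite (Z →ₐ[k] k) := hli.finite
  have := Fintype.ofFinite (Z →ₐ[k] k)
  refine ⟨hfin, ?_⟩
  have hinj : Function.Injective (AlgHom.pi (fun χ : Z →ₐ[k] k => χ)) := by
    rw [injective_iff_map_eq_zero]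
    intro z hz
    haveI : IsArtinianRing Z := IsArtinianRing.of_finite k Z
    have : z ∈ nilradical Z := by
      rw [IsArtinianRing.nilradical_eq_iInf, Ideal.mem_iInf]
      intro m
      have := m.isMaximal
      letI := Ideal.Quotient.field m.asIdeal
      have hb : Function.Bijective (algebraMap k (Z ⧸ m.asIdeal)) :=
        IsAlgClosed.algebraMap_bijective_of_isIntegral
      let ψ : k ≃ₐ[k] (Z ⧸ m.asIdeal) := AlgEquiv.ofBijective (Algebra.ofId k _) hb
      let χ : Z →ₐ[k] k := ψ.symm.toAlgHom.comp (Ideal.Quotient.mkₐ k m.asIdeal)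
      have h0 : χ z = 0 := congrFun hz χ
      have : ψ.symm (Ideal.Quotient.mk m.asIdeal z) = 0 := h0
      rw [map_eq_zero_iff _ ψ.symm.injective] at this
      exact Ideal.Quotient.eq_zero_iff_mem.1 this
    simpa [nilradical_eq_zero] using this
  refine ⟨hinj, ?_⟩
  have h1 : Fintype.card (Z →ₐ[k] k) ≤ finrank k Z := by
    have := hli.fintype_card_le_finrank
    rwa [Subspace.dual_finrank_eq] at this
  have h2 := LinearMap.finrank_le_finrank_of_injective
    (f := (AlgHom.pi (fun χ : Z →ₐ[k] k => χ)).toLinearMap) hinj
  rw [finrank_pi] at h2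
  exact (LinearMap.injective_iff_surjective_of_finrank_eq_finrank
    (f := (AlgHom.pi (fun χ : Z →ₐ[k] k => χ)).toLinearMap)
    (by rw [finrank_pi]; omega)).1 hinj

section Frob

variable {K : Type v} [Group K] {R : Type w} [Group R]

/-- The action of automorphisms on the centre of the group algebra. -/
noncomputable def centerMap (φ : MulAut K) : Subalgebra.center k k[K] →ₐ[k] Subalgebra.center k k[K] :=
  AlgHom.codRestrict ((domCongr k k φ).toAlgHom.comp (Subalgebra.center k k[K]).val) _ fun z => by
    rw [mem_center_iff_coeff]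
    intro g h
    show (domCongr k k φ z).coeff _ = (domCongr k k φ z).coeff _
    simp only [coeff_domCongr, map_mul, map_inv]
    exact (mem_center_iff_coeff _).1 z.2 _ _

theorem coeff_centerMap (φ : MulAut K) (z : Subalgebra.center k k[K]) (g : K) :
    (centerMap φ z : k[K]).coeff g = (z : k[K]).coeff (φ.symm g) := coeff_domCongr (R := k) φ _ _

theorem centerMap_mul (φ ψ : MulAut K) (z : Subalgebra.center k k[K]) :
    centerMap (φ * ψ) z = centerMap φ (centerMap ψ z) := by
  apply Subtype.ext
  apply MonoidAlgebra.coeff_injective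
  ext g
  simp only [coeff_centerMap]
  rfl

theorem centerMap_one (z : Subalgebra.center k k[K]) : centerMap 1 z = z := by
  apply Subtype.ext
  apply MonoidAlgebra.coeff_injective
  ext g
  simp only [coeff_centerMap]
  rfl

/-- Action on the characters of the centre. -/
@[reducible] noncomputable def actChar (α : R →* MulAut K) :
    MulAction R (Subalgebra.center k k[K] →ₐ[k] k) where
  smul x χ := χ.comp (centerMap (α x⁻¹))
  one_smul χ := by
    ext z
    show χ (centerMap (α 1⁻¹) z) = χ z
    simp [centerMap_one]
  mul_smul x y χ := by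
    ext z
    show χ (centerMap (α (x * y)⁻¹) z) = χ (centerMap (α y⁻¹) (centerMap (α x⁻¹) z))
    rw [mul_inv_rev, map_mul, centerMap_mul]

/-- Action on conjugacy classes. -/
@[reducible] def actClass (α : R →* MulAut K) : MulAction R (ConjClasses K) where
  smul x c := ConjClasses.map (α x).toMonoidHom c
  one_smul c := by
    induction c using Quotient.inductionOn' with
    | h g =>
      show ConjClasses.mk (α 1 g) = ConjClasses.mk g
      simp
  mul_smul x y c := by
    induction c using Quotient.inductionOn' with
    | h g =>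
      show ConjClasses.mk (α (x * y) g) = ConjClasses.mk (α x (α y g))
      simp

theorem class_fixed_eq_one [Finite K] (φ : MulAut K) (hφ : ∀ g, φ g = g → g = 1) (a : K)
    (h : IsConj a (φ a)) : a = 1 := by
  obtain ⟨g, hg⟩ := isConj_iff.1 h
  obtain ⟨c, hc⟩ := MonoidHom.FixedPointFree.commutatorMap_surjective (φ := φ) hφ g⁻¹
  simp only [MonoidHom.commutatorMap_apply, div_eq_mul_inv] at hc
  have hg' : g = φ c * c⁻¹ := by rw [← inv_inv g, ← hc]; simp
  have : c⁻¹ * a * c = 1 := by
    apply hφ
    rw [map_mul, map_mul, map_inv, ← hg, hg']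
    group
  calc a = c * (c⁻¹ * a * c) * c⁻¹ := by group
    _ = 1 := by rw [this]; simp

/-- The augmentation character of the centre. -/
noncomputable def augChar : Subalgebra.center k k[K] →ₐ[k] k :=
  (MonoidAlgebra.lift k k K 1).comp (Subalgebra.center k k[K]).val

theorem augChar_centerMap (φ : MulAut K) (z : Subalgebra.center k k[K]) :
    augChar (centerMap φ z) = augChar z := by
  have : (MonoidAlgebra.lift k k K 1).comp (domCongr k k φ).toAlgHom = MonoidAlgebra.lift k k K 1 := by
    ext g
    simp
  exact DFunLike.congr_fun this (z : k[K])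

theorem char_fixed_eq_aug [IsAlgClosed k] [Finite K] [Finite R] (hk : (Nat.card K : k) ≠ 0)
    (α : R →* MulAut K) (hα : ∀ x, x ≠ 1 → ∀ g, α x g = g → g = 1) (x : R) (hx : x ≠ 1)
    (χ : Subalgebra.center k k[K] →ₐ[k] k) (hχ : χ.comp (centerMap (α x⁻¹)) = χ) : χ = augChar := by
  classical
  have := Fintype.ofFinite R
  have := center_isReduced (k := k) hk
  obtain ⟨hfin, hbij⟩ := ev_bijective (k := k) (Subalgebra.center k k[K])
  letI := actChar (k := k) α
  letI := actClass α
  let ev := LinearEquiv.ofBijective
    (AlgHom.pi (fun χ : Subalgebra.center k k[K] →ₐ[k] k => χ)).toLinearMap hbij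
  let φ := (centerEquivClass (k := k) (K := K)).symm ≪≫ₗ ev
  have hφ : ∀ (x : R) (f : ConjClasses K → k) s, φ (fun t => f (x • t)) s = φ f (x • s) := by
    intro x f s
    obtain ⟨z, rfl⟩ := centerEquivClass.surjective f
    have : (fun t => centerEquivClass z (x • t)) = centerEquivClass (centerMap (α x⁻¹) z) := by
      funext c
      induction c using Quotient.inductionOn' with
      | h g =>
        show (z : k[K]).coeff (α x g) = (centerMap (α x⁻¹) z : k[K]).coeff g
        rw [coeff_centerMap, map_inv]
        rfl
    rw [this]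
    simp only [φ, LinearEquiv.trans_apply, LinearEquiv.symm_apply_apply]
    rfl
  have hsum := sum_card_fixedBy_eq φ hφ
  have hcard : Nat.card (ConjClasses K) = Nat.card (Subalgebra.center k k[K] →ₐ[k] k) := by
    have := Fintype.ofFinite (ConjClasses K)
    have := Fintype.ofFinite (Subalgebra.center k k[K] →ₐ[k] k)
    have := φ.finrank_eq
    simpa [finrank_pi] using this
  have hle : ∀ y ∈ (Finset.univ : Finset R), Nat.card (MulAction.fixedBy (ConjClasses K) y) ≤
      Nat.card (MulAction.fixedBy (Subalgebra.center k k[K] →ₐ[k] k) y) := by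
    intro y _
    by_cases hy : y = 1
    · subst hy
      simp [hcard]
    · have h1 : MulAction.fixedBy (ConjClasses K) y ⊆ {1} := by
        intro c hc
        induction c using Quotient.inductionOn' with
        | h g =>
          have : ConjClasses.mk (α y g) = ConjClasses.mk g := hc
          rw [ConjClasses.mk_eq_mk_iff_isConj] at this
          rw [class_fixed_eq_one (α y) (hα y hy) g this.symm]
          rfl
      have h2 : augChar ∈ MulAction.fixedBy (Subalgebra.center k k[K] →ₐ[k] k) y := by
        ext z
        exact augChar_centerMap _ _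
      calc Nat.card (MulAction.fixedBy (ConjClasses K) y) ≤ Nat.card ({1} : Set (ConjClasses K)) :=
            Nat.card_mono (Set.toFinite _) h1
        _ = 1 := by simp
        _ ≤ _ := Nat.one_le_iff_ne_zero.2 (Nat.card_ne_zero.2 ⟨⟨⟨_, h2⟩⟩, inferInstance⟩)
  have heq := (Finset.sum_eq_sum_iff_of_le hle).1 hsum x (Finset.mem_univ _)
  have h1 : MulAction.fixedBy (ConjClasses K) x ⊆ {1} := by
    intro c hc
    induction c using Quotient.inductionOn' with
    | h g =>
      have : ConjClasses.mk (α x g) = ConjClasses.mk g := hc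
      rw [ConjClasses.mk_eq_mk_iff_isConj] at this
      rw [class_fixed_eq_one (α x) (hα x hx) g this.symm]
      rfl
  have h3 : Nat.card (MulAction.fixedBy (Subalgebra.center k k[K] →ₐ[k] k) x) ≤ 1 := by
    rw [← heq]
    exact (Nat.card_mono (Set.toFinite _) h1).trans (by simp)
  have h2 : augChar ∈ MulAction.fixedBy (Subalgebra.center k k[K] →ₐ[k] k) x := by
    ext z
    exact augChar_centerMap _ _
  have h4 : χ ∈ MulAction.fixedBy (Subalgebra.center k k[K] →ₐ[k] k) x := hχ
  have := Finite.card_le_one_iff_subsingleton.1 h3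
  exact congrArg Subtype.val (Subsingleton.elim (⟨χ, h4⟩ : MulAction.fixedBy _ x) ⟨_, h2⟩)

/-- The averaging idempotent as a central element. -/
noncomputable def avgCenter (K : Type v) [Group K] [Fintype K] : Subalgebra.center k k[K] :=
  ⟨(Nat.card K : k)⁻¹ • ∑ g : K, single g 1, by
    rw [Subalgebra.mem_center_iff]
    intro b
    induction b using MonoidAlgebra.induction_linear with
    | zero => simp
    | add a b ha hb => rw [add_mul, mul_add, ha, hb]
    | single h c =>
      rw [mul_smul_comm, smul_mul_assoc, Finset.mul_sum, Finset.sum_mul]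
      congr 1
      refine Fintype.sum_equiv (MulAut.conj h).toEquiv _ _ fun g => ?_
      simp [single_mul_single]⟩

theorem coe_avgCenter [Fintype K] :
    (avgCenter (k := k) K : k[K]) = (Nat.card K : k)⁻¹ • ∑ g : K, single g (1 : k) := rfl

theorem mul_avgCenter [Fintype K] (a : k[K]) :
    a * (avgCenter (k := k) K : k[K]) = MonoidAlgebra.lift k k K 1 a • (avgCenter (k := k) K : k[K]) := by
  induction a using MonoidAlgebra.induction_linear with
  | zero => simp
  | add a b ha hb => rw [add_mul, map_add, add_smul, ha, hb]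
  | single h c =>
    rw [coe_avgCenter, mul_smul_comm, smul_comm _ (Nat.card K : k)⁻¹, Finset.mul_sum]
    congr 1
    rw [Finset.smul_sum]
    refine Fintype.sum_equiv (Equiv.mulLeft h) _ _ fun g => ?_
    simp [single_mul_single]

theorem augChar_avgCenter [Fintype K] (hk : (Nat.card K : k) ≠ 0) :
    augChar (avgCenter (k := k) K) = 1 := by
  rw [augChar, AlgHom.comp_apply, Subalgebra.coe_val, coe_avgCenter]
  simp only [map_smul, map_sum, lift_single, MonoidHom.one_apply, smul_eq_mul, mul_one,
    Finset.sum_const, Finset.card_univ, nsmul_eq_mul]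
  rw [← Nat.card_eq_fintype_card, inv_mul_cancel₀ hk]

/-- A module for a Frobenius group `K R` over an algebraically closed field of characteristic prime to
`|K|` is the sum of the `K`-invariants and of a module induced from `K`. -/
theorem frob_free [IsAlgClosed k] {V : Type w'} [AddCommGroup V] [Module k V] [Finite K] [Fintype R]
    (hk : (Nat.card K : k) ≠ 0) (α : R →* MulAut K) (hα : ∀ x, x ≠ 1 → ∀ g, α x g = g → g = 1)
    (σ : Representation k K V) (τ : Representation k R V)
    (h : ∀ x g, τ x * σ g = σ (α x g) * τ x) :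
    ∃ e π : End k V, (∀ g, σ g * π = π * σ g) ∧ LinearMap.range e = σ.invariants ∧
      (∀ x, τ x * e = e * τ x) ∧ e * e = e ∧ e * π = 0 ∧ π * e = 0 ∧
      (∀ x, x ≠ 1 → π * τ x * π = 0) ∧ e + ∑ x, τ x * π * τ x⁻¹ = 1 := by
  classical
  have := Fintype.ofFinite K
  have := center_isReduced (k := k) hk
  obtain ⟨hfin, hbij⟩ := ev_bijective (k := k) (Subalgebra.center k k[K])
  letI := actChar (k := k) α
  let ev := AlgEquiv.ofBijective (AlgHom.pi (fun χ : Subalgebra.center k k[K] →ₐ[k] k => χ)) hbij
  let A : Subalgebra.center k k[K] →ₐ[k] End k V := σ.asAlgebraHom.comp (Subalgebra.center k k[K]).val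
  let E : ((Subalgebra.center k k[K] →ₐ[k] k) → k) →ₐ[k] End k V := A.comp ev.symm.toAlgHom
  have hA : ∀ x (a : k[K]), τ x * σ.asAlgebraHom a = σ.asAlgebraHom (domCongr k k (α x) a) * τ x := by
    intro x a
    induction a using MonoidAlgebra.induction_linear with
    | zero => simp
    | add a b ha hb => rw [map_add, map_add, map_add, add_mul, mul_add, ha, hb]
    | single g c => simp [Representation.asAlgebraHom_single, h]
  have hEev : ∀ z, E (ev z) = A z := fun z => congrArg A (ev.symm_apply_apply z)
  have hE : ∀ (x : R) f, τ x * E f = E (fun χ => f (x⁻¹ • χ)) * τ x := by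
    intro x f
    obtain ⟨z, rfl⟩ := ev.surjective f
    have : (fun χ => ev z (x⁻¹ • χ)) = ev (centerMap (α x) z) := by
      funext χ
      show χ (centerMap (α x⁻¹⁻¹) z) = χ (centerMap (α x) z)
      rw [inv_inv]
    rw [this, hEev, hEev]
    exact hA x z
  have hfree : ∀ (x : R) (χ : Subalgebra.center k k[K] →ₐ[k] k), x • χ = χ → χ ≠ augChar → x = 1 := by
    intro x χ h1 h2
    by_contra hx
    exact h2 (char_fixed_eq_aug hk α hα x hx χ h1)
  have haug : ∀ x : R, x • (augChar : Subalgebra.center k k[K] →ₐ[k] k) = augChar := by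
    intro x
    ext z
    exact augChar_centerMap _ _
  have haug' : ∀ (x : R) (χ : Subalgebra.center k k[K] →ₐ[k] k), x • χ = augChar ↔ χ = augChar := by
    intro x χ
    rw [smul_eq_iff_eq_inv_smul, haug]
  let rep : (Subalgebra.center k k[K] →ₐ[k] k) → (Subalgebra.center k k[K] →ₐ[k] k) := fun χ =>
    (Quotient.mk'' χ : MulAction.orbitRel.Quotient R _).out
  have hrep1 : ∀ (x : R) χ, rep (x • χ) = rep χ := by
    intro x χ
    simp only [rep]
    congr 1
    exact Quotient.sound' (MulAction.mem_orbit χ x)
  have hrep2 : ∀ χ, ∃ x : R, x • χ = rep χ := fun χ =>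
    Quotient.exact' (Quotient.out_eq' (Quotient.mk'' χ : MulAction.orbitRel.Quotient R _))
  let f0 : (Subalgebra.center k k[K] →ₐ[k] k) → k := fun χ => if χ = augChar then 1 else 0
  let fT : (Subalgebra.center k k[K] →ₐ[k] k) → k := fun χ => if χ ≠ augChar ∧ χ = rep χ then 1 else 0
  have hf0 : ev (avgCenter K) = f0 := by
    funext χ
    show χ (avgCenter K) = _
    by_cases hχ : χ = augChar
    · simp [f0, hχ, augChar_avgCenter hk]
    · simp only [f0, hχ, if_false]
      by_contra hne
      apply hχ
      ext z
      have : z * avgCenter K = augChar z • avgCenter (k := k) K := Subtype.ext (mul_avgCenter _)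
      have := congrArg χ this
      rw [map_mul, map_smul, smul_eq_mul] at this
      exact mul_right_cancel₀ hne this
  have he : E f0 = (Nat.card K : k)⁻¹ • ∑ g : K, σ g := by
    rw [← hf0, hEev]
    rw [AlgHom.comp_apply, Subalgebra.coe_val, coe_avgCenter, map_smul, map_sum]
    simp only [Representation.asAlgebraHom_single_one]
  refine ⟨E f0, E fT, ?_, ?_, ?_, ?_, ?_, ?_, ?_, ?_⟩
  · intro g
    have := Subalgebra.mem_center_iff.1 (ev.symm fT).2 (single g 1)
    have := congrArg σ.asAlgebraHom this
    rw [map_mul, map_mul, Representation.asAlgebraHom_single_one] at this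
    exact this
  · apply le_antisymm
    · rintro _ ⟨v, rfl⟩ g
      rw [he, ← End.mul_apply, mul_smul_comm, Finset.mul_sum]
      congr 2
      exact Fintype.sum_equiv (Equiv.mulLeft g) _ _ fun g' => by simp
    · intro v hv
      refine ⟨v, ?_⟩
      rw [he]
      simp only [LinearMap.smul_apply, LinearMap.sum_apply, hv _, Finset.sum_const, Finset.card_univ]
      rw [← Nat.cast_smul_eq_nsmul k, smul_smul, ← Nat.card_eq_fintype_card, inv_mul_cancel₀ hk,
        one_smul]
  · intro x
    rw [hE]
    congr 2
    funext χ
    simp only [f0, haug']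
  · rw [← map_mul]
    congr 1
    funext χ
    simp [f0]
  · rw [← map_mul, ← map_zero E]
    congr 1
    funext χ
    by_cases hχ : χ = augChar <;> simp [f0, fT, hχ]
  · rw [← map_mul, ← map_zero E]
    congr 1
    funext χ
    by_cases hχ : χ = augChar <;> simp [f0, fT, hχ]
  · intro x hx
    rw [mul_assoc, hE, ← mul_assoc, ← map_mul]
    have : (fT * fun χ => fT (x⁻¹ • χ)) = 0 := by
      funext χ
      simp only [fT, Pi.mul_apply, Pi.zero_apply]
      split_ifs with h1 h2
      · exfalso
        rw [hrep1, ← h1.2] at h2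
        exact hx (inv_eq_one.1 (hfree _ _ h2.2 h1.1))
      all_goals simp
    rw [this, map_zero, zero_mul]
  · have : ∀ x : R, τ x * E fT * τ x⁻¹ = E (fun χ => fT (x⁻¹ • χ)) := by
      intro x
      rw [hE, mul_assoc, ← map_mul, mul_inv_cancel, map_one, mul_one]
    simp only [this]
    rw [← map_sum, ← map_add, ← map_one E]
    congr 1
    funext χ
    simp only [Pi.add_apply, Finset.sum_apply, Pi.one_apply]
    by_cases hχ : χ = augChar
    · simp [f0, fT, hχ, haug]
    · obtain ⟨x, hx⟩ := hrep2 χ
      rw [Finset.sum_eq_single x⁻¹]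
      · simp [f0, fT, hχ, haug', hrep1, hx.symm]
      · intro y _ hy
        simp only [fT, hrep1]
        rw [if_neg]
        rintro ⟨-, h2⟩
        apply hy
        rw [← hx, inv_smul_eq_iff, ← mul_smul] at h2
        exact eq_inv_of_mul_eq_one_left (hfree _ _ h2.symm hχ)
      · simp

/-- The dimension formula for a Frobenius group. -/
theorem frob_finrank [IsAlgClosed k] {V : Type w'} [AddCommGroup V] [Module k V] [FiniteDimensional k V]
    [Finite K] [Finite R]
    (hk : (Nat.card K : k) ≠ 0) (α : R →* MulAut K) (hα : ∀ x, x ≠ 1 → ∀ g, α x g = g → g = 1)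
    (σ : Representation k K V) (τ : Representation k R V)
    (h : ∀ x g, τ x * σ g = σ (α x g) * τ x) :
    ∃ m : ℕ, finrank k V = finrank k σ.invariants + Nat.card R * m ∧
      finrank k τ.invariants = finrank k ↥(σ.invariants ⊓ τ.invariants) + m ∧
      (m ≤ 1 → ∀ g ∈ commutator K, σ g = 1) := by
  classical
  have := Fintype.ofFinite R
  obtain ⟨e, π, hπ, he, h1, h2, h3, h4, h5, h6⟩ := frob_free hk α hα σ τ h
  obtain ⟨h7, h8⟩ := finrank_of_free τ e π h1 h2 h3 h4 h5 h6
  rw [he] at h7 h8
  refine ⟨_, by rw [h7, Nat.card_eq_fintype_card], h8, fun hm => ?_⟩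
  have key : ∀ g ∈ commutator K, ∀ v, σ g (π v) = π v := by
    have hmap : ∀ g, ∀ w ∈ LinearMap.range π, σ g w ∈ LinearMap.range π := by
      rintro g _ ⟨v, rfl⟩
      exact ⟨σ g v, (LinearMap.congr_fun (hπ g) v).symm⟩
    obtain ⟨w0, hw0⟩ := finrank_le_one_iff.1 hm
    have hs : ∀ g, ∃ c : k, σ g w0 = c • w0 := fun g => by
      obtain ⟨c, hc⟩ := hw0 ⟨_, hmap g _ w0.2⟩
      exact ⟨c, (congrArg Subtype.val hc).symm⟩
    choose c hc using hs
    have hw : ∀ g ∈ commutator K, σ g w0 = w0 := by
      intro g hg
      let S : Subgroup K :=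
        { carrier := {g | σ g w0 = w0}
          mul_mem' := fun {a b} ha hb => by
            show σ (a * b) w0 = w0
            rw [map_mul, End.mul_apply, hb, ha]
          one_mem' := by simp
          inv_mem' := fun {a} ha => by
            show σ a⁻¹ w0 = w0
            conv_lhs => rw [← ha]
            rw [← End.mul_apply, ← map_mul, inv_mul_cancel, map_one, End.one_apply] }
      have : commutator K ≤ S := by
        rw [commutator_def, Subgroup.commutator_le]
        intro a _ b _
        show σ (a * b * a⁻¹ * b⁻¹) w0 = w0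
        have h1 : σ (a * b * a⁻¹ * b⁻¹) w0 = σ (a * a⁻¹ * (b * b⁻¹)) w0 := by
          simp only [map_mul, End.mul_apply, hc, map_smul, smul_smul]
          congr 1
          ring
        rw [h1]
        simp
      exact this hg
    intro g hg v
    obtain ⟨d, hd⟩ := hw0 ⟨π v, v, rfl⟩
    have hd' : π v = d • (w0 : V) := (congrArg Subtype.val hd).symm
    rw [hd', map_smul, hw g hg]
  intro g hg
  ext v
  have hv : e v + ∑ x, τ x (π (τ x⁻¹ v)) = v := by
    simpa [LinearMap.sum_apply] using LinearMap.congr_fun h6 v
  rw [End.one_apply]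
  conv_lhs => rw [← hv]
  conv_rhs => rw [← hv]
  rw [map_add, map_sum]
  congr 1
  · exact (he ▸ LinearMap.mem_range_self e v : e v ∈ σ.invariants) g
  · refine Finset.sum_congr rfl fun x _ => ?_
    have h9 : σ g * τ x = τ x * σ (α x⁻¹ g) := by
      rw [h]
      simp
    rw [← End.mul_apply, h9, End.mul_apply, key]
    have : (commutator K).Characteristic := inferInstance
    exact (Subgroup.characteristic_iff_le_comap.1 this (α x⁻¹)) hg

end Frob

theorem realizeEqns_Rep2 : True := by
  have := @CA.BG.Rep.invFun.eq_1.{0,0,0}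
  have := @CA.BG.Rep.invFun.eq_def.{0,0,0}
  have := @CA.BG.Rep.invFun.congr_simp.{0,0,0}
  have := @CA.BG.Rep.actChar.eq_1.{0,0,0}
  have := @CA.BG.Rep.actChar.eq_def.{0,0,0}
  have := @CA.BG.Rep.actChar.congr_simp.{0,0,0}
  have := @CA.BG.Rep.centerEquivClass.eq_1.{0,0}
  have := @CA.BG.Rep.centerEquivClass.eq_def.{0,0}
  have := @CA.BG.Rep.centerEquivClass.congr_simp.{0,0}
  have := @CA.BG.Rep.augChar.eq_1.{0,0}
  have := @CA.BG.Rep.augChar.eq_def.{0,0}
  have := @CA.BG.Rep.augChar.congr_simp.{0,0}
  have := @CA.BG.Rep.avgCenter.eq_1.{0,0}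
  have := @CA.BG.Rep.avgCenter.eq_def.{0,0}
  have := @CA.BG.Rep.avgCenter.congr_simp.{0,0}
  have := @CA.BG.Rep.actClass.eq_1.{0,0}
  have := @CA.BG.Rep.actClass.eq_def.{0,0}
  have := @CA.BG.Rep.actClass.congr_simp.{0,0}
  have := @CA.BG.Rep.centerMap.eq_1.{0,0}
  have := @CA.BG.Rep.centerMap.eq_def.{0,0}
  have := @CA.BG.Rep.centerMap.congr_simp.{0,0}
  have := @CA.BG.Rep.centerToClass.eq_1.{0,0}
  have := @CA.BG.Rep.centerToClass.eq_def.{0,0}
  have := @CA.BG.Rep.centerToClass.congr_simp.{0,0}
  trivial

end CA.BG.Rep
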