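/-
The representation theoretic core of Theorem 3.4: a group of odd prime order acting on an odd group of
class two has fixed vectors in every faithful module of coprime characteristic.
Owner: helper6.
-/
import Cfsg.Agent.BG.Rep2

set_option autoImplicit false

namespace CA.BG.Rep

open Module

universe u v w w'

/-- The counting argument. -/
theorem count_diff {ι Γ : Type*} [Fintype ι] [CommGroup Γ] [Finite Γ] (w : ι → Γ) (hw : ∀ i, w i ≠ 1)
    (m : ℕ) (h1 : Nat.card {ij : ι × ι // w ij.1 = w ij.2} = m + 1)
    (h2 : ∀ l : Γ, l ≠ 1 → Nat.card {ij : ι × ι // w ij.1 = l * w ij.2} = m) :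
    Fintype.card ι = m + 1 := by
  classical
  have := Fintype.ofFinite Γ
  let n : Γ → ℕ := fun μ => (Finset.univ.filter fun i => w i = μ).card
  have hN : ∀ l : Γ, Nat.card {ij : ι × ι // w ij.1 = l * w ij.2} = ∑ μ, n (l * μ) * n μ := by
    intro l
    rw [Nat.card_eq_fintype_card, Fintype.card_subtype,
      Finset.card_eq_sum_card_fiberwise (f := fun ij : ι × ι => w ij.2) (t := Finset.univ)
        (fun _ _ => Finset.mem_coe.2 (Finset.mem_univ _))]
    refine Finset.sum_congr rfl fun μ _ => ?_
    rw [← Finset.card_product]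
    congr 1
    ext ⟨i, j⟩
    simp only [Finset.mem_filter, Finset.mem_univ, true_and, Finset.mem_product]
    constructor
    · rintro ⟨h, rfl⟩
      exact ⟨h, rfl⟩
    · rintro ⟨h, rfl⟩
      exact ⟨h, rfl⟩
  have hn1 : n 1 = 0 := by
    simp only [n, Finset.card_eq_zero, Finset.filter_eq_empty_iff]
    exact fun i _ => hw i
  have h1' : ∑ μ, n μ * n μ = m + 1 := by
    have := hN 1
    simp only [one_mul] at this
    rw [← this, h1]
  have hle : ∀ l, n l ≤ 1 := by
    intro l
    by_cases hl : l = 1
    · rw [hl, hn1]; omega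
    have h3 := h2 l hl
    rw [hN] at h3
    have h4 : ∑ μ, n (l * μ) * n (l * μ) = m + 1 := by
      rw [← h1']
      exact Fintype.sum_equiv (Equiv.mulLeft l) _ _ fun _ => rfl
    have h5 : ∑ μ, ((n (l * μ) : ℤ) - n μ) ^ 2 = 2 := by
      have e1 : ((∑ μ, n μ * n μ : ℕ) : ℤ) = m + 1 := by rw [h1']; simp
      have e2 : ((∑ μ, n (l * μ) * n (l * μ) : ℕ) : ℤ) = m + 1 := by rw [h4]; simp
      have e3 : ((∑ μ, n (l * μ) * n μ : ℕ) : ℤ) = m := by rw [h3]
      push_cast at e1 e2 e3
      have : ∑ μ, ((n (l * μ) : ℤ) - n μ) ^ 2 = ∑ μ, (n (l * μ) : ℤ) * n (l * μ) +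
          ∑ μ, (n μ : ℤ) * n μ - 2 * ∑ μ, (n (l * μ) : ℤ) * n μ := by
        rw [Finset.mul_sum, ← Finset.sum_add_distrib, ← Finset.sum_sub_distrib]
        exact Finset.sum_congr rfl fun μ _ => by ring
      rw [this, e1, e2, e3]
      ring
    have h6 := Finset.single_le_sum (f := fun μ => ((n (l * μ) : ℤ) - n μ) ^ 2)
      (fun μ _ => sq_nonneg _) (Finset.mem_univ 1)
    rw [h5] at h6
    simp only [mul_one, hn1, Nat.cast_zero, sub_zero] at h6
    by_contra h7
    have : (2 : ℤ) ≤ n l := by omega
    nlinarith
  have hinj : Function.Injective w := by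
    intro i j hij
    exact Finset.card_le_one.1 (hle (w j)) i (by simp [hij]) j (by simp)
  rw [← h1, ← Nat.card_eq_fintype_card]
  refine Nat.card_congr ⟨fun i => ⟨(i, i), rfl⟩, fun ij => ij.1.1, fun _ => rfl, ?_⟩
  rintro ⟨⟨i, j⟩, hij⟩
  obtain rfl : i = j := hinj hij
  rfl

variable {k : Type u} {V : Type v} [Field k] [AddCommGroup V] [Module k V]

/-- Twist of a representation by a linear character. -/
def twist {R : Type w} [Group R] (l : R →* kˣ) (τ : Representation k R V) : Representation k R V where
  toFun x := (l x : k) • τ x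
  map_one' := by simp
  map_mul' x y := by simp [smul_smul, mul_comm]

theorem twist_apply {R : Type w} [Group R] (l : R →* kˣ) (τ : Representation k R V) (x : R) :
    twist l τ x = (l x : k) • τ x := rfl

theorem linHom_apply' {R : Type w} [Group R] (τ τ' : Representation k R V) (x : R) (a : End k V) :
    Representation.linHom τ τ' x a = τ' x * a * τ x⁻¹ := rfl

theorem mem_invariants_linHom {R : Type w} [Group R] (τ : Representation k R V) (a : End k V) :
    a ∈ (Representation.linHom τ τ).invariants ↔ ∀ x, τ x * a = a * τ x := by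
  rw [Representation.mem_invariants]
  refine forall_congr' fun x => ?_
  rw [linHom_apply']
  constructor
  · intro h
    conv_rhs => rw [← h]
    rw [mul_assoc, ← map_mul, inv_mul_cancel, map_one, mul_one]
  · intro h
    rw [h, mul_assoc, ← map_mul, mul_inv_cancel, map_one, mul_one]

section Core

variable {P : Type w} {R : Type w'} [Group P] [Finite P] [Group R] [Finite R]

/-- If `V` is irreducible for `P R`, `|R|` is prime and `R` has no fixed vector then the commutant of
`P` consists of scalars. -/
theorem commutant_scalar [IsAlgClosed k] [FiniteDimensional k V] [Nontrivial V]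
    (hR : (Nat.card R : k) ≠ 0) (hr : (Nat.card R).Prime)
    (α : R →* MulAut P) (σ : Representation k P V) (τ : Representation k R V)
    (h : ∀ x g, τ x * σ g = σ (α x g) * τ x)
    (hirr : ∀ W : Submodule k V, (∀ g, ∀ v ∈ W, σ g v ∈ W) → (∀ x, ∀ v ∈ W, τ x v ∈ W) →
      W = ⊥ ∨ W = ⊤) (h0 : τ.invariants = ⊥) :
    (Representation.linHom σ σ).invariants = Submodule.span k {(1 : End k V)} := by
  have := Fact.mk hr
  have hcyc : IsCyclic R := isCyclic_of_prime_card rfl
  obtain ⟨x0, hx0⟩ := IsCyclic.exists_generator (α := R)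
  have hcomm : ∀ x y : R, x * y = y * x := fun x y => mul_comm' x y
  apply le_antisymm
  swap
  · rw [Submodule.span_le, Set.singleton_subset_iff]
    exact (mem_invariants_linHom σ 1).2 fun x => by simp
  have hinv : ∀ x : R, (Representation.linHom σ σ).invariants ≤
      (Representation.linHom σ σ).invariants.comap (Representation.linHom τ τ x) := by
    intro x a ha
    rw [Submodule.mem_comap, linHom_apply']
    rw [mem_invariants_linHom] at ha ⊢
    intro g
    have e1 : σ g * τ x = τ x * σ (α x⁻¹ g) := by rw [h]; simp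
    have e2 : τ x⁻¹ * σ g = σ (α x⁻¹ g) * τ x⁻¹ := h _ _
    rw [← mul_assoc, ← mul_assoc, e1, mul_assoc (τ x), ha, mul_assoc _ _ (σ g), e2]
    simp only [mul_assoc]
  obtain ⟨n, b, wt, hb⟩ := exists_eigenbasis hR
    ((Representation.linHom τ τ).subrepresentation _ hinv) (fun x y => by
      rw [← map_mul, ← map_mul, hcomm])
  obtain ⟨n', b', wt', hb'⟩ := exists_eigenbasis hR τ (fun x y => by rw [← map_mul, ← map_mul, hcomm])
  have key : ∀ i, (b i).1 ∈ Submodule.span k {(1 : End k V)} := by
    intro i
    set c : End k V := (b i).1 with hc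
    have hc0 : c ≠ 0 := fun h => b.ne_zero i (Subtype.ext h)
    have hcσ : ∀ g, σ g * c = c * σ g := (mem_invariants_linHom σ c).1 (b i).2
    have hcτ : ∀ x, τ x * c = (wt i x : k) • (c * τ x) := by
      intro x
      have : τ x * c * τ x⁻¹ = (wt i x : k) • c := congrArg Subtype.val (hb x i)
      rw [← smul_mul_assoc, ← this, mul_assoc, ← map_mul, inv_mul_cancel, map_one, mul_one]
    by_cases hw : wt i x0 = 1
    · obtain ⟨μ, hμ⟩ := End.exists_eigenvalue c
      have hw' : ∀ x, wt i x = 1 := fun x => by
        obtain ⟨j, rfl⟩ := hx0 x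
        simp [hw]
      rcases hirr (c.eigenspace μ) (fun g v hv => by
          rw [End.mem_eigenspace_iff] at hv ⊢
          rw [← End.mul_apply, ← hcσ, End.mul_apply, hv, map_smul]) (fun x v hv => by
          rw [End.mem_eigenspace_iff] at hv ⊢
          have := hcτ x
          rw [hw', Units.val_one, one_smul] at this
          rw [← End.mul_apply, ← this, End.mul_apply, hv, map_smul]) with h1 | h1
      · exact absurd h1 hμ
      · rw [Submodule.mem_span_singleton]
        refine ⟨μ, LinearMap.ext fun v => ?_⟩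
        have : v ∈ c.eigenspace μ := h1 ▸ Submodule.mem_top
        rw [End.mem_eigenspace_iff] at this
        simp [this]
    · exfalso
      have hker : LinearMap.ker c = ⊥ := by
        refine (hirr (LinearMap.ker c) (fun g v hv => ?_) (fun x v hv => ?_)).resolve_right
          (fun h => hc0 (LinearMap.ker_eq_top.1 h))
        · rw [LinearMap.mem_ker] at hv ⊢
          rw [← End.mul_apply, ← hcσ, End.mul_apply, hv, map_zero]
        · rw [LinearMap.mem_ker] at hv ⊢
          have := LinearMap.congr_fun (hcτ x) v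
          rw [End.mul_apply, hv, map_zero, LinearMap.smul_apply, End.mul_apply] at this
          exact (smul_eq_zero.1 this.symm).resolve_left (Units.ne_zero _)
      have hn' : 0 < n' := by
        have := finrank_eq_card_basis b'
        rw [Fintype.card_fin] at this
        rw [← this]
        exact finrank_pos
      let j : Fin n' := ⟨0, hn'⟩
      have hpow : ∀ m : ℕ, τ x0 ((c ^ m) (b' j)) =
          ((wt i x0 : k) ^ m * (wt' j x0 : k)) • (c ^ m) (b' j) := by
        intro m
        induction m with
        | zero => simp [hb']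
        | succ m ih =>
          rw [pow_succ', End.mul_apply, ← End.mul_apply (τ x0), hcτ, LinearMap.smul_apply,
            End.mul_apply, ih, map_smul, smul_smul]
          congr 1
          ring
      have hprim : IsPrimitiveRoot (wt i x0 : k) (Nat.card R) := by
        rw [IsPrimitiveRoot.iff_orderOf]
        refine orderOf_eq_prime ?_ (fun h => hw (Units.ext h))
        rw [← Units.val_pow_eq_pow_val, ← map_pow, pow_card_eq_one', map_one, Units.val_one]
      have : NeZero (Nat.card R) := ⟨hr.ne_zero⟩
      obtain ⟨m, -, hm⟩ := hprim.eq_pow_of_pow_eq_one (ξ := (((wt' j x0)⁻¹ : kˣ) : k)) (by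
        rw [← Units.val_pow_eq_pow_val, inv_pow, ← map_pow, pow_card_eq_one', map_one, inv_one,
          Units.val_one])
      have h1 : (c ^ m) (b' j) ∈ τ.invariants := by
        rw [τ.mem_invariants_iff_of_forall_mem_zpowers x0 hx0, hpow, hm]
        simp
      rw [h0, Submodule.mem_bot] at h1
      have hinj : Function.Injective (c ^ m) := by
        rw [End.coe_pow]
        exact (LinearMap.ker_eq_bot.1 hker).iterate m
      exact b'.ne_zero j (hinj (by rw [h1, map_zero]))
  intro a ha
  have : a = ∑ i, b.repr ⟨a, ha⟩ i • (b i).1 := by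
    have := congrArg (Submodule.subtype _) (b.sum_repr ⟨a, ha⟩)
    rw [map_sum] at this
    exact this.symm
  rw [this]
  exact Submodule.sum_mem _ fun i _ => Submodule.smul_mem _ _ (key i)

/-- If the commutant of an odd group `P` acting on `V` is trivial and `P` acts on `End V` through an
abelian group then `dim V` is odd. -/
theorem odd_finrank_end [IsAlgClosed k] [FiniteDimensional k V] [Nontrivial V]
    (hP : (Nat.card P : k) ≠ 0) (hodd : Odd (Nat.card P)) (σ : Representation k P V)
    (h1 : (Representation.linHom σ σ).invariants = Submodule.span k {(1 : End k V)})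
    (hc : ∀ g h, Representation.linHom σ σ g * Representation.linHom σ σ h =
      Representation.linHom σ σ h * Representation.linHom σ σ g) :
    Odd (finrank k (End k V)) := by
  classical
  obtain ⟨n, b, μ, hb⟩ := exists_eigenbasis hP (Representation.linHom σ σ) hc
  have hunit : ∀ (a : End k V) (ν : P →* kˣ), a ≠ 0 → (∀ g, σ g * a * σ g⁻¹ = (ν g : k) • a) →
      IsUnit a := by
    intro a ν ha hν
    rw [LinearMap.isUnit_iff_ker_eq_bot]
    obtain ⟨e, he1, he2, he3⟩ := exists_proj hP σ (LinearMap.ker a) (fun g v hv => by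
      rw [LinearMap.mem_ker] at hv ⊢
      have := LinearMap.congr_fun (hν g⁻¹) v
      rw [inv_inv, LinearMap.smul_apply, hv, smul_zero, End.mul_apply, End.mul_apply] at this
      have h2 := congrArg (σ g) this
      rwa [← End.mul_apply (σ g), ← map_mul, mul_inv_cancel, map_one, End.one_apply, map_zero] at h2)
    have : e ∈ Submodule.span k {(1 : End k V)} := h1 ▸ (mem_invariants_linHom σ e).2 he1
    obtain ⟨c, rfl⟩ := Submodule.mem_span_singleton.1 this
    by_contra hne
    obtain ⟨w, hw, hw0⟩ := (Submodule.ne_bot_iff _).1 hne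
    have hc1 : c = 1 := by
      have := he3 w hw
      exact smul_left_injective k hw0 (by simpa using this)
    apply ha
    ext v
    simpa [hc1] using he2 v
  have hb' : ∀ g i, σ g * b i * σ g⁻¹ = (μ i g : k) • b i := hb
  have hinv : ∀ i, ∀ u : (End k V)ˣ, (u : End k V) = b i → ∀ g,
      σ g * (u⁻¹ : (End k V)ˣ) * σ g⁻¹ = ((μ i)⁻¹ g : k) • ((u⁻¹ : (End k V)ˣ) : End k V) := by
    intro i u hu g
    have e1 : (σ g * (u⁻¹ : (End k V)ˣ) * σ g⁻¹) * (σ g * b i * σ g⁻¹) = 1 := by
      rw [← hu]
      simp only [mul_assoc]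
      rw [← mul_assoc (σ g⁻¹) (σ g), ← map_mul, inv_mul_cancel, map_one, one_mul,
        Units.inv_mul_cancel_left, ← map_mul, mul_inv_cancel, map_one]
    rw [hb', mul_smul_comm, ← hu] at e1
    have e2 := congrArg (fun t => ((μ i)⁻¹ g : k) • (t * ((u⁻¹ : (End k V)ˣ) : End k V))) e1
    simp only [smul_mul_assoc, smul_smul, Units.mul_inv_cancel_right, one_mul] at e2
    rw [← e2]
    simp
  have hinj : Function.Injective μ := by
    intro s t hst
    obtain ⟨u, hu⟩ := hunit (b s) (μ s) (b.ne_zero s) (fun g => hb' g s)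
    have : ((u⁻¹ : (End k V)ˣ) : End k V) * b t ∈ Submodule.span k {(1 : End k V)} := by
      rw [← h1]
      intro g
      rw [linHom_apply']
      have e1 : σ g * ((u⁻¹ : (End k V)ˣ) * b t) * σ g⁻¹ =
          (σ g * (u⁻¹ : (End k V)ˣ) * σ g⁻¹) * (σ g * b t * σ g⁻¹) := by
        simp only [mul_assoc]
        rw [← mul_assoc (σ g⁻¹) (σ g), ← map_mul, inv_mul_cancel, map_one, one_mul]
      rw [e1, hinv s u hu, hb', smul_mul_smul_comm, hst]
      simp
    obtain ⟨c, hc⟩ := Submodule.mem_span_singleton.1 this
    have e2 : b t = c • b s := by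
      rw [← hu, ← mul_one (u : End k V), ← mul_smul_comm, hc, Units.mul_inv_cancel_left]
    by_contra hne
    have := congrArg (fun a => b.repr a t) e2
    simp [Finsupp.single_apply, hne] at this
  have hex : ∀ (a : End k V) (ν : P →* kˣ), a ≠ 0 → (∀ g, σ g * a * σ g⁻¹ = (ν g : k) • a) →
      ∃ t, μ t = ν := by
    intro a ν ha hν
    let W : Submodule k (End k V) := ⨅ g, End.eigenspace (Representation.linHom σ σ g) (ν g : k)
    have hW : ∀ v, v ∈ W ↔ ∀ g, Representation.linHom σ σ g v = (ν g : k) • v := by
      intro v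
      simp only [W, Submodule.mem_iInf, End.mem_eigenspace_iff]
    have h2 := finrank_eq_card_of_diag b (fun g => Representation.linHom σ σ g)
      (fun i g => (μ i g : k)) (fun i g => hb g i) (fun g => (ν g : k)) W hW
    have h3 : W ≠ ⊥ := (Submodule.ne_bot_iff _).2 ⟨a, (hW a).2 hν, ha⟩
    have h4 : finrank k W ≠ 0 := fun h => h3 (Submodule.finrank_eq_zero.1 h)
    rw [h2] at h4
    obtain ⟨⟨t, ht⟩⟩ := (Nat.card_ne_zero.1 h4).1
    exact ⟨t, MonoidHom.ext fun g => Units.ext (ht g)⟩
  have hinv' : ∀ s, ∃ t, μ t = (μ s)⁻¹ := by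
    intro s
    obtain ⟨u, hu⟩ := hunit (b s) (μ s) (b.ne_zero s) (fun g => hb' g s)
    exact hex _ _ (Units.ne_zero u⁻¹) (hinv s u hu)
  choose f hf using hinv'
  let f' : Function.End (Fin n) := f
  have hff : f' ^ 2 ^ 1 = 1 := by
    funext s
    apply hinj
    show μ (f (f s)) = μ s
    rw [hf, hf]
    ext g
    simp
  have := Fact.mk Nat.prime_two
  have hmod := Equiv.Perm.card_fixedPoints_modEq hff
  obtain ⟨s0, hs0⟩ := hex 1 1 one_ne_zero (fun g => by simp [← map_mul])
  have hfix : Function.fixedPoints f = {s0} := by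
    ext s
    simp only [Function.mem_fixedPoints_iff, Set.mem_singleton_iff]
    constructor
    · intro hs
      apply hinj
      rw [hs0]
      have e1 := hf s
      rw [hs] at e1
      ext g
      have e2 : μ s g ^ 2 = 1 := by
        rw [pow_two]
        exact mul_eq_one_iff_eq_inv.2 (DFunLike.congr_fun e1 g)
      have e3 : μ s g ^ Nat.card P = 1 := by rw [← map_pow, pow_card_eq_one', map_one]
      have e4 := pow_gcd_eq_one.2 ⟨e2, e3⟩
      rw [Nat.Coprime.gcd_eq_one (Nat.coprime_two_left.2 hodd), pow_one] at e4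
      simp [e4]
    · rintro rfl
      apply hinj
      rw [hf, hs0]
      ext g
      simp
  have hcard : Fintype.card (Function.fixedPoints f) = 1 := by
    rw [← Nat.card_eq_fintype_card, hfix]
    simp
  rw [finrank_eq_card_basis b, Nat.odd_iff]
  have hmod' : Fintype.card (Fin n) ≡ 1 [MOD 2] := by
    rw [← hcard]
    convert hmod
  exact hmod'

/-- The core of Theorem 3.4. -/
theorem odd_core [IsAlgClosed k] [FiniteDimensional k V] [Nontrivial V]
    (hP : (Nat.card P : k) ≠ 0) (hR : (Nat.card R : k) ≠ 0) (hr : (Nat.card R).Prime)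
    (hPodd : Odd (Nat.card P)) (hRodd : Odd (Nat.card R))
    (α : R →* MulAut P) (σ : Representation k P V) (τ : Representation k R V)
    (h : ∀ x g, τ x * σ g = σ (α x g) * τ x)
    (hirr : ∀ W : Submodule k V, (∀ g, ∀ v ∈ W, σ g v ∈ W) → (∀ x, ∀ v ∈ W, τ x v ∈ W) →
      W = ⊥ ∨ W = ⊤)
    (C : Subgroup P) (hC : C ≤ Subgroup.center P) (hC' : commutator P ≤ C)
    (hαC : ∀ x, ∀ c ∈ C, α x c ∈ C) (hfpf : ∀ x, x ≠ 1 → ∀ g, g⁻¹ * α x g ∈ C → g ∈ C)
    (h0 : τ.invariants = ⊥) : finrank k V = 1 := by
  classical
  have h1 := commutant_scalar hR hr α σ τ h hirr h0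
  have hCn : C.Normal := ⟨fun c hc g => by
    rw [Subgroup.mem_center_iff.1 (hC hc) g, mul_inv_cancel_right]; exact hc⟩
  have hγ : C ≤ (Representation.linHom σ σ).ker := by
    intro c hc
    have : σ c ∈ Submodule.span k {(1 : End k V)} := by
      rw [← h1, mem_invariants_linHom]
      intro g
      rw [← map_mul, ← map_mul, Subgroup.mem_center_iff.1 (hC hc) g]
    obtain ⟨t, ht⟩ := Submodule.mem_span_singleton.1 this
    rw [MonoidHom.mem_ker]
    ext1 a
    rw [linHom_apply', End.one_apply]
    have e1 : σ c * a = a * σ c := by rw [← ht]; simp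
    rw [e1, mul_assoc, ← map_mul, mul_inv_cancel, map_one, mul_one]
  have hodd := odd_finrank_end hP hPodd σ h1 (fun g g' => by
    rw [← map_mul, ← map_mul]
    have : g * g' * (g' * g)⁻¹ ∈ C := by
      apply hC'
      have : g * g' * (g' * g)⁻¹ = g * g' * g⁻¹ * g'⁻¹ := by group
      rw [this]
      exact Subgroup.commutator_mem_commutator (Subgroup.mem_top _) (Subgroup.mem_top _)
    have := hγ this
    rw [MonoidHom.mem_ker] at this
    calc Representation.linHom σ σ (g * g')
        = Representation.linHom σ σ (g * g' * (g' * g)⁻¹ * (g' * g)) := by congr 1; group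
      _ = _ := by rw [map_mul, this, one_mul])
  have hmapC : ∀ x, C.map (α x : P →* P) = C := by
    intro x
    apply le_antisymm
    · rintro _ ⟨c, hc, rfl⟩
      exact hαC x c hc
    · intro c hc
      exact ⟨α x⁻¹ c, hαC _ c hc, by simp⟩
  let α' : R →* MulAut (P ⧸ C) :=
    { toFun := fun x => QuotientGroup.congr C C (α x) (hmapC x)
      map_one' := by
        ext g
        induction g using QuotientGroup.induction_on with
        | H g => show ((α 1 g : P) : P ⧸ C) = _; simp
      map_mul' := fun x y => by
        ext g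
        induction g using QuotientGroup.induction_on with
        | H g => show ((α (x * y) g : P) : P ⧸ C) = ((α x (α y g) : P) : P ⧸ C); simp }
  have hα' : ∀ x (g : P), α' x (g : P ⧸ C) = ((α x g : P) : P ⧸ C) := fun _ _ => rfl
  let σ' : Representation k (P ⧸ C) (End k V) := QuotientGroup.lift C (Representation.linHom σ σ) hγ
  have hσ' : ∀ g : P, σ' (g : P ⧸ C) = Representation.linHom σ σ g := fun _ => rfl
  have hinv' : σ'.invariants = Submodule.span k {(1 : End k V)} := by
    rw [← h1]
    ext a
    constructor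
    · intro ha g
      exact ha (g : P ⧸ C)
    · intro ha g
      induction g using QuotientGroup.induction_on with
      | H g => exact ha g
  have hPC : (Nat.card (P ⧸ C) : k) ≠ 0 := by
    intro h
    apply hP
    rw [Subgroup.card_eq_card_quotient_mul_card_subgroup C, Nat.cast_mul, h, zero_mul]
  have hdim : ∀ l : R →* kˣ, ∃ m : ℕ, finrank k (End k V) = 1 + Nat.card R * m ∧
      finrank k (Representation.linHom τ (twist l⁻¹ τ)).invariants = (if l = 1 then 1 else 0) + m := by
    intro l
    obtain ⟨m, hm1, hm2, -⟩ := frob_finrank hPC α' (fun x hx g hg => by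
        induction g using QuotientGroup.induction_on with
        | H g =>
          rw [hα', eq_comm, QuotientGroup.eq] at hg
          exact (QuotientGroup.eq_one_iff g).2 (hfpf x hx g hg))
      σ' (Representation.linHom τ (twist l⁻¹ τ)) (fun x g => by
        induction g using QuotientGroup.induction_on with
        | H g =>
          rw [hα', hσ', hσ']
          ext1 a
          simp only [End.mul_apply, linHom_apply', twist_apply, smul_mul_assoc, mul_smul_comm]
          congr 1
          have e1 : σ g⁻¹ * τ x⁻¹ = τ x⁻¹ * σ (α x g)⁻¹ := by rw [h]; simp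
          rw [← mul_assoc, ← mul_assoc, h, mul_assoc _ (σ g⁻¹), e1]
          simp only [mul_assoc])
    rw [hinv', finrank_span_singleton one_ne_zero] at hm1
    refine ⟨m, hm1, ?_⟩
    rw [hm2, hinv']
    congr 1
    have hone : ∀ x, Representation.linHom τ (twist l⁻¹ τ) x 1 = (l⁻¹ x : k) • (1 : End k V) := by
      intro x
      rw [linHom_apply', twist_apply, mul_one, smul_mul_assoc, ← map_mul, mul_inv_cancel, map_one]
    split_ifs with hl
    · rw [inf_eq_left.2, finrank_span_singleton one_ne_zero]
      rw [Submodule.span_le, Set.singleton_subset_iff]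
      intro x
      rw [hone, hl]
      simp
    · rw [Submodule.finrank_eq_zero, eq_bot_iff]
      rintro a ⟨ha1, ha2⟩
      obtain ⟨t, rfl⟩ := Submodule.mem_span_singleton.1 ha1
      by_contra hne
      apply hl
      ext x
      have := ha2 x
      rw [map_smul, hone, smul_comm] at this
      have e1 : (l⁻¹ x : k) = 1 := smul_left_injective k hne (by simpa using this)
      simpa using e1
  have := Fact.mk hr
  have hcyc : IsCyclic R := isCyclic_of_prime_card rfl
  obtain ⟨n, b, w, hb⟩ := exists_eigenbasis hR τ (fun x y => by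
    rw [← map_mul, ← map_mul, mul_comm' x y])
  have hw : ∀ i, w i ≠ 1 := by
    intro i hi
    have : b i ∈ τ.invariants := fun x => by rw [hb, hi]; simp
    rw [h0] at this
    exact b.ne_zero i this
  have hcount : ∀ l : R →* kˣ, finrank k (Representation.linHom τ (twist l⁻¹ τ)).invariants =
      Nat.card {ij : Fin n × Fin n // w ij.1 = l * w ij.2} := by
    intro l
    rw [finrank_eq_card_of_diag b.end (fun x => Representation.linHom τ (twist l⁻¹ τ) x)
      (fun ij x => ((l⁻¹ x * w ij.1 x * (w ij.2 x)⁻¹ : kˣ) : k)) ?_ (fun _ => 1) _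
      (fun v => by simp only [one_smul]; rfl)]
    · refine Nat.card_congr (Equiv.subtypeEquivRight fun ij => ?_)
      rw [MonoidHom.ext_iff]
      refine forall_congr' fun x => ?_
      rw [Units.val_eq_one, MonoidHom.mul_apply, MonoidHom.inv_apply, mul_inv_eq_one,
        inv_mul_eq_iff_eq_mul]
    · rintro ⟨i, j⟩ x
      refine b.ext fun t => ?_
      rw [linHom_apply', twist_apply]
      simp only [End.mul_apply, LinearMap.smul_apply, hb, map_smul, Basis.end_apply_apply]
      split_ifs with hjt
      · subst hjt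
        rw [hb, smul_smul, smul_smul]
        congr 1
        simp only [map_inv, Units.val_mul]
        ring
      · simp
  obtain ⟨m, hm1, hm2⟩ := hdim 1
  have hq : finrank k V = n := by rw [finrank_eq_card_basis b, Fintype.card_fin]
  have hq2 : finrank k (End k V) = n * n := by rw [finrank_linearMap, hq]
  have hn : n = m + 1 := by
    have := count_diff w hw m (by
      have := hcount 1
      rw [hm2, if_pos rfl, add_comm] at this
      rw [this]
      exact Nat.card_congr (Equiv.subtypeEquivRight fun ij => by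
        rw [show (1 : R →* kˣ) * w ij.2 = w ij.2 from one_mul (w ij.2)])) (fun l hl => by
      obtain ⟨m', hm1', hm2'⟩ := hdim l
      rw [← hcount, hm2', if_neg hl, zero_add]
      rw [hm1] at hm1'
      exact (Nat.eq_of_mul_eq_mul_left hr.pos (by omega)).symm)
    rwa [Fintype.card_fin] at this
  rw [hq2] at hodd hm1
  rw [hq, hn]
  by_contra hm0
  have hm : 0 < m := by omega
  have e1 : Nat.card R = m + 2 := by
    apply Nat.eq_of_mul_eq_mul_right hm
    rw [hn] at hm1
    nlinarith
  have e2 := (Nat.odd_mul.1 hodd).1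
  rw [e1] at hRodd
  rw [hn] at e2
  obtain ⟨a, ha⟩ := hRodd
  obtain ⟨b, hb⟩ := e2
  omega

end Core

theorem realizeEqns_Rep3 : True := by
  have := @CA.BG.Rep.twist.eq_1.{0,0,0}
  have := @CA.BG.Rep.twist.eq_def.{0,0,0}
  have := @CA.BG.Rep.twist.congr_simp.{0,0,0}
  trivial

end CA.BG.Rep
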