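/-
The bridge between elementary abelian subgroups and modules over an algebraically closed field.
Owner: helper6.
-/
import Cfsg.Agent.BG.Rep3
import Cfsg.Agent.FG.Quot

set_option autoImplicit false

namespace CA.BG.Rep

open Module Cfsg CA.FG TensorProduct

universe u v w

section fix

variable {G : Type u} [Group G] {k : Type v} [Field k] {W : Type w} [AddCommGroup W] [Module k W]
  {M : Subgroup G}

/-- The vectors fixed by the elements of `A` (lying in `M`). -/
def fixS (ρ : Representation k M W) (A : Subgroup G) : Submodule k W where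
  carrier := {w | ∀ g : M, (g : G) ∈ A → ρ g w = w}
  add_mem' := fun {a b} ha hb g hg => by rw [map_add, ha g hg, hb g hg]
  zero_mem' := fun g _ => map_zero _
  smul_mem' := fun c a ha g hg => by rw [map_smul, ha g hg]

theorem mem_fixS {ρ : Representation k M W} {A : Subgroup G} {w : W} :
    w ∈ fixS ρ A ↔ ∀ g : M, (g : G) ∈ A → ρ g w = w := Iff.rfl

/-- Restriction of a representation of `M` to a subgroup `A ≤ M`. -/
def resS (ρ : Representation k M W) {A : Subgroup G} (h : A ≤ M) : Representation k A W :=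
  ρ.comp (Subgroup.inclusion h)

theorem resS_apply (ρ : Representation k M W) {A : Subgroup G} (h : A ≤ M) (g : A) :
    resS ρ h g = ρ ⟨g, h g.2⟩ := rfl

theorem fixS_resS (ρ : Representation k M W) {A B : Subgroup G} (h : A ≤ M) (hB : B ≤ A) :
    fixS (resS ρ h) B = fixS ρ B := by
  ext w
  simp only [mem_fixS]
  exact ⟨fun H g hg => H ⟨g, hB hg⟩ hg, fun H g hg => H ⟨g, h g.2⟩ hg⟩

theorem invariants_resS (ρ : Representation k M W) {A : Subgroup G} (h : A ≤ M) :
    (resS ρ h).invariants = fixS ρ A := by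
  ext w
  rw [Representation.mem_invariants, mem_fixS]
  exact ⟨fun H g hg => H ⟨g, hg⟩, fun H g => H ⟨g, h g.2⟩ g.2⟩

theorem fixS_anti (ρ : Representation k M W) {A B : Subgroup G} (h : A ≤ B) : fixS ρ B ≤ fixS ρ A :=
  fun _ hw g hg => hw g (h hg)

theorem fixS_bot (ρ : Representation k M W) : fixS ρ ⊥ = ⊤ := by
  refine eq_top_iff.2 fun w _ g hg => ?_
  have : g = 1 := Subtype.ext (Subgroup.mem_bot.1 hg)
  rw [this, map_one]; rfl

/-- The stabilizer of a vector, as a subgroup of the ambient group. -/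
def stabS (ρ : Representation k M W) (w : W) : Subgroup G where
  carrier := {g | ∃ h : g ∈ M, ρ ⟨g, h⟩ w = w}
  one_mem' := ⟨M.one_mem, by
    have : (⟨1, M.one_mem⟩ : M) = 1 := rfl
    rw [this, map_one]; rfl⟩
  mul_mem' := by
    rintro a b ⟨ha, ha'⟩ ⟨hb, hb'⟩
    refine ⟨M.mul_mem ha hb, ?_⟩
    have : (⟨a * b, M.mul_mem ha hb⟩ : M) = ⟨a, ha⟩ * ⟨b, hb⟩ := rfl
    rw [this, map_mul, Module.End.mul_apply, hb', ha']
  inv_mem' := by
    rintro a ⟨ha, ha'⟩
    refine ⟨M.inv_mem ha, ?_⟩
    have : (⟨a⁻¹, M.inv_mem ha⟩ : M) = (⟨a, ha⟩ : M)⁻¹ := rfl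
    rw [this]
    conv_lhs => rw [← ha']
    rw [← Module.End.mul_apply, ← map_mul, inv_mul_cancel, map_one]; rfl

theorem mem_fixS_iff_le_stabS (ρ : Representation k M W) {A : Subgroup G} (h : A ≤ M) {w : W} :
    w ∈ fixS ρ A ↔ A ≤ stabS ρ w :=
  ⟨fun H g hg => ⟨h hg, H ⟨g, h hg⟩ hg⟩, fun H _ hg => (H hg).2⟩

theorem fixS_sup (ρ : Representation k M W) {A B : Subgroup G} (hA : A ≤ M) (hB : B ≤ M) :
    fixS ρ (A ⊔ B) = fixS ρ A ⊓ fixS ρ B := by
  ext w
  rw [Submodule.mem_inf, mem_fixS_iff_le_stabS ρ hA, mem_fixS_iff_le_stabS ρ hB,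
    mem_fixS_iff_le_stabS ρ (sup_le hA hB), sup_le_iff]

theorem fixS_eq_top_iff (ρ : Representation k M W) {A : Subgroup G} :
    fixS ρ A = ⊤ ↔ ∀ g : M, (g : G) ∈ A → ρ g = 1 := by
  constructor
  · intro h g hg
    ext w
    have : w ∈ fixS ρ A := h ▸ Submodule.mem_top
    exact this g hg
  · intro h
    refine eq_top_iff.2 fun w _ g hg => ?_
    rw [h g hg]; rfl

/-- The conjugation action of `R` on a subgroup `K` it normalizes. -/
def conjHom {K R : Subgroup G} (h : R ≤ 𝒩(K)) : R →* MulAut K :=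
  K.normalizerMonoidHom.comp (Subgroup.inclusion h)

theorem coe_conjHom {K R : Subgroup G} (h : R ≤ 𝒩(K)) (x : R) (g : K) :
    (conjHom h x g : G) = x * g * (x : G)⁻¹ := rfl

theorem resS_conjHom (ρ : Representation k M W) {K R : Subgroup G} (hK : K ≤ M) (hR : R ≤ M)
    (h : R ≤ 𝒩(K)) (x : R) (g : K) :
    resS ρ hR x * resS ρ hK g = resS ρ hK (conjHom h x g) * resS ρ hR x := by
  simp only [resS_apply, ← map_mul]
  congr 1
  apply Subtype.ext
  simp [coe_conjHom]

/-- The dimension formula for a Frobenius group, ambient form. -/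
theorem frob_fix [Finite G] [IsAlgClosed k] [FiniteDimensional k W] (ρ : Representation k M W)
    {K R : Subgroup G} (hK : K ≤ M) (hR : R ≤ M) (hn : R ≤ 𝒩(K)) (hreg : Semiregular K R)
    (hk : (Nat.card K : k) ≠ 0) :
    ∃ m : ℕ, finrank k W = finrank k (fixS ρ K) + Nat.card R * m ∧
      finrank k (fixS ρ R) = finrank k (fixS ρ (K ⊔ R)) + m ∧ (m ≤ 1 → fixS ρ ⁅K, K⁆ = ⊤) := by
  obtain ⟨m, h1, h2, h3⟩ := frob_finrank hk (conjHom hn) (fun x hx g hg => by
    have hx' : (x : G) ≠ 1 := fun e => hx (Subtype.ext e)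
    have hg' : (g : G) ∈ K ⊓ 𝒞[(x : G)] := by
      refine Subgroup.mem_inf.2 ⟨g.2, ?_⟩
      rw [Subgroup.mem_centralizer_singleton_iff]
      have := congrArg Subtype.val hg
      rw [coe_conjHom] at this
      calc (g : G) * x = x * g * (x : G)⁻¹ * x := by rw [this]
        _ = x * g := by group
    rw [hreg x x.2 hx'] at hg'
    exact Subtype.ext (Subgroup.mem_bot.1 hg')) (resS ρ hK) (resS ρ hR) (resS_conjHom ρ hK hR hn)
  rw [invariants_resS] at h1
  rw [invariants_resS, invariants_resS, ← fixS_sup ρ hK hR] at h2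
  refine ⟨m, h1, h2, fun hm => ?_⟩
  rw [fixS_eq_top_iff]
  intro g hg
  have hgK : (g : G) ∈ K := comm_le_of_le le_rfl le_rfl hg
  have : (⟨g, hgK⟩ : K) ∈ commutator K := by
    have e : (commutator K).map K.subtype = ⁅K, K⁆ := by
      rw [commutator_def, Subgroup.map_commutator, map_subtype_top]
    rw [← e] at hg
    obtain ⟨y, hy, e'⟩ := hg
    have : y = ⟨g, hgK⟩ := Subtype.ext e'
    exact this ▸ hy
  exact h3 hm _ this

end fix

section basechange

variable {F : Type v} [Field F] (k : Type) [Field k] [Algebra F k]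
  {V : Type u} [AddCommGroup V] [Module F V]

theorem finrank_fix_baseChange {ι : Type w} [Finite ι] (f : ι → End F V) (U : Submodule F V)
    (hU : ∀ v, v ∈ U ↔ ∀ i, f i v = v) (U' : Submodule k (k ⊗[F] V))
    (hU' : ∀ v, v ∈ U' ↔ ∀ i, (f i).baseChange k v = v) :
    finrank k U' = finrank F U := by
  classical
  have := Fintype.ofFinite ι
  let φ : V →ₗ[F] (ι → V) := LinearMap.pi fun i => f i - 1
  have h1 : U = LinearMap.ker φ := by
    ext v
    rw [hU, LinearMap.mem_ker, funext_iff]
    simp [φ, sub_eq_zero]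
  have h2 : U' = LinearMap.ker (AlgebraTensorModule.lTensor k k φ) := by
    ext v
    rw [hU', LinearMap.mem_ker,
      ← (TensorProduct.piRight F k k (fun _ : ι => V)).map_eq_zero_iff, funext_iff]
    have : ∀ i, TensorProduct.piRight F k k (fun _ : ι => V) (AlgebraTensorModule.lTensor k k φ v) i
        = (f i).baseChange k v - v := by
      intro i
      induction v using TensorProduct.induction_on with
      | zero => simp
      | tmul a x => simp [φ, tmul_sub]
      | add x y hx hy =>
        rw [map_add, map_add, Pi.add_apply, hx, hy, map_add]; abel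
    simp only [this, Pi.zero_apply, sub_eq_zero]
  rw [h1, h2, ← (LinearMap.tensorKerEquiv k k φ).finrank_eq, Module.finrank_baseChange]

end basechange

/-- Additive actions on a `ZMod p`-module are linear. -/
def repOfAddHom (p : ℕ) [Fact p.Prime] {X : Type u} [Group X] {W : Type v} [AddCommGroup W]
    [Module (ZMod p) W] (φ : X → W →+ W) (h1 : ∀ w, φ 1 w = w)
    (h2 : ∀ g h w, φ (g * h) w = φ g (φ h w)) : Representation (ZMod p) X W where
  toFun := fun g => (φ g).toZModLinearMap p
  map_one' := LinearMap.ext h1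
  map_mul' := fun g h => LinearMap.ext (h2 g h)

section bridge

variable {G : Type u} [Group G] [Finite G]

/-- An elementary abelian `p`-subgroup `V` as a module over the prime field. -/
theorem exists_rep_prime {p : ℕ} [hp : Fact p.Prime] {V : Subgroup G} (hV : IsElementaryAbelian p V) :
    ∃ (W : Type u) (_ : AddCommGroup W) (_ : Module (ZMod p) W) (_ : Finite W)
      (ρ : Representation (ZMod p) 𝒩(V) W) (e : V ≃* Multiplicative W),
      ∀ (g : 𝒩(V)) (x : V), ρ g (Multiplicative.toAdd (e x)) =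
        Multiplicative.toAdd (e (V.normalizerMonoidHom g x)) := by
  haveI := hV.1
  letI cg : CommGroup V := { (inferInstance : Group V) with mul_comm := mul_comm' }
  letI acg : AddCommGroup (Additive V) := Additive.addCommGroup
  letI md : Module (ZMod p) (Additive V) := AddCommGroup.zmodModule (fun x => by
    apply Additive.toMul.injective
    rw [toMul_nsmul, toMul_zero]
    exact Subtype.ext (hV.2 _ (Additive.toMul x).2))
  let ρ := repOfAddHom p (X := 𝒩(V)) (W := Additive V)
    (fun g => MonoidHom.toAdditive (V.normalizerMonoidHom g).toMonoidHom)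
    (fun x => by simp) (fun g h x => by rw [map_mul]; rfl)
  refine ⟨Additive V, acg, md, inferInstance, ρ,
    (MulEquiv.multiplicativeAdditive V).symm, fun g x => ?_⟩
  rfl

/-- The bridge: an elementary abelian `p`-subgroup gives a module over an algebraically closed field of
characteristic `p` in which fixed spaces have the dimensions of the centralizers. -/
theorem exists_rep {p : ℕ} (hp : p.Prime) {V : Subgroup G} (hV : IsElementaryAbelian p V) :
    ∃ (k : Type) (_ : Field k) (_ : IsAlgClosed k) (_ : CharP k p)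
      (W : Type u) (_ : AddCommGroup W) (_ : Module k W) (_ : FiniteDimensional k W)
      (ρ : Representation k 𝒩(V) W),
      ∀ A : Subgroup G, A ≤ 𝒩(V) → Nat.card ↥(V ⊓ 𝒞(A)) = p ^ finrank k (fixS ρ A) := by
  haveI : Fact p.Prime := ⟨hp⟩
  obtain ⟨W, _, _, _, ρ, e, he⟩ := exists_rep_prime hV
  let k := AlgebraicClosure (ZMod p)
  let ρ' : Representation k 𝒩(V) (k ⊗[ZMod p] W) :=
    { toFun := fun g => (ρ g).baseChange k
      map_one' := by rw [map_one, LinearMap.baseChange_one]
      map_mul' := fun g h => by rw [map_mul, LinearMap.baseChange_mul] }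
  refine ⟨k, inferInstance, inferInstance, inferInstance, k ⊗[ZMod p] W, inferInstance, inferInstance,
    inferInstance, ρ', fun A hA => ?_⟩
  rw [finrank_fix_baseChange k (fun g : A => ρ ⟨g, hA g.2⟩) (fixS ρ A)
    (fun v => ⟨fun H g => H ⟨g, hA g.2⟩ g.2, fun H g hg => H ⟨g, hg⟩⟩) (fixS ρ' A)
    (fun v => ⟨fun H g => H ⟨g, hA g.2⟩ g.2, fun H g hg => H ⟨g, hg⟩⟩)]
  have h1 : Nat.card (fixS ρ A) = p ^ finrank (ZMod p) (fixS ρ A) := by
    rw [Module.natCard_eq_pow_finrank (K := ZMod p), Nat.card_zmod]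
  rw [← h1]
  refine Nat.card_congr
    { toFun := fun x => ⟨Multiplicative.toAdd (e ⟨x, x.2.1⟩), fun g hg => ?_⟩
      invFun := fun w => ⟨e.symm (Multiplicative.ofAdd w.1), (e.symm _).2, ?_⟩
      left_inv := fun x => by simp
      right_inv := fun w => by simp }
  · rw [he]
    congr 2
    apply Subtype.ext
    have := x.2.2 g hg
    change (g : G) * x * (g : G)⁻¹ = x
    rw [this]; group
  · intro g hg
    have h2 := w.2 ⟨g, hA hg⟩ hg
    have h3 := he ⟨g, hA hg⟩ (e.symm (Multiplicative.ofAdd w.1))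
    rw [MulEquiv.apply_symm_apply, toAdd_ofAdd, h2] at h3
    have h4 : V.normalizerMonoidHom ⟨g, hA hg⟩ (e.symm (Multiplicative.ofAdd w.1))
        = e.symm (Multiplicative.ofAdd w.1) := by
      apply e.injective
      rw [MulEquiv.apply_symm_apply]
      exact (congrArg Multiplicative.ofAdd h3).symm
    have h5 := congrArg Subtype.val h4
    change g * _ * g⁻¹ = _ at h5
    conv_rhs => rw [← h5]
    group

end bridge

theorem realizeEqns_Rep4 : True := by
  have := @CA.BG.Rep.repOfAddHom.eq_1.{0,0}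
  have := @CA.BG.Rep.repOfAddHom.eq_def.{0,0}
  have := @CA.BG.Rep.repOfAddHom.congr_simp.{0,0}
  have := @CA.BG.Rep.conjHom.eq_1.{0}
  have := @CA.BG.Rep.conjHom.eq_def.{0}
  have := @CA.BG.Rep.conjHom.congr_simp.{0}
  have := @CA.BG.Rep.fixS.eq_1.{0,0,0}
  have := @CA.BG.Rep.fixS.eq_def.{0,0,0}
  have := @CA.BG.Rep.fixS.congr_simp.{0,0,0}
  have := @CA.BG.Rep.resS.eq_1.{0,0,0}
  have := @CA.BG.Rep.resS.eq_def.{0,0,0}
  have := @CA.BG.Rep.resS.congr_simp.{0,0,0}
  have := @CA.BG.Rep.stabS.eq_1.{0,0,0}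
  have := @CA.BG.Rep.stabS.eq_def.{0,0,0}
  have := @CA.BG.Rep.stabS.congr_simp.{0,0,0}
  trivial

end CA.BG.Rep
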