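/-
Section 2, part a: odd order subgroups of two dimensional linear groups.
Owner: helper6.
-/
import Cfsg.Agent.BG.Rep4
import Cfsg.Agent.FG.Nil

set_option autoImplicit false

namespace CA.BG.P02

open Module Cfsg CA.FG CA.BG.Rep

universe u v w

section burnside

variable {G : Type u} [Group G] [Finite G]

open scoped IsMulCommutative in
/-- Burnside's transfer theorem, in the form needed here. -/
theorem not_dvd_card_der_of_norm_le_cent {p : ℕ} (hp : p.Prime) {P H : Subgroup G}
    (hP : IsSylowOf p P H) (h : H ⊓ 𝒩(P) ≤ 𝒞(P)) : ¬ p ∣ Nat.card ↥⁅H, H⁆ := by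
  haveI : Fact p.Prime := ⟨hp⟩
  obtain ⟨S, rfl⟩ := hP.exists_sylow hp
  have hS : Subgroup.normalizer (S : Set H) ≤ Subgroup.centralizer (S : Set H) := by
    intro g hg x hx
    apply Subtype.ext
    have hg' : (g : G) ∈ 𝒩((S : Subgroup H).map H.subtype) :=
      map_norm (A := Subgroup.zpowers g) H.subtype (by
        rw [Subgroup.zpowers_le]; exact hg) ⟨g, Subgroup.mem_zpowers g, rfl⟩
    exact h (Subgroup.mem_inf.2 ⟨g.2, hg'⟩) x ⟨x, hx, rfl⟩
  intro hd
  apply MonoidHom.not_dvd_card_ker_transferSylow S hS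
  haveI : IsMulCommutative S := ⟨⟨fun a b => Subtype.ext (hS (Subgroup.le_normalizer b.2) a a.2)⟩⟩
  have e : (commutator H).map H.subtype = ⁅H, H⁆ := by
    rw [commutator_def, Subgroup.map_commutator, map_subtype_top]
  rw [← e, Subgroup.card_map_of_injective H.subtype_injective] at hd
  exact hd.trans (Subgroup.card_dvd_of_le (Abelianization.commutator_subset_ker _))

theorem exists_sq_of_odd {H : Subgroup G} (hodd : Odd (Nat.card H)) {g : G} (hg : g ∈ H) :
    ∃ h ∈ H, h * h = g := by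
  obtain ⟨m, hm⟩ := hodd
  refine ⟨g ^ (m + 1), H.pow_mem hg _, ?_⟩
  rw [← pow_add, show m + 1 + (m + 1) = Nat.card H + 1 by omega, pow_succ, pow_card_eq_one_of_mem hg,
    one_mul]

theorem eq_one_of_sq_of_odd {H : Subgroup G} (hodd : Odd (Nat.card H)) {g : G} (hg : g ∈ H)
    (h : g * g = 1) : g = 1 := by
  obtain ⟨m, hm⟩ := hodd
  have := pow_card_eq_one_of_mem hg
  rwa [hm, pow_succ, pow_mul, pow_two, h, one_pow, one_mul] at this

end burnside

section linear

variable {k : Type v} [Field k] {V : Type w} [AddCommGroup V] [Module k V]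
  {X : Type u} [Group X] [Finite X]

/-- A normal abelian `p'`-subgroup with a nonscalar element forces commutativity. -/
theorem abelian_of_normal_abelian [IsAlgClosed k] (hV : finrank k V = 2) (ρ : X →* End k V)
    (hρ : Function.Injective ρ) {H A : Subgroup X} (hodd : Odd (Nat.card H)) (hA : A ≤ ⁅H, H⁆)
    (hn : H ≤ 𝒩(A)) (hab : IsMulCommutative A) (hk : (Nat.card A : k) ≠ 0) : A = ⊥ := by
  classical
  haveI : FiniteDimensional k V := Module.finite_of_finrank_pos (by omega)
  by_contra hA1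
  obtain ⟨x, hx, hx1⟩ := exists_mem_ne_one hA1
  have hAH : A ≤ H := hA.trans (comm_le_of_le le_rfl le_rfl)
  obtain ⟨n, b, wt, hb⟩ := exists_eigenbasis hk (ρ.comp A.subtype) (fun g h => by
    rw [← map_mul, ← map_mul, mul_comm'])
  have hn2 : n = 2 := by
    have := finrank_eq_card_basis b
    rw [Fintype.card_fin] at this
    omega
  subst hn2
  let m : X →* Matrix (Fin 2) (Fin 2) k := (LinearMap.toMatrixAlgEquiv b).toMonoidHom.comp ρ
  have hm : Function.Injective m := (LinearMap.toMatrixAlgEquiv b).injective.comp hρ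
  have hd : ∀ a : A, m a = Matrix.diagonal fun i => (wt i a : k) := by
    intro a
    ext i j
    change LinearMap.toMatrixAlgEquiv b (ρ a) i j = _
    have := hb a j
    rw [LinearMap.toMatrixAlgEquiv_apply, show ρ a (b j) = _ from this, map_smul, Basis.repr_self,
      Matrix.diagonal_apply]
    by_cases h : i = j
    · subst h; simp
    · simp [h, Finsupp.single_apply, Ne.symm h]
  have hdet : (m x).det = 1 := by
    let d : X →* kˣ := (Matrix.detMonoidHom.comp m).toHomUnits
    have h1 : ⁅H, H⁆ ≤ d.ker := by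
      refine (Subgroup.commutator_mono le_top le_top).trans ?_
      exact Abelianization.commutator_subset_ker d
    exact congrArg Units.val (h1 (hA hx))
  have hne : (wt 0 ⟨x, hx⟩ : k) ≠ wt 1 ⟨x, hx⟩ := by
    intro e
    apply hx1
    refine eq_one_of_sq_of_odd hodd (hAH hx) (hm ?_)
    rw [hd ⟨x, hx⟩, Matrix.det_diagonal, Fin.prod_univ_two] at hdet
    rw [map_mul, map_one, hd ⟨x, hx⟩, Matrix.diagonal_mul_diagonal, ← Matrix.diagonal_one]
    congr 1
    ext i
    fin_cases i
    · simpa [e] using hdet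
    · simpa [e] using hdet
  have hcol : ∀ g ∈ H, ∀ j, m g 0 j * m g 1 j = 0 := by
    intro g hg j
    have hc := conj_mem_of_le_norm' hn hg hx
    have e : m x * m g = m g * m (g⁻¹ * x * g) := by
      rw [← map_mul, ← map_mul]; congr 1; group
    rw [hd ⟨x, hx⟩, hd ⟨_, hc⟩] at e
    have e0 := congrFun (congrFun e 0) j
    have e1 := congrFun (congrFun e 1) j
    rw [Matrix.diagonal_mul, Matrix.mul_diagonal] at e0 e1
    by_contra h0
    obtain ⟨h1, h2⟩ := mul_ne_zero_iff.1 h0
    rw [mul_comm] at e0 e1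
    exact hne ((mul_left_cancel₀ h1 e0).trans (mul_left_cancel₀ h2 e1).symm)
  have hrow : ∀ g ∈ H, ∀ i, m g i 0 * m g i 1 = 0 := by
    intro g hg i
    have hc := conj_mem_of_le_norm hn hg hx
    have e : m g * m x = m (g * x * g⁻¹) * m g := by
      rw [← map_mul, ← map_mul]; congr 1; group
    rw [hd ⟨x, hx⟩, hd ⟨_, hc⟩] at e
    have e0 := congrFun (congrFun e i) 0
    have e1 := congrFun (congrFun e i) 1
    rw [Matrix.diagonal_mul, Matrix.mul_diagonal] at e0 e1
    by_contra h0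
    obtain ⟨h1, h2⟩ := mul_ne_zero_iff.1 h0
    rw [mul_comm] at e0 e1
    exact hne ((mul_right_cancel₀ h1 e0).trans (mul_right_cancel₀ h2 e1).symm)
  have hdiag : ∀ g ∈ H, m g 0 1 = 0 ∧ m g 1 0 = 0 := by
    intro g hg
    obtain ⟨h, hh, rfl⟩ := exists_sq_of_odd hodd hg
    rw [map_mul, Matrix.mul_apply, Matrix.mul_apply, Fin.sum_univ_two, Fin.sum_univ_two,
      hrow h hh 0, hcol h hh 1, mul_comm (m h 1 0), hcol h hh 0, mul_comm (m h 1 1), hrow h hh 1]
    simp
  have hcomm : IsMulCommutative H := by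
    rw [abelian_iff_forall]
    intro g hg h hh
    apply hm
    rw [map_mul, map_mul]
    ext i j
    obtain ⟨a1, a2⟩ := hdiag g hg
    obtain ⟨b1, b2⟩ := hdiag h hh
    fin_cases i <;> fin_cases j <;> simp [Matrix.mul_apply, Fin.sum_univ_two, a1, a2, b1, b2, mul_comm]
  rw [comm_eq_bot_iff.2 (abelian_iff_le_cent.1 hcomm), le_bot_iff] at hA
  exact hA1 hA

theorem not_dvd_der_closed [IsAlgClosed k] (hV : finrank k V = 2) (ρ : X →* End k V)
    (hρ : Function.Injective ρ) {q : ℕ} (hq : q.Prime) (hqk : (q : k) ≠ 0) (H : Subgroup X)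
    (hodd : Odd (Nat.card H)) : ¬ q ∣ Nat.card ↥⁅H, H⁆ := by
  induction' hn : Nat.card H using Nat.strong_induction_on with n ih generalizing H
  subst hn
  obtain ⟨P, hP⟩ := sylow_exists hq H
  by_cases hN : H ≤ 𝒩(P)
  · intro hd
    have hQ := hP.inf_normal (der_normalIn H)
    have hQ1 : P ⊓ ⁅H, H⁆ ≠ ⊥ := IsSylowOf.ne_bot' hQ hq hd
    have hQp : IsPGrp q (P ⊓ ⁅H, H⁆) := hQ.piGrp
    have hnQ : H ≤ 𝒩(P ⊓ ⁅H, H⁆) := norm_inf hN (der_normalIn H).2
    refine center_nil_ne_bot hQp.nil hQ1 (abelian_of_normal_abelian hV ρ hρ hodd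
      (inf_le_left.trans inf_le_right) (norm_inf hnQ (norm_cent hnQ)) (abelian_inf_cent _) ?_)
    obtain ⟨e, he⟩ := (pGrp_iff_card hq).1 (hQp.inf_left 𝒞(P ⊓ ⁅H, H⁆))
    rw [he, Nat.cast_pow]
    exact pow_ne_zero _ hqk
  · have hlt : H ⊓ 𝒩(P) < H := lt_of_le_not_ge inf_le_left fun h => hN (h.trans inf_le_right)
    have h1 := ih _ (card_lt_of_lt hlt) (H ⊓ 𝒩(P)) (odd_of_le hodd inf_le_left) rfl
    refine not_dvd_card_der_of_norm_le_cent hq hP ?_
    rw [← comm_eq_bot_iff, eq_bot_iff, ← inf_eq_bot_of_cop (hP.pGrp.coprime_of_not_dvd h1)]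
    exact le_inf (comm_le_right inf_le_right)
      (Subgroup.commutator_mono le_rfl (le_inf hP.le Subgroup.le_normalizer))

theorem der1_odd_GL2_charf {F : Type v} {V : Type w} {X : Type u} [Field F] [AddCommGroup V]
    [Module F V] [Group X] [Finite X] (hV : Module.finrank F V = 2) (ρ : X →* (V →ₗ[F] V))
    (hρ : Function.Injective ρ) (hodd : Odd (Nat.card X)) :
    ∀ q : ℕ, q.Prime → q ∣ Nat.card (commutator X) → (q : F) = 0 := by
  intro q hq hd
  by_contra hqF
  haveI : FiniteDimensional F V := Module.finite_of_finrank_pos (by omega)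
  let k := AlgebraicClosure F
  let b : Basis (Fin 2) F V := Module.finBasisOfFinrankEq F V hV
  let ρ' : X →* End k (Fin 2 → k) := (Matrix.toLinAlgEquiv' (n := Fin 2) (R := k)).toMonoidHom.comp
    ((RingHom.mapMatrix (algebraMap F k)).toMonoidHom.comp
      ((LinearMap.toMatrixAlgEquiv b).toMonoidHom.comp ρ))
  have hρ' : Function.Injective ρ' :=
    (Matrix.toLinAlgEquiv' (n := Fin 2) (R := k)).injective.comp
      ((Matrix.map_injective (algebraMap F k).injective).comp
        ((LinearMap.toMatrixAlgEquiv b).injective.comp hρ))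
  refine not_dvd_der_closed (by simp) ρ' hρ' hq ?_ ⊤ (by rwa [Subgroup.card_top]) hd
  rw [← map_natCast (algebraMap F k)]
  exact (map_ne_zero _).2 hqF

/-- The same in dimension at most two, for a subgroup. -/
theorem not_dvd_der_le_two [IsAlgClosed k] [FiniteDimensional k V] (hV : finrank k V ≤ 2)
    (ρ : X →* End k V) (hρ : Function.Injective ρ) {q : ℕ} (hq : q.Prime) (hqk : (q : k) ≠ 0)
    (H : Subgroup X) (hodd : Odd (Nat.card H)) : ¬ q ∣ Nat.card ↥⁅H, H⁆ := by
  rcases hV.lt_or_eq with h | h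
  · have hc : IsMulCommutative H := by
      rw [abelian_iff_forall]
      intro x _ y _
      apply hρ
      rw [map_mul, map_mul]
      obtain ⟨v, hv⟩ := finrank_le_one_iff.1 (Nat.lt_succ_iff.1 h)
      ext w
      obtain ⟨c, rfl⟩ := hv w
      obtain ⟨a, ha⟩ := hv (ρ x v)
      obtain ⟨b, hb⟩ := hv (ρ y v)
      simp only [Module.End.mul_apply, map_smul, ← ha, ← hb, smul_smul]
      congr 1; ring
    rw [comm_eq_bot_iff.2 (abelian_iff_le_cent.1 hc), Subgroup.card_bot]
    exact hq.not_dvd_one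
  · exact not_dvd_der_closed h ρ hρ hq hqk H hodd

/-- In characteristic `p`, an odd group of order divisible by `p` acting faithfully in dimension two
leaves a line invariant. -/
theorem exists_invariant_line {p : ℕ} (hp : p.Prime) [CharP k p] (hV : finrank k V = 2)
    (ρ : X →* End k V) (hρ : Function.Injective ρ) (hodd : Odd (Nat.card X)) (hd : p ∣ Nat.card X) :
    ∃ v : V, v ≠ 0 ∧ ∀ g, ρ g v ∈ Submodule.span k {v} := by
  haveI : Fact p.Prime := ⟨hp⟩
  haveI : FiniteDimensional k V := Module.finite_of_finrank_pos (by omega)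
  haveI : Nontrivial V := Module.nontrivial_of_finrank_pos (R := k) (by omega)
  obtain ⟨P, hP⟩ := sylow_exists hp (⊤ : Subgroup X)
  have hder : IsPGrp p (⁅⊤, ⊤⁆ : Subgroup X) := fun q hq hqd => by
    have := der1_odd_GL2_charf hV ρ hρ hodd q hq hqd
    rw [CharP.cast_eq_zero_iff k p] at this
    exact ((Nat.prime_dvd_prime_iff_eq hp hq).1 this).symm
  have hle : ⁅⊤, ⊤⁆ ≤ P := hP.le_of_norm_le hder le_top (le_top.trans (der_normalIn ⊤).2)
  have hn : ⊤ ≤ 𝒩(P) := norm_of_comm_le le_top hle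
  have hP1 : P ≠ ⊥ := IsSylowOf.ne_bot' hP hp (by rwa [Subgroup.card_top])
  obtain ⟨x, hx, hx1⟩ := exists_mem_ne_one (center_nil_ne_bot hP.pGrp.nil hP1)
  obtain ⟨e, he⟩ := (pGrp_iff_card hp).1 hP.pGrp
  have hpow : ∀ y ∈ P, ρ y ^ p ^ e = 1 := fun y hy => by
    rw [← map_pow, ← he, pow_card_eq_one_of_mem hy, map_one]
  haveI : CharP (End k V) p := charP_of_injective_algebraMap (algebraMap k (End k V)).injective p
  have hnil : (ρ x - 1) ^ p ^ e = 0 := by
    rw [sub_pow_char_pow_of_commute _ _ (Commute.one_right _), hpow x hx.1, one_pow, sub_self]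
  have hker : LinearMap.ker (ρ x - 1) ≠ ⊥ := by
    intro h0
    have hinj := LinearMap.ker_eq_bot.1 h0
    have h2 : Function.Injective ⇑((ρ x - 1) ^ p ^ e : End k V) := by
      rw [Module.End.coe_pow]; exact hinj.iterate _
    obtain ⟨v, hv⟩ := exists_ne (0 : V)
    exact hv (h2 (by rw [hnil]; rfl))
  have hker' : LinearMap.ker (ρ x - 1) ≠ ⊤ := by
    intro h0
    apply hx1
    apply hρ
    rw [map_one, ← sub_eq_zero]
    exact LinearMap.ker_eq_top.1 h0
  obtain ⟨v, hv, hv0⟩ := (Submodule.ne_bot_iff _).1 hker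
  have hspan : Submodule.span k {v} = LinearMap.ker (ρ x - 1) := by
    refine Submodule.eq_of_le_of_finrank_le ((Submodule.span_singleton_le_iff_mem _ _).2 hv) ?_
    rw [finrank_span_singleton hv0]
    have := Submodule.finrank_lt hker'
    omega
  have hmem : ∀ w, w ∈ Submodule.span k {v} ↔ ρ x w = w := fun w => by
    rw [hspan, LinearMap.mem_ker, LinearMap.sub_apply, sub_eq_zero]; rfl
  have hxv : ρ x v = v := (hmem v).1 (Submodule.mem_span_singleton_self v)
  refine ⟨v, hv0, fun g => (hmem _).2 ?_⟩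
  have hy : g⁻¹ * x * g ∈ P := conj_mem_of_le_norm' hn (Subgroup.mem_top g) hx.1
  have hc : x * (g⁻¹ * x * g) = (g⁻¹ * x * g) * x := (hx.2 _ hy).symm
  obtain ⟨c, hcv⟩ := Submodule.mem_span_singleton.1 ((hmem (ρ (g⁻¹ * x * g) v)).2 (by
    rw [← Module.End.mul_apply, ← map_mul, hc, map_mul, Module.End.mul_apply, hxv]))
  have h1 : ∀ n : ℕ, (ρ (g⁻¹ * x * g) ^ n) v = c ^ n • v := by
    intro n
    induction n with
    | zero => simp
    | succ n ih => rw [pow_succ', Module.End.mul_apply, ih, map_smul, ← hcv, smul_smul, pow_succ]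
  have h2 : c ^ p ^ e = 1 := by
    have := h1 (p ^ e)
    rw [hpow _ hy, Module.End.one_apply] at this
    exact (smul_left_injective k hv0 (this.symm.trans (one_smul k v).symm))
  have h3 : c = 1 := by
    have : (c - 1) ^ p ^ e = 0 := by rw [sub_pow_char_pow, h2, one_pow, sub_self]
    exact sub_eq_zero.1 (pow_eq_zero_iff (pow_pos hp.pos e).ne' |>.1 this)
  rw [h3, one_smul] at hcv
  calc ρ x (ρ g v) = ρ g (ρ (g⁻¹ * x * g) v) := by
        rw [← Module.End.mul_apply, ← Module.End.mul_apply, ← map_mul, ← map_mul]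
        congr 2; group
    _ = ρ g v := by rw [← hcv]

theorem irr_GL2_not_dvd {F : Type v} [Field F] (p : ℕ) [hp : Fact p.Prime] [CharP F p]
    (H : Subgroup (GL (Fin 2) F)) [Finite H] (hodd : Odd (Nat.card H))
    (hirr : ∀ v : Fin 2 → F, v ≠ 0 → ∃ g ∈ H,
      (g : Matrix (Fin 2) (Fin 2) F).mulVec v ∉ Submodule.span F {v}) :
    ¬ p ∣ Nat.card H := by
  intro hd
  let ρ : H →* End F (Fin 2 → F) := (Matrix.toLinAlgEquiv' (n := Fin 2) (R := F)).toMonoidHom.comp
    ((Units.coeHom _).comp H.subtype)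
  have hρ : Function.Injective ρ := (Matrix.toLinAlgEquiv' (n := Fin 2) (R := F)).injective.comp
    (Units.val_injective.comp H.subtype_injective)
  obtain ⟨v, hv, h⟩ := exists_invariant_line hp.out (by simp) ρ hρ hodd hd
  obtain ⟨g, hg, hg'⟩ := hirr v hv
  exact hg' (h ⟨g, hg⟩)

end linear

end CA.BG.P02
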