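/-
B & G section 4: Lemmas 4.3 - 4.8 (odd p-groups of small rank).
-/
import Cfsg.Agent.FG.PHall
import Cfsg.Agent.BG.P04a

set_option autoImplicit false

namespace CA.BG.P04

open Cfsg CA.FG Subgroup

universe u

variable {G : Type u} [Group G]

/-- All elementary abelian `p`-subgroups of `R` have order at most `p ^ k`. -/
def RkLE (p k : ℕ) (R : Subgroup G) : Prop :=
  ∀ B : Subgroup G, B ≤ R → IsElementaryAbelian p B → Nat.card B ≤ p ^ k

theorem RkLE.mono {p k : ℕ} {R S : Subgroup G} (h : RkLE p k R) (hS : S ≤ R) : RkLE p k S :=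
  fun B hB => h B (hB.trans hS)

theorem rkLE_iff_pRankLE {p k : ℕ} {R : Subgroup G} : RkLE p k R ↔ PRankLE p k R := by
  constructor
  · intro h A hA hp
    have := h (A.map R.subtype) (map_subtype_le A) ⟨abelian_map _ hA, by
      rintro _ ⟨a, ha, rfl⟩
      rw [← map_pow, hp a ha, map_one]⟩
    rwa [card_map_of_injective R.subtype_injective] at this
  · intro h B hB hE
    rw [← card_subgroupOf hB]
    exact h _ ((subgroupOf_abelian_iff hB).2 hE.1) fun a ha => Subtype.ext (hE.2 a ha)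

theorem exists_abelem_of_not_rkLE [Finite G] {p k : ℕ} (hp : p.Prime) {R : Subgroup G}
    (h : ¬ RkLE p k R) :
    ∃ B : Subgroup G, B ≤ R ∧ IsElementaryAbelian p B ∧ Nat.card B = p ^ (k + 1) := by
  unfold RkLE at h
  push Not at h
  obtain ⟨B, h1, h2, h3⟩ := h
  obtain ⟨M, h4, h5⟩ := exists_sub_card hp (abelem_pgroup h2) (k + 1)
    (pow_le_card_of_lt hp (abelem_pgroup h2) h3)
  exact ⟨M, h4.trans h1, isElementaryAbelian_of_le h2 h4, h5⟩

theorem rkLE_of_card_ohm1 [Finite G] {p k : ℕ} {R : Subgroup G}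
    (h : Nat.card (ohm1 p R) ≤ p ^ k) : RkLE p k R := fun _ hB hE =>
  (Subgroup.card_le_of_le fun x hx => mem_ohm1 (hB hx) (hE.2 x hx)).trans h

/-! ### Lemma 4.3 -/

theorem mul_pow_of_sub_class {p : ℕ} (hp : p.Prime) (hp2 : p ≠ 2) {R : Subgroup G}
    (hcl : ⁅⁅R, R⁆, R⁆ = ⊥ ∨ (3 < p ∧ ⁅⁅⁅R, R⁆, R⁆, R⁆ = ⊥)) {x y : G} (hx : x ∈ R) (hy : y ∈ R)
    (h : Commute y (x ^ p) ∨ rc y x ^ p = 1) : (x * y) ^ p = x ^ p * y ^ p := by
  have hw : rc y x ∈ ⁅R, R⁆ := rc_mem hy hx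
  have hwR : rc y x ∈ R := comm_le_of_le le_rfl le_rfl hw
  rcases hcl with hcl | ⟨hp3, hcl⟩
  · have c1 := commute_of_comm_eq_bot hcl hw hx
    have c2 := commute_of_comm_eq_bot hcl hw hy
    refine mul_pow_of_class2 hp hp2 (rc_spec y x) c1 c2 ?_
    rcases h with h | h
    · exact comm_pow_eq_one hp hp2 (a := 1) (rc_spec y x) (by rw [mul_one, c1.eq])
        (Commute.one_left _) (Commute.one_left _) h
    · exact h
  · have ha : rc (rc y x) x ∈ ⁅⁅R, R⁆, R⁆ := rc_mem hw hx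
    have hb : rc (rc y x) y ∈ ⁅⁅R, R⁆, R⁆ := rc_mem hw hy
    have hbR : rc (rc y x) y ∈ R := comm_le_of_le (comm_le_of_le le_rfl le_rfl) le_rfl hb
    have c := fun {a b : G} (ha : a ∈ ⁅⁅R, R⁆, R⁆) (hb : b ∈ R) => commute_of_comm_eq_bot hcl ha hb
    refine mul_pow_of_class3 hp hp3 (rc_spec y x) (rc_spec _ x) (rc_spec _ y) (c ha hx) (c ha hy)
      (c ha hwR) (c hb hx) (c hb hy) (c hb hwR) (c ha hbR) ?_
    rcases h with h | h
    · exact comm_pow_eq_one hp hp2 (rc_spec y x) (rc_spec _ x) (c ha hx) (c ha hwR) h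
    · exact h

theorem ohm1_exp_of_class {p : ℕ} (hp : p.Prime) (hp2 : p ≠ 2) {R : Subgroup G}
    (hcl : ⁅⁅R, R⁆, R⁆ = ⊥ ∨ (3 < p ∧ ⁅⁅⁅R, R⁆, R⁆, R⁆ = ⊥)) : ∀ x ∈ ohm1 p R, x ^ p = 1 :=
  ohm1_exp fun x hx y hy h1 h2 => by
    rw [mul_pow_of_sub_class hp hp2 hcl hx hy (Or.inl (by rw [h1]; exact Commute.one_right _)),
      h1, h2, one_mul]

theorem exponent_Ohm1_odd_nil23 [Finite G] {p : ℕ} (hp : p.Prime) {R : Subgroup G} (pR : IsPGrp p R)
    (oddR : Odd (Nat.card R))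
    (hcl : ⁅⁅R, R⁆, R⁆ = ⊥ ∨ (3 < p ∧ ⁅⁅⁅R, R⁆, R⁆, R⁆ = ⊥)) :
    ∀ x ∈ ohm1 p R, x ^ p = 1 := by
  by_cases nt : R = ⊥
  · intro x hx
    have := ohm1_le p R hx
    rw [nt, mem_bot] at this
    rw [this, one_pow]
  · exact ohm1_exp_of_class hp (ne_two_of_odd hp (isPGroup_of hp pR) oddR nt) hcl

theorem expMg_odd_nil23 [Finite G] {p : ℕ} (hp : p.Prime) {R : Subgroup G} (pR : IsPGrp p R)
    (oddR : Odd (Nat.card R))
    (hcl : ⁅⁅R, R⁆, R⁆ = ⊥ ∨ (3 < p ∧ ⁅⁅⁅R, R⁆, R⁆, R⁆ = ⊥)) (hder : ⁅R, R⁆ ≤ ohm1 p R) :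
    ∀ x ∈ R, ∀ y ∈ R, (x * y) ^ p = x ^ p * y ^ p := by
  intro x hx y hy
  by_cases nt : R = ⊥
  · rw [nt, mem_bot] at hx hy
    simp [hx, hy]
  · have hp2 := ne_two_of_odd hp (isPGroup_of hp pR) oddR nt
    exact mul_pow_of_sub_class hp hp2 hcl hx hy
      (Or.inr (ohm1_exp_of_class hp hp2 hcl _ (hder (rc_mem hy hx))))

/-! ### action on an abelian normal subgroup -/

/-- An element `y` with `y ^ p` centralizing the abelian `p`-group `A` and centralizing `Ω₁(A)`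
centralizes `A / Ω₁(A)` (`p` odd). -/
theorem rc_pow_eq_one_of_cent_ohm1 {p : ℕ} (hp : p.Prime) (hp2 : p ≠ 2) {A : Subgroup G}
    (pA : IsPGroup p A) (abA : IsMulCommutative A) {y : G} (hy : y ∈ 𝒩(A))
    (hyp : y ^ p ∈ 𝒞(A)) (hc : ∀ a ∈ A, a ^ p = 1 → Commute a y) :
    ∀ a ∈ A, rc a y ^ p = 1 := by
  suffices H : ∀ k, ∀ a ∈ A, a ^ p ^ k = 1 → rc a y ^ p = 1 by
    intro a ha
    obtain ⟨k, hk⟩ := exists_pow_eq_one pA ha
    exact H k a ha hk
  intro k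
  induction k with
  | zero =>
    intro a _ h
    rw [pow_zero, pow_one] at h
    rw [h, rc_eq_one_iff.2 (Commute.one_left y), one_pow]
  | succ k ih =>
    intro a ha h
    have hw : rc a y ∈ A := rc_mem_left ha hy
    have h1 : rc a y ^ p ^ k = 1 :=
      eq_one_of_pow_mul (rc_spec a y) (commute_of_abelian abA hw ha)
        (hc _ (pow_mem ha _) (by rw [← pow_mul, ← pow_succ, h]))
    have hz : rc (rc a y) y ∈ A := rc_mem_left hw hy
    exact comm_pow_eq_one hp hp2 (rc_spec a y) (rc_spec _ y) (hc _ hz (ih _ hw h1))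
      (commute_of_abelian abA hz hw) (commute_of_mem_cent hyp ha).symm

theorem commute_rc_of_stab {a x y : G} (h1 : Commute (rc a x⁻¹) y) (h2 : Commute (rc a y⁻¹) x)
    (h3 : Commute (rc a x⁻¹) (rc a y⁻¹)) : Commute (rc y x) a := by
  have e1 : x * a * x⁻¹ = a * rc a x⁻¹ := conj_eq_mul_rc a x
  have e2 : y * a * y⁻¹ = a * rc a y⁻¹ := conj_eq_mul_rc a y
  have e3 : y * x * a * (y * x)⁻¹ = x * y * a * (x * y)⁻¹ := by
    calc y * x * a * (y * x)⁻¹ = y * (x * a * x⁻¹) * y⁻¹ := by group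
      _ = y * a * (rc a x⁻¹ * y⁻¹) := by rw [e1]; simp only [mul_assoc]
      _ = (y * a * y⁻¹) * rc a x⁻¹ := by rw [h1.inv_right.eq]; simp only [mul_assoc]
      _ = a * (rc a x⁻¹ * rc a y⁻¹) := by rw [e2, h3.eq, mul_assoc]
      _ = (x * a * x⁻¹) * rc a y⁻¹ := by rw [e1, mul_assoc]
      _ = x * a * (rc a y⁻¹ * x⁻¹) := by rw [h2.inv_right.eq]; simp only [mul_assoc]
      _ = x * (y * a * y⁻¹) * x⁻¹ := by rw [e2]; simp only [mul_assoc]
      _ = x * y * a * (x * y)⁻¹ := by group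
  unfold rc
  show y⁻¹ * x⁻¹ * y * x * a = a * (y⁻¹ * x⁻¹ * y * x)
  calc y⁻¹ * x⁻¹ * y * x * a = y⁻¹ * x⁻¹ * (y * x * a * (y * x)⁻¹) * (y * x) := by group
    _ = a * (y⁻¹ * x⁻¹ * y * x) := by rw [e3]; group

theorem ohm1_cent_max_normal_abelem [Finite G] {p : ℕ} (hp : p.Prime) (hp2 : p ≠ 2)
    {R Z : Subgroup G} (pR : IsPGroup p R) (nsZR : Z ⊲ R) (abZ : IsElementaryAbelian p Z)
    (maxZ : ∀ Y : Subgroup G, Y ⊲ R → IsElementaryAbelian p Y → Z ≤ Y → Y = Z) :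
    ohm1 p (R ⊓ 𝒞(Z)) = Z := by
  obtain ⟨A, scnA, hZA⟩ := exists_SCN hp pR nsZR abZ.1
  have abA := scn_abelian scnA
  obtain ⟨hAR, nA, cA⟩ := scnA
  have pA := pR.to_le hAR
  have hA1 : ohm1 p A = Z :=
    maxZ _ ⟨(ohm1_le p A).trans hAR, norm_ohm1 p nA⟩ (ohm1_abelem abA)
      fun z hz => mem_ohm1 (hZA hz) (abZ.2 z hz)
  have key : ∀ x ∈ R ⊓ 𝒞(Z), x ^ p = 1 → ∀ a ∈ A, rc a x ∈ Z := by
    intro x hx hxp a ha
    rw [← hA1]
    refine mem_ohm1 (rc_mem_left ha (nA hx.1)) ?_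
    refine rc_pow_eq_one_of_cent_ohm1 hp hp2 pA abA (nA hx.1) (by rw [hxp]; exact one_mem _) ?_ a ha
    intro b hb hbp
    exact (commute_of_mem_cent hx.2 (hA1 ▸ mem_ohm1 hb hbp)).symm
  have hexp : ∀ x ∈ ohm1 p (R ⊓ 𝒞(Z)), x ^ p = 1 := by
    apply ohm1_exp
    intro x hx y hy hxp hyp
    have hwA : rc y x ∈ A := by
      rw [← cA]
      refine ⟨comm_le_of_le le_rfl le_rfl (rc_mem hy.1 hx.1), mem_cent_of_commute fun a ha => ?_⟩
      have z1 := key _ (inv_mem hx) (by rw [inv_pow, hxp, inv_one]) a ha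
      have z2 := key _ (inv_mem hy) (by rw [inv_pow, hyp, inv_one]) a ha
      exact commute_rc_of_stab (commute_of_mem_cent hy.2 z1).symm (commute_of_mem_cent hx.2 z2).symm
        (commute_of_abelian abZ.1 z1 z2)
    have hz := key x hx hxp _ hwA
    have hw : rc y x ^ p = 1 :=
      comm_pow_eq_one hp hp2 (rc_spec y x) (rc_spec _ x) (commute_of_mem_cent hx.2 hz).symm
        (commute_of_abelian abA (hZA hz) hwA) (by rw [hxp]; exact Commute.one_right _)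
    have hwZ : rc y x ∈ Z := hA1 ▸ mem_ohm1 hwA hw
    rw [mul_pow_of_class2 hp hp2 (rc_spec y x) (commute_of_mem_cent hx.2 hwZ).symm
      (commute_of_mem_cent hy.2 hwZ).symm hw, hxp, hyp, one_mul]
  refine le_antisymm ?_ fun z hz =>
    mem_ohm1 (mem_inf.2 ⟨nsZR.1 hz, abelian_iff_le_cent.1 abZ.1 hz⟩) (abZ.2 z hz)
  by_contra hn
  obtain ⟨x, hxU, hxZ, -, hxR⟩ := exists_central_factor hp pR ((ohm1_le _ _).trans inf_le_left)
    (norm_ohm1 p (norm_inf le_normalizer (norm_cent nsZR.2))) hn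
  have hxC := ohm1_le _ _ hxU
  have := maxZ (Z ⊔ zpowers x) ⟨sup_le nsZR.1 (zpowers_le.2 hxC.1), norm_sup_zpowers nsZR.2 hxR⟩
    (abelem_sup abZ (abelem_zpowers (hexp x hxU)) (le_cent_symm (zpowers_le.2 hxC.2))) le_sup_left
  exact hxZ (this ▸ mem_sup_right (mem_zpowers x))

theorem exists_max_normal_abelem [Finite G] {p : ℕ} {R E : Subgroup G} (nsE : E ⊲ R)
    (abE : IsElementaryAbelian p E) : ∃ Z : Subgroup G, E ≤ Z ∧ Z ⊲ R ∧ IsElementaryAbelian p Z ∧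
      ∀ Y : Subgroup G, Y ⊲ R → IsElementaryAbelian p Y → Z ≤ Y → Y = Z := by
  obtain ⟨Z, hEZ, hmax⟩ := exists_maximal_ge_of_wellFoundedGT
    (fun A : Subgroup G => A ⊲ R ∧ IsElementaryAbelian p A) E ⟨nsE, abE⟩
  exact ⟨Z, hEZ, hmax.prop.1, hmax.prop.2, fun Y h1 h2 h3 =>
    le_antisymm (hmax.le_of_ge ⟨h1, h2⟩ h3) h3⟩

theorem abelem_bot (p : ℕ) : IsElementaryAbelian p (⊥ : Subgroup G) :=
  ⟨inferInstance, fun a ha => by rw [mem_bot.1 ha, one_pow]⟩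

/-- If a maximal normal elementary abelian subgroup has order at most `p ^ 2`, the rank is at most 2. -/
theorem rkLE_two_of_max_normal [Finite G] {p : ℕ} (hp : p.Prime) (hp2 : p ≠ 2)
    {R Z : Subgroup G} (pR : IsPGroup p R) (nsZR : Z ⊲ R) (abZ : IsElementaryAbelian p Z)
    (maxZ : ∀ Y : Subgroup G, Y ⊲ R → IsElementaryAbelian p Y → Z ≤ Y → Y = Z)
    (oZ : Nat.card Z ≤ p ^ 2) : RkLE p 2 R := by
  by_contra h
  obtain ⟨B, hB, abB, oB⟩ := exists_abelem_of_not_rkLE hp h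
  have h1 := ohm1_cent_max_normal_abelem hp hp2 pR nsZR abZ maxZ
  have h2 := card_le_mul_card_inf hB (relIndex_cent_le hp pR nsZR.1 nsZR.2 oZ)
  have h3 : 𝒞(Z) ⊓ B ≤ Z := fun x hx => h1 ▸ mem_ohm1 ⟨hB hx.2, hx.1⟩ (abB.2 x hx.2)
  have h4 : 𝒞(Z) ⊓ B = Z := by
    apply eq_of_le_of_card_le h3
    rw [oB, pow_succ] at h2
    exact oZ.trans (Nat.le_of_mul_le_mul_right h2 hp.pos)
  have h5 : B ≤ 𝒞(Z) := (abelian_iff_le_cent.1 abB.1).trans (cent_anti (h4 ▸ inf_le_right))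
  have h6 : B ≤ Z := fun x hx => h3 ⟨h5 hx, hx⟩
  have := (Subgroup.card_le_of_le h6).trans oZ
  rw [oB, pow_le_pow_iff hp] at this
  omega

/-! ### the power map -/

/-- The `n`-th power map on a subgroup on which it is multiplicative. -/
def powHom (H : Subgroup G) (n : ℕ) (h : ∀ x ∈ H, ∀ y ∈ H, (x * y) ^ n = x ^ n * y ^ n) : H →* G :=
  MonoidHom.mk' (fun x => (x : G) ^ n) fun x y => h x x.2 y y.2

theorem card_pow_image [Finite G] {p : ℕ} {H : Subgroup G}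
    (h : ∀ x ∈ H, ∀ y ∈ H, (x * y) ^ p = x ^ p * y ^ p) :
    ∃ P : Subgroup G, (∀ y, y ∈ P ↔ ∃ x ∈ H, x ^ p = y) ∧
      Nat.card P * Nat.card (ohm1 p H) = Nat.card H := by
  refine ⟨(powHom H p h).range, fun y => ⟨fun ⟨x, hx⟩ => ⟨x, x.2, hx⟩,
    fun ⟨x, hx, e⟩ => ⟨⟨x, hx⟩, e⟩⟩, ?_⟩
  have h1 : (powHom H p h).ker = (ohm1 p H).subgroupOf H := by
    ext x
    rw [MonoidHom.mem_ker, mem_subgroupOf]
    refine ⟨fun hx => mem_ohm1 x.2 hx, fun hx => ?_⟩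
    exact ohm1_exp (fun a ha b hb h1 h2 => by rw [h a ha b hb, h1, h2, one_mul]) _ hx
  rw [← card_subgroupOf (ohm1_le p H), ← h1, ← Subgroup.index_ker, mul_comm, card_mul_index]

theorem cyclic_of_abelian_ohm1 [Finite G] {p : ℕ} (hp : p.Prime) {A : Subgroup G}
    (pA : IsPGroup p A) (abA : IsMulCommutative A) (h : Nat.card (ohm1 p A) ≤ p) : IsCyclic A := by
  induction A using WellFoundedLT.induction with
  | ind A ih =>
  obtain ⟨P, hP, oP⟩ := card_pow_image (p := p) (H := A)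
    fun x hx y hy => (commute_of_abelian abA hx hy).mul_pow p
  have hPA : P ≤ A := fun y hy => by
    obtain ⟨x, hx, rfl⟩ := (hP y).1 hy
    exact pow_mem hx p
  by_cases nP : P = ⊥
  · rw [nP, card_bot, one_mul] at oP
    exact cyclic_of_card_le hp pA (oP ▸ h)
  have ntA : A ≠ ⊥ := ne_bot_mono hPA nP
  have hlt : P < A := by
    apply lt_of_le_of_card_lt hPA
    rw [← oP]
    exact (Nat.lt_mul_iff_one_lt_right Nat.card_pos).2 (one_lt_card (ohm1_ne_bot hp pA ntA))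
  have hle := Subgroup.card_le_of_le (ohm1_mono p hPA)
  have cP := ih P hlt (pA.to_le hPA) (abelian_of_le abA hPA) (hle.trans h)
  have e1 : ohm1 p P = ohm1 p A := by
    apply eq_of_le_of_card_le (ohm1_mono p hPA)
    rw [card_ohm1_of_cyclic hp (pA.to_le hPA) cP nP]; exact h
  obtain ⟨b, hb, eb⟩ := cyclic_iff_eq_zpowers.1 cP
  obtain ⟨a, ha, rfl⟩ := (hP b).1 hb
  refine cyclic_iff_eq_zpowers.2 ⟨a, ha, le_antisymm (fun c hc => ?_) (zpowers_le.2 ha)⟩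
  have h1 : c ^ p ∈ zpowers (a ^ p) := eb ▸ (hP _).2 ⟨c, hc, rfl⟩
  obtain ⟨k, hk⟩ := exists_nat_of_mem_zpowers h1
  have h2 : c * (a ^ k)⁻¹ ∈ ohm1 p A := by
    refine mem_ohm1 (mul_mem hc (inv_mem (pow_mem ha k))) ?_
    rw [(commute_of_abelian abA hc (inv_mem (pow_mem ha k))).mul_pow, hk, inv_pow, ← pow_mul,
      ← pow_mul, mul_comm k, mul_inv_cancel]
  have h3 : P ≤ zpowers a := eb ▸ zpowers_le.2 (pow_mem (mem_zpowers a) p)
  have h4 := h3 (ohm1_le p P (e1 ▸ h2))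
  simpa using mul_mem h4 (pow_mem (mem_zpowers a) k)

/-- Subgroups of index `p` in a `p`-group are normal. -/
theorem norm_of_relIndex_eq [Finite G] {p : ℕ} (hp : p.Prime) {R H : Subgroup G} (pR : IsPGroup p R)
    (hH : H ≤ R) (h : H.relIndex R = p) : R ≤ 𝒩(H) := by
  have hlt : H < R := lt_of_le_of_ne hH fun e => by
    rw [e, relIndex_self] at h
    exact hp.one_lt.ne h
  obtain ⟨M, h1, h2, h3⟩ := exists_normal_lt hp pR hlt
  have : H = M := by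
    apply eq_of_le_of_card_le h1
    have h4 := mul_card_le_of_lt hp pR h2
    rw [← card_mul_relIndex hH, h, mul_comm] at h4
    exact Nat.le_of_mul_le_mul_right h4 hp.pos
  rwa [this]

theorem eq_sup_zpowers_of_relIndex [Finite G] {p : ℕ} (hp : p.Prime) {R H : Subgroup G}
    (hH : H ≤ R) (h : H.relIndex R = p) {y : G} (hy : y ∈ R) (hyH : y ∉ H) :
    H ⊔ zpowers y = R := by
  have h1 : H ⊔ zpowers y ≤ R := sup_le hH (zpowers_le.2 hy)
  have h2 := relIndex_mul_relIndex H (H ⊔ zpowers y) R le_sup_left h1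
  rw [h] at h2
  rcases (Nat.dvd_prime hp).1 (Dvd.intro _ h2) with h3 | h3
  · rw [relIndex_eq_one] at h3
    exact absurd (h3 (mem_sup_right (mem_zpowers y))) hyH
  · rw [h3] at h2
    have : (H ⊔ zpowers y).relIndex R = 1 := by
      have := hp.pos
      nlinarith
    exact le_antisymm h1 (relIndex_eq_one.1 this)

theorem pow_mem_of_relIndex [Finite G] {p : ℕ} {R H : Subgroup G} (nH : R ≤ 𝒩(H))
    (hH : H ≤ R) (h : H.relIndex R = p) {y : G} (hy : y ∈ R) : y ^ p ∈ H := by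
  have := normal_subgroupOf_of_normalIn ⟨hH, nH⟩
  have h2 := Subgroup.pow_index_mem (H.subgroupOf R) ⟨y, hy⟩
  rw [mem_subgroupOf] at h2
  unfold relIndex at h
  rw [h] at h2
  simpa using h2

/-- If `A` is abelian and normalized by `y`, and `Z` contains all `[a, y]` and is normalized by
`A` and `y`, then `Z` contains the derived group of `A ⊔ ⟨y⟩`. -/
theorem der_sup_zpowers_le {A Z : Subgroup G} {y : G} (abA : IsMulCommutative A) (hy : y ∈ 𝒩(A))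
    (nZy : y ∈ 𝒩(Z)) (h : ∀ a ∈ A, rc a y ∈ Z) :
    ⁅A ⊔ zpowers y, A ⊔ zpowers y⁆ ≤ Z := by
  have h1 : ⁅A, zpowers y⁆ ≤ Z := by
    apply comm_le_of_rc
    rintro a ha _ ⟨k, rfl⟩
    show rc a (y ^ k) ∈ Z
    induction k using Int.induction_on with
    | zero => simp [rc]
    | succ k ih =>
      have : rc a (y ^ ((k : ℤ) + 1)) = rc a y * (y⁻¹ * rc a (y ^ (k : ℤ)) * y) := by
        unfold rc; rw [zpow_add_one]; group
      rw [this]
      exact mul_mem (h a ha) (conj_mem_of_mem_norm' nZy ih)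
    | pred k ih =>
      have : rc a (y ^ (-(k : ℤ) - 1)) = y * ((rc a y)⁻¹ * rc a (y ^ (-(k : ℤ)))) * y⁻¹ := by
        unfold rc; rw [zpow_sub_one]; group
      rw [this]
      exact conj_mem_of_mem_norm nZy (mul_mem (inv_mem (h a ha)) ih)
  rw [comm_sup_self (zpowers_le.2 hy), comm_eq_bot_iff.2 (abelian_iff_le_cent.1 abA),
    comm_eq_bot_iff.2 (abelian_iff_le_cent.1 (abelian_zpowers y))]
  simpa using h1

/-! ### Lemma 4.5 -/

theorem ohm1_extremal_odd [Finite G] {p : ℕ} (hp : p.Prime) (hp2 : p ≠ 2) {R : Subgroup G} {x : G}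
    (pR : IsPGroup p R) (ncycR : ¬ IsCyclic R) (hx : x ∈ R)
    (hidx : (zpowers x).relIndex R = p) : IsPnElem p 2 (ohm1 p R) R := by
  have hA : zpowers x ≤ R := zpowers_le.2 hx
  have nA := norm_of_relIndex_eq hp pR hA hidx
  have hlt : zpowers x < R := lt_of_le_of_ne hA fun e => ncycR (e ▸ cyclic_zpowers x)
  obtain ⟨y, hy, hyA⟩ := SetLike.exists_of_lt hlt
  have eR := eq_sup_zpowers_of_relIndex hp hA hidx hy hyA
  have hyp := pow_mem_of_relIndex nA hA hidx hy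
  have hx1 : x ≠ 1 := by
    rintro rfl
    apply ncycR
    rw [← eR, zpowers_one_eq_bot, bot_sup_eq]
    exact cyclic_zpowers y
  have cZ : R ≤ 𝒞(ohm1 p (zpowers x)) :=
    cent_of_card_le hp pR ((ohm1_le _ _).trans hA) (norm_ohm1 p nA)
      (card_ohm1_le_of_cyclic hp (cyclic_zpowers x))
  have h1 := rc_pow_eq_one_of_cent_ohm1 hp hp2 (pR.to_le hA) (abelian_zpowers x) (nA hy)
    (abelian_iff_le_cent.1 (abelian_zpowers x) hyp)
    (fun a ha hap => (commute_of_mem_cent (cZ hy) (mem_ohm1 ha hap)).symm)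
  have hder : ⁅R, R⁆ ≤ ohm1 p (zpowers x) := by
    conv_lhs => rw [← eR]
    exact der_sup_zpowers_le (abelian_zpowers x) (nA hy) (norm_ohm1 p nA hy) fun a ha => mem_ohm1 (rc_mem_left ha (nA hy)) (h1 a ha)
  have hcl : ⁅⁅R, R⁆, R⁆ = ⊥ := comm_eq_bot_iff'.2 (cZ.trans (cent_anti hder))
  have hmul : ∀ a ∈ R, ∀ b ∈ R, (a * b) ^ p = a ^ p * b ^ p := fun a ha b hb =>
    mul_pow_of_sub_class hp hp2 (Or.inl hcl) ha hb
      (Or.inr (ohm1_exp_of_abelian (abelian_zpowers x) _ (hder (rc_mem hb ha))))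
  obtain ⟨P, hP, oP⟩ := card_pow_image hmul
  obtain ⟨k, hk⟩ := exists_nat_of_mem_zpowers hyp
  have hpk : p ∣ k := by
    by_contra hn
    apply ncycR
    obtain ⟨n, hn'⟩ := exists_pow_eq_one pR hx
    have hco : k.Coprime (orderOf x) :=
      Nat.Coprime.coprime_dvd_right (orderOf_dvd_of_pow_eq_one hn')
        (((Nat.Prime.coprime_iff_not_dvd hp).2 hn).symm.pow_right n)
    have hxy : x ∈ zpowers y := by
      obtain ⟨m, hm⟩ := exists_pow_eq_self_of_coprime hco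
      rw [← hm, ← hk]
      exact pow_mem (pow_mem (mem_zpowers y) p) m
    rw [← eR, sup_eq_right.2 (zpowers_le.2 hxy)]
    exact cyclic_zpowers y
  have eP : P = zpowers (x ^ p) := by
    apply le_antisymm
    · intro z hz
      obtain ⟨r, hr, rfl⟩ := (hP z).1 hz
      rw [← eR] at hr
      obtain ⟨m, hm, j, rfl⟩ := mem_sup_zpowers_nat (nA hy) hr
      obtain ⟨i, rfl⟩ := exists_nat_of_mem_zpowers hm
      obtain ⟨l, rfl⟩ := hpk
      rw [hmul _ (pow_mem hx i) _ (pow_mem hy j), ← pow_mul, ← pow_mul, mul_comm i, mul_comm j,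
        pow_mul, pow_mul y, hk, pow_mul]
      exact mul_mem (pow_mem (mem_zpowers _) i) (pow_mem (pow_mem (mem_zpowers _) l) j)
    · exact zpowers_le.2 ((hP _).2 ⟨x, hx, rfl⟩)
  have hxP : x ∉ zpowers (x ^ p) := by
    intro h
    obtain ⟨n, hn⟩ := exists_pow_eq_one pR hx
    obtain ⟨j, hj⟩ := exists_nat_of_mem_zpowers h
    have : ∀ i : ℕ, x = x ^ (p * j) ^ i := by
      intro i
      induction i with
      | zero => simp
      | succ i ih => rw [pow_succ, pow_mul, ← ih, pow_mul, ← hj]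
    have h2 := this n
    rw [mul_pow, pow_mul, hn, one_pow] at h2
    exact hx1 h2
  have hidx2 := relIndex_zpowers_eq hp hxP (mem_zpowers _)
  have c1 := card_mul_relIndex hA
  have c2 := card_mul_relIndex (zpowers_le.2 (pow_mem (mem_zpowers x) p) : zpowers (x ^ p) ≤ _)
  rw [hidx2] at c2
  rw [hidx, ← c2, ← oP, eP, mul_assoc] at c1
  have o1 : Nat.card (ohm1 p R) = p ^ 2 := by
    rw [sq]; exact (Nat.eq_of_mul_eq_mul_left Nat.card_pos c1).symm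
  exact ⟨ohm1_le p R, ⟨abelian_of_card_le_sq hp (pR.to_le (ohm1_le p R)) o1.le,
    ohm1_exp_of_class hp hp2 (Or.inl hcl)⟩, o1⟩

theorem ex_normal_p2Elem [Finite G] {p : ℕ} (hp : p.Prime) (hp2 : p ≠ 2) {R : Subgroup G}
    (pR : IsPGroup p R) (ncycR : ¬ IsCyclic R) : ∃ S : Subgroup G, S ⊲ R ∧ IsPnElem p 2 S R := by
  obtain ⟨Z, -, nsZ, abZ, maxZ⟩ := exists_max_normal_abelem (bot_normalIn R) (abelem_bot p)
  by_cases oZ : p ^ 2 ≤ Nat.card Z
  · obtain ⟨S, h1, h2, h3⟩ := exists_normal_card' hp pR nsZ.1 nsZ.2 2 oZ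
    exact ⟨S, ⟨h1.trans nsZ.1, h2⟩, h1.trans nsZ.1, isElementaryAbelian_of_le abZ h1, h3⟩
  exfalso
  have oZ' : Nat.card Z ≤ p := by
    simpa using card_le_pow_of_lt hp (pR.to_le nsZ.1) (k := 1) (not_le.1 oZ)
  have cZ := cent_of_card_le hp pR nsZ.1 nsZ.2 oZ'
  have h1 := ohm1_cent_max_normal_abelem hp hp2 pR nsZ abZ maxZ
  rw [inf_eq_left.2 cZ] at h1
  obtain ⟨A, scnA, -⟩ := exists_SCN hp pR nsZ abZ.1
  have abA := scn_abelian scnA
  obtain ⟨hAR, nA, cA⟩ := scnA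
  have cycA : IsCyclic A := cyclic_of_abelian_ohm1 hp (pR.to_le hAR) abA
    ((Subgroup.card_le_of_le (h1 ▸ ohm1_mono p hAR)).trans oZ')
  have hn : ¬ R ≤ A := fun h => ncycR (cyclic_of_le cycA h)
  obtain ⟨y, hy, hyA, hyp, -⟩ := exists_central_factor hp pR le_rfl le_normalizer hn
  obtain ⟨x, hx, rfl⟩ := cyclic_iff_eq_zpowers.1 cycA
  have hH : zpowers x ⊔ zpowers y ≤ R := sup_le hAR (zpowers_le.2 hy)
  have ncH : ¬ IsCyclic (zpowers x ⊔ zpowers y : Subgroup G) := by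
    intro h
    apply hyA
    rw [← cA]
    exact ⟨hy, mem_cent_of_commute fun a ha => commute_of_abelian (abelian_of_cyclic h)
      (mem_sup_right (mem_zpowers y)) (mem_sup_left ha)⟩
  have := ohm1_extremal_odd hp hp2 (pR.to_le hH) ncH (mem_sup_left (mem_zpowers x))
    (relIndex_sup_zpowers hp (nA hy) hyA hyp)
  have h2 := (Subgroup.card_le_of_le (h1 ▸ ohm1_mono p hH)).trans oZ'
  rw [this.2.2] at h2
  have := hp.one_lt
  nlinarith

theorem cyclic_of_rkLE_one [Finite G] {p : ℕ} (hp : p.Prime) (hp2 : p ≠ 2) {R : Subgroup G}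
    (pR : IsPGroup p R) (h : RkLE p 1 R) : IsCyclic R := by
  by_contra hn
  obtain ⟨S, -, h1, h2, h3⟩ := ex_normal_p2Elem hp hp2 pR hn
  have := h S h1 h2
  rw [h3, pow_le_pow_iff hp] at this
  omega

theorem cyclic_of_card_ohm1_le [Finite G] {p : ℕ} (hp : p.Prime) (hp2 : p ≠ 2) {R : Subgroup G}
    (pR : IsPGroup p R) (h : Nat.card (ohm1 p R) ≤ p) : IsCyclic R :=
  cyclic_of_rkLE_one hp hp2 pR (rkLE_of_card_ohm1 (by simpa using h))

theorem rkLE_one_of_cyclic [Finite G] {p : ℕ} (hp : p.Prime) {R : Subgroup G} (h : IsCyclic R) :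
    RkLE p 1 R :=
  rkLE_of_card_ohm1 (by simpa using card_ohm1_le_of_cyclic hp h)

theorem not_cyclic_of_pnElem2 [Finite G] {p : ℕ} (hp : p.Prime) {E R : Subgroup G}
    (h : IsPnElem p 2 E R) : ¬ IsCyclic R := by
  intro hc
  have := rkLE_one_of_cyclic hp hc E h.1 h.2.1
  rw [h.2.2, pow_le_pow_iff hp] at this
  omega

/-! ### the second centre -/

theorem mem_ucnOf_two {R : Subgroup G} {x : G} :
    x ∈ ucnOf 2 R ↔ x ∈ R ∧ ∀ y ∈ R, rc x y ∈ 𝒞(R) := by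
  unfold ucnOf
  constructor
  · rintro ⟨x, hx, rfl⟩
    refine ⟨x.2, fun y hy => ?_⟩
    have := (Subgroup.mem_upperCentralSeries_succ_iff.1 (inv_mem hx)) ⟨y⁻¹, inv_mem hy⟩
    rw [Subgroup.upperCentralSeries_one, mem_center_iff] at this
    refine mem_cent_of_commute fun z hz => ?_
    have h2 := congrArg Subtype.val (this ⟨z, hz⟩)
    show rc (x : G) y * z = z * rc (x : G) y
    simpa [rc, commutatorElement_def] using h2.symm
  · rintro ⟨hx, h⟩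
    refine ⟨⟨x, hx⟩, ?_, rfl⟩
    rw [SetLike.mem_coe, ← inv_mem_iff]
    refine Subgroup.mem_upperCentralSeries_succ_iff.2 fun y => ?_
    rw [Subgroup.upperCentralSeries_one, mem_center_iff]
    intro z
    apply Subtype.ext
    have := (commute_of_mem_cent (h _ (inv_mem y.2)) z.2).eq
    simpa [rc, commutatorElement_def] using this.symm

theorem ucnOf_two_le (R : Subgroup G) : ucnOf 2 R ≤ R := fun _ hx => (mem_ucnOf_two.1 hx).1

theorem comm_ucnOf_two_le (R : Subgroup G) : ⁅ucnOf 2 R, R⁆ ≤ 𝒵(R) :=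
  le_inf (comm_le_of_le (ucnOf_two_le R) le_rfl)
    (comm_le_of_rc fun _ hx y hy => (mem_ucnOf_two.1 hx).2 y hy)

theorem le_ucnOf_two {R S : Subgroup G} (hS : S ≤ R) (h : ⁅S, R⁆ ≤ 𝒞(R)) : S ≤ ucnOf 2 R :=
  fun _ hx => mem_ucnOf_two.2 ⟨hS hx, fun _ hy => h (rc_mem hx hy)⟩

theorem center_le_ucnOf_two (R : Subgroup G) : 𝒵(R) ≤ ucnOf 2 R :=
  le_ucnOf_two inf_le_left (by rw [comm_eq_bot_iff.2 inf_le_right]; exact bot_le)

theorem norm_ucnOf_two [Finite G] {A R : Subgroup G} (h : A ≤ 𝒩(R)) : A ≤ 𝒩(ucnOf 2 R) := by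
  intro a ha
  apply mem_norm_of_forall
  intro x hx
  obtain ⟨h1, h2⟩ := mem_ucnOf_two.1 hx
  refine mem_ucnOf_two.2 ⟨conj_mem_of_le_norm h ha h1, fun y hy => ?_⟩
  have : rc (a * x * a⁻¹) y = a * rc x (a⁻¹ * y * a) * a⁻¹ := by unfold rc; group
  rw [this]
  exact conj_mem_of_le_norm (norm_cent h) ha (h2 _ (conj_mem_of_le_norm' h ha hy))

theorem ucnOf_two_class (R : Subgroup G) : ⁅⁅ucnOf 2 R, ucnOf 2 R⁆, ucnOf 2 R⁆ = ⊥ :=
  comm_eq_bot_iff.2 (((commutator_mono le_rfl (ucnOf_two_le R)).trans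
    ((comm_ucnOf_two_le R).trans inf_le_right)).trans (cent_anti (ucnOf_two_le R)))

theorem le_ucnOf_two_of_card [Finite G] {p : ℕ} (hp : p.Prime) {R S : Subgroup G}
    (pR : IsPGroup p R) (nsS : S ⊲ R) (oS : Nat.card S ≤ p ^ 2) : S ≤ ucnOf 2 R := by
  apply le_ucnOf_two nsS.1
  apply le_cent_symm
  exact cent_of_card_le hp pR (comm_le_of_le nsS.1 le_rfl) (norm_comm nsS.2 le_normalizer)
    (by simpa using card_comm_le hp pR nsS.1 nsS.2 (k := 1) oS)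

theorem ohm1_odd_ucn2 [Finite G] {p : ℕ} (hp : p.Prime) (hp2 : p ≠ 2) {R : Subgroup G}
    (pR : IsPGroup p R) (ncycR : ¬ IsCyclic R) :
    p ^ 2 ≤ Nat.card (ohm1 p (ucnOf 2 R)) ∧ ∀ x ∈ ohm1 p (ucnOf 2 R), x ^ p = 1 := by
  refine ⟨?_, ohm1_exp_of_class hp hp2 (Or.inl (ucnOf_two_class R))⟩
  obtain ⟨S, nsS, -, abS, oS⟩ := ex_normal_p2Elem hp hp2 pR ncycR
  rw [← oS]
  exact Subgroup.card_le_of_le fun x hx =>
    mem_ohm1 (le_ucnOf_two_of_card hp pR nsS oS.le hx) (abS.2 x hx)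

theorem normal_p2Elem_exists [Finite G] {p : ℕ} (hp : p.Prime) (hp2 : p ≠ 2) {R S : Subgroup G}
    (pR : IsPGroup p R) (nsSR : S ⊲ R) (ncycS : ¬ IsCyclic S) :
    ∃ E : Subgroup G, E ⊲ R ∧ IsPnElem p 2 E S := by
  obtain ⟨h1, h2⟩ := ohm1_odd_ucn2 hp hp2 (pR.to_le nsSR.1) ncycS
  have hT : ohm1 p (ucnOf 2 S) ≤ S := (ohm1_le _ _).trans (ucnOf_two_le S)
  obtain ⟨E, h3, h4, h5⟩ := exists_normal_card' hp pR (hT.trans nsSR.1)
    (norm_ohm1 p (norm_ucnOf_two nsSR.2)) 2 h1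
  have hE : E ≤ R := h3.trans (hT.trans nsSR.1)
  exact ⟨E, ⟨hE, h4⟩, h3.trans hT,
    ⟨abelian_of_card_le_sq hp (pR.to_le hE) h5.le, fun x hx => h2 x (h3 hx)⟩, h5⟩

/-- Lemma 5.1(b) (and 4.7). -/
theorem exists_SCN3 [Finite G] {p : ℕ} (hp : p.Prime) (hp2 : p ≠ 2) {R E : Subgroup G}
    (pR : IsPGroup p R) (rR : ¬ RkLE p 2 R) (nsE : E ⊲ R) (abE : IsElementaryAbelian p E) :
    ∃ A : Subgroup G, IsSCN R A ∧ E ≤ A ∧ ¬ RkLE p 2 A := by
  obtain ⟨Z, hEZ, nsZ, abZ, maxZ⟩ := exists_max_normal_abelem nsE abE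
  obtain ⟨A, scnA, hZA⟩ := exists_SCN hp pR nsZ abZ.1
  exact ⟨A, scnA, hEZ.trans hZA, fun h =>
    rR (rkLE_two_of_max_normal hp hp2 pR nsZ abZ maxZ (h Z hZA abZ))⟩

/-! ### Proposition 4.8 -/

theorem card_le_cube_of_exp [Finite G] {p : ℕ} (hp : p.Prime) {R : Subgroup G}
    (rR : RkLE p 2 R) (expR : ∀ x ∈ R, x ^ p = 1) : Nat.card R ≤ p ^ 3 := by
  have pR := isPGroup_of_forall expR
  obtain ⟨A, scnA, -⟩ := exists_SCN hp pR (bot_normalIn R) inferInstance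
  have oA := rR A scnA.1 ⟨scn_abelian scnA, fun a ha => expR a (scnA.1 ha)⟩
  have h := card_le_mul_card_inf le_rfl (relIndex_cent_le hp pR scnA.1 scnA.2.1 oA)
  rw [inf_comm, scnA.2.2] at h
  rw [pow_succ]
  exact h.trans (Nat.mul_le_mul_right _ oA)

/-- A `p`-group `Q = S ⟨y⟩`-like estimate: if `S ⊲ Q` has order at most `p ^ 3`, `x ∈ S`, `y ∈ Q`,
then `⟨x, y⟩` behaves like a group of class three. -/
theorem mul_pow_of_mem_small_normal [Finite G] {p : ℕ} (hp : p.Prime) (hp3 : 3 < p)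
    {Q N : Subgroup G} (pQ : IsPGroup p Q) (nsN : N ⊲ Q) (oN : Nat.card N ≤ p ^ 2) {x y : G}
    (hx : x ∈ Q) (hy : y ∈ Q) (hw : rc y x ∈ N) (hc : Commute y (x ^ p)) :
    (x * y) ^ p = x ^ p * y ^ p := by
  have o2 : Nat.card (⁅N, Q⁆ : Subgroup G) ≤ p := by
    simpa using card_comm_le hp pQ nsN.1 nsN.2 (k := 1) oN
  have c2 := cent_of_card_le hp pQ (comm_le_of_le nsN.1 le_rfl) (norm_comm nsN.2 le_normalizer) o2
  have c := fun {a b : G} (ha : a ∈ ⁅N, Q⁆) (hb : b ∈ Q) => (commute_of_mem_cent (c2 hb) ha).symm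
  have ha := rc_mem hw hx
  have hb := rc_mem hw hy
  have hwQ := nsN.1 hw
  exact mul_pow_of_class3 hp hp3 (rc_spec y x) (rc_spec _ x) (rc_spec _ y) (c ha hx) (c ha hy)
    (c ha hwQ) (c hb hx) (c hb hy) (c hb hwQ) (c ha (comm_le_of_le nsN.1 le_rfl hb))
    (comm_pow_eq_one hp (by omega) (rc_spec y x) (rc_spec _ x) (c ha hx) (c ha hwQ) hc)

theorem ohm1_exp_rank2 [Finite G] {p : ℕ} (hp : p.Prime) (hp3 : 3 < p) {R : Subgroup G}
    (pR : IsPGroup p R) (rR : RkLE p 2 R) : ∀ x ∈ ohm1 p R, x ^ p = 1 := by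
  induction R using WellFoundedLT.induction with
  | ind R ih =>
  apply ohm1_exp
  intro x hx y hy hxp hyp
  by_cases hxR : zpowers x = R
  · rw [(commute_of_abelian (hxR ▸ abelian_zpowers x) hx hy).mul_pow, hxp, hyp, one_mul]
  obtain ⟨M, h1, h2, h3⟩ := exists_normal_lt hp pR (lt_of_le_of_ne (zpowers_le.2 hx) hxR)
  have hS := ih M h2 (pR.to_le h2.le) (rR.mono h2.le)
  have hSR : ohm1 p M ≤ R := (ohm1_le p M).trans h2.le
  have oS := card_le_cube_of_exp hp (rR.mono hSR) hS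
  have nS := norm_ohm1 p h3
  have hxS : x ∈ ohm1 p M := mem_ohm1 (h1 (mem_zpowers x)) hxp
  rw [mul_pow_of_mem_small_normal hp hp3 pR
    (N := ⁅ohm1 p M, R⁆) ⟨comm_le_of_le hSR le_rfl, norm_comm nS le_normalizer⟩
    (card_comm_le hp pR hSR nS oS) hx hy (by rw [commutator_comm]; exact rc_mem hy hxS)
    (by rw [hxp]; exact Commute.one_right _), hxp, hyp, one_mul]

theorem realizeEqnsP04b : True := by
  have := @CA.BG.P04.powHom.eq_1.{0}
  have := @CA.BG.P04.powHom.eq_def.{0}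
  have := @CA.BG.P04.powHom.congr_simp.{0}
  have := @CA.BG.P04.RkLE.eq_1.{0}
  have := @CA.BG.P04.RkLE.eq_def.{0}
  have := @CA.BG.P04.RkLE.congr_simp.{0}
  trivial

end CA.BG.P04
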