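/-
B & G section 4: rank bridges, groups of order `p ^ 3`, Lemmas 4.4(b), 4.9 - 4.11.
-/
import Cfsg.Agent.FG.Core
import Cfsg.Agent.BG.P04b

set_option autoImplicit false

namespace CA.BG.P04

open Cfsg CA.FG Subgroup

universe u v

variable {G : Type u} [Group G]

/-! ### ranks -/

theorem pnElem_bot (p : ℕ) (R : Subgroup G) : IsPnElem p 0 ⊥ R :=
  ⟨bot_le, abelem_bot p, by simp⟩

theorem le_card_of_pnElem [Finite G] {p n : ℕ} (hp : p.Prime) {A R : Subgroup G}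
    (h : IsPnElem p n A R) : n ≤ Nat.card G := by
  have h1 : Nat.card A ≤ Nat.card G := Nat.card_le_card_of_injective _ Subtype.val_injective
  rw [h.2.2] at h1
  exact (Nat.lt_pow_self hp.one_lt).le.trans h1

theorem pRank_le_iff [Finite G] {p k : ℕ} (hp : p.Prime) {R : Subgroup G} :
    pRank p R ≤ k ↔ RkLE p k R := by
  have bdd : BddAbove {n | ∃ A, IsPnElem p n A R} :=
    ⟨Nat.card G, fun n ⟨A, hA⟩ => le_card_of_pnElem hp hA⟩
  constructor
  · intro h B hB hE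
    obtain ⟨n, hn⟩ := card_pow hp (abelem_pgroup hE)
    rw [hn, pow_le_pow_iff hp]
    exact (le_csSup bdd ⟨B, hB, hE, hn⟩).trans h
  · intro h
    refine csSup_le ⟨0, ⊥, pnElem_bot p R⟩ ?_
    rintro n ⟨A, h1, h2, h3⟩
    rw [← pow_le_pow_iff hp, ← h3]
    exact h A h1 h2

theorem rank_le_iff [Finite G] {k : ℕ} {R : Subgroup G} :
    rank R ≤ k ↔ ∀ p : ℕ, p.Prime → RkLE p k R := by
  have bdd : BddAbove {n | ∃ p, p.Prime ∧ ∃ A, IsPnElem p n A R} :=
    ⟨Nat.card G, fun n ⟨p, hp, A, hA⟩ => le_card_of_pnElem hp hA⟩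
  constructor
  · intro h p hp B hB hE
    obtain ⟨n, hn⟩ := card_pow hp (abelem_pgroup hE)
    rw [hn, pow_le_pow_iff hp]
    exact (le_csSup bdd ⟨p, hp, B, hB, hE, hn⟩).trans h
  · intro h
    refine csSup_le ⟨0, 2, Nat.prime_two, ⊥, pnElem_bot 2 R⟩ ?_
    rintro n ⟨p, hp, A, h1, h2, h3⟩
    rw [← pow_le_pow_iff hp, ← h3]
    exact h p hp A h1 h2

theorem rkLE_of_not_dvd [Finite G] {p k : ℕ} (hp : p.Prime) {R : Subgroup G}
    (h : ¬ p ∣ Nat.card R) : RkLE p k R := by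
  intro B hB hE
  have : B = ⊥ := by
    by_contra nt
    exact h (((isPGrp_of hp (abelem_pgroup hE)).dvd_card nt).trans (card_dvd_of_le hB))
  rw [this, card_bot]
  exact Nat.one_le_pow _ _ hp.pos

theorem rank_le_iff_of_pgroup [Finite G] {p k : ℕ} (hp : p.Prime) {R : Subgroup G}
    (pR : IsPGroup p R) : rank R ≤ k ↔ RkLE p k R := by
  rw [rank_le_iff]
  refine ⟨fun h => h p hp, fun h q hq => ?_⟩
  by_cases e : q = p
  · exact e ▸ h
  · exact rkLE_of_not_dvd hq fun hd => e (isPGrp_of hp pR q hq hd)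

theorem rank_le_iff_rankLE [Finite G] {k : ℕ} {R : Subgroup G} : rank R ≤ k ↔ RankLE k R := by
  rw [rank_le_iff]
  exact forall₂_congr fun p _ => rkLE_iff_pRankLE

theorem lt_pRank_iff [Finite G] {p k : ℕ} (hp : p.Prime) {R : Subgroup G} :
    k < pRank p R ↔ ¬ RkLE p k R := by
  rw [← pRank_le_iff hp, not_le]

theorem lt_rank_iff_of_pgroup [Finite G] {p k : ℕ} (hp : p.Prime) {R : Subgroup G}
    (pR : IsPGroup p R) : k < rank R ↔ ¬ RkLE p k R := by
  rw [← rank_le_iff_of_pgroup hp pR, not_le]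

theorem rkLE_top_iff {p k : ℕ} : RkLE p k (⊤ : Subgroup G) ↔ PRankLE p k G :=
  ⟨fun h A h1 h2 => h A le_top ⟨h1, h2⟩, fun h A _ h2 => h A h2.1 h2.2⟩

theorem abelem_map {G' : Type v} [Group G'] {p : ℕ} {A : Subgroup G} (f : G →* G')
    (h : IsElementaryAbelian p A) : IsElementaryAbelian p (A.map f) :=
  ⟨abelian_map f h.1, by
    rintro _ ⟨a, ha, rfl⟩
    rw [← map_pow, h.2 a ha, map_one]⟩

theorem abelem_of_map_inj {G' : Type v} [Group G'] {p : ℕ} {A : Subgroup G} {f : G →* G'}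
    (hf : Function.Injective f) (h : IsElementaryAbelian p (A.map f)) : IsElementaryAbelian p A :=
  ⟨abelian_of_map_inj hf h.1, fun a ha => hf (by
    rw [map_pow, map_one]; exact h.2 _ (mem_map_of_mem f ha))⟩

theorem rkLE_map_iff_of_inj {G' : Type v} [Group G'] {p k : ℕ} {R : Subgroup G} {f : G →* G'}
    (hf : Function.Injective f) : RkLE p k (R.map f) ↔ RkLE p k R := by
  constructor
  · intro h B hB hE
    rw [← card_map_of_injective hf]
    exact h _ (map_mono hB) (abelem_map f hE)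
  · intro h B hB hE
    have e : (B.comap f).map f = B := map_comap_eq_self (hB.trans (map_le_range f R))
    rw [← e, card_map_of_injective hf]
    refine h _ ?_ (abelem_of_map_inj hf (e.symm ▸ hE))
    rw [← comap_map_eq_self_of_injective hf R]
    exact comap_mono hB

theorem ohm1_map_le {G' : Type v} [Group G'] (p : ℕ) (R : Subgroup G) (f : G →* G') :
    (ohm1 p R).map f ≤ ohm1 p (R.map f) := by
  rw [map_le_iff_le_comap, ohm1_le_iff]
  intro x hx h
  exact mem_ohm1 (mem_map_of_mem f hx) (by rw [← map_pow, h, map_one])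

theorem ohm1_map_of_inj {G' : Type v} [Group G'] (p : ℕ) (R : Subgroup G) {f : G →* G'}
    (hf : Function.Injective f) : (ohm1 p R).map f = ohm1 p (R.map f) := by
  refine le_antisymm (ohm1_map_le p R f) (ohm1_le_iff.2 ?_)
  rintro _ ⟨x, hx, rfl⟩ h
  exact mem_map_of_mem f (mem_ohm1 hx (hf (by rw [map_pow, h, map_one])))

/-! ### Frattini subgroup -/

theorem frattiniOf_le_of_maximal {M R : Subgroup G} (h : MaximalIn M R) : frattiniOf R ≤ M := by
  have hc : IsCoatom (M.subgroupOf R) := by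
    refine ⟨fun e => h.1.not_ge (subgroupOf_eq_top.1 e), fun W hW => ?_⟩
    by_contra hne
    have h1 : W.map R.subtype < R := by
      refine lt_of_le_of_ne (map_subtype_le W) fun e => hne ?_
      rw [← subgroupOf_map_subtype' W, e, subgroupOf_self]
    have h2 := h.2 _ (by
      rw [← map_subtype_subgroupOf h.1.le]; exact map_mono hW.le) h1
    apply hW.ne'
    rw [← h2, subgroupOf_map_subtype']
  unfold frattiniOf
  rw [← map_subtype_subgroupOf h.1.le]
  exact map_mono (frattini_le_coatom hc)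

theorem le_frattiniOf {K R : Subgroup G} (hK : K ≤ R) (h : ∀ M, MaximalIn M R → K ≤ M) :
    K ≤ frattiniOf R := by
  unfold frattiniOf
  rw [← map_subtype_subgroupOf hK]
  apply map_mono
  change K.subgroupOf R ≤ ⨅ M ∈ {H : Subgroup R | IsCoatom H}, M
  refine le_iInf₂ fun M hM => ?_
  have hM : IsCoatom M := hM
  rw [← subgroupOf_map_subtype' M]
  apply comap_mono
  apply h
  refine ⟨lt_of_le_of_ne (map_subtype_le M) fun e => hM.1 ?_, fun W h1 h2 => ?_⟩
  · rw [← subgroupOf_map_subtype' M, e, subgroupOf_self]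
  · have h3 : M ≤ W.subgroupOf R := by
      rw [← subgroupOf_map_subtype' M]; exact comap_mono h1
    rcases h3.eq_or_lt with e | e
    · rw [e, map_subtype_subgroupOf h2.le]
    · exact absurd (subgroupOf_eq_top.1 (hM.2 _ e)) h2.not_ge

theorem frattiniOf_le (R : Subgroup G) : frattiniOf R ≤ R := map_subtype_le _

/-! ### small groups -/

theorem card_der_le [Finite G] {p : ℕ} (hp : p.Prime) {S : Subgroup G} (pS : IsPGroup p S) {k : ℕ}
    (h : Nat.card S ≤ p ^ (k + 2)) : Nat.card (⁅S, S⁆ : Subgroup G) ≤ p ^ k := by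
  by_cases hS : S = ⊥
  · rw [hS, commutator_bot_left, card_bot]
    exact Nat.one_le_pow _ _ hp.pos
  obtain ⟨n, hn⟩ := card_pow hp pS
  obtain _ | n := n
  · exact absurd (card_eq_one.1 (by simpa using hn)) hS
  obtain ⟨M, h1, h2, h3⟩ := exists_normal_card' hp pS le_rfl le_normalizer n
    (by rw [hn]; exact (pow_le_pow_iff hp).2 (Nat.le_succ n))
  have hi : M.relIndex S = p := by
    have := card_mul_relIndex h1
    rw [h3, hn, pow_succ] at this
    exact Nat.eq_of_mul_eq_mul_left (pow_pos hp.pos n) this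
  have hlt : ¬ S ≤ M := fun e => by
    rw [relIndex_eq_one.2 e] at hi
    exact hp.one_lt.ne hi
  obtain ⟨y, hy, hyM⟩ := SetLike.not_le_iff_exists.1 hlt
  have e := eq_sup_zpowers_of_relIndex hp h1 hi hy hyM
  have h4 : ⁅S, S⁆ ≤ ⁅M, S⁆ := by
    conv_lhs => rw [← e]
    rw [comm_sup_self (zpowers_le.2 (h2 hy))]
    refine sup_le (sup_le (commutator_mono le_rfl h1) (commutator_mono le_rfl (zpowers_le.2 hy))) ?_
    rw [comm_eq_bot_iff.2 (abelian_iff_le_cent.1 (abelian_zpowers y))]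
    exact bot_le
  refine (Subgroup.card_le_of_le h4).trans (card_comm_le hp pS h1 h2 ?_)
  rw [hn, pow_le_pow_iff hp] at h
  rw [h3, pow_le_pow_iff hp]
  omega

theorem card_center_mul_le [Finite G] {p : ℕ} (hp : p.Prime) {R : Subgroup G} (pR : IsPGroup p R)
    (nabR : ¬ IsMulCommutative R) : Nat.card ↥𝒵(R) * p ^ 2 ≤ Nat.card R := by
  have nZ := center_normalIn R
  have pQ : IsPGroup p (R /ₛ 𝒵(R)) := isPGroup_of hp ((isPGrp_of hp pR).quot _)
  rw [← card_mul_card_quot nZ]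
  apply Nat.mul_le_mul_left
  apply pow_le_card_of_lt hp pQ
  by_contra hle
  rw [pow_one, not_lt] at hle
  exact nabR (abelian_of_cyclic_quot nZ.1 (le_cent_symm inf_le_right) (cyclic_of_card_le hp pQ hle))

theorem p3group_extraspecial [Finite G] {p : ℕ} (hp : p.Prime) {R : Subgroup G} (pR : IsPGroup p R)
    (nabR : ¬ IsMulCommutative R) (oR : Nat.card R ≤ p ^ 3) :
    Nat.card R = p ^ 3 ∧ Nat.card ↥𝒵(R) = p ∧ ⁅R, R⁆ = 𝒵(R) ∧ frattiniOf R = 𝒵(R) := by
  have o3 : Nat.card R = p ^ 3 := by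
    refine le_antisymm oR (pow_le_card_of_lt hp pR ?_)
    by_contra h
    exact nabR (abelian_of_card_le_sq hp pR (not_lt.1 h))
  have oZ : Nat.card ↥𝒵(R) ≤ p := by
    have := card_center_mul_le hp pR nabR
    rw [o3, pow_succ' p 2] at this
    exact Nat.le_of_mul_le_mul_right this (pow_pos hp.pos 2)
  have ntD : ⁅R, R⁆ ≠ ⊥ := fun e => nabR (abelian_iff_le_cent.2 (comm_eq_bot_iff.1 e))
  have oD : Nat.card (⁅R, R⁆ : Subgroup G) ≤ p := by
    simpa using card_der_le hp pR (k := 1) oR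
  have hD : ⁅R, R⁆ ≤ 𝒵(R) := le_inf (der_normalIn R).1
    (le_cent_symm (cent_of_card_le hp pR (der_normalIn R).1 (der_normalIn R).2 oD))
  have oD' := le_card_of_ne_bot hp (pR.to_le (der_normalIn R).1) ntD
  have oZ' : Nat.card ↥𝒵(R) = p := le_antisymm oZ (oD'.trans (Subgroup.card_le_of_le hD))
  refine ⟨o3, oZ', eq_of_le_of_card_le hD (oZ.trans oD'), le_antisymm ?_ ?_⟩
  · refine le_inf (frattiniOf_le R) (le_cent_iff_forall_le.2 fun x hx => ?_)
    by_cases hc : R ≤ 𝒞[x]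
    · exact (frattiniOf_le R).trans hc
    refine (frattiniOf_le_of_maximal (M := R ⊓ 𝒞[x]) ⟨?_, fun W h1 h2 => ?_⟩).trans inf_le_right
    · exact lt_of_le_of_ne inf_le_left fun e => hc (inf_eq_left.1 e)
    · have h3 : 𝒵(R) < R ⊓ 𝒞[x] := by
        refine lt_of_le_of_ne (inf_le_inf_left _ (cent_le_cent_singleton hx)) fun e => hc ?_
        have : x ∈ 𝒵(R) := e ▸ ⟨hx, mem_cent_singleton_self x⟩
        exact mem_cent_iff_le_cent_singleton.1 this.2
      have h4 := mul_card_le_of_lt hp (pR.to_le inf_le_left) h3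
      have h5 := mul_card_le_of_lt hp pR h2
      refine (eq_of_le_of_card_le h1 ?_).symm
      rw [oZ'] at h4
      rw [o3, pow_succ' p 2, sq] at h5
      exact (Nat.le_of_mul_le_mul_left h5 hp.pos).trans h4
  · refine le_frattiniOf inf_le_left fun M hM => ?_
    by_contra hZ
    have h5 := mul_card_le_of_lt hp pR hM.1
    rw [o3, pow_succ' p 2] at h5
    have abM := abelian_of_card_le_sq hp (pR.to_le hM.1.le) (Nat.le_of_mul_le_mul_left h5 hp.pos)
    have h6 : M ⊔ 𝒵(R) = R := by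
      by_contra hne
      exact hZ (le_sup_right.trans (hM.2 _ le_sup_left
        (lt_of_le_of_ne (sup_le hM.1.le inf_le_left) hne)).le)
    exact nabR (h6 ▸ abelian_sup abM (abelian_inf_cent R)
      (hM.1.le.trans (le_cent_symm inf_le_right)))

/-! ### Proposition 4.4(b) -/

theorem scn_sylow_cent_dprod [Finite G] {p : ℕ} {R H A : Subgroup G} (sylR : IsSylowOf p R H)
    (scnA : IsSCN R A) : DProd A (pPrimeCoreOf p (H ⊓ 𝒞(A))) (H ⊓ 𝒞(A)) := by
  have h1 : IsSylowOf p R (H ⊓ 𝒩(A)) := sylR.of_le (le_inf sylR.le scnA.2.1) inf_le_left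
  have nC : H ⊓ 𝒞(A) ⊲ H ⊓ 𝒩(A) :=
    ⟨inf_le_inf_left _ (cent_le_norm A), norm_inf (norm_of_le inf_le_left) (norm_cent inf_le_right)⟩
  have h2 := h1.inf_normal nC
  rw [← inf_assoc, inf_eq_left.2 sylR.le, scnA.2.2] at h2
  obtain ⟨K, hK⟩ := h2.exists_sdprod (norm_of_cent inf_le_right)
  have hD : DProd A K (H ⊓ 𝒞(A)) := ⟨hK.1, hK.right_le.trans inf_le_right⟩
  have e : pPrimeCoreOf p (H ⊓ 𝒞(A)) = K := (hK.1.pHall_compl h2).pcore_eq hD.right_normal.2
  rwa [e]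

/-! ### Lemma 4.9 -/

theorem card_ohm1_map_le_of_ker [Finite G] {G' : Type v} [Group G'] [Finite G'] {p : ℕ}
    (hp : p.Prime) (hp3 : 3 < p) {R : Subgroup G} (pR : IsPGroup p R)
    (hΩ : Nat.card (ohm1 p R) ≤ p ^ 2) (f : G →* G')
    (hk : Nat.card (f.ker ⊓ R : Subgroup G) ≤ p) : Nat.card (ohm1 p (R.map f)) ≤ p ^ 2 := by
  by_contra hlt
  have pQ : IsPGroup p (R.map f) := pR.map f
  obtain ⟨B, hB, oB, eB⟩ : ∃ B : Subgroup G', B ≤ R.map f ∧ Nat.card B = p ^ 3 ∧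
      ∀ x ∈ B, x ^ p = 1 := by
    by_cases hr : RkLE p 2 (R.map f)
    · have pΩ := pQ.to_le (ohm1_le p _)
      obtain ⟨B, h1, h2⟩ := exists_sub_card hp pΩ 3 (pow_le_card_of_lt hp pΩ (not_le.1 hlt))
      exact ⟨B, h1.trans (ohm1_le _ _), h2, fun x hx => ohm1_exp_rank2 hp hp3 pQ hr x (h1 hx)⟩
    · obtain ⟨B, h1, h2, h3⟩ := exists_abelem_of_not_rkLE hp hr
      exact ⟨B, h1, h3, h2.2⟩
  set S := B.comap f ⊓ R with hS
  have mS : S.map f = B := by
    refine le_antisymm (map_le_iff_le_comap.2 inf_le_left) fun y hy => ?_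
    obtain ⟨x, hx, rfl⟩ := hB hy
    exact mem_map_of_mem f ⟨hy, hx⟩
  have pS : IsPGroup p S := pR.to_le inf_le_right
  have oS := card_map_mul_card_inf_ker S f
  rw [mS, oB] at oS
  have hkS : f.ker ⊓ S ≤ f.ker ⊓ R := inf_le_inf_left _ inf_le_right
  have oS' : Nat.card S ≤ p ^ (2 + 2) := by
    rw [← oS, pow_succ p 3]
    exact Nat.mul_le_mul_left _ ((Subgroup.card_le_of_le hkS).trans hk)
  have cT := cent_of_card_le hp pR (C := f.ker ⊓ R) inf_le_right
    (norm_inf (le_normalizer_of_normal) le_normalizer) hk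
  have hpow : ∀ x ∈ S, x ^ p ∈ f.ker ⊓ S := fun x hx =>
    ⟨MonoidHom.mem_ker.2 (by rw [map_pow]; exact eB _ hx.1), S.pow_mem hx p⟩
  obtain ⟨P, hP, oP⟩ := card_pow_image (p := p) (H := S) fun x hx y hy =>
    mul_pow_of_mem_small_normal hp hp3 pS (der_normalIn S) (card_der_le hp pS oS') hx hy
      (rc_mem hy hx) (commute_of_mem_cent (cT hy.2) (hkS (hpow x hx)))
  have h1 : Nat.card P ≤ Nat.card (f.ker ⊓ S : Subgroup G) :=
    Subgroup.card_le_of_le fun y hy => by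
      obtain ⟨x, hx, rfl⟩ := (hP y).1 hy
      exact hpow x hx
  have h2 : Nat.card (ohm1 p S) ≤ p ^ 2 :=
    (Subgroup.card_le_of_le (ohm1_mono p inf_le_right)).trans hΩ
  have h3 := Nat.mul_le_mul h1 h2
  rw [oP, ← oS, mul_comm] at h3
  have h4 := Nat.le_of_mul_le_mul_left h3 Nat.card_pos
  rw [pow_le_pow_iff hp] at h4
  omega

theorem card_ohm1_map_le_aux {G' : Type v} [Group G'] [Finite G'] {p : ℕ}
    (hp : p.Prime) (hp3 : 3 < p) (n : ℕ) : ∀ (G : Type u) [Group G] [Finite G], Nat.card G = n →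
    IsPGroup p G → Nat.card (ohm1 p (⊤ : Subgroup G)) ≤ p ^ 2 → ∀ f : G →* G',
      Nat.card (ohm1 p ((⊤ : Subgroup G).map f)) ≤ p ^ 2 := by
  induction n using Nat.strong_induction_on with
  | _ n ih =>
  intro G _ _ hn pG hΩ f
  have pT : IsPGroup p (⊤ : Subgroup G) := pG.to_subgroup ⊤
  by_cases hk : f.ker = ⊥
  · rw [← ohm1_map_of_inj p ⊤ ((MonoidHom.ker_eq_bot_iff f).1 hk)]
    exact (Nat.le_of_dvd Nat.card_pos (card_map_dvd' _ _)).trans hΩ
  obtain ⟨z, hz, hz1, hzp, hzc⟩ := exists_central_order_p hp pT le_top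
    (le_normalizer_of_normal (H := f.ker)) hk
  have nN : (zpowers z).Normal :=
    normal_of_top_le_norm (norm_of_cent' (zpowers_le.2 hzc))
  have oN := card_zpowers_of_pow hp hz1 hzp
  have h1 := card_ohm1_map_le_of_ker hp hp3 pT hΩ (QuotientGroup.mk' (zpowers z))
    (by rw [QuotientGroup.ker_mk', inf_top_eq, oN])
  rw [map_top_of_surjective _ (QuotientGroup.mk'_surjective _)] at h1
  have h2 := ih (Nat.card (G ⧸ zpowers z)) (by
      rw [← hn, (zpowers z).card_eq_card_quotient_mul_card_subgroup, oN]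
      exact lt_mul_of_one_lt_right Nat.card_pos hp.one_lt) (G ⧸ zpowers z) rfl
    (pG.to_quotient _) h1 (QuotientGroup.lift (zpowers z) f (zpowers_le.2 hz))
  rw [← map_top_of_surjective _ (QuotientGroup.mk'_surjective (zpowers z)), map_map] at h2
  exact h2

theorem card_ohm1_map_le [Finite G] {G' : Type v} [Group G'] [Finite G'] {p : ℕ}
    (hp : p.Prime) (hp3 : 3 < p) {R : Subgroup G} (pR : IsPGroup p R)
    (hΩ : Nat.card (ohm1 p R) ≤ p ^ 2) (f : G →* G') : Nat.card (ohm1 p (R.map f)) ≤ p ^ 2 := by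
  have h := card_ohm1_map_le_aux hp hp3 _ R rfl pR (by
    rwa [← card_map_of_injective R.subtype_injective, ohm1_map_of_inj p ⊤ R.subtype_injective,
      map_subtype_top]) (f.comp R.subtype)
  rwa [← map_map, map_subtype_top] at h

theorem card_ohm1_img_le [Finite G] {G' : Type v} [Group G'] [Finite G'] {p : ℕ}
    (hp : p.Prime) (hp3 : 3 < p) {R D : Subgroup G} (pR : IsPGroup p R)
    (hΩ : Nat.card (ohm1 p R) ≤ p ^ 2) (hD : R ≤ D) (f : D →* G') :
    Nat.card (ohm1 p (img f R)) ≤ p ^ 2 := by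
  refine card_ohm1_map_le hp hp3 (isPGroup_of hp ((isPGrp_of hp pR).subgroupOf D)) ?_ f
  rwa [← card_map_of_injective D.subtype_injective, ohm1_map_of_inj p _ D.subtype_injective,
    map_subtype_subgroupOf hD]

/-! ### metacyclic groups -/

/-- `R` is metacyclic, in terms of generators. -/
def Meta (R : Subgroup G) : Prop :=
  ∃ a ∈ R, ∃ b ∈ R, R ≤ 𝒩(zpowers a) ∧ zpowers a ⊔ zpowers b = R

theorem quot_eq_zpowers {S R : Subgroup G} {b : G} (hb : b ∈ 𝒩(S)) (h : S ⊔ zpowers b = R) :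
    R /ₛ S = zpowers (coset S ⟨b, hb⟩) := by
  rw [← h, quot_sup_self_left (zpowers_le.2 hb)]
  exact quot_zpowers ⟨b, hb⟩

theorem exists_sup_zpowers_of_cyclic_quot {S R : Subgroup G} (nS : S ⊲ R) (h : IsCyclic (R /ₛ S)) :
    ∃ b ∈ R, S ⊔ zpowers b = R := by
  obtain ⟨y, hy, e⟩ := cyclic_iff_eq_zpowers.1 h
  obtain ⟨x, hx, rfl⟩ := mem_quot.1 hy
  refine ⟨x, hx, ?_⟩
  rw [← quot_zpowers] at e
  rw [← quotPre_quot (zpowers_le.2 x.2), ← e, quotPre_quot_of_normal nS]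

theorem meta_of_normal {S R : Subgroup G} (nS : S ⊲ R) (cS : IsCyclic S) (h : IsCyclic (R /ₛ S)) :
    Meta R := by
  obtain ⟨a, ha, rfl⟩ := cyclic_iff_eq_zpowers.1 cS
  obtain ⟨b, hb, e⟩ := exists_sup_zpowers_of_cyclic_quot nS h
  exact ⟨a, nS.1 ha, b, hb, nS.2, e⟩

theorem Meta.exists_normal {R : Subgroup G} (h : Meta R) :
    ∃ S : Subgroup G, S ⊲ R ∧ IsCyclic S ∧ IsCyclic (R /ₛ S) := by
  obtain ⟨a, ha, b, hb, h1, h2⟩ := h
  refine ⟨zpowers a, ⟨zpowers_le.2 ha, h1⟩, cyclic_zpowers a, ?_⟩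
  rw [quot_eq_zpowers (h1 hb) h2]
  exact cyclic_zpowers _

theorem meta_iff {R : Subgroup G} : Meta R ↔ IsMetacyclic R := by
  constructor
  · intro h
    obtain ⟨S, nS, cS, cQ⟩ := h.exists_normal
    have := normal_subgroupOf_of_normalIn nS
    obtain ⟨e⟩ := quot_equiv_quotient nS.2
    exact ⟨S.subgroupOf R, inferInstance, (subgroupOf_cyclic_iff nS.1).2 cS, e.isCyclic.2 cQ⟩
  · rintro ⟨N, nN, cN, cQ⟩
    refine meta_of_normal (normalIn_map_subtype N) (cyclic_map _ cN) ?_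
    obtain ⟨e⟩ := map_mk'_equiv_quot N ⊤
    rw [map_subtype_top] at e
    refine e.isCyclic.1 ?_
    rw [map_top_of_surjective _ (QuotientGroup.mk'_surjective N)]
    exact cyclic_top_iff.2 cQ

theorem Meta.of_le {R H : Subgroup G} (h : Meta R) (hH : H ≤ R) : Meta H := by
  obtain ⟨S, nS, cS, cQ⟩ := h.exists_normal
  have nS' : H ⊓ S ⊲ H := inf_normalIn_of_norm (hH.trans nS.2)
  refine meta_of_normal nS' (cyclic_of_le cS inf_le_right) ?_
  have c1 : IsCyclic (H /ₛ S) := cyclic_of_le cQ (quot_mono S hH)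
  have := normal_subgroupOf_of_normalIn nS'
  have : (S.subgroupOf H).Normal := by
    rw [← inf_subgroupOf_left]; infer_instance
  obtain ⟨e1⟩ := quot_equiv_quotient (hH.trans nS.2)
  obtain ⟨e2⟩ := quot_equiv_quotient nS'.2
  exact e2.isCyclic.1 ((QuotientGroup.quotientMulEquivOfEq (inf_subgroupOf_left S H)).isCyclic.2
    (e1.isCyclic.2 c1))

theorem Meta.map {G' : Type v} [Group G'] {R : Subgroup G} (h : Meta R) (f : G →* G') :
    Meta (R.map f) := by
  obtain ⟨a, ha, b, hb, h1, h2⟩ := h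
  refine ⟨f a, mem_map_of_mem f ha, f b, mem_map_of_mem f hb, ?_, ?_⟩
  · rw [← MonoidHom.map_zpowers]; exact map_norm f h1
  · rw [← h2, Subgroup.map_sup, MonoidHom.map_zpowers, MonoidHom.map_zpowers]

theorem meta_of_cyclic {R : Subgroup G} (h : IsCyclic R) : Meta R := by
  obtain ⟨a, ha, rfl⟩ := cyclic_iff_eq_zpowers.1 h
  exact ⟨a, ha, a, ha, le_normalizer, sup_idem _⟩

theorem ohm1_le_quotPre {p : ℕ} {R S : Subgroup G} (nS : R ≤ 𝒩(S)) :
    ohm1 p R ≤ quotPre S (ohm1 p (R /ₛ S)) := by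
  rw [ohm1_le_iff]
  intro x hx h
  refine mem_quotPre.2 ⟨nS hx, mem_ohm1 (mem_quot_of_mem _ hx) ?_⟩
  rw [← map_pow, coset_eq_one_iff, Subgroup.coe_pow, h]
  exact one_mem _

/-- Lemma 4.10. -/
theorem ohm1_meta_p2Elem [Finite G] {p : ℕ} (hp : p.Prime) (hp2 : p ≠ 2) {R : Subgroup G}
    (metaR : Meta R) (pR : IsPGroup p R) (ncycR : ¬ IsCyclic R) : IsPnElem p 2 (ohm1 p R) R := by
  obtain ⟨S, nS, cS, cQ⟩ := metaR.exists_normal
  obtain ⟨a, ha, rfl⟩ := cyclic_iff_eq_zpowers.1 cS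
  have pQ : IsPGroup p (R /ₛ zpowers a) := isPGroup_of hp ((isPGrp_of hp pR).quot _)
  have ntQ : R /ₛ zpowers a ≠ ⊥ := fun e =>
    ncycR (cyclic_of_le cS ((quot_eq_bot_iff nS.2).1 e))
  set T := quotPre (zpowers a) (ohm1 p (R /ₛ zpowers a)) with hT
  have hTR : T ≤ R := quotPre_le_of_le_quot nS.1 (ohm1_le _ _)
  have e : ohm1 p T = ohm1 p R := ohm1_eq_of_le (ohm1_le_quotPre nS.2) hTR
  have ncT : ¬ IsCyclic T := fun h =>
    ncycR (cyclic_of_card_ohm1_le hp hp2 pR (e ▸ card_ohm1_le_of_cyclic hp h))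
  have := ohm1_extremal_odd hp hp2 (pR.to_le hTR) ncT (le_quotPre _ ha)
    (by rw [hT, relIndex_quotPre_self, card_ohm1_of_cyclic hp pQ cQ ntQ])
  rw [e] at this
  exact ⟨ohm1_le _ _, this.2⟩

theorem eq_one_of_mem_zpowers_pow {p : ℕ} (hp : p.Prime) {d : G} {k : ℕ} (hk : d ^ p ^ k = 1)
    (h : d ∈ zpowers (d ^ p)) : d = 1 := by
  rw [mem_zpowers_pow_iff] at h
  obtain ⟨m, -, hm⟩ := (Nat.dvd_prime_pow hp).1 (orderOf_dvd_of_pow_eq_one hk)
  obtain _ | m := m
  · exact orderOf_eq_one_iff.1 (by simpa using hm)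
  · rw [hm, pow_succ, Nat.gcd_mul_left_right] at h
    exact absurd h hp.one_lt.ne'

theorem mem_zpowers_pow_of_not_dvd {p : ℕ} (hp : p.Prime) {d : G} {k j : ℕ} (hk : d ^ p ^ k = 1)
    (h : ¬ p ∣ j) : d ∈ zpowers (d ^ j) := by
  rw [mem_zpowers_pow_iff]
  obtain ⟨m, -, hm⟩ := (Nat.dvd_prime_pow hp).1 (orderOf_dvd_of_pow_eq_one hk)
  rw [hm]
  exact (((Nat.Prime.coprime_iff_not_dvd hp).2 h).symm).pow_right m

theorem meta_of_der_le [Finite G] {p : ℕ} (hp : p.Prime) (hp2 : p ≠ 2) {R : Subgroup G}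
    (pR : IsPGroup p R) (hΩ : Nat.card (ohm1 p R) ≤ p ^ 2) {z : G} (hz : z ∈ R) (hz1 : z ≠ 1)
    (hzp : z ^ p = 1) (hzc : z ∈ 𝒞(R)) (hD : ⁅R, R⁆ ≤ zpowers z) : Meta R := by
  obtain ⟨S, hzS, ⟨hSR, cS⟩, maxS⟩ := exists_max_subgroup
    (P := fun S : Subgroup G => S ≤ R ∧ IsCyclic S) (H := zpowers z)
    ⟨zpowers_le.2 hz, cyclic_zpowers z⟩
  have nS : S ⊲ R := ⟨hSR, norm_of_comm_le hSR (hD.trans hzS)⟩
  refine meta_of_normal nS cS ?_
  have pQ : IsPGroup p (R /ₛ S) := isPGroup_of hp ((isPGrp_of hp pR).quot _)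
  apply cyclic_of_card_ohm1_le hp hp2 pQ
  have abQ : IsMulCommutative (R /ₛ S) := (quot_abelian_iff nS.2).2 (hD.trans hzS)
  set T := quotPre S (ohm1 p (R /ₛ S)) with hT
  have hTR : T ≤ R := quotPre_le_of_le_quot nS.1 (ohm1_le _ _)
  have hcl : ⁅⁅R, R⁆, R⁆ = ⊥ := comm_eq_bot_iff.2 (hD.trans (zpowers_le.2 hzc))
  obtain ⟨P, hP, oP⟩ := card_pow_image (p := p) (H := T) fun x hx y hy =>
    mul_pow_of_sub_class hp hp2 (Or.inl hcl) (hTR hx) (hTR hy)
      (Or.inr ((abelem_zpowers hzp).2 _ (hD (rc_mem (hTR hy) (hTR hx)))))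
  have hPS : P ≤ S := fun y hy => by
    obtain ⟨x, hx, rfl⟩ := (hP y).1 hy
    obtain ⟨h1, h2⟩ := mem_quotPre.1 hx
    have := ohm1_exp_of_abelian abQ _ h2
    rwa [← map_pow, coset_eq_one_iff] at this
  have hne : P ≠ S := fun e => by
    obtain ⟨c, hc, hcS⟩ := cyclic_iff_eq_zpowers.1 cS
    obtain ⟨d, hd, rfl⟩ := (hP c).1 (e ▸ hc)
    have h1 := maxS (zpowers d) ⟨zpowers_le.2 (hTR hd), cyclic_zpowers d⟩
      (hcS ▸ zpowers_le.2 (pow_mem (mem_zpowers d) p))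
    obtain ⟨k, hk⟩ := exists_pow_eq_one pR (hTR hd)
    have h2 : d = 1 := eq_one_of_mem_zpowers_pow hp hk (hcS ▸ h1 ▸ mem_zpowers d)
    rw [← h1, h2, zpowers_one_eq_bot] at hzS
    exact hz1 (mem_bot.1 (hzS (mem_zpowers z)))
  have h1 := mul_card_le_of_lt hp (pR.to_le hSR) (lt_of_le_of_ne hPS hne)
  have h2 : Nat.card (ohm1 p T) ≤ p ^ 2 := (Subgroup.card_le_of_le (ohm1_mono p hTR)).trans hΩ
  rw [hT, card_quotPre] at oP
  rw [← hT] at oP
  have h3 : Nat.card S * (p * Nat.card (ohm1 p (R /ₛ S))) ≤ Nat.card S * (p * p) := by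
    calc _ = p * Nat.card P * Nat.card (ohm1 p T) := by rw [mul_left_comm, ← oP, mul_assoc]
      _ ≤ _ := by rw [← sq]; exact Nat.mul_le_mul h1 h2
  exact Nat.le_of_mul_le_mul_left (Nat.le_of_mul_le_mul_left h3 Nat.card_pos) hp.pos

theorem rc_mul_left_of_abelian {A : Subgroup G} (abA : IsMulCommutative A) {b x y : G}
    (hb : b ∈ 𝒩(A)) (hx : x ∈ A) (hy : y ∈ A) : rc (x * y) b = rc x b * rc y b := by
  have h := (commute_of_abelian abA (rc_mem_left hx hb) hy).inv_right.eq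
  calc rc (x * y) b = y⁻¹ * rc x b * (b⁻¹ * y * b) := by unfold rc; group
    _ = _ := by rw [← h]; unfold rc; group

theorem rc_pow_left_of_abelian {A : Subgroup G} (abA : IsMulCommutative A) {b x : G}
    (hb : b ∈ 𝒩(A)) (hx : x ∈ A) (k : ℕ) : rc (x ^ k) b = rc x b ^ k := by
  induction k with
  | zero => simp [rc]
  | succ k ih => rw [pow_succ, rc_mul_left_of_abelian abA hb (pow_mem hx k) hx, ih, pow_succ]

theorem meta_aux {p : ℕ} (hp : p.Prime) (hp3 : 3 < p) (n : ℕ) :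
    ∀ (G : Type u) [Group G] [Finite G] (R : Subgroup G), Nat.card R = n → IsPGroup p R →
      Nat.card (ohm1 p R) ≤ p ^ 2 → Meta R := by
  have hp2 : p ≠ 2 := by omega
  induction n using Nat.strong_induction_on with
  | _ n ih =>
  intro G _ _ R hn pR hΩ
  by_cases ntR : R = ⊥
  · exact meta_of_cyclic (ntR ▸ cyclic_bot)
  by_cases hD : ⁅R, R⁆ = ⊥
  · obtain ⟨z, hz, hz1, hzp, hzc⟩ := exists_central_order_p hp pR le_rfl le_normalizer ntR
    exact meta_of_der_le hp hp2 pR hΩ hz hz1 hzp hzc (hD ▸ bot_le)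
  obtain ⟨z, hzD, hz1, hzp, hzc⟩ := exists_central_order_p hp pR (der_normalIn R).1
    (der_normalIn R).2 hD
  have hz := (der_normalIn R).1 hzD
  have nT : zpowers z ⊲ R := ⟨zpowers_le.2 hz, norm_of_cent' (zpowers_le.2 hzc)⟩
  obtain ⟨a', ha', b', hb', h1, h2⟩ := ih _ (hn ▸ card_quot_lt_of_normal nT (by simpa using hz1))
    _ (R /ₛ zpowers z) rfl (isPGroup_of hp ((isPGrp_of hp pR).quot _))
    (card_ohm1_img_le hp hp3 pR hΩ nT.2 _)
  obtain ⟨a, ha, rfl⟩ := mem_quot.1 ha'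
  obtain ⟨b, hb, rfl⟩ := mem_quot.1 hb'
  rw [← quot_zpowers] at h1 h2
  rw [← quot_zpowers] at h2
  set A := zpowers z ⊔ zpowers (a : G) with hA
  have eA : quotPre (zpowers z) (zpowers (a : G) /ₛ zpowers z) = A :=
    quotPre_quot (zpowers_le.2 a.2)
  have nA : R ≤ 𝒩(A) := eA ▸ le_norm_quotPre nT.2 h1
  have hAR : A ≤ R := sup_le nT.1 (zpowers_le.2 ha)
  have eR : A ⊔ zpowers (b : G) = R := by
    rw [← quotPre_quot_of_normal nT, ← h2, quotPre_sup, eA, quotPre_quot (zpowers_le.2 b.2),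
      ← sup_assoc, sup_eq_left.2 (le_sup_left : zpowers z ≤ A)]
  by_cases hza : z ∈ zpowers (a : G)
  · have : A = zpowers (a : G) := sup_eq_right.2 (zpowers_le.2 hza)
    rw [this] at nA eR
    exact ⟨a, ha, b, hb, nA, eR⟩
  have abA : IsMulCommutative A := abelian_sup (abelian_zpowers _) (abelian_zpowers _)
    (zpowers_le.2 (cent_anti (zpowers_le.2 ha) hzc))
  have hw : ∀ x ∈ A, rc x b ∈ zpowers (rc (a : G) b) := fun x hx => by
    obtain ⟨t, ht, k, rfl⟩ := mem_sup_zpowers_nat a.2 hx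
    have haA : (a : G) ∈ A := le_sup_right (a := zpowers z) (mem_zpowers _)
    rw [rc_mul_left_of_abelian abA (nA hb) (le_sup_left (b := zpowers (a : G)) ht) (pow_mem haA k),
      rc_pow_left_of_abelian abA (nA hb) haA,
      rc_eq_one_iff.2 (commute_of_mem_cent (zpowers_le.2 hzc ht) hb), one_mul]
    exact pow_mem (mem_zpowers _) k
  have hwA : rc (a : G) b ∈ A := rc_mem_left (le_sup_right (a := zpowers z) (mem_zpowers _)) (nA hb)
  have hD2 : ⁅R, R⁆ ≤ zpowers (rc (a : G) b) := by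
    rw [← eR]
    refine der_sup_zpowers_le abA (nA hb) ?_ hw
    rw [← inv_mem_iff]
    refine mem_norm_of_forall fun x hx => ?_
    rw [conj_eq_mul_rc, inv_inv]
    exact mul_mem hx (hw x (zpowers_le.2 hwA hx))
  obtain ⟨k, hk⟩ := exists_nat_of_mem_zpowers (hD2 hzD)
  by_cases hpk : p ∣ k
  · obtain ⟨j, rfl⟩ := hpk
    obtain ⟨t, ht, i, hi⟩ := mem_sup_zpowers_nat a.2 hwA
    exfalso
    apply hza
    rw [pow_mul, hi, ((commute_of_mem_cent (zpowers_le.2 hzc ht) ha).pow_right i).mul_pow,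
      (abelem_zpowers hzp).2 t ht, one_mul] at hk
    exact (congrArg (· ∈ zpowers (a : G)) hk).mpr
      (pow_mem (pow_mem (pow_mem (mem_zpowers _) _) _) _)
  · obtain ⟨m, hm⟩ := exists_pow_eq_one pR (hAR hwA)
    refine meta_of_der_le hp hp2 pR hΩ hz hz1 hzp hzc (hD2.trans (zpowers_le.2 ?_))
    have := mem_zpowers_pow_of_not_dvd hp hm hpk
    rwa [← hk] at this

/-- Proposition 4.11. -/
theorem meta_of_card_ohm1 [Finite G] {p : ℕ} (hp : p.Prime) (hp3 : 3 < p) {R : Subgroup G}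
    (pR : IsPGroup p R) (hΩ : Nat.card (ohm1 p R) ≤ p ^ 2) : Meta R :=
  meta_aux hp hp3 _ G R rfl pR hΩ

theorem realizeEqnsP04c : True := by
  have := @CA.BG.P04.Meta.eq_1.{0}
  have := @CA.BG.P04.Meta.eq_def.{0}
  have := @CA.BG.P04.Meta.congr_simp.{0}
  trivial

end CA.BG.P04
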