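/-
Section 3, part a: elementary facts on semiregular action and Frobenius groups.
Owner: helper6.
-/
import Cfsg.Agent.FG.Core

set_option autoImplicit false

namespace CA.BG.P03

open Cfsg CA.FG

universe u

variable {G : Type u} [Group G]

theorem mem_cent1 {x y : G} : x ∈ 𝒞[y] ↔ x * y = y * x := Subgroup.mem_centralizer_singleton_iff

theorem eq_one_of_inf_eq_bot {A B : Subgroup G} (h : A ⊓ B = ⊥) {x : G} (hA : x ∈ A) (hB : x ∈ B) :
    x = 1 := by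
  have : x ∈ A ⊓ B := Subgroup.mem_inf.2 ⟨hA, hB⟩
  rwa [h, Subgroup.mem_bot] at this

theorem inf_eq_bot_of_forall {A B : Subgroup G} (h : ∀ x ∈ A, x ∈ B → x = 1) : A ⊓ B = ⊥ :=
  eq_bot_iff.2 fun x hx => Subgroup.mem_bot.2 (h x (Subgroup.mem_inf.1 hx).1 (Subgroup.mem_inf.1 hx).2)

theorem semiregular_sym {K H : Subgroup G} (h : Semiregular K H) : Semiregular H K := by
  intro y hy hy1
  refine inf_eq_bot_of_forall fun x hx hxy => ?_
  by_contra hx1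
  exact hy1 (eq_one_of_inf_eq_bot (h x hx hx1) hy (mem_cent_singleton_comm.1 hxy))

theorem semiregularS {K H K₁ H₁ : Subgroup G} (h : Semiregular K H) (hK : K₁ ≤ K) (hH : H₁ ≤ H) :
    Semiregular K₁ H₁ := fun x hx hx1 =>
  eq_bot_iff.2 ((inf_le_inf_right _ hK).trans (h x (hH hx) hx1).le)

theorem semiregular_prime {K H : Subgroup G} (h : Semiregular K H) : Semiprime K H := by
  intro x hx hx1
  rw [h x hx hx1]
  exact (eq_bot_iff.2 ((inf_le_inf_left _ (cent_le_cent_singleton hx)).trans (h x hx hx1).le)).symm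

theorem semiprime_regular {K H : Subgroup G} (h : Semiprime K H) (h1 : K ⊓ 𝒞(H) = ⊥) :
    Semiregular K H := fun x hx hx1 => (h x hx hx1).trans h1

theorem cent_semiprime {K H X : Subgroup G} (h : Semiprime K H) (hX : X ≤ H) (hX1 : X ≠ ⊥) :
    K ⊓ 𝒞(X) = K ⊓ 𝒞(H) := by
  obtain ⟨x, hx, hx1⟩ := exists_mem_ne_one hX1
  refine le_antisymm ?_ (inf_le_inf_left _ (cent_anti hX))
  rw [← h x (hX hx) hx1]
  exact inf_le_inf_left _ (cent_le_cent_singleton hx)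

theorem semiprimeS {K H K₁ H₁ : Subgroup G} (h : Semiprime K H) (hK : K₁ ≤ K) (hH : H₁ ≤ H) :
    Semiprime K₁ H₁ := by
  intro x hx hx1
  have e1 := h x (hH hx) hx1
  have e2 := cent_semiprime h hH (ne_bot_of_mem hx hx1)
  calc K₁ ⊓ 𝒞[x] = K₁ ⊓ (K ⊓ 𝒞[x]) := by rw [← inf_assoc, inf_eq_left.2 hK]
    _ = K₁ ⊓ (K ⊓ 𝒞(H₁)) := by rw [e1, e2]
    _ = K₁ ⊓ 𝒞(H₁) := by rw [← inf_assoc, inf_eq_left.2 hK]

theorem cent_semiregular {K H X : Subgroup G} (h : Semiregular K H) (hX : X ≤ H) (hX1 : X ≠ ⊥) :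
    K ⊓ 𝒞(X) = ⊥ := by
  obtain ⟨x, hx, hx1⟩ := exists_mem_ne_one hX1
  exact eq_bot_iff.2 ((inf_le_inf_left _ (cent_le_cent_singleton hx)).trans (h x (hX hx) hx1).le)

theorem semiprime_of_prime {K H : Subgroup G} (hH : (Nat.card H).Prime) : Semiprime K H := by
  intro x hx hx1
  rw [cent_eq_cent_singleton_of_prime hH hx hx1]

theorem semiregular_of_prime {K H : Subgroup G} (hH : (Nat.card H).Prime) (h : K ⊓ 𝒞(H) = ⊥) :
    Semiregular K H := semiprime_regular (semiprime_of_prime hH) h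

/-- A group acting freely on an invariant subset. -/
theorem card_dvd_of_free {R : Type*} {S : Type*} [Group R] [MulAction R S] (T : Set S)
    (hT : ∀ (x : R), ∀ t ∈ T, x • t ∈ T) (hfree : ∀ (x : R), ∀ t ∈ T, x • t = t → x = 1) :
    Nat.card R ∣ Nat.card T := by
  let T' : SubMulAction R S := ⟨T, fun x t ht => hT x t ht⟩
  have e := MulAction.selfEquivOrbitsQuotientProd (G := R) (X := T') (fun t => by
    refine eq_bot_iff.2 fun x hx => Subgroup.mem_bot.2 (hfree x t.1 t.2 ?_)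
    exact congrArg Subtype.val (MulAction.mem_stabilizer_iff.1 hx))
  have : Nat.card T = Nat.card T' := rfl
  rw [this, Nat.card_congr e, Nat.card_prod]
  exact Dvd.intro_left _ rfl

variable [Finite G]

theorem regular_norm_dvd_pred {K H : Subgroup G} (hn : H ≤ 𝒩(K)) (h : Semiregular K H) :
    Nat.card H ∣ Nat.card K - 1 := by
  letI : MulAction H G := MulAction.compHom G ((MulAut.conj (G := G)).comp H.subtype)
  have hs : ∀ (x : H) (g : G), x • g = x * g * (x : G)⁻¹ := fun _ _ => rfl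
  have h1 := card_dvd_of_free (R := H) ((K : Set G) \ {1}) (fun x t ht => by
      rw [hs]
      refine ⟨conj_mem_of_le_norm hn x.2 ht.1, fun e => ht.2 ?_⟩
      have e' : (x : G) * t * (x : G)⁻¹ = 1 := e
      have : t = (x : G)⁻¹ * (x * t * (x : G)⁻¹) * x := by group
      rw [this, e']; simp)
    (fun x t ht e => by
      by_contra hx1
      have hx1' : (x : G) ≠ 1 := fun e => hx1 (Subtype.ext e)
      refine ht.2 (eq_one_of_inf_eq_bot (h x x.2 hx1') ht.1 (mem_cent1.2 ?_))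
      rw [hs] at e
      calc t * x = x * t * (x : G)⁻¹ * x := by rw [e]
        _ = x * t := by group)
  have h2 : Nat.card ↥((K : Set G) \ {1}) = Nat.card K - 1 := by
    rw [Nat.card_coe_set_eq, Set.ncard_diff_singleton_of_mem K.one_mem]
    rfl
  rwa [h2] at h1

theorem regular_norm_coprime {K H : Subgroup G} (hn : H ≤ 𝒩(K)) (h : Semiregular K H) :
    (Nat.card K).Coprime (Nat.card H) := by
  obtain ⟨c, hc⟩ := regular_norm_dvd_pred hn h
  have hpos : 0 < Nat.card K := Nat.card_pos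
  have : Nat.card K = 1 + Nat.card H * c := by omega
  rw [this]
  simp

theorem isFrob_sup {K H : Subgroup G} (hn : H ≤ 𝒩(K)) (h : Semiregular K H) (hK : K ≠ ⊥) (hH : H ≠ ⊥) :
    IsFrob (K ⊔ H) K H :=
  ⟨sdprod_mk hn rfl (inf_eq_bot_of_cop (regular_norm_coprime hn h)), hK, hH, h⟩

omit [Finite G] in
theorem prime_FrobeniusP {M K R : Subgroup G} (hK : K ≠ ⊥) (hR : (Nat.card R).Prime) :
    IsFrob M K R ↔ SDProd K R M ∧ K ⊓ 𝒞(R) = ⊥ :=
  ⟨fun h => ⟨h.1, cent_semiregular h.2.2.2 le_rfl h.2.2.1⟩,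
    fun h => ⟨h.1, hK, ne_bot_of_card_prime hR, semiregular_of_prime hR h.2⟩⟩

theorem Frobenius_coprime {M K R : Subgroup G} (h : IsFrob M K R) :
    (Nat.card K).Coprime (Nat.card R) := regular_norm_coprime h.1.norm h.2.2.2

theorem Frobenius_dvd_ker1 {M K R : Subgroup G} (h : IsFrob M K R) : Nat.card R ∣ Nat.card K - 1 :=
  regular_norm_dvd_pred h.1.norm h.2.2.2

omit [Finite G] in
theorem Frobenius_trivg_cent {M K R : Subgroup G} (h : IsFrob M K R) : K ⊓ 𝒞(R) = ⊥ :=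
  cent_semiregular h.2.2.2 le_rfl h.2.2.1

omit [Finite G] in
theorem Frobenius_ker_normal {M K R : Subgroup G} (h : IsFrob M K R) : K ⊲ M := h.1.normal

/-- A fixed point free element: every element of `K` is a commutator with it. -/
theorem fpf_surj {K : Subgroup G} {r : G} (hr : r ∈ 𝒩(K)) (h : K ⊓ 𝒞[r] = ⊥) {k : G} (hk : k ∈ K) :
    ∃ y ∈ K, y * r * y⁻¹ * r⁻¹ = k := by
  let f : K → K := fun y => ⟨y * r * (y : G)⁻¹ * r⁻¹, by
    have := K.mul_mem y.2 (conj_mem_of_mem_norm hr (K.inv_mem y.2))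
    simpa only [mul_assoc] using this⟩
  have hinj : Function.Injective f := by
    intro a b e
    have e' : (a : G) * r * (a : G)⁻¹ * r⁻¹ = b * r * (b : G)⁻¹ * r⁻¹ := congrArg Subtype.val e
    have e2 : (a : G) * r * (a : G)⁻¹ = b * r * (b : G)⁻¹ := mul_right_cancel e'
    have : (b : G)⁻¹ * a = 1 := by
      refine eq_one_of_inf_eq_bot h (K.mul_mem (K.inv_mem b.2) a.2) (mem_cent1.2 ?_)
      calc (b : G)⁻¹ * a * r = (b : G)⁻¹ * (a * r * (a : G)⁻¹) * a := by group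
        _ = (b : G)⁻¹ * (b * r * (b : G)⁻¹) * a := by rw [e2]
        _ = r * ((b : G)⁻¹ * a) := by group
    exact Subtype.ext (inv_mul_eq_one.1 this).symm
  obtain ⟨y, hy⟩ := Finite.surjective_of_injective hinj ⟨k, hk⟩
  exact ⟨y, y.2, congrArg Subtype.val hy⟩

theorem Frobenius_partition' {M K R : Subgroup G} (h : IsFrob M K R) {x : G} (hx : x ∈ M)
    (hxK : x ∉ K) : ∃ y ∈ K, ∃ r ∈ R, r ≠ 1 ∧ x = y * r * y⁻¹ := by
  rw [← h.1.sup_eq] at hx
  obtain ⟨k, hk, r, hr, rfl⟩ := (mem_sup_of_right_le_norm h.1.norm).1 hx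
  have hr1 : r ≠ 1 := by
    rintro rfl
    exact hxK (by simpa using hk)
  obtain ⟨y, hy, e⟩ := fpf_surj (h.1.norm hr) (h.2.2.2 r hr hr1) hk
  exact ⟨y, hy, r, hr, hr1, by rw [← e]; group⟩

theorem Frobenius_partition {M K R : Subgroup G} (h : IsFrob M K R) {x : G} (hx : x ∈ M) (hxK : x ∉ K) :
    ∃ k ∈ K, x ∈ R :^ k := by
  obtain ⟨y, hy, r, hr, -, rfl⟩ := Frobenius_partition' h hx hxK
  exact ⟨y, hy, conj_mem_conjg y hr⟩

theorem Frobenius_cent1_ker {M K R : Subgroup G} (h : IsFrob M K R) {x : G} (hx : x ∈ K) (hx1 : x ≠ 1) :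
    M ⊓ 𝒞[x] ≤ K := by
  intro g hg
  obtain ⟨hgM, hgx⟩ := Subgroup.mem_inf.1 hg
  by_contra hgK
  obtain ⟨y, hy, r, hr, hr1, rfl⟩ := Frobenius_partition' h hgM hgK
  have h1 : y⁻¹ * x * y = 1 := by
    refine eq_one_of_inf_eq_bot (h.2.2.2 r hr hr1) (K.mul_mem (K.mul_mem (K.inv_mem hy) hx) hy)
      (mem_cent1.2 ?_)
    have := mem_cent1.1 hgx
    calc y⁻¹ * x * y * r = y⁻¹ * (x * (y * r * y⁻¹)) * y := by group
      _ = y⁻¹ * ((y * r * y⁻¹) * x) * y := by rw [this]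
      _ = r * (y⁻¹ * x * y) := by group
  apply hx1
  calc x = y * (y⁻¹ * x * y) * y⁻¹ := by group
    _ = 1 := by rw [h1]; group

omit [Finite G] in
theorem Frobenius_reg_compl {M K R : Subgroup G} (h : IsFrob M K R) {x : G} (hx : x ∈ R) (hx1 : x ≠ 1) :
    M ⊓ 𝒞[x] ≤ R := by
  intro g hg
  obtain ⟨hgM, hgx⟩ := Subgroup.mem_inf.1 hg
  rw [← h.1.sup_eq] at hgM
  obtain ⟨k, hk, r, hr, rfl⟩ := (mem_sup_of_right_le_norm h.1.norm).1 hgM
  have e := mem_cent1.1 hgx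
  have h1 : k⁻¹ * (x * k * x⁻¹) = 1 := by
    refine eq_one_of_inf_eq_bot h.1.inf_eq
      (K.mul_mem (K.inv_mem hk) (conj_mem_of_le_norm h.1.norm hx hk)) ?_
    have : k⁻¹ * (x * k * x⁻¹) = r * x * r⁻¹ * x⁻¹ := by
      calc k⁻¹ * (x * k * x⁻¹) = k⁻¹ * (x * (k * r)) * r⁻¹ * x⁻¹ := by group
        _ = k⁻¹ * (k * r * x) * r⁻¹ * x⁻¹ := by rw [e]
        _ = r * x * r⁻¹ * x⁻¹ := by group
    rw [this]
    exact R.mul_mem (R.mul_mem (R.mul_mem hr hx) (R.inv_mem hr)) (R.inv_mem hx)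
  have h2 : k = 1 := by
    refine eq_one_of_inf_eq_bot (h.2.2.2 x hx hx1) hk (mem_cent1.2 ?_)
    calc k * x = k * (k⁻¹ * (x * k * x⁻¹)) * x := by rw [h1]; group
      _ = x * k := by group
  rw [h2, one_mul]; exact hr

omit [Finite G] in
theorem Frobenius_compl_TI {M K R : Subgroup G} (h : IsFrob M K R) {g : G} (hg : g ∈ M) (hgR : g ∉ R) :
    R ⊓ R :^ g = ⊥ := by
  rw [← h.1.sup_eq] at hg
  obtain ⟨k, hk, r, hr, rfl⟩ := (mem_sup_of_right_le_norm h.1.norm).1 hg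
  have hk1 : k ≠ 1 := by
    rintro rfl
    exact hgR (by simpa using hr)
  rw [conjg_mul, conjg_of_mem hr]
  refine inf_eq_bot_of_forall fun y hy hy' => ?_
  obtain ⟨z, hz, rfl⟩ := mem_conjg'.1 hy'
  have h1 : k * (z * k⁻¹ * z⁻¹) = 1 := by
    refine eq_one_of_inf_eq_bot h.1.inf_eq
      (K.mul_mem hk (conj_mem_of_le_norm h.1.norm hz (K.inv_mem hk))) ?_
    have := R.mul_mem hy (R.inv_mem hz)
    simpa only [mul_assoc] using this
  by_contra hne
  have hz1 : z ≠ 1 := by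
    rintro rfl
    exact hne (by group)
  refine hk1 (eq_one_of_inf_eq_bot (h.2.2.2 z hz hz1) hk (mem_cent1.2 ?_))
  calc k * z = k * (z * k⁻¹ * z⁻¹) * (z * k) := by group
    _ = z * k := by rw [h1, one_mul]

theorem le_comm_of_fpf {K R : Subgroup G} {r : G} (hr : r ∈ R) (hn : r ∈ 𝒩(K)) (h : K ⊓ 𝒞[r] = ⊥) :
    K ≤ ⁅K, R⁆ := by
  intro k hk
  obtain ⟨y, hy, rfl⟩ := fpf_surj hn h hk
  exact Subgroup.commutator_mem_commutator hy hr

theorem Frobenius_commg {M K R : Subgroup G} (h : IsFrob M K R) : ⁅K, R⁆ = K := by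
  obtain ⟨r, hr, hr1⟩ := exists_mem_ne_one h.2.2.1
  exact le_antisymm (comm_le_left h.1.norm) (le_comm_of_fpf hr (h.1.norm hr) (h.2.2.2 r hr hr1))

theorem Frobenius_subl {M K R K₁ : Subgroup G} (h : IsFrob M K R) (hK1 : K₁ ≠ ⊥) (hK : K₁ ≤ K)
    (hn : R ≤ 𝒩(K₁)) : IsFrob (K₁ ⊔ R) K₁ R :=
  isFrob_sup hn (semiregularS h.2.2.2 hK le_rfl) hK1 h.2.2.1

theorem Frobenius_subr {M K R R₁ : Subgroup G} (h : IsFrob M K R) (hR1 : R₁ ≠ ⊥) (hR : R₁ ≤ R) :
    IsFrob (K ⊔ R₁) K R₁ :=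
  isFrob_sup (hR.trans h.1.norm) (semiregularS h.2.2.2 le_rfl hR) h.2.1 hR1

/-- An element acting without fixed points on `K` does so on `K / N`. -/
theorem mem_of_fpf {K N : Subgroup G} {r k : G} (hNK : N ≤ K) (hr : r ∈ 𝒩(N)) (h : K ⊓ 𝒞[r] = ⊥)
    (hk : k ∈ K) (hc : k * r * k⁻¹ * r⁻¹ ∈ N) : k ∈ N := by
  obtain ⟨y, hy, e⟩ := fpf_surj hr (eq_bot_iff.2 ((inf_le_inf_right _ hNK).trans h.le)) hc
  have e2 : y * r * y⁻¹ = k * r * k⁻¹ := mul_right_cancel e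
  have : k⁻¹ * y = 1 := by
    refine eq_one_of_inf_eq_bot h (K.mul_mem (K.inv_mem hk) (hNK hy)) (mem_cent1.2 ?_)
    calc k⁻¹ * y * r = k⁻¹ * (y * r * y⁻¹) * y := by group
      _ = k⁻¹ * (k * r * k⁻¹) * y := by rw [e2]
      _ = r * (k⁻¹ * y) := by group
  rw [inv_mul_eq_one.1 this]; exact hy

theorem fpf_quotient {K N : Subgroup G} (hN : N ≤ K) (r : 𝒩(N)) (h : K ⊓ 𝒞[(r : G)] = ⊥) :
    (K /ₛ N) ⊓ 𝒞[coset N r] = ⊥ := by
  refine inf_eq_bot_of_forall fun y hy hc => ?_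
  obtain ⟨k, hk, rfl⟩ := mem_quot.1 hy
  rw [coset_eq_one_iff]
  refine mem_of_fpf hN r.2 h hk ?_
  have : coset N (k * r * k⁻¹ * r⁻¹) = 1 := by
    rw [map_mul, map_mul, map_mul, map_inv, map_inv, mem_cent1.1 hc]; group
  exact coset_eq_one_iff.1 this

theorem semiregular_quotient {K R N : Subgroup G} (_hn : R ≤ 𝒩(K)) (h : Semiregular K R) (hN : N ⊲ K)
    (_hRN : R ≤ 𝒩(N)) : Semiregular (K /ₛ N) (R /ₛ N) := by
  intro x hx hx1
  obtain ⟨r, hr, rfl⟩ := mem_quot.1 hx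
  refine fpf_quotient hN.1 r (h r hr ?_)
  intro e
  apply hx1
  have : r = 1 := Subtype.ext e
  rw [this, map_one]

theorem Frobenius_proper_quotient {M K R N : Subgroup G} (h : IsFrob M K R) (hN : N ⊲ M) (hNK : N < K) :
    IsFrob (M /ₛ N) (K /ₛ N) (R /ₛ N) := by
  have hK : K ≤ 𝒩(N) := h.1.left_le.trans hN.2
  have hR : R ≤ 𝒩(N) := h.1.right_le.trans hN.2
  rw [← h.1.sup_eq, quot_sup hK hR]
  refine isFrob_sup (quot_norm N h.1.norm) (semiregular_quotient h.1.norm h.2.2.2 ⟨hNK.le, hK⟩ hR) ?_ ?_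
  · intro e
    exact hNK.not_ge ((quot_eq_bot_iff hK).1 e)
  · intro e
    apply h.2.2.1
    rw [eq_bot_iff, ← h.1.inf_eq]
    exact le_inf (((quot_eq_bot_iff hR).1 e).trans hNK.le) le_rfl

theorem Frobenius_normal_proper_ker {M K R N : Subgroup G} (h : IsFrob M K R) (hN : N ⊲ M)
    (hNK : ¬ K ≤ N) : N < K := by
  refine lt_of_le_not_ge (fun x hx => ?_) hNK
  by_contra hxK
  obtain ⟨y, hy, r, hr, hr1, rfl⟩ := Frobenius_partition' h (hN.1 hx) hxK
  have hrN : r ∈ N := by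
    have := conj_mem_of_le_norm' hN.2 (h.1.left_le hy) hx
    simpa [mul_assoc] using this
  exact hNK ((le_comm_of_fpf hrN (h.1.norm hr) (h.2.2.2 r hr hr1)).trans
    (comm_le_right (h.1.left_le.trans hN.2)))

theorem Frobenius_quotient {M K R N : Subgroup G} (h : IsFrob M K R) (hN : N ⊲ M) (hNK : ¬ K ≤ N) :
    IsFrob (M /ₛ N) (K /ₛ N) (R /ₛ N) :=
  Frobenius_proper_quotient h hN (Frobenius_normal_proper_ker h hN hNK)

end CA.BG.P03
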