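/-
More on the bridge: consequences, faithful quotients, subrepresentations, weights.
Owner: helper6.
-/
import Cfsg.Agent.BG.Rep4
import Cfsg.Agent.BG.P03a
import Cfsg.Agent.FG.Nil

set_option autoImplicit false

namespace CA.BG.Rep

open Module Cfsg CA.FG CA.BG.P03

universe u v w

variable {G : Type u} [Group G] {k : Type v} [Field k] {W : Type w} [AddCommGroup W] [Module k W]

/-- The property of the module attached to an elementary abelian subgroup. -/
def Bridge (p : ℕ) (V : Subgroup G) (ρ : Representation k 𝒩(V) W) : Prop :=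
  ∀ A : Subgroup G, A ≤ 𝒩(V) → Nat.card ↥(V ⊓ 𝒞(A)) = p ^ finrank k (fixS ρ A)

section bridge

variable {p : ℕ} {V : Subgroup G} {ρ : Representation k 𝒩(V) W}

theorem Bridge.card_eq (h : Bridge p V ρ) {A : Subgroup G} (hA : A ≤ 𝒩(V)) :
    Nat.card ↥(V ⊓ 𝒞(A)) = p ^ finrank k (fixS ρ A) := h A hA

theorem Bridge.card (h : Bridge p V ρ) : Nat.card V = p ^ finrank k W := by
  have := h ⊥ bot_le
  rwa [cent_bot, inf_top_eq, fixS_bot, finrank_top] at this

theorem Bridge.le_cent_iff [Finite G] [FiniteDimensional k W] (h : Bridge p V ρ) (hp : p.Prime)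
    {A : Subgroup G} (hA : A ≤ 𝒩(V)) : A ≤ 𝒞(V) ↔ fixS ρ A = ⊤ := by
  constructor
  · intro hc
    have := h A hA
    rw [inf_eq_left.2 (le_cent_symm hc), h.card] at this
    exact Submodule.eq_top_of_finrank_eq (Nat.pow_right_injective hp.two_le this).symm
  · intro hc
    have := h A hA
    rw [hc, finrank_top, ← h.card] at this
    exact le_cent_symm (inf_eq_left.1 (Subgroup.eq_of_le_of_card_ge inf_le_left this.ge))

theorem Bridge.eq_bot_iff [FiniteDimensional k W] (h : Bridge p V ρ) (hp : p.Prime)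
    {A : Subgroup G} (hA : A ≤ 𝒩(V)) : V ⊓ 𝒞(A) = ⊥ ↔ fixS ρ A = ⊥ := by
  rw [← Subgroup.card_eq_one, h A hA, ← Submodule.finrank_eq_zero, Nat.pow_eq_one]
  exact ⟨fun h => h.resolve_left hp.ne_one, Or.inr⟩

theorem exists_bridge [Finite G] {p : ℕ} (hp : p.Prime) {V : Subgroup G} (hV : IsElementaryAbelian p V) :
    ∃ (k : Type) (_ : Field k) (_ : IsAlgClosed k) (_ : CharP k p)
      (W : Type u) (_ : AddCommGroup W) (_ : Module k W) (_ : FiniteDimensional k W)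
      (ρ : Representation k 𝒩(V) W), Bridge p V ρ := exists_rep hp hV

end bridge

theorem cast_ne_zero_of_not_dvd {p : ℕ} [CharP k p] {n : ℕ} (h : ¬ p ∣ n) : (n : k) ≠ 0 := by
  rwa [Ne, CharP.cast_eq_zero_iff k p]

variable {M : Subgroup G}

/-- Passing to the faithful quotient. -/
theorem exists_faithful [Finite G] (ρ : Representation k M W) :
    ∃ (G' : Type u) (_ : Group G') (_ : Finite G') (f : M →* G')
      (ρ' : Representation k (⊤ : Subgroup G') W), Function.Surjective f ∧ Function.Injective ρ' ∧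
      (∀ g, ρ' ⟨f g, trivial⟩ = ρ g) ∧ (∀ A, fixS ρ' (img f A) = fixS ρ A) ∧
      (∀ A, A ≤ M → (img f A = ⊥ ↔ fixS ρ A = ⊤)) := by
  let ρ₀ : M →* End k W := ρ
  let ρ' : Representation k (⊤ : Subgroup (M ⧸ ρ₀.ker)) W :=
    (QuotientGroup.lift ρ₀.ker ρ₀ le_rfl).comp (Subgroup.subtype ⊤)
  have h1 : ∀ g : M, ρ' ⟨QuotientGroup.mk' ρ₀.ker g, trivial⟩ = ρ g := fun g => rfl
  refine ⟨M ⧸ ρ₀.ker, inferInstance, inferInstance, QuotientGroup.mk' _, ρ',
    QuotientGroup.mk'_surjective _, ?_, h1, fun A => ?_, fun A hA => ?_⟩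
  · rw [injective_iff_map_eq_one]
    rintro ⟨a, ha⟩ h
    obtain ⟨g, rfl⟩ := QuotientGroup.mk'_surjective _ a
    exact Subtype.ext ((QuotientGroup.eq_one_iff g).2 h)
  · ext w
    simp only [mem_fixS]
    constructor
    · intro H g hg
      exact H ⟨_, trivial⟩ (mem_img.2 ⟨g, hg, rfl⟩)
    · rintro H ⟨a, ha⟩ hg
      obtain ⟨g, hg', rfl⟩ := mem_img.1 hg
      exact H g hg'
  · rw [fixS_eq_top_iff, eq_bot_iff]
    constructor
    · intro H g hg
      exact (QuotientGroup.eq_one_iff g).1 (Subgroup.mem_bot.1 (H (mem_img.2 ⟨g, hg, rfl⟩)))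
    · intro H a ha
      obtain ⟨g, hg, rfl⟩ := mem_img.1 ha
      exact Subgroup.mem_bot.2 ((QuotientGroup.eq_one_iff g).2 (H g hg))

theorem fixS_eq_top_iff_of_inj {ρ : Representation k M W} (hρ : Function.Injective ρ) {A : Subgroup G}
    (hA : A ≤ M) : fixS ρ A = ⊤ ↔ A = ⊥ := by
  rw [fixS_eq_top_iff]
  constructor
  · intro h
    refine eq_bot_iff.2 fun g hg => Subgroup.mem_bot.2 ?_
    have := h ⟨g, hA hg⟩ hg
    rw [← map_one ρ] at this
    exact congrArg Subtype.val (hρ this)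
  · rintro rfl g hg
    have : g = 1 := Subtype.ext (Subgroup.mem_bot.1 hg)
    rw [this, map_one]

/-- The subrepresentation on an invariant subspace. -/
def subS (ρ : Representation k M W) (U : Submodule k W) (hU : ∀ g, ∀ v ∈ U, ρ g v ∈ U) :
    Representation k M U := ρ.subrepresentation U (fun g v hv => hU g v hv)

theorem coe_subS (ρ : Representation k M W) (U : Submodule k W) (hU : ∀ g, ∀ v ∈ U, ρ g v ∈ U)
    (g : M) (v : U) : (subS ρ U hU g v : W) = ρ g v := rfl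

theorem mem_fixS_subS (ρ : Representation k M W) (U : Submodule k W) (hU : ∀ g, ∀ v ∈ U, ρ g v ∈ U)
    (A : Subgroup G) (v : U) : v ∈ fixS (subS ρ U hU) A ↔ (v : W) ∈ fixS ρ A :=
  ⟨fun H g hg => congrArg Subtype.val (H g hg), fun H g hg => Subtype.ext (H g hg)⟩

theorem fixS_subS_eq_bot (ρ : Representation k M W) (U : Submodule k W) (hU : ∀ g, ∀ v ∈ U, ρ g v ∈ U)
    {A : Subgroup G} (h : fixS ρ A = ⊥) : fixS (subS ρ U hU) A = ⊥ := by
  refine eq_bot_iff.2 fun v hv => ?_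
  rw [mem_fixS_subS, h, Submodule.mem_bot] at hv
  exact (Submodule.mem_bot k).2 (Subtype.ext hv)

/-- Maschke reduction: a subgroup acting trivially on every irreducible submodule acts trivially. -/
theorem fixS_eq_top_of_irr [Finite G] [FiniteDimensional k W] (hk : (Nat.card M : k) ≠ 0)
    (ρ : Representation k M W) (A : Subgroup G)
    (h : ∀ (U : Submodule k W) (hU : ∀ g, ∀ v ∈ U, ρ g v ∈ U), U ≠ ⊥ →
      (∀ U' : Submodule k U, (∀ g, ∀ v ∈ U', subS ρ U hU g v ∈ U') → U' = ⊥ ∨ U' = ⊤) →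
      U ≤ fixS ρ A) : fixS ρ A = ⊤ := by
  have key : ∀ (n : ℕ) (U : Submodule k W), finrank k U = n → (∀ g, ∀ v ∈ U, ρ g v ∈ U) →
      U ≤ fixS ρ A := by
    intro n
    induction n using Nat.strong_induction_on with
    | _ n ih =>
    intro U hn hU
    subst hn
    by_cases h0 : U = ⊥
    · rw [h0]; exact bot_le
    by_cases hirr : ∀ U' : Submodule k U, (∀ g, ∀ v ∈ U', subS ρ U hU g v ∈ U') → U' = ⊥ ∨ U' = ⊤
    · exact h U hU h0 hirr
    push Not at hirr
    obtain ⟨U', hU', h1, h2⟩ := hirr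
    obtain ⟨e, he1, he2, he3⟩ := exists_proj hk (subS ρ U hU) U' hU'
    have hlt : ∀ Y : Submodule k U, Y ≠ ⊤ → finrank k (Y.map U.subtype) < finrank k U := by
      intro Y hY
      rw [Submodule.finrank_map_subtype_eq]
      exact Submodule.finrank_lt hY
    have hinv : ∀ Y : Submodule k U, (∀ g, ∀ v ∈ Y, subS ρ U hU g v ∈ Y) →
        ∀ g, ∀ v ∈ Y.map U.subtype, ρ g v ∈ Y.map U.subtype := by
      rintro Y hY g _ ⟨v, hv, rfl⟩
      exact ⟨_, hY g v hv, rfl⟩
    have i1 := ih _ (hlt U' h2) _ rfl (hinv U' hU')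
    have hker : LinearMap.ker e ≠ ⊤ := by
      intro e0
      obtain ⟨v, hv, hv0⟩ := (Submodule.ne_bot_iff _).1 h1
      have : v ∈ LinearMap.ker e := e0 ▸ Submodule.mem_top
      exact hv0 ((he3 v hv).symm.trans this)
    have i2 := ih _ (hlt _ hker) _ rfl (hinv _ (fun g v hv => by
      rw [LinearMap.mem_ker] at hv ⊢
      rw [← Module.End.mul_apply, ← he1, Module.End.mul_apply, hv, map_zero]))
    intro v hv
    have : v = (e ⟨v, hv⟩ : W) + ((⟨v, hv⟩ - e ⟨v, hv⟩ : U) : W) := by simp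
    rw [this]
    refine add_mem (i1 ⟨_, he2 _, rfl⟩) (i2 ⟨⟨v, hv⟩ - e ⟨v, hv⟩, ?_, rfl⟩)
    rw [SetLike.mem_coe, LinearMap.mem_ker, map_sub, he3 _ (he2 _), sub_self]
  exact eq_top_iff.2 (key _ ⊤ rfl fun _ _ _ => trivial)

/-- The Frobenius dimension formula for an elementary abelian subgroup. -/
theorem frob_card [Finite G] {p : ℕ} (hp : p.Prime) {K R V : Subgroup G} (hV : IsElementaryAbelian p V)
    (hK : K ≤ 𝒩(V)) (hR : R ≤ 𝒩(V)) (hn : R ≤ 𝒩(K)) (hreg : Semiregular K R)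
    (hk : ¬ p ∣ Nat.card K) :
    ∃ m : ℕ, Nat.card V = Nat.card ↥(V ⊓ 𝒞(K)) * (p ^ m) ^ Nat.card R ∧
      Nat.card ↥(V ⊓ 𝒞(R)) = Nat.card ↥(V ⊓ 𝒞(K ⊔ R)) * p ^ m ∧ (m ≤ 1 → ⁅K, K⁆ ≤ 𝒞(V)) := by
  obtain ⟨k, _, _, _, W, _, _, _, ρ, hb⟩ := exists_bridge hp hV
  obtain ⟨m, h1, h2, h3⟩ := frob_fix ρ hK hR hn hreg (cast_ne_zero_of_not_dvd hk)
  refine ⟨m, ?_, ?_, fun hm => ?_⟩
  · rw [hb.card, hb.card_eq hK, h1, pow_add, mul_comm (Nat.card R), pow_mul]
  · rw [hb.card_eq hR, hb.card_eq (sup_le hK hR), h2, pow_add]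
  · exact (hb.le_cent_iff hp ((comm_le_of_le le_rfl le_rfl).trans hK)).2 (h3 hm)

/-- The counting argument at the end of the proof of Theorem 3.6. -/
theorem count_orbit [Finite G] {S : Type v} [MulAction G S] (T : Set S) (hfin : T.Finite)
    (hne : T.Nonempty) (hT : ∀ (g : G), ∀ t ∈ T, g • t ∈ T) {P R : Subgroup G} (hn : R ≤ 𝒩(P))
    {p : ℕ} (hp : p.Prime) (pP : IsPGrp p P) (hr : (Nat.card R).Prime) (hpo : Odd p)
    (hro : Odd (Nat.card R)) (hpr : p ≠ Nat.card R) (hreg : P ⊓ 𝒞(R) = ⊥)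
    (hfix : ∀ t ∈ T, ¬ P ≤ MulAction.stabilizer G t)
    (hcard : {t ∈ T | ¬ R ≤ MulAction.stabilizer G t}.ncard ≤ Nat.card R) : False := by
  haveI : Fact p.Prime := ⟨hp⟩
  have hdvd : ∀ Y : Set S, Y ⊆ {t ∈ T | ¬ R ≤ MulAction.stabilizer G t} → Y.Nonempty →
      (∀ x ∈ R, ∀ t ∈ Y, x • t ∈ Y) → Y.ncard = Nat.card R := by
    intro Y hY hYne hinv
    have h1 : Nat.card R ∣ Nat.card Y := card_dvd_of_free (R := R) Y (fun x t ht => hinv x x.2 t ht)
      (fun x t ht e => by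
        rcases inf_eq_bot_or_le_of_card_prime hr (MulAction.stabilizer G t) with h | h
        · exact Subtype.ext (eq_one_of_inf_eq_bot h x.2 e)
        · exact absurd h (hY ht).2)
    rw [Nat.card_coe_set_eq] at h1
    have hfinY : Y.Finite := hfin.subset fun t ht => (hY ht).1
    exact le_antisymm ((Set.ncard_le_ncard hY (hfin.subset fun t ht => ht.1)).trans hcard)
      (Nat.le_of_dvd ((Set.ncard_pos hfinY).2 hYne) h1)
  by_cases h : ∃ t ∈ T, R ≤ MulAction.stabilizer G t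
  · obtain ⟨t, ht, hRt⟩ := h
    obtain ⟨x, hx, hx1⟩ := exists_mem_ne_one (ne_bot_of_card_prime hr)
    have hO : MulAction.orbit P t ⊆ T := by
      rintro _ ⟨g, rfl⟩
      exact hT g t ht
    haveI : Finite (MulAction.orbit P t) := hfin.subset hO
    obtain ⟨a, ha⟩ := (pP.isPGroup hp).card_orbit t
    have h1 := hdvd (MulAction.orbit P t \ {t}) (by
        rintro _ ⟨⟨g, rfl⟩, hg⟩
        refine ⟨hT g t ht, fun hR => hg ?_⟩
        have e1 : x • (g : G) • t = (g : G) • t := hR hx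
        have e2 : x⁻¹ • t = t := hRt (R.inv_mem hx)
        have : (g : G)⁻¹ ∈ P ⊓ MulAction.stabilizer G t := by
          refine mem_of_fpf (r := x) inf_le_left ?_ ?_ (P.inv_mem g.2) (Subgroup.mem_inf.2 ⟨?_, ?_⟩)
          · exact norm_inf hn (norm_of_le hRt) hx
          · rw [← cent_eq_cent_singleton_of_prime hr hx hx1, hreg]
          · have := P.mul_mem (P.inv_mem g.2) (conj_mem_of_le_norm hn hx g.2)
            simpa only [mul_assoc, inv_inv] using this
          · change _ • t = t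
            rw [inv_inv, mul_smul, mul_smul, mul_smul, e2, e1, inv_smul_smul]
        exact (MulAction.stabilizer G t).inv_mem_iff.1 this.2)
      (by
        obtain ⟨g, hg, hg'⟩ := SetLike.not_le_iff_exists.1 (hfix t ht)
        exact ⟨g • t, ⟨⟨g, hg⟩, rfl⟩, hg'⟩)
      (by
        rintro y hy _ ⟨⟨g, rfl⟩, hg⟩
        have e2 : y⁻¹ • t = t := hRt (R.inv_mem hy)
        refine ⟨⟨⟨y * g * y⁻¹, conj_mem_of_le_norm hn hy g.2⟩, ?_⟩, fun e => hg ?_⟩
        · change (y * g * y⁻¹) • t = y • (g : G) • t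
          rw [mul_smul, mul_smul, e2]
        · have e' : y • (g : G) • t = t := e
          change (g : G) • t = t
          rw [← inv_smul_smul y ((g : G) • t), e', e2])
    rw [Set.ncard_diff_singleton_of_mem (MulAction.mem_orbit_self t), ← Nat.card_coe_set_eq, ha] at h1
    have h2 : Odd (p ^ a) := hpo.pow
    have h3 : 0 < p ^ a := pow_pos hp.pos a
    obtain ⟨c, hc⟩ := h2
    obtain ⟨d, hd⟩ := hro
    omega
  · push Not at h
    have h1 := hdvd T (fun t ht => ⟨ht, h t ht⟩) hne (fun x _ t ht => hT x t ht)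
    let T' : SubMulAction P S := ⟨T, fun x t ht => hT x t ht⟩
    haveI : Finite T' := hfin
    obtain ⟨t, ht⟩ := (pP.isPGroup hp).nonempty_fixed_point_of_prime_not_dvd_card T' (by
      rw [show Nat.card T' = Nat.card T from rfl, Nat.card_coe_set_eq, h1]
      exact fun hd => hpr ((Nat.prime_dvd_prime_iff_eq hp hr).1 hd))
    exact hfix t.1 t.2 fun g hg => congrArg Subtype.val (ht ⟨g, hg⟩)

/-- The action on linear characters of a normalized subgroup. -/
@[reducible] def actWt (k : Type v) [Field k] {K Γ : Subgroup G} (h : Γ ≤ 𝒩(K)) :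
    MulAction Γ (K →* kˣ) where
  smul g l := l.comp (conjHom h g⁻¹).toMonoidHom
  one_smul l := by
    ext x
    change (l (conjHom h 1⁻¹ x) : k) = l x
    rw [inv_one, map_one]; rfl
  mul_smul g g' l := by
    ext x
    change (l (conjHom h (g * g')⁻¹ x) : k) = l (conjHom h g'⁻¹ (conjHom h g⁻¹ x))
    rw [mul_inv_rev, map_mul]; rfl

/-- The final contradiction in the proof of Theorem 3.6 (abelian case), module form. -/
theorem weight_contra [Finite G] [IsAlgClosed k] [FiniteDimensional k W] [Nontrivial W]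
    (ρ : Representation k M W) {K P R : Subgroup G} (hK : K ≤ M) (hP : P ≤ M) (hR : R ≤ M)
    (hab : IsMulCommutative K) (hk : (Nat.card K : k) ≠ 0) (hPK : P ≤ 𝒩(K)) (hRK : R ≤ 𝒩(K))
    (hn : R ≤ 𝒩(P)) {p : ℕ} (hp : p.Prime) (pP : IsPGrp p P) (hr : (Nat.card R).Prime) (hpo : Odd p)
    (hro : Odd (Nat.card R)) (hpr : p ≠ Nat.card R) (hreg : P ⊓ 𝒞(R) = ⊥) (hKP : ⁅K, P⁆ = K)
    (h0 : fixS ρ K = ⊥) (hdim : finrank k W ≤ finrank k (fixS ρ ⁅K, R⁆) + Nat.card R) : False := by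
  classical
  obtain ⟨n, b, wt, hb⟩ := exists_eigenbasis hk (resS ρ hK) (fun g h => by
    rw [← map_mul, ← map_mul, mul_comm'])
  have hΓ : P ⊔ R ≤ 𝒩(K) := sup_le hPK hRK
  have hΓM : P ⊔ R ≤ M := sup_le hP hR
  letI := actWt k hΓ
  have hs : ∀ (g : ↥(P ⊔ R)) (l : K →* kˣ) (x : K), (g • l) x = l (conjHom hΓ g⁻¹ x) :=
    fun _ _ _ => rfl
  have hrange : ∀ l : K →* kˣ, l ∈ Set.range wt ↔
      ∃ w : W, w ≠ 0 ∧ ∀ x : K, resS ρ hK x w = (l x : k) • w := by
    intro l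
    constructor
    · rintro ⟨i, rfl⟩
      exact ⟨b i, b.ne_zero i, fun x => hb x i⟩
    · rintro ⟨w, hw, hl⟩
      obtain ⟨i, hi⟩ : ∃ i, b.repr w i ≠ 0 := by
        by_contra h
        push Not at h
        exact hw (b.repr.map_eq_zero_iff.1 (Finsupp.ext h))
      refine ⟨i, ?_⟩
      ext x
      have e1 : b.repr (resS ρ hK x w) i = (wt i x : k) * b.repr w i := by
        conv_lhs => rw [← b.sum_repr w]
        simp only [map_sum, map_smul, hb, Basis.repr_self, Finsupp.coe_finset_sum, Finset.sum_apply,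
          Finsupp.smul_apply, Finsupp.single_apply, smul_eq_mul]
        rw [Finset.sum_eq_single i] <;> simp +contextual [mul_comm]
      rw [hl x, map_smul, Finsupp.smul_apply, smul_eq_mul] at e1
      exact (mul_right_cancel₀ hi e1).symm
  have hstab : ∀ (A : Subgroup G) (hA : A ≤ P ⊔ R) (l : K →* kˣ),
      A.subgroupOf (P ⊔ R) ≤ MulAction.stabilizer ↥(P ⊔ R) l ↔
        ∀ x : K, (x : G) ∈ ⁅K, A⁆ → l x = 1 := by
    intro A hA l
    constructor
    · intro h x hx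
      have : ⁅K, A⁆ ≤ l.ker.map K.subtype := by
        rw [Subgroup.commutator_le]
        intro y hy a ha
        have e : (⟨a, hA ha⟩ : ↥(P ⊔ R))⁻¹ • l = l :=
          (MulAction.stabilizer ↥(P ⊔ R) l).inv_mem (h (show (⟨a, hA ha⟩ : ↥(P ⊔ R)) ∈ _ from ha))
        refine ⟨⟨y, hy⟩ * conjHom hΓ ⟨a, hA ha⟩ ⟨y, hy⟩⁻¹, ?_, ?_⟩
        · have e2 := hs (⟨a, hA ha⟩ : ↥(P ⊔ R))⁻¹ l ⟨y, hy⟩⁻¹
          rw [e, inv_inv] at e2
          rw [SetLike.mem_coe, MonoidHom.mem_ker, map_mul, ← e2, ← map_mul, mul_inv_cancel, map_one]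
        · change y * (a * y⁻¹ * a⁻¹) = y * a * y⁻¹ * a⁻¹
          group
      obtain ⟨y, hy, e⟩ := this hx
      have : y = x := Subtype.ext e
      exact this ▸ hy
    · intro h g hg
      change g • l = l
      ext x
      rw [hs]
      have : l (x * (conjHom hΓ g⁻¹ x)⁻¹) = 1 := h _ (by
        have hg' : (g : G) ∈ A := hg
        have := Subgroup.commutator_mem_commutator x.2 (A.inv_mem hg')
        rw [commutatorElement_def] at this
        convert this using 1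
        change (x : G) * ((g : G)⁻¹ * x * (g : G)⁻¹⁻¹)⁻¹ = _
        group)
      rw [map_mul, map_inv, mul_inv_eq_one] at this
      rw [this]
  have hn0 : finrank k W = n := by rw [finrank_eq_card_basis b, Fintype.card_fin]
  refine count_orbit (G := ↥(P ⊔ R)) (Set.range wt) (Set.finite_range wt) ?_ ?_
    (P := P.subgroupOf (P ⊔ R)) (R := R.subgroupOf (P ⊔ R)) (subgroupOf_norm _ hn) hp
    (pP.subgroupOf _) (by rwa [card_subgroupOf le_sup_right]) hpo
    (by rwa [card_subgroupOf le_sup_right]) (by rwa [card_subgroupOf le_sup_right]) ?_ ?_ ?_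
  · have : 0 < n := hn0 ▸ Module.finrank_pos
    exact ⟨wt ⟨0, this⟩, _, rfl⟩
  · intro g l hl
    obtain ⟨w, hw, hl⟩ := (hrange l).1 hl
    refine (hrange _).2 ⟨ρ ⟨g, hΓM g.2⟩ w, fun e => hw ?_, fun x => ?_⟩
    · have : ρ ⟨g, hΓM g.2⟩⁻¹ (ρ ⟨g, hΓM g.2⟩ w) = w := by
        rw [← Module.End.mul_apply, ← map_mul, inv_mul_cancel, map_one]; rfl
      rw [← this, e, map_zero]
    · rw [hs, ← map_smul, ← hl, resS_apply, resS_apply, ← Module.End.mul_apply, ← Module.End.mul_apply,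
        ← map_mul, ← map_mul]
      congr 2
      apply Subtype.ext
      change (x : G) * g = g * ((g : G)⁻¹ * x * (g : G)⁻¹⁻¹)
      group
  · rw [← subgroupOf_cent_eq le_sup_right, ← subgroupOf_inf', hreg, Subgroup.bot_subgroupOf]
  · intro l hl h
    rw [hstab P le_sup_left, hKP] at h
    obtain ⟨w, hw, hl⟩ := (hrange l).1 hl
    apply hw
    rw [← Submodule.mem_bot k, ← h0]
    intro g hg
    have := hl ⟨g, hg⟩
    rw [h _ hg, Units.val_one, one_smul] at this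
    exact this
  · rw [card_subgroupOf le_sup_right]
    have hX : ⁅K, R⁆ ≤ K := comm_le_left hRK
    have e1 := finrank_eq_card_of_diag b (fun x : ↥⁅K, R⁆ => resS ρ hK ⟨x, hX x.2⟩)
      (fun i x => (wt i ⟨x, hX x.2⟩ : k)) (fun i x => hb _ i) (fun _ => 1) (fixS ρ ⁅K, R⁆)
      (fun v => by
        simp only [one_smul]
        exact ⟨fun H x => H ⟨x, hK (hX x.2)⟩ x.2, fun H g hg => H ⟨g, hg⟩⟩)
    have e2 : {t ∈ Set.range wt | ¬ R.subgroupOf (P ⊔ R) ≤ MulAction.stabilizer ↥(P ⊔ R) t}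
        ⊆ wt '' {i | ¬ ∀ x : ↥⁅K, R⁆, (wt i ⟨x, hX x.2⟩ : k) = 1} := by
      rintro _ ⟨⟨i, rfl⟩, hi⟩
      refine ⟨i, fun h => hi ?_, rfl⟩
      rw [hstab R le_sup_right]
      intro x hx
      exact Units.ext (h ⟨x, hx⟩)
    have e3 := (Set.ncard_le_ncard e2 (Set.toFinite _)).trans (Set.ncard_image_le (Set.toFinite _))
    have e4 := Set.ncard_add_ncard_compl {i : Fin n | ∀ x : ↥⁅K, R⁆, (wt i ⟨x, hX x.2⟩ : k) = 1}
    rw [Nat.card_eq_fintype_card, Fintype.card_fin, ← Nat.card_coe_set_eq] at e4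
    have e5 : Nat.card ↥{i : Fin n | ∀ x : ↥⁅K, R⁆, (wt i ⟨x, hX x.2⟩ : k) = 1}
        = finrank k (fixS ρ ⁅K, R⁆) := e1.symm
    have e6 : {i : Fin n | ∀ x : ↥⁅K, R⁆, (wt i ⟨x, hX x.2⟩ : k) = 1}ᶜ
        = {i | ¬ ∀ x : ↥⁅K, R⁆, (wt i ⟨x, hX x.2⟩ : k) = 1} := rfl
    rw [e5, e6] at e4
    omega

theorem realizeEqns_Rep5 : True := by
  have := @CA.BG.Rep.actWt.eq_1.{0,0}
  have := @CA.BG.Rep.actWt.eq_def.{0,0}
  have := @CA.BG.Rep.actWt.congr_simp.{0,0}
  have := @CA.BG.Rep.Bridge.eq_1.{0,0,0}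
  have := @CA.BG.Rep.Bridge.eq_def.{0,0,0}
  have := @CA.BG.Rep.Bridge.congr_simp.{0,0,0}
  have := @CA.BG.Rep.subS.eq_1.{0,0,0}
  have := @CA.BG.Rep.subS.eq_def.{0,0,0}
  have := @CA.BG.Rep.subS.congr_simp.{0,0,0}
  trivial

end CA.BG.Rep
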