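/-
Section 2, part b: internal forms of Theorem 2.6, Lemma 2.7 and a special case of Theorem 2.5.
Owner: helper6.
-/
import Cfsg.Agent.BG.P02a
import Cfsg.Agent.BG.Rep5
import Cfsg.Agent.BG.I01
import Cfsg.Agent.BG.P04c

set_option autoImplicit false

namespace CA.BG.P02

open Module Cfsg CA.FG CA.BG.Rep CA.BG.P03
open scoped commutatorElement

universe u v w

variable {G : Type u} [Group G] [Finite G]

theorem der1_odd_abelem2_relIndex {p : ℕ} (hp : p.Prime) {V A : Subgroup G}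
    (hV : IsElementaryAbelian p V) (hV2 : Nat.card V ≤ p ^ 2) (hA : A ≤ 𝒩(V))
    (hodd : Odd (Nat.card A)) :
    PiNat {p} ((⁅A, A⁆ ⊓ 𝒞(V)).relIndex ⁅A, A⁆) := by
  obtain ⟨k, _, _, _, W, _, _, _, ρ, hb⟩ := exists_bridge hp hV
  obtain ⟨G', _, _, f, ρ', -, hinj, -, -, hbot⟩ := exists_faithful ρ
  have hdim : finrank k W ≤ 2 := by
    rw [hb.card] at hV2
    exact (Nat.pow_le_pow_iff_right hp.one_lt).1 hV2
  have hker : pre f ⊥ = 𝒞(V) := by
    refine le_antisymm ?_ ?_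
    · rw [hb.le_cent_iff hp (pre_le f _), ← hbot _ (pre_le f _), img_ker]
    · rw [← img_eq_bot_iff (cent_le_norm V), hbot _ (cent_le_norm V),
        ← hb.le_cent_iff hp (cent_le_norm V)]
  intro q hq hd
  by_contra hqp
  have hqk : (q : k) ≠ 0 := cast_ne_zero_of_not_dvd (p := p) fun h =>
    hqp ((Nat.prime_dvd_prime_iff_eq hp hq).1 h).symm
  refine not_dvd_der_le_two hdim (ρ'.comp (Subgroup.topEquiv (G := G')).symm.toMonoidHom)
    (hinj.comp (Subgroup.topEquiv (G := G')).symm.injective) hq hqk (img f A) (odd_img f hodd) ?_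
  rwa [← img_comm hA hA, card_img_of_le ((comm_le_of_le le_rfl le_rfl).trans hA), hker,
    ← Subgroup.inf_relIndex_left]

theorem der1_odd_abelem2_pgroup {p : ℕ} (hp : p.Prime) {V A : Subgroup G}
    (hV : IsElementaryAbelian p V) (hV2 : Nat.card V ≤ p ^ 2) (hA : A ≤ 𝒩(V))
    (hodd : Odd (Nat.card A)) (hfaith : A ⊓ 𝒞(V) = ⊥) :
    IsPGrp p ⁅A, A⁆ := by
  have h := der1_odd_abelem2_relIndex hp hV hV2 hA hodd
  have e : ⁅A, A⁆ ⊓ 𝒞(V) = ⊥ :=
    eq_bot_iff.2 ((inf_le_inf_right _ (comm_le_of_le le_rfl le_rfl)).trans hfaith.le)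
  rwa [e, Subgroup.relIndex_bot_left] at h

theorem charf'_abelem2_der1_cent {p : ℕ} (hp : p.Prime) {V A : Subgroup G}
    (hV : IsElementaryAbelian p V) (hV2 : Nat.card V ≤ p ^ 2) (hA : A ≤ 𝒩(V))
    (hodd : Odd (Nat.card A)) (hp' : ¬ p ∣ Nat.card A) :
    ⁅A, A⁆ ≤ 𝒞(V) := by
  have h := der1_odd_abelem2_relIndex hp hV hV2 hA hodd
  have h2 : IsPiGrp {p}ᶜ ⁅A, A⁆ :=
    IsPiGrp.of_le ((piGrp_compl_singleton_iff hp).2 hp') (comm_le_of_le le_rfl le_rfl)
  exact (Subgroup.relIndex_eq_one.1 (h.eq_one (h2.relIndex _))).trans inf_le_right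

theorem charf_abelem2_der_subS_abelian_Sylow {p : ℕ} (hp : p.Prime) {V A : Subgroup G}
    (hV : IsElementaryAbelian p V) (hV2 : Nat.card V ≤ p ^ 2) (hA : A ≤ 𝒩(V))
    (hodd : Odd (Nat.card A)) (hfaith : A ⊓ 𝒞(V) = ⊥) {P : Subgroup G} (hP : IsSylowOf p P A) :
    IsMulCommutative P ∧ ⁅A, A⁆ ≤ P := by
  refine ⟨?_, hP.le_of_norm_le (der1_odd_abelem2_pgroup hp hV hV2 hA hodd hfaith)
    (comm_le_of_le le_rfl le_rfl) (hP.le.trans (der_normalIn A).2)⟩
  have hPV : P ≤ 𝒩(V) := hP.le.trans hA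
  have pV := abelem_pGrp hp hV
  have pR : IsPGroup p ↥(V ⊔ P) := (pV.sup hP.pGrp (Or.inr hPV)).isPGroup hp
  have h1 := P04.relIndex_cent_le hp pR le_sup_left (sup_le Subgroup.le_normalizer hPV) hV2
  have h2 : Nat.card P ≤ p := by
    have := P04.card_le_mul_card_inf (le_sup_right : P ≤ V ⊔ P) h1
    have e : 𝒞(V) ⊓ P = ⊥ := by
      rw [inf_comm]; exact eq_bot_iff.2 ((inf_le_inf_right _ hP.le).trans hfaith.le)
    rwa [e, Subgroup.card_bot, one_mul] at this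
  exact abelian_of_cyclic (P04.cyclic_of_card_le hp (hP.pGrp.isPGroup hp) h2)

/-- The action of a group normalizing a subgroup of prime order. -/
theorem exists_pow_hom {p : ℕ} [hp : Fact p.Prime] {Q : Subgroup G} {x : G} (hx : orderOf x = p)
    (hn : Q ≤ 𝒩(Subgroup.zpowers x)) :
    ∃ r : Q →* (ZMod p)ˣ, ∀ a : Q, (a : G) * x * (a : G)⁻¹ = x ^ (r a : ZMod p).val := by
  have h1 : ∀ a : Q, ∃ c : ZMod p, (a : G) * x * (a : G)⁻¹ = x ^ c.val := fun a => by
    obtain ⟨n, hn⟩ := P04.exists_nat_of_mem_zpowers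
      (conj_mem_of_le_norm hn a.2 (Subgroup.mem_zpowers x))
    exact ⟨n, by rw [hn, ZMod.val_natCast, ← hx, pow_mod_orderOf]⟩
  choose c hc using h1
  have hinj : ∀ a b : ZMod p, x ^ a.val = x ^ b.val → a = b := fun a b h => by
    rw [pow_eq_pow_iff_modEq, hx, ← ZMod.natCast_eq_natCast_iff, ZMod.natCast_zmod_val,
      ZMod.natCast_zmod_val] at h
    exact h
  let c' : Q →* ZMod p :=
    { toFun := c
      map_one' := hinj _ _ (by rw [← hc, ZMod.val_one]; simp)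
      map_mul' := fun a b => hinj _ _ (by
        have e : ∀ n, x ^ (n % p) = x ^ n := fun n => by rw [← hx, pow_mod_orderOf]
        rw [← hc, ZMod.val_mul, e, pow_mul, ← hc, conj_pow, ← hc]
        simp only [Subgroup.coe_mul]
        group) }
  exact ⟨c'.toHomUnits, hc⟩

theorem card_eq_of_lt_sq {p : ℕ} (hp : p.Prime) {L P : Subgroup G} (hP : Nat.card P = p ^ 2) (h : L < P)
    (h1 : L ≠ ⊥) : Nat.card L = p := by
  have hd : Nat.card L ∣ p ^ 2 := hP ▸ Subgroup.card_dvd_of_le h.le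
  obtain ⟨i, hi, e⟩ := (Nat.dvd_prime_pow hp).1 hd
  have h2 := card_lt_of_lt h
  have h3 := one_lt_card h1
  rw [e] at h2 h3 ⊢
  interval_cases i
  · simp at h3
  · simp
  · omega

theorem regular_abelem2_on_abelem2 {p q : ℕ} (hp : p.Prime) (hq : q.Prime) {P Q : Subgroup G}
    (hP : IsElementaryAbelian p P) (hQ : IsElementaryAbelian q Q)
    (hP2 : Nat.card P = p ^ 2) (hQ2 : Nat.card Q = q ^ 2)
    (hQP : Q ≤ 𝒩(P)) (hfaith : Q ⊓ 𝒞(P) = ⊥) :
    q ∣ p - 1 ∧ ∃ a ∈ Q, a ≠ 1 ∧ ∃ r : ℕ, (∀ x ∈ P, a * x * a⁻¹ = x ^ r) ∧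
      r ^ q ≡ 1 [MOD p] ∧ ¬ r ≡ 1 [MOD p] := by
  haveI : Fact p.Prime := ⟨hp⟩
  have pP := abelem_pGrp hp hP
  have pQ := abelem_pGrp hq hQ
  have hpq : p ≠ q := by
    rintro rfl
    have pR : IsPGroup p ↥(P ⊔ Q) := (pP.sup pQ (Or.inr hQP)).isPGroup hp
    have h1 := P04.relIndex_cent_le hp pR le_sup_left (sup_le Subgroup.le_normalizer hQP) hP2.le
    have := P04.card_le_mul_card_inf (le_sup_right : Q ≤ P ⊔ Q) h1
    rw [inf_comm, hfaith, Subgroup.card_bot, one_mul, hQ2] at this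
    nlinarith [hp.one_lt]
  have hnc : ¬ IsCyclic Q := fun h => by
    have := P04.card_le_of_cyclic_exp hq h hQ.2
    rw [hQ2] at this
    nlinarith [hq.one_lt]
  have hgen : ∀ X : Subgroup G, X < P → ∃ x ∈ P, x ∉ X ∧ orderOf x = p ∧
      Q ≤ 𝒩(Subgroup.zpowers x) := by
    intro X hX
    by_contra h
    refine hX.not_ge (coprime_abelian_gen_cent1_le hQ.1 hnc hQP (pP.coprime_of_ne pQ hpq) ?_)
    intro y hy hy1 x hx
    by_contra hxX
    have hx1 : x ≠ 1 := fun e => hxX (e ▸ X.one_mem)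
    have hlt : P ⊓ 𝒞[y] < P := lt_of_le_not_ge inf_le_left fun h' =>
      hy1 (eq_one_of_inf_eq_bot hfaith hy (mem_cent_iff_le_cent_singleton.2 (h'.trans inf_le_right)))
    have hc := card_eq_of_lt_sq hp hP2 hlt (ne_bot_of_mem hx hx1)
    refine h ⟨x, hx.1, hxX, P04.orderOf_eq_of_pow hp hx1 (hP.2 x hx.1), ?_⟩
    rw [← eq_zpowers_of_card_prime (hc ▸ hp) hx hx1, ← cent_zpowers]
    exact norm_inf hQP (norm_cent (norm_of_le_abelian hQ.1 (Subgroup.zpowers_le.2 hy)))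
  have hP1 : ⊥ < P := by
    rw [bot_lt_iff_ne_bot, Ne, ← Subgroup.card_eq_one, hP2]
    exact (Nat.one_lt_pow two_ne_zero hp.one_lt).ne'
  obtain ⟨x₁, hx₁, -, ho₁, hn₁⟩ := hgen ⊥ hP1
  have hc₁ : Nat.card (Subgroup.zpowers x₁) = p := by rw [Nat.card_zpowers, ho₁]
  obtain ⟨x₂, hx₂, hx₂', ho₂, hn₂⟩ := hgen (Subgroup.zpowers x₁)
    (lt_of_le_of_card_lt (Subgroup.zpowers_le.2 hx₁) (by rw [hc₁, hP2]; nlinarith [hp.one_lt]))
  have hn : x₂ ∈ 𝒩(Subgroup.zpowers x₁) := norm_of_le_abelian hP.1 (Subgroup.zpowers_le.2 hx₁) hx₂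
  have hsup : Subgroup.zpowers x₁ ⊔ Subgroup.zpowers x₂ = P := by
    refine Subgroup.eq_of_le_of_card_ge (sup_le (Subgroup.zpowers_le.2 hx₁) (Subgroup.zpowers_le.2 hx₂)) ?_
    rw [P04.card_sup_zpowers hp hn hx₂' (by rw [hP.2 x₂ hx₂]; exact one_mem _), hc₁, hP2, pow_two]
  obtain ⟨r₁, hr₁⟩ := exists_pow_hom ho₁ hn₁
  obtain ⟨r₂, hr₂⟩ := exists_pow_hom ho₂ hn₂
  obtain ⟨a, ha, ha1⟩ : ∃ a : Q, r₁ a = r₂ a ∧ a ≠ 1 := by
    by_contra h
    push Not at h
    refine hnc (isCyclic_of_subgroup_isDomain ((Units.coeHom (ZMod p)).comp (r₁ / r₂)) ?_)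
    rw [injective_iff_map_eq_one]
    intro a ha
    refine h a ?_
    have : (r₁ / r₂) a = 1 := Units.ext ha
    rwa [MonoidHom.div_apply, div_eq_one] at this
  have hact : ∀ x ∈ P, (a : G) * x * (a : G)⁻¹ = x ^ (r₁ a : ZMod p).val := by
    intro x hx
    rw [← hsup] at hx
    obtain ⟨m, hm, j, rfl⟩ := P04.mem_sup_zpowers_nat hn hx
    obtain ⟨i, rfl⟩ := P04.exists_nat_of_mem_zpowers hm
    have hc : Commute (x₁ ^ i) (x₂ ^ j) :=
      P04.commute_of_abelian hP.1 (P.pow_mem hx₁ i) (P.pow_mem hx₂ j)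
    rw [hc.mul_pow, ← pow_mul, ← pow_mul, mul_comm i, mul_comm j, pow_mul, pow_mul, ← hr₁, ha, ← hr₂,
      conj_pow, conj_pow]
    group
  have hq1 : r₁ a ^ q = 1 := by
    have : a ^ q = 1 := Subtype.ext (hQ.2 a a.2)
    rw [← map_pow, this, map_one]
  have hne : r₁ a ≠ 1 := by
    intro e
    apply ha1
    refine Subtype.ext (eq_one_of_inf_eq_bot hfaith a.2 fun x hx => ?_)
    have := hact x hx
    rw [e, Units.val_one, ZMod.val_one, pow_one] at this
    conv_lhs => rw [← this]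
    group
  refine ⟨?_, a, a.2, fun e => ha1 (Subtype.ext e), _, hact, ?_, ?_⟩
  · haveI : Fact q.Prime := ⟨hq⟩
    rw [← orderOf_eq_prime hq1 hne]
    exact ZMod.orderOf_units_dvd_card_sub_one _
  · rw [← ZMod.natCast_eq_natCast_iff, Nat.cast_pow, ZMod.natCast_zmod_val, Nat.cast_one,
      ← Units.val_pow_eq_pow_val, hq1, Units.val_one]
  · rw [← ZMod.natCast_eq_natCast_iff, ZMod.natCast_zmod_val, Nat.cast_one]
    exact fun e => hne (Units.ext e)

/-- Elements of determinant one and order prime to `p` in `GL(2, p)`. -/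
theorem pow_eq_one_of_det_one {p : ℕ} [hp : Fact p.Prime] {X : Type u} [Group X] [Finite X]
    (hX : ¬ p ∣ Nat.card X) (hc : IsMulCommutative X) (m : X →* Matrix (Fin 2) (Fin 2) (ZMod p))
    (h : X) (hd : (m h).det = 1) : m (h ^ (p + 1)) = 1 ∨ m (h ^ (p - 1)) = 1 := by
  classical
  let k := AlgebraicClosure (ZMod p)
  let φ := algebraMap (ZMod p) k
  let ρ : X →* End k (Fin 2 → k) := (Matrix.toLinAlgEquiv' (n := Fin 2) (R := k)).toMonoidHom.comp
    ((RingHom.mapMatrix φ).toMonoidHom.comp m)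
  have hρ : ∀ g, ρ g = Matrix.toLin' ((m g).map φ) := fun g => rfl
  have hinj : ∀ g, ρ g = 1 → m g = 1 := fun g hg => by
    rw [← map_one ρ] at hg
    rw [← map_one m]
    exact Matrix.map_injective φ.injective ((Matrix.toLinAlgEquiv' (n := Fin 2) (R := k)).injective hg)
  obtain ⟨n, b, wt, hb⟩ := exists_eigenbasis (cast_ne_zero_of_not_dvd (k := k) hX) ρ (fun g h => by
    rw [← map_mul, ← map_mul, mul_comm'])
  have hn2 : n = 2 := by
    have := finrank_eq_card_basis b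
    simpa using this.symm
  subst hn2
  have hm : LinearMap.toMatrix b b (ρ h) = Matrix.diagonal fun i => (wt i h : k) := by
    ext i j
    rw [LinearMap.toMatrix_apply, hb, map_smul, Basis.repr_self, Matrix.diagonal_apply]
    by_cases e : i = j
    · subst e; simp
    · simp [e, Finsupp.single_apply, Ne.symm e]
  have h1 : (wt 0 h : k) * wt 1 h = 1 := by
    have := LinearMap.det_toMatrix b (ρ h)
    rw [hm, Matrix.det_diagonal, Fin.prod_univ_two, hρ, LinearMap.det_toLin', ← RingHom.mapMatrix_apply,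
      ← RingHom.map_det, hd, map_one] at this
    exact this
  have h2 : (wt 0 h : k) + wt 1 h = φ (m h).trace := by
    have := LinearMap.trace_eq_matrix_trace k b (ρ h)
    rw [hm, Matrix.trace_diagonal, Fin.sum_univ_two, hρ, Matrix.trace_toLin'_eq,
      ← AddMonoidHom.map_trace] at this
    exact this.symm
  have h3 : ((wt 0 h : k) ^ p - wt 0 h) * ((wt 0 h : k) ^ p - wt 1 h) = 0 := by
    have e1 : ((wt 0 h : k) + wt 1 h) ^ p = wt 0 h + wt 1 h := by rw [h2, ← map_pow, ZMod.pow_card]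
    have e2 : ((wt 0 h : k) * wt 1 h) ^ p = wt 0 h * wt 1 h := by rw [h1, one_pow]
    rw [add_pow_char] at e1
    rw [mul_pow] at e2
    linear_combination ((wt 0 h : k) ^ p) * e1 - e2
  have key : ∀ n : ℕ, (wt 0 h : k) ^ n = 1 → m (h ^ n) = 1 := by
    intro n hn
    have hn' : (wt 1 h : k) ^ n = 1 := by
      have := congrArg (· ^ n) h1
      simpa [mul_pow, hn] using this
    refine hinj _ (b.ext fun i => ?_)
    rw [hb, map_pow, Units.val_pow_eq_pow_val]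
    fin_cases i
    · simp [hn]
    · simp [hn']
  rcases mul_eq_zero.1 h3 with e | e
  · right
    apply key
    rw [sub_eq_zero, ← pow_sub_one_mul hp.out.ne_zero] at e
    exact mul_right_cancel₀ (Units.ne_zero _) (e.trans (one_mul _).symm)
  · left
    apply key
    rw [pow_succ, sub_eq_zero.1 e, mul_comm, h1]

omit [Finite G] in
theorem comm_mul_left_of_central {P : Subgroup G} (h : ⁅P, P⁆ ≤ 𝒞(P)) {x y z : G} (hx : x ∈ P)
    (hy : y ∈ P) (hz : z ∈ P) : ⁅x * y, z⁆ = ⁅x, z⁆ * ⁅y, z⁆ := by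
  have := h (Subgroup.commutator_mem_commutator hy hz) x hx
  have h2 := h (Subgroup.commutator_mem_commutator hy hz) _
    (comm_le_of_le le_rfl le_rfl (Subgroup.commutator_mem_commutator hx hz))
  rw [h2]
  calc ⁅x * y, z⁆ = (x * ⁅y, z⁆) * (z * x⁻¹ * z⁻¹) := by simp only [commutatorElement_def]; group
    _ = ⁅y, z⁆ * ⁅x, z⁆ := by rw [this]; simp only [commutatorElement_def]; group

omit [Finite G] in
theorem comm_mul_right_of_central {P : Subgroup G} (h : ⁅P, P⁆ ≤ 𝒞(P)) {x y z : G} (hx : x ∈ P)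
    (hy : y ∈ P) (hz : z ∈ P) : ⁅x, y * z⁆ = ⁅x, y⁆ * ⁅x, z⁆ := by
  have := h (Subgroup.commutator_mem_commutator hx hz) y hy
  calc ⁅x, y * z⁆ = ⁅x, y⁆ * (y * ⁅x, z⁆) * y⁻¹ := by simp only [commutatorElement_def]; group
    _ = ⁅x, y⁆ * ⁅x, z⁆ := by rw [this]; group

omit [Finite G] in
theorem comm_pow_pow_of_central {P : Subgroup G} (h : ⁅P, P⁆ ≤ 𝒞(P)) {x y : G} (hx : x ∈ P)
    (hy : y ∈ P) (a b : ℕ) : ⁅x ^ a, y ^ b⁆ = ⁅x, y⁆ ^ (a * b) := by
  have h1 : ∀ b : ℕ, ⁅x, y ^ b⁆ = ⁅x, y⁆ ^ b := fun b => by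
    induction b with
    | zero => simp
    | succ b ih => rw [pow_succ, comm_mul_right_of_central h hx (P.pow_mem hy b) hy, ih, pow_succ]
  induction a with
  | zero => simp
  | succ a ih =>
    rw [pow_succ, comm_mul_left_of_central h (P.pow_mem hx a) hx (P.pow_mem hy b), ih, h1, ← pow_add,
      add_mul, one_mul]

omit [Finite G] in
theorem comm_det_of_central {P : Subgroup G} (h : ⁅P, P⁆ ≤ 𝒞(P)) {x y z z' : G} (hx : x ∈ P)
    (hy : y ∈ P) (hz : z ∈ 𝒵(P)) (hz' : z' ∈ 𝒵(P)) (a b c d : ℕ) :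
    ⁅x ^ a * y ^ c * z, x ^ b * y ^ d * z'⁆ * ⁅x, y⁆ ^ (b * c) = ⁅x, y⁆ ^ (a * d) := by
  have hxa := P.pow_mem hx a
  have hxb := P.pow_mem hx b
  have hyc := P.pow_mem hy c
  have hyd := P.pow_mem hy d
  have e1 : ∀ u ∈ P, ⁅z, u⁆ = 1 := fun u hu => commutatorElement_eq_one_iff_mul_comm.2 (hz.2 u hu).symm
  have e2 : ∀ u ∈ P, ⁅u, z'⁆ = 1 := fun u hu => commutatorElement_eq_one_iff_mul_comm.2 (hz'.2 u hu)
  have hv := P.mul_mem (P.mul_mem hxb hyd) hz'.1
  rw [comm_mul_left_of_central h (P.mul_mem hxa hyc) hz.1 hv, e1 _ hv, mul_one,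
    comm_mul_right_of_central h (P.mul_mem hxa hyc) (P.mul_mem hxb hyd) hz'.1,
    e2 _ (P.mul_mem hxa hyc), mul_one, comm_mul_left_of_central h hxa hyc (P.mul_mem hxb hyd),
    comm_mul_right_of_central h hxa hxb hyd, comm_mul_right_of_central h hyc hxb hyd,
    comm_pow_pow_of_central h hx hx, comm_pow_pow_of_central h hx hy, comm_pow_pow_of_central h hy hx,
    comm_pow_pow_of_central h hy hy, ← commutatorElement_inv x y, commutatorElement_self,
    commutatorElement_self, one_pow, one_pow, one_mul, mul_one, mul_comm c b, inv_pow,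
    inv_mul_cancel_right]

theorem extraspecial3_prime_sdprod_cycle {p : ℕ} (hp : p.Prime) {P H : Subgroup G}
    (hP3 : Nat.card P = p ^ 3) (hPna : ¬ IsMulCommutative P) (hHP : H ≤ 𝒩(P)) (hH : IsCyclic H)
    (hp' : ¬ p ∣ Nat.card H) (hreg : ∀ x ∈ H, x ≠ 1 → P ⊓ 𝒞[x] = 𝒵(P)) :
    Nat.card H ∣ p + 1 ∨ Nat.card H ∣ p - 1 := by
  classical
  haveI : Fact p.Prime := ⟨hp⟩
  have pP : IsPGrp p P := pGrp_of_card_eq_pow hp hP3
  obtain ⟨-, oZ, hder, -⟩ := P04.p3group_extraspecial hp (pP.isPGroup hp) hPna hP3.le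
  have hcl : ⁅P, P⁆ ≤ 𝒞(P) := hder.le.trans inf_le_right
  set Z := 𝒵(P) with hZ
  have hZP : Z ⊲ P := center_normalIn P
  have hHZ : H ≤ 𝒩(Z) := norm_inf hHP (norm_cent hHP)
  have oV : Nat.card (P /ₛ Z) = p ^ 2 := by
    have := card_mul_card_quot hZP
    rw [oZ, hP3, pow_succ' p 2] at this
    exact Nat.eq_of_mul_eq_mul_left hp.pos this
  have hV : IsElementaryAbelian p (P /ₛ Z) := by
    refine ⟨(quot_abelian_iff hZP.2).2 hder.le, fun v hv => ?_⟩
    by_contra hv1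
    refine hPna (abelian_of_cyclic_quot hZP.1 (le_cent_symm inf_le_right) ?_)
    have h1 : orderOf v ∣ p ^ 2 := oV ▸ orderOf_dvd_card_of_mem hv
    obtain ⟨i, hi, e⟩ := (Nat.dvd_prime_pow hp).1 h1
    have : i = 2 := by
      by_contra h2
      refine hv1 (orderOf_dvd_iff_pow_eq_one.1 ?_)
      rw [e]
      exact (pow_dvd_pow p (by omega : i ≤ 1)).trans (pow_one p).dvd
    refine cyclic_iff_eq_zpowers.2 ⟨v, hv, (Subgroup.eq_of_le_of_card_ge (Subgroup.zpowers_le.2 hv) ?_).symm⟩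
    rw [Nat.card_zpowers, e, this, oV]
  obtain ⟨W, _, _, _, ρ, e, he⟩ := exists_rep_prime hV
  have hW : finrank (ZMod p) W = 2 := by
    have h1 : Nat.card W = p ^ 2 := by
      rw [← oV, Nat.card_congr e.toEquiv]; rfl
    rw [Module.natCard_eq_pow_finrank (K := ZMod p), Nat.card_zmod] at h1
    exact Nat.pow_right_injective hp.two_le h1
  let b : Basis (Fin 2) (ZMod p) W := Module.finBasisOfFinrankEq _ W hW
  have hx : ∀ i, ∃ x : 𝒩(Z), (x : G) ∈ P ∧ coset Z x = e.symm (Multiplicative.ofAdd (b i)) :=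
    fun i => mem_quot.1 (e.symm (Multiplicative.ofAdd (b i))).2
  choose x hxP hxe using hx
  have hdec : ∀ (u : 𝒩(Z)) (hu : (u : G) ∈ P), ∃ z ∈ Z, (u : G) =
      x 0 ^ (b.repr (Multiplicative.toAdd (e ⟨coset Z u, mem_quot.2 ⟨u, hu, rfl⟩⟩)) 0).val *
      x 1 ^ (b.repr (Multiplicative.toAdd (e ⟨coset Z u, mem_quot.2 ⟨u, hu, rfl⟩⟩)) 1).val * z := by
    intro u hu
    set w := Multiplicative.toAdd (e ⟨coset Z u, mem_quot.2 ⟨u, hu, rfl⟩⟩) with hw
    have h1 : w = (b.repr w 0).val • b 0 + (b.repr w 1).val • b 1 := by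
      conv_lhs => rw [← b.sum_repr w, Fin.sum_univ_two]
      rw [← Nat.cast_smul_eq_nsmul (ZMod p), ← Nat.cast_smul_eq_nsmul (ZMod p), ZMod.natCast_zmod_val,
        ZMod.natCast_zmod_val]
    have h2 : coset Z (x 0 ^ (b.repr w 0).val * x 1 ^ (b.repr w 1).val) = coset Z u := by
      have : e.symm (Multiplicative.ofAdd w) = ⟨coset Z u, mem_quot.2 ⟨u, hu, rfl⟩⟩ := by
        rw [hw, ofAdd_toAdd, MulEquiv.symm_apply_apply]
      have h3 := congrArg Subtype.val this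
      rw [h1, ofAdd_add, ofAdd_nsmul, ofAdd_nsmul, map_mul, map_pow, map_pow] at h3
      rw [map_mul, map_pow, map_pow, hxe, hxe]
      exact h3
    refine ⟨_, coset_eq_iff.1 h2, ?_⟩
    simp only [Subgroup.coe_mul, Subgroup.coe_pow, mul_inv_cancel_left]
  have hz1 : ⁅(x 0 : G), (x 1 : G)⁆ ≠ 1 := by
    intro h1
    apply hPna
    rw [abelian_iff_forall]
    intro u hu v hv
    have hdec' : ∀ u ∈ P, ∃ a c : ℕ, ∃ z ∈ Z, u = x 0 ^ a * x 1 ^ c * z := fun u hu => by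
      obtain ⟨z, hz, e1⟩ := hdec ⟨u, hZP.2 hu⟩ hu
      exact ⟨_, _, z, hz, e1⟩
    obtain ⟨a, c, z, hz, rfl⟩ := hdec' u hu
    obtain ⟨a', c', z', hz', rfl⟩ := hdec' v hv
    rw [← commutatorElement_eq_one_iff_mul_comm]
    have := comm_det_of_central hcl (hxP 0) (hxP 1) hz hz' a a' c c'
    rwa [h1, one_pow, one_pow, mul_one] at this
  have hzZ : ⁅(x 0 : G), (x 1 : G)⁆ ∈ Z := hder.le (Subgroup.commutator_mem_commutator (hxP 0) (hxP 1))
  have hzo : orderOf ⁅(x 0 : G), (x 1 : G)⁆ = p :=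
    P04.orderOf_eq_of_pow hp hz1 (P04.pow_eq_one_of_card oZ hzZ)
  have hHV : H /ₛ Z ≤ 𝒩(P /ₛ Z) := quot_norm Z hHP
  let j : H →* 𝒩(P /ₛ Z) := (Subgroup.inclusion hHV).comp (imgHom (coset Z) hHZ)
  have hj : ∀ g : H, (j g : Coset Z) = coset Z ⟨g, hHZ g.2⟩ := fun g => rfl
  let m : H →* Matrix (Fin 2) (Fin 2) (ZMod p) :=
    (LinearMap.toMatrixAlgEquiv b).toMonoidHom.comp (MonoidHom.comp ρ j)
  have hm : ∀ g i l, m g i l = b.repr (ρ (j g) (b l)) i := fun g i l =>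
    LinearMap.toMatrixAlgEquiv_apply b _ i l
  have hinj : ∀ g, m g = 1 → g = 1 := by
    intro g hg
    by_contra hg1
    have hg1' : (g : G) ≠ 1 := fun e => hg1 (Subtype.ext e)
    have h1 : ρ (j g) = 1 := by
      rw [← map_one (LinearMap.toMatrixAlgEquiv b)] at hg
      exact (LinearMap.toMatrixAlgEquiv b).injective hg
    have h2 : P /ₛ Z ≤ 𝒞(Subgroup.zpowers (g : G) /ₛ Z) := by
      have := quot_zpowers (K := Z) ⟨g, hHZ g.2⟩
      rw [show Subgroup.zpowers (g : G) /ₛ Z = _ from this, cent_zpowers]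
      intro v hv
      have h3 := he (j g) ⟨v, hv⟩
      rw [h1, Module.End.one_apply] at h3
      have h4 := congrArg Subtype.val (e.injective (Multiplicative.toAdd.injective h3))
      change v = (j g : Coset Z) * v * (j g : Coset Z)⁻¹ at h4
      rw [mem_cent1, ← hj]
      conv_lhs => rw [h4]
      group
    have hz : Subgroup.zpowers (g : G) ≤ H := Subgroup.zpowers_le.2 g.2
    have h3 := coprime_quotient_cent hZP.1 (hz.trans hHZ)
      (pP.coprime_of_not_dvd fun h => hp' (h.trans (Subgroup.card_dvd_of_le hz))) (Or.inl pP.sol)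
    rw [inf_eq_left.2 h2, cent_zpowers, hreg g g.2 hg1', quot_self] at h3
    rw [← h3, Subgroup.card_bot] at oV
    exact (Nat.one_lt_pow two_ne_zero hp.one_lt).ne oV
  obtain ⟨h, hh⟩ := hH.exists_generator
  have hord : orderOf h = Nat.card H := orderOf_eq_card_of_forall_mem_zpowers hh
  have hdet : (m h).det = 1 := by
    by_cases h1 : h = 1
    · rw [h1, map_one, Matrix.det_one]
    have h1' : (h : G) ≠ 1 := fun e => h1 (Subtype.ext e)
    have hc : ∀ l, ∃ z ∈ Z, (h : G) * x l * (h : G)⁻¹ =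
        x 0 ^ (m h 0 l).val * x 1 ^ (m h 1 l).val * z := by
      intro l
      have hu : (h : G) * x l * (h : G)⁻¹ ∈ P := conj_mem_of_le_norm hHP h.2 (hxP l)
      obtain ⟨z, hz, e1⟩ := hdec ⟨_, hZP.2 hu⟩ hu
      refine ⟨z, hz, ?_⟩
      have e2 : ρ (j h) (b l) =
          Multiplicative.toAdd (e ⟨coset Z ⟨_, hZP.2 hu⟩, mem_quot.2 ⟨_, hu, rfl⟩⟩) := by
        have := he (j h) (e.symm (Multiplicative.ofAdd (b l)))
        rw [MulEquiv.apply_symm_apply, toAdd_ofAdd] at this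
        rw [this]
        congr 2
        apply Subtype.ext
        change (j h : Coset Z) * _ * (j h : Coset Z)⁻¹ = _
        rw [← hxe, hj, ← map_inv, ← map_mul, ← map_mul]
        rfl
      rw [hm, hm, e2]
      exact e1
    obtain ⟨z, hz, e1⟩ := hc 0
    obtain ⟨z', hz', e2⟩ := hc 1
    have e3 := comm_det_of_central hcl (hxP 0) (hxP 1) hz hz' (m h 0 0).val (m h 0 1).val
      (m h 1 0).val (m h 1 1).val
    have e4 : (h : G) * ⁅(x 0 : G), (x 1 : G)⁆ * (h : G)⁻¹ = ⁅(x 0 : G), (x 1 : G)⁆ := by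
      have : ⁅(x 0 : G), (x 1 : G)⁆ ∈ P ⊓ 𝒞[(h : G)] := by rw [hreg h h.2 h1']; exact hzZ
      rw [← mem_cent1.1 this.2]; group
    rw [← e1, ← e2, ← conjugate_commutatorElement, e4, ← pow_succ', pow_eq_pow_iff_modEq, hzo,
      ← ZMod.natCast_eq_natCast_iff] at e3
    push_cast at e3
    simp only [ZMod.natCast_zmod_val] at e3
    rw [Matrix.det_fin_two]
    linear_combination -e3
  rw [← hord]
  exact (pow_eq_one_of_det_one hp' (abelian_of_cyclic hH) m h hdet).imp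
    (fun e => orderOf_dvd_of_pow_eq_one (hinj _ e)) (fun e => orderOf_dvd_of_pow_eq_one (hinj _ e))

end CA.BG.P02
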