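/-
Interface for section 2 of the local analysis (representation theory): statements used later.
Owner: helper6.
-/
import Cfsg.Agent.BG.P02b

set_option autoImplicit false

namespace CA.BG

open Cfsg CA.FG

universe u v w

variable {G : Type u} [Group G] [Finite G]

/-- Theorem 2.6, linear form: for a faithful 2-dimensional representation of a group of odd order over
any field `F`, every prime divisor of `|X'|` is the characteristic of `F`. -/
theorem der1_odd_GL2_charf {F : Type v} {V : Type w} {X : Type u} [Field F] [AddCommGroup V]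
    [Module F V] [Group X] [Finite X] (hV : Module.finrank F V = 2) (ρ : X →* (V →ₗ[F] V))
    (hρ : Function.Injective ρ) (hodd : Odd (Nat.card X)) :
    ∀ q : ℕ, q.Prime → q ∣ Nat.card (commutator X) → (q : F) = 0 := by
  exact P02.der1_odd_GL2_charf hV ρ hρ hodd

/-- Theorem 2.6, internal form: `A` of odd order acting on an elementary abelian `p`-group `V` of order
at most `p ^ 2`; then `A' / C_{A'}(V)` is a `p`-group. -/
theorem der1_odd_abelem2_relIndex {p : ℕ} (hp : p.Prime) {V A : Subgroup G}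
    (hV : IsElementaryAbelian p V) (hV2 : Nat.card V ≤ p ^ 2) (hA : A ≤ 𝒩(V))
    (hodd : Odd (Nat.card A)) :
    PiNat {p} ((⁅A, A⁆ ⊓ 𝒞(V)).relIndex ⁅A, A⁆) := by
  apply P02.der1_odd_abelem2_relIndex <;> assumption

/-- Theorem 2.6(b), faithful internal form. -/
theorem der1_odd_abelem2_pgroup {p : ℕ} (hp : p.Prime) {V A : Subgroup G}
    (hV : IsElementaryAbelian p V) (hV2 : Nat.card V ≤ p ^ 2) (hA : A ≤ 𝒩(V))
    (hodd : Odd (Nat.card A)) (hfaith : A ⊓ 𝒞(V) = ⊥) :
    IsPGrp p ⁅A, A⁆ := by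
  apply P02.der1_odd_abelem2_pgroup <;> assumption

/-- Theorem 2.6(a), internal form: a `p'`-group of odd order acting on an elementary abelian `p`-group of
order at most `p ^ 2` acts as an abelian group. -/
theorem charf'_abelem2_der1_cent {p : ℕ} (hp : p.Prime) {V A : Subgroup G}
    (hV : IsElementaryAbelian p V) (hV2 : Nat.card V ≤ p ^ 2) (hA : A ≤ 𝒩(V))
    (hodd : Odd (Nat.card A)) (hp' : ¬ p ∣ Nat.card A) :
    ⁅A, A⁆ ≤ 𝒞(V) := by
  apply P02.charf'_abelem2_der1_cent <;> assumption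

/-- Theorem 2.6(b), faithful internal form: some (every) Sylow `p`-subgroup is abelian and contains `A'`. -/
theorem charf_abelem2_der_subS_abelian_Sylow {p : ℕ} (hp : p.Prime) {V A : Subgroup G}
    (hV : IsElementaryAbelian p V) (hV2 : Nat.card V ≤ p ^ 2) (hA : A ≤ 𝒩(V))
    (hodd : Odd (Nat.card A)) (hfaith : A ⊓ 𝒞(V) = ⊥) {P : Subgroup G} (hP : IsSylowOf p P A) :
    IsMulCommutative P ∧ ⁅A, A⁆ ≤ P := by
  apply P02.charf_abelem2_der_subS_abelian_Sylow <;> assumption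

/-- Lemma 2.7. -/
theorem regular_abelem2_on_abelem2 {p q : ℕ} (hp : p.Prime) (hq : q.Prime) {P Q : Subgroup G}
    (hP : IsElementaryAbelian p P) (hQ : IsElementaryAbelian q Q)
    (hP2 : Nat.card P = p ^ 2) (hQ2 : Nat.card Q = q ^ 2)
    (hQP : Q ≤ 𝒩(P)) (hfaith : Q ⊓ 𝒞(P) = ⊥) :
    q ∣ p - 1 ∧ ∃ a ∈ Q, a ≠ 1 ∧ ∃ r : ℕ, (∀ x ∈ P, a * x * a⁻¹ = x ^ r) ∧
      r ^ q ≡ 1 [MOD p] ∧ ¬ r ≡ 1 [MOD p] := by
  apply P02.regular_abelem2_on_abelem2 <;> assumption

/-- Theorem 2.5, first part, for a non-abelian group of order `p ^ 3`: a cyclic `p'`-group `H` acting on `P`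
with `C_P(x) = Z(P)` for all `x ∈ H#` has order dividing `p + 1` or `p - 1`. -/
theorem extraspecial3_prime_sdprod_cycle {p : ℕ} (hp : p.Prime) {P H : Subgroup G}
    (hP3 : Nat.card P = p ^ 3) (hPna : ¬ IsMulCommutative P) (hHP : H ≤ 𝒩(P)) (hH : IsCyclic H)
    (hp' : ¬ p ∣ Nat.card H) (hreg : ∀ x ∈ H, x ≠ 1 → P ⊓ 𝒞[x] = 𝒵(P)) :
    Nat.card H ∣ p + 1 ∨ Nat.card H ∣ p - 1 := by
  apply P02.extraspecial3_prime_sdprod_cycle <;> assumption

end CA.BG
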