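/-
Section 3, part b: Lemma 3.3, Theorems 3.4, 3.5, 3.10 and the fixed point formula.
Owner: helper6.
-/
import Cfsg.Agent.BG.Rep5
import Cfsg.Agent.BG.I01
import Cfsg.Agent.BG.P04c

set_option autoImplicit false

namespace CA.BG.P03

open Module Cfsg CA.FG CA.BG.Rep

universe u v w

variable {G : Type u} [Group G] [Finite G]

theorem cop_of_le_left {A B C : Subgroup G} (h : (Nat.card A).Coprime (Nat.card B)) (hC : C ≤ A) :
    (Nat.card C).Coprime (Nat.card B) := h.coprime_dvd_left (Subgroup.card_dvd_of_le hC)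

theorem cop_of_le_right {A B C : Subgroup G} (h : (Nat.card A).Coprime (Nat.card B)) (hC : C ≤ B) :
    (Nat.card A).Coprime (Nat.card C) := h.coprime_dvd_right (Subgroup.card_dvd_of_le hC)

theorem not_dvd_of_cop {p : ℕ} (hp : p.Prime) {V K : Subgroup G} (hV : IsElementaryAbelian p V)
    (h1 : V ≠ ⊥) (h : (Nat.card V).Coprime (Nat.card K)) : ¬ p ∣ Nat.card K :=
  (Nat.Prime.coprime_iff_not_dvd hp).1 (h.coprime_dvd_left ((abelem_pGrp hp hV).dvd_card h1))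

theorem Frobenius_rfix_compl {M K R V : Subgroup G} (h : IsFrob M K R) (hV : IsMulCommutative V)
    (hn : M ≤ 𝒩(V)) (hco : (Nat.card V).Coprime (Nat.card K)) (hK : ¬ K ≤ 𝒞(V)) :
    V ⊓ 𝒞(R) ≠ ⊥ := by
  intro hC
  have hKV : K ≤ 𝒩(V) := h.1.left_le.trans hn
  have h0 : ⁅V, K⁆ ≠ ⊥ := fun e => hK (comm_eq_bot_iff'.1 e)
  have hle : ⁅V, K⁆ ≤ V := comm_le_left hKV
  obtain ⟨p, U, hp, hU, hU1, hUe, hMU, -⟩ := exists_norm_abelem h0
    (sol_of_abelian (abelian_of_le hV hle)) (norm_comm hn h.1.normal.2)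
  obtain ⟨m, h1, h2, -⟩ := frob_card hp hUe (h.1.left_le.trans hMU) (h.1.right_le.trans hMU) h.1.norm
    h.2.2.2 (not_dvd_of_cop hp hUe hU1 (cop_of_le_left hco (hU.trans hle)))
  have e1 : U ⊓ 𝒞(R) = ⊥ := eq_bot_iff.2 ((inf_le_inf_right _ (hU.trans hle)).trans hC.le)
  have e2 : U ⊓ 𝒞(K) = ⊥ :=
    eq_bot_iff.2 ((inf_le_inf_right _ hU).trans (coprime_abel_cent_TI hKV hco hV).le)
  rw [e1, Subgroup.card_bot] at h2
  rw [e2, Subgroup.card_bot, Nat.eq_one_of_mul_eq_one_left h2.symm, one_pow, one_mul,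
    Subgroup.card_eq_one] at h1
  exact hU1 h1

theorem le_one_of_mul_pow_le {p a m : ℕ} (hp : p.Prime) (ha : 0 < a) (h : a * p ^ m ≤ p) : m ≤ 1 := by
  by_contra hm
  have : p ^ 2 ≤ p ^ m := Nat.pow_le_pow_right hp.pos (by omega)
  nlinarith [hp.one_lt]

theorem Frobenius_prime_cent_le {k : ℕ} (hk : k.Prime) {K R V : Subgroup G} (hn : R ≤ 𝒩(K))
    (hreg : Semiregular K R) (hV : IsElementaryAbelian k V) (hK : K ≤ 𝒩(V)) (hR : R ≤ 𝒩(V))
    (hk' : ¬ k ∣ Nat.card K) (hC : Nat.card ↥(V ⊓ 𝒞(R)) ≤ k) : ⁅K, K⁆ ≤ 𝒞(V) := by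
  obtain ⟨m, -, h2, h3⟩ := frob_card hk hV hK hR hn hreg hk'
  rw [h2] at hC
  exact h3 (le_one_of_mul_pow_le hk Nat.card_pos hC)

theorem Frobenius_prime_cent_prime {k : ℕ} (hk : k.Prime) {M K R V : Subgroup G} (h : IsFrob M K R)
    (hV : IsElementaryAbelian k V) (hn : M ≤ 𝒩(V)) (hk' : ¬ k ∣ Nat.card K)
    (hC : Nat.card ↥(V ⊓ 𝒞(R)) = k) :
    ⁅K, K⁆ ≤ K ⊓ 𝒞(V) :=
  le_inf (comm_le_of_le le_rfl le_rfl) (Frobenius_prime_cent_le hk h.1.norm h.2.2.2 hV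
    (h.1.left_le.trans hn) (h.1.right_le.trans hn) hk' hC.le)

/-! ### sections -/

omit [Finite G] in
/-- Semiregular action is preserved by a quotient that is injective on the product. -/
theorem semiregular_quot_of_TI {K R M T : Subgroup G} (h : Semiregular K R) (hK : K ≤ M) (hR : R ≤ M)
    (hT : T ⊓ M = ⊥) : Semiregular (K /ₛ T) (R /ₛ T) := by
  intro x hx hx1
  obtain ⟨r, hr, rfl⟩ := mem_quot.1 hx
  refine inf_eq_bot_of_forall fun y hy hc => ?_
  obtain ⟨k, hk, rfl⟩ := mem_quot.1 hy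
  have hr1 : (r : G) ≠ 1 := fun e => hx1 (by rw [show r = 1 from Subtype.ext e, map_one])
  have h1 : coset T (k * r * k⁻¹ * r⁻¹) = 1 := by
    rw [map_mul, map_mul, map_mul, map_inv, map_inv, mem_cent1.1 hc]; group
  have h2 : (k : G) * r * (k : G)⁻¹ * (r : G)⁻¹ = 1 := eq_one_of_inf_eq_bot hT (coset_eq_one_iff.1 h1)
    (M.mul_mem (M.mul_mem (M.mul_mem (hK hk) (hR hr)) (M.inv_mem (hK hk))) (M.inv_mem (hR hr)))
  have h3 : (k : G) = 1 := eq_one_of_inf_eq_bot (h r hr hr1) hk (mem_cent1.2 (by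
    calc (k : G) * r = (k : G) * r * (k : G)⁻¹ * (r : G)⁻¹ * (r * k) := by group
      _ = r * k := by rw [h2, one_mul]))
  rw [show k = 1 from Subtype.ext h3, map_one]

theorem card_cent_section {V T A : Subgroup G} (hT : T ⊲ V) (hA : A ≤ 𝒩(T))
    (co : (Nat.card V).Coprime (Nat.card A)) (sol : Group.IsSolvable V ∨ Group.IsSolvable A) :
    Nat.card ↥(V ⊓ 𝒞(A)) = Nat.card ↥(T ⊓ 𝒞(A)) * Nat.card ↥((V /ₛ T) ⊓ 𝒞(A /ₛ T)) := by
  rw [← coprime_quotient_cent hT.1 hA co sol, card_quot (inf_le_left.trans hT.2),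
    ← card_inf_mul_relIndex T, ← inf_assoc, inf_eq_left.2 hT.1]

/-- A normal subgroup of a coprime group of operators that centralizes all elementary abelian
invariant sections of a solvable group centralizes the group. -/
theorem cent_of_sections {M A V : Subgroup G} (hsol : Group.IsSolvable V) (hn : M ≤ 𝒩(V)) (hA : A ⊲ M)
    (co : (Nat.card V).Coprime (Nat.card A))
    (h : ∀ (p : ℕ) (T U : Subgroup G), p.Prime → T ⊲ U → T < U → U ≤ V → M ≤ 𝒩(T) → M ≤ 𝒩(U) →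
      IsElementaryAbelian p (U /ₛ T) → A /ₛ T ≤ 𝒞(U /ₛ T)) : A ≤ 𝒞(V) := by
  by_contra hc
  have h0 : ⊥ < ⁅V, A⁆ := bot_lt_iff_ne_bot.2 fun e => hc (comm_eq_bot_iff'.1 e)
  have hAV : A ≤ 𝒩(V) := hA.1.trans hn
  have hle : ⁅V, A⁆ ≤ V := comm_le_left hAV
  have hN : ⁅V, A⁆ ⊲ V ⊔ M :=
    ⟨hle.trans le_sup_left, sup_le (comm_normalIn_left hAV).2 (norm_comm hn hA.2)⟩
  obtain ⟨T, -, hT⟩ := chiefFactor_exists_below hN (norm_bot _) h0
  obtain ⟨p, hp, he⟩ := hT.abelem (sol_of_le hsol hle)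
  have hMT : M ≤ 𝒩(T) := le_sup_right.trans hT.normal_left.2
  have := h p T _ hp hT.normal hT.lt hle hMT (le_sup_right.trans hN.2) he
  rw [quot_cent_iff' (hA.1.trans hMT) hT.normal.2, coprime_commGid hAV co (Or.inl hsol)] at this
  exact hT.lt.not_ge this

theorem Frobenius_Wielandt_eq {K R V : Subgroup G} (hn : R ≤ 𝒩(K)) (hreg : Semiregular K R)
    (hK : K ≤ 𝒩(V)) (hR : R ≤ 𝒩(V)) (hco : (Nat.card V).Coprime (Nat.card ↥(K ⊔ R)))
    (hsol : Group.IsSolvable V) :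
    Nat.card ↥(V ⊓ 𝒞(K ⊔ R)) ^ Nat.card R * Nat.card V
        = Nat.card ↥(V ⊓ 𝒞(R)) ^ Nat.card R * Nat.card ↥(V ⊓ 𝒞(K)) := by
  induction' hc : Nat.card V using Nat.strong_induction_on with n ih generalizing V
  subst hc
  by_cases h0 : V = ⊥
  · subst h0; simp
  have hM : K ⊔ R ≤ 𝒩(V) := sup_le hK hR
  have hN : V ⊲ V ⊔ (K ⊔ R) := ⟨le_sup_left, sup_le Subgroup.le_normalizer hM⟩
  obtain ⟨T, -, hT⟩ := chiefFactor_exists_below hN (norm_bot _) (bot_lt_iff_ne_bot.2 h0)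
  obtain ⟨p, hp, he⟩ := hT.abelem hsol
  have hMT : K ⊔ R ≤ 𝒩(T) := le_sup_right.trans hT.normal_left.2
  have hKT := le_sup_left.trans hMT
  have hRT := le_sup_right.trans hMT
  have hcoT := cop_of_le_left hco hT.lt.le
  have hTI := inf_eq_bot_of_cop hcoT
  have i1 := ih _ (card_lt_of_lt hT.lt) hKT hRT hcoT (sol_of_le hsol hT.lt.le) rfl
  have hV1 : V /ₛ T ≠ ⊥ := fun e => hT.lt.not_ge ((quot_eq_bot_iff hT.normal.2).1 e)
  obtain ⟨m, h1, h2, -⟩ := frob_card hp he (quot_norm T hK) (quot_norm T hR) (quot_norm T hn)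
    (semiregular_quot_of_TI hreg le_sup_left le_sup_right hTI)
    (not_dvd_of_cop hp he hV1 (coprime_quot T (cop_of_le_right hco le_sup_left)))
  rw [card_quot_of_inf_eq_bot hRT
    (eq_bot_iff.2 ((inf_le_inf_left _ le_sup_right).trans hTI.le))] at h1
  rw [← quot_sup hKT hRT] at h2
  rw [card_cent_section hT.normal hMT hco (Or.inl hsol),
    card_cent_section hT.normal hRT (cop_of_le_right hco le_sup_right) (Or.inl hsol),
    card_cent_section hT.normal hKT (cop_of_le_right hco le_sup_left) (Or.inl hsol),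
    ← card_mul_card_quot hT.normal, h1, h2, mul_pow, mul_pow, mul_pow]
  linear_combination (Nat.card ↥((V /ₛ T) ⊓ 𝒞((K ⊔ R) /ₛ T)) ^ Nat.card R *
    (Nat.card ↥((V /ₛ T) ⊓ 𝒞(K /ₛ T)) * (p ^ m) ^ Nat.card R)) * i1

theorem Frobenius_Wielandt_fixpoint {M K R V : Subgroup G} (h : IsFrob M K R) (hn : M ≤ 𝒩(V))
    (hco : (Nat.card V).Coprime (Nat.card M)) (hsol : Group.IsSolvable V) :
    Nat.card ↥(V ⊓ 𝒞(M)) ^ Nat.card R * Nat.card V
        = Nat.card ↥(V ⊓ 𝒞(R)) ^ Nat.card R * Nat.card ↥(V ⊓ 𝒞(K)) ∧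
      (V ⊓ 𝒞(R) = ⊥ → K ≤ 𝒞(V)) ∧
      (V ⊓ 𝒞(K) = ⊥ → Nat.card V = Nat.card ↥(V ⊓ 𝒞(R)) ^ Nat.card R) := by
  have e := h.1.sup_eq
  subst e
  have key := Frobenius_Wielandt_eq h.1.norm h.2.2.2 (le_sup_left.trans hn) (le_sup_right.trans hn)
    hco hsol
  refine ⟨key, fun h1 => ?_, fun h1 => ?_⟩
  · have h2 : V ⊓ 𝒞(K ⊔ R) = ⊥ :=
      eq_bot_iff.2 ((inf_le_inf_left _ (cent_anti le_sup_right)).trans h1.le)
    rw [h1, h2, Subgroup.card_bot, one_pow, one_mul, one_mul] at key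
    exact le_cent_symm (inf_eq_left.1 (Subgroup.eq_of_le_of_card_ge inf_le_left key.le))
  · have h2 : V ⊓ 𝒞(K ⊔ R) = ⊥ :=
      eq_bot_iff.2 ((inf_le_inf_left _ (cent_anti le_sup_left)).trans h1.le)
    rwa [h1, h2, Subgroup.card_bot, one_pow, one_mul, mul_one] at key

theorem Frobenius_cyclic_cent {M K R V : Subgroup G} (h : IsFrob M K R) (hn : M ≤ 𝒩(V))
    (hsol : Group.IsSolvable V) (hco : (Nat.card V).Coprime (Nat.card M))
    (hc : IsCyclic ↥(V ⊓ 𝒞(R))) : ⁅K, K⁆ ≤ 𝒞(V) := by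
  have hK := h.1.normal
  refine cent_of_sections hsol hn (hK.comm hK)
    (cop_of_le_right hco ((comm_le_of_le le_rfl le_rfl).trans hK.1)) ?_
  intro p T U hp hT hlt hU hMT hMU he
  have hKT := hK.1.trans hMT
  have hRT := h.1.right_le.trans hMT
  have hV1 : U /ₛ T ≠ ⊥ := fun e => hlt.not_ge ((quot_eq_bot_iff hT.2).1 e)
  have hcoU := cop_of_le_left hco hU
  rw [quot_comm hKT hKT]
  refine Frobenius_prime_cent_le hp (quot_norm T h.1.norm)
    (semiregular_quot_of_TI h.2.2.2 hK.1 h.1.right_le (inf_eq_bot_of_cop (cop_of_le_left hcoU hT.1)))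
    he (quot_norm T (hK.1.trans hMU)) (quot_norm T (h.1.right_le.trans hMU))
    (not_dvd_of_cop hp he hV1 (coprime_quot T (cop_of_le_right hcoU hK.1))) ?_
  refine P04.card_le_of_cyclic_exp hp ?_ fun x hx => he.2 x hx.1
  rw [← coprime_quotient_cent hT.1 hRT (cop_of_le_right hcoU h.1.right_le)
    (Or.inl (sol_of_le hsol hU))]
  exact cyclic_quot T (cyclic_of_le hc (inf_le_inf_right _ hU))

theorem Frobenius_primact {M K R V : Subgroup G} (h : IsFrob M K R) (hn : M ≤ 𝒩(V))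
    (hsol : Group.IsSolvable V) (hV : V ≠ ⊥) (hco : (Nat.card V).Coprime (Nat.card M))
    (hprim : Semiprime V R) (hC : V ⊓ 𝒞(K) = ⊥) :
    (Nat.card R).Prime ∧ Nat.card V = Nat.card ↥(V ⊓ 𝒞(R)) ^ Nat.card R ∧
      (IsCyclic ↥(V ⊓ 𝒞(R)) → ⁅K, K⁆ ≤ K ⊓ 𝒞(V)) := by
  have h1 := (Frobenius_Wielandt_fixpoint h hn hco hsol).2.2 hC
  refine ⟨?_, h1, fun hc => le_inf (comm_le_of_le le_rfl le_rfl) (Frobenius_cyclic_cent h hn hsol hco hc)⟩
  obtain ⟨r, hr, hd⟩ := exists_prime_dvd_card h.2.2.1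
  obtain ⟨X, hX, oX⟩ := exists_le_card_eq_prime hr hd
  have hX1 : X ≠ ⊥ := ne_bot_of_card_prime (oX ▸ hr)
  have hle : K ⊔ X ≤ M := sup_le h.1.left_le (hX.trans h.1.right_le)
  have h2 := (Frobenius_Wielandt_fixpoint (Frobenius_subr h hX1 hX) (hle.trans hn)
    (cop_of_le_right hco hle) hsol).2.2 hC
  rw [cent_semiprime hprim hX hX1, h1, oX] at h2
  have h3 : 2 ≤ Nat.card ↥(V ⊓ 𝒞(R)) := by
    by_contra h4
    have h5 : 0 < Nat.card ↥(V ⊓ 𝒞(R)) := Nat.card_pos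
    rw [show Nat.card ↥(V ⊓ 𝒞(R)) = 1 by omega, one_pow, Subgroup.card_eq_one] at h1
    exact hV h1
  rw [Nat.pow_right_injective h3 h2]
  exact hr

/-! ### Theorem 3.4 -/

/-- The structure of a `p`-group acted on nontrivially by a coprime group that centralizes all proper
invariant subgroups. -/
theorem min_act_struct {K A B : Subgroup G} (hA : A ≤ 𝒩(K)) (hB : B ≤ 𝒩(K)) (hBA : B ≤ 𝒩(A))
    (nilK : Group.IsNilpotent K) (co : (Nat.card K).Coprime (Nat.card A)) (hnc : ¬ K ≤ 𝒞(A))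
    (hmin : ∀ X : Subgroup G, X < K → A ≤ 𝒩(X) → B ≤ 𝒩(X) → X ≤ 𝒞(A)) :
    ⁅K, A⁆ = K ∧ ⁅K, K⁆ ≤ 𝒞(A) ∧ K ⊓ 𝒞(A) ≤ 𝒞(K) := by
  have hK1 : K ≠ ⊥ := fun e => hnc (e ▸ bot_le)
  have h1 : ⁅K, A⁆ = K := by
    by_contra hne
    have := hmin _ (lt_of_le_of_ne (comm_le_left hA) hne) (norm_comm hA Subgroup.le_normalizer)
      (norm_comm hB hBA)
    exact hnc (le_cent_symm (coprime_commGG1P hA co (Or.inl (sol_of_nil nilK)) (comm_eq_bot_iff.2 this)))
  have h2 : ⁅K, K⁆ ≤ 𝒞(A) :=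
    hmin _ (der_lt_of_sol (sol_of_nil nilK) hK1) (norm_comm hA hA) (norm_comm hB hB)
  refine ⟨h1, h2, ?_⟩
  rw [← comm_eq_bot_iff']
  conv_lhs => rw [← h1]
  rw [h1]
  have h3 : ⁅⁅K, A⁆, K ⊓ 𝒞(A)⁆ = ⊥ := by
    refine three_subgroup ?_ ?_
    · rw [comm_eq_bot_iff'.2 inf_le_right, Subgroup.commutator_bot_left]
    · exact comm_eq_bot_iff.2 ((Subgroup.commutator_mono inf_le_left le_rfl).trans h2)
  rwa [h1] at h3

section rep

variable {k : Type v} [Field k] [IsAlgClosed k]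

theorem odd_sdprod_irr {W : Type w} [AddCommGroup W] [Module k W] [FiniteDimensional k W] [Nontrivial W]
    {K R : Subgroup G} (ρ : Representation k (⊤ : Subgroup G) W) (hρ : Function.Injective ρ)
    (hs : K ⊔ R = ⊤) (hn : R ≤ 𝒩(K)) (oK : Odd (Nat.card K)) (oR : Odd (Nat.card R))
    (hR : (Nat.card R).Prime) (co : (Nat.card K).Coprime (Nat.card R)) (hkK : (Nat.card K : k) ≠ 0)
    (hkR : (Nat.card R : k) ≠ 0) (h0 : fixS ρ R = ⊥)
    (hirr : ∀ U : Submodule k W, (∀ g, ∀ v ∈ U, ρ g v ∈ U) → U = ⊥ ∨ U = ⊤)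
    (hmin : ∀ X : Subgroup G, X < K → R ≤ 𝒩(X) → X ≤ 𝒞(R)) : K ≤ 𝒞(R) := by
  by_contra hnc
  have solR := sol_of_abelian (abelian_of_cyclic (isCyclic_of_card_prime hR))
  have nilK : Group.IsNilpotent K := by
    by_contra hnil
    refine hnc (le_of_exists_sylow fun p hp _ => ?_)
    obtain ⟨P, hP, hRP⟩ := sol_coprime_Sylow_exists hp (Or.inr solR) hn co
    refine ⟨P, hP, hmin P (lt_of_le_of_ne hP.le ?_) hRP⟩
    rintro rfl
    exact hnil hP.pGrp.nil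
  obtain ⟨-, h2, h3⟩ := min_act_struct hn hn Subgroup.le_normalizer nilK co hnc
    (fun X hX h _ => hmin X hX h)
  have hdim := odd_core hkK hkR hR oK oR (conjHom hn) (resS ρ le_top) (resS ρ le_top)
    (resS_conjHom ρ le_top le_top hn) (fun U hU1 hU2 => hirr U (by
      rintro ⟨g, hg⟩ v hv
      rw [← hs] at hg
      obtain ⟨a, ha, b, hb, rfl⟩ := (mem_sup_of_right_le_norm hn).1 hg
      have := hU1 ⟨a, ha⟩ _ (hU2 ⟨b, hb⟩ v hv)
      rwa [resS_apply, resS_apply, ← Module.End.mul_apply, ← map_mul] at this))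
    ((𝒞(R)).subgroupOf K) (fun c hc => by
      rw [Subgroup.mem_center_iff]
      intro g
      exact Subtype.ext (h3 (Subgroup.mem_inf.2 ⟨c.2, hc⟩) g g.2))
    (by
      rw [commutator_def, ← Subgroup.subgroupOf_self, ← subgroupOf_comm le_rfl le_rfl]
      exact Subgroup.comap_mono h2)
    (fun x c hc => conj_mem_of_le_norm (norm_cent Subgroup.le_normalizer) x.2 hc)
    (fun x hx g hg => by
      have hx1 : (x : G) ≠ 1 := fun e => hx (Subtype.ext e)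
      set c : G := (g : G)⁻¹ * (x * g * (x : G)⁻¹) with hc
      have hcR : c ∈ 𝒞(R) := hg
      have hcK : c ∈ K := K.mul_mem (K.inv_mem g.2) (conj_mem_of_le_norm hn x.2 g.2)
      have e1 : (x : G) * c = c * x := hcR x x.2
      have e2 : ∀ n : ℕ, (x : G) ^ n * g * ((x : G) ^ n)⁻¹ = g * c ^ n := by
        intro n
        induction n with
        | zero => simp
        | succ n ih =>
          have e3 : (x : G) * c ^ n = c ^ n * x := (Commute.pow_right e1 n)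
          calc (x : G) ^ (n + 1) * g * ((x : G) ^ (n + 1))⁻¹
              = x * ((x : G) ^ n * g * ((x : G) ^ n)⁻¹) * (x : G)⁻¹ := by rw [pow_succ']; group
            _ = (x * g * (x : G)⁻¹) * (x * c ^ n) * (x : G)⁻¹ := by rw [ih]; group
            _ = g * c ^ (n + 1) := by
              rw [e3, pow_succ', ← mul_assoc (g : G) c, show (g : G) * c = x * g * (x : G)⁻¹ by
                rw [hc]; group]
              group
      have e4 := e2 (Nat.card R)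
      rw [pow_card_eq_one_of_mem x.2, one_mul, inv_one, mul_one, eq_comm, mul_eq_left] at e4
      have e5 : c = 1 := by
        rw [← orderOf_eq_one_iff]
        exact Nat.eq_one_of_dvd_coprimes co (orderOf_dvd_card_of_mem hcK) (orderOf_dvd_of_pow_eq_one e4)
      change (g : G) ∈ 𝒞(R)
      rw [cent_eq_cent_singleton_of_prime hR x.2 hx1, mem_cent1]
      calc (g : G) * x = g * c * x := by rw [e5, mul_one]
        _ = x * g := by rw [hc]; group)
    (by rw [invariants_resS, h0])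
  apply hnc
  rw [le_cent_iff_forall]
  intro x _ y _
  have : (⟨x, trivial⟩ * ⟨y, trivial⟩ : (⊤ : Subgroup G)) = ⟨y, trivial⟩ * ⟨x, trivial⟩ := by
    apply hρ
    rw [map_mul, map_mul]
    obtain ⟨v, hv⟩ := finrank_le_one_iff.1 hdim.le
    ext w
    obtain ⟨c, rfl⟩ := hv w
    obtain ⟨a, ha⟩ := hv (ρ ⟨x, trivial⟩ v)
    obtain ⟨b, hb⟩ := hv (ρ ⟨y, trivial⟩ v)
    simp only [Module.End.mul_apply, map_smul, ← ha, ← hb, smul_smul]
    congr 1; ring
  exact congrArg Subtype.val this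

theorem odd_sdprod_rep (n : ℕ) : ∀ (G : Type u) [Group G] [Finite G] (W : Type w) [AddCommGroup W]
    [Module k W] [FiniteDimensional k W] (M K R : Subgroup G) (ρ : Representation k M W),
    Nat.card K = n → K ≤ M → R ≤ M → R ≤ 𝒩(K) → Odd (Nat.card K) → Odd (Nat.card R) →
    (Nat.card R).Prime → (Nat.card K).Coprime (Nat.card R) → (Nat.card K : k) ≠ 0 →
    (Nat.card R : k) ≠ 0 → fixS ρ R = ⊥ → fixS ρ ⁅R, K⁆ = ⊤ := by
  induction n using Nat.strong_induction_on with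
  | _ n ih =>
  intro G _ _ W _ _ _ M K R ρ hc hK hR hn oK oR pR co hkK hkR h0
  subst hc
  have hM : K ⊔ R ≤ M := sup_le hK hR
  have hcm : ⁅R, K⁆ ≤ K ⊔ R := comm_le_of_le le_sup_right le_sup_left
  rw [← fixS_resS ρ hM hcm]
  rw [← fixS_resS ρ hM le_sup_right] at h0
  refine fixS_eq_top_of_irr ?_ _ _ fun U hU hU0 hirr => ?_
  · rw [card_sup_of_inf_eq_bot (Or.inr hn) (inf_eq_bot_of_cop co), Nat.cast_mul]
    exact mul_ne_zero hkK hkR
  haveI : Nontrivial U := Submodule.nontrivial_iff_ne_bot.2 hU0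
  have h1 := fixS_subS_eq_bot _ U hU h0
  obtain ⟨G', _, _, f, ρ', hsurj, hinj, hρ', hfix, hbot⟩ := exists_faithful (subS _ U hU)
  have hR1 : img f R ≠ ⊥ := fun e => by
    rw [hbot R le_sup_right, h1] at e
    exact bot_ne_top e
  have oR' : Nat.card (img f R) = Nat.card R :=
    ((Nat.dvd_prime pR).1 (card_img_dvd R)).resolve_left fun e => hR1 (Subgroup.card_eq_one.1 e)
  have hcast : ∀ {a b : ℕ}, a ∣ b → (b : k) ≠ 0 → (a : k) ≠ 0 := by
    rintro a _ ⟨c, rfl⟩ h e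
    exact h (by rw [Nat.cast_mul, e, zero_mul])
  have key := odd_sdprod_irr (K := img f K) (R := img f R) ρ' hinj
    (by rw [← img_sup le_sup_left le_sup_right, img_dom, MonoidHom.range_eq_top.2 hsurj])
    (img_norm hn) (odd_img f oK) (odd_img f oR) (oR' ▸ pR) (coprime_img f co)
    (hcast (card_img_dvd K) hkK) (hcast (card_img_dvd R) hkR) (by rw [hfix, h1])
    (fun U' hU' => hirr U' fun g v hv => by rw [← hρ']; exact hU' _ v hv)
    (fun X hX hRX => by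
      have hXd : Nat.card X ∣ Nat.card K := (Subgroup.card_dvd_of_le hX.le).trans (card_img_dvd K)
      have := ih _ ((card_lt_of_lt hX).trans_le (Nat.le_of_dvd Nat.card_pos (card_img_dvd K))) G' U ⊤ X
        (img f R) ρ' rfl le_top le_top hRX (oK.of_dvd_nat hXd) (odd_img f oR) (oR' ▸ pR)
        (oR' ▸ co.coprime_dvd_left hXd) (hcast hXd hkK) (hcast (card_img_dvd R) hkR) (by rw [hfix, h1])
      exact comm_eq_bot_iff'.1 ((fixS_eq_top_iff_of_inj hinj le_top).1 this))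
  have h2 : fixS (subS _ U hU) ⁅R, K⁆ = ⊤ := by
    rw [← hbot _ hcm, img_comm le_sup_right le_sup_left]
    exact comm_eq_bot_iff'.2 key
  intro v hv
  exact (mem_fixS_subS _ U hU _ ⟨v, hv⟩).1 (h2 ▸ Submodule.mem_top)

end rep

theorem odd_prime_abelem_cent {p : ℕ} (hp : p.Prime) {K R V : Subgroup G} (hn : R ≤ 𝒩(K))
    (oK : Odd (Nat.card K)) (oR : Odd (Nat.card R)) (hR : (Nat.card R).Prime)
    (hco : (Nat.card K).Coprime (Nat.card R)) (hV : IsElementaryAbelian p V) (hKV : K ≤ 𝒩(V))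
    (hRV : R ≤ 𝒩(V)) (hK' : ¬ p ∣ Nat.card K) (hR' : ¬ p ∣ Nat.card R) (hC : V ⊓ 𝒞(R) = ⊥) :
    ⁅R, K⁆ ≤ 𝒞(V) := by
  obtain ⟨k, _, _, _, W, _, _, _, ρ, hb⟩ := exists_bridge hp hV
  rw [hb.le_cent_iff hp (comm_le_of_le hRV hKV)]
  exact odd_sdprod_rep _ G W _ K R ρ rfl hKV hRV hn oK oR hR hco (cast_ne_zero_of_not_dvd hK')
    (cast_ne_zero_of_not_dvd hR') ((hb.eq_bot_iff hp hRV).1 hC)

theorem odd_prime_sdprod_abelem_cent1 {k : ℕ} (hk : k.Prime) {M K R V : Subgroup G}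
    (hodd : Odd (Nat.card M)) (h : SDProd K R M)
    (hco : (Nat.card K).Coprime (Nat.card R)) (hR : (Nat.card R).Prime) (hV : IsElementaryAbelian k V)
    (hn : M ≤ 𝒩(V)) (hk' : ¬ k ∣ Nat.card M) (hC : V ⊓ 𝒞(R) = ⊥) :
    ⁅R, K⁆ ≤ K ⊓ 𝒞(V) :=
  le_inf (comm_le_right h.norm) (odd_prime_abelem_cent hk h.norm (odd_of_le hodd h.left_le)
    (odd_of_le hodd h.right_le) hR hco hV (h.left_le.trans hn) (h.right_le.trans hn)
    (fun e => hk' (e.trans (Subgroup.card_dvd_of_le h.left_le)))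
    (fun e => hk' (e.trans (Subgroup.card_dvd_of_le h.right_le))) hC)

theorem odd_prime_sdprod_cent1 {M K R V : Subgroup G} (hodd : Odd (Nat.card M)) (h : SDProd K R M)
    (hco : (Nat.card K).Coprime (Nat.card R)) (hR : (Nat.card R).Prime) (hV : Group.IsSolvable V)
    (hn : M ≤ 𝒩(V)) (hcoV : (Nat.card V).Coprime (Nat.card M)) (hC : V ⊓ 𝒞(R) = ⊥) :
    ⁅R, K⁆ ≤ K ⊓ 𝒞(V) := by
  refine le_inf (comm_le_right h.norm) ?_
  have hN : ⁅R, K⁆ ⊲ M := by
    have := comm_normalIn_sup R K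
    rwa [sup_comm, h.sup_eq] at this
  refine cent_of_sections hV hn hN (cop_of_le_right hcoV hN.1) ?_
  intro p T U hp hT hlt hU hMT hMU he
  have hKT := h.left_le.trans hMT
  have hRT := h.right_le.trans hMT
  have hV1 : U /ₛ T ≠ ⊥ := fun e => hlt.not_ge ((quot_eq_bot_iff hT.2).1 e)
  have hcoU := cop_of_le_left hcoV hU
  have oR : Nat.card (R /ₛ T) = Nat.card R := card_quot_of_inf_eq_bot hRT
    (inf_eq_bot_of_cop (cop_of_le_right (cop_of_le_left hcoU hT.1) h.right_le))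
  rw [quot_comm hRT hKT]
  refine odd_prime_abelem_cent hp (quot_norm T h.norm) (odd_quot T (odd_of_le hodd h.left_le))
    (odd_quot T (odd_of_le hodd h.right_le)) (oR ▸ hR) (coprime_quot T hco) he
    (quot_norm T (h.left_le.trans hMU)) (quot_norm T (h.right_le.trans hMU))
    (not_dvd_of_cop hp he hV1 (coprime_quot T (cop_of_le_right hcoU h.left_le)))
    (not_dvd_of_cop hp he hV1 (coprime_quot T (cop_of_le_right hcoU h.right_le))) ?_
  rw [← coprime_quotient_cent hT.1 hRT (cop_of_le_right hcoU h.right_le) (Or.inl (sol_of_le hV hU)),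
    eq_bot_iff.2 ((inf_le_inf_right _ hU).trans hC.le), bot_quot]

end CA.BG.P03
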