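/-
Section 3, part c: Theorems 3.7, 3.8 and Proposition 3.9 with its corollaries.
Owner: helper6.
-/
import Cfsg.Agent.BG.P03b

set_option autoImplicit false

namespace CA.BG.P03

open Cfsg CA.FG

universe u

variable {G : Type u} [Group G] [Finite G]

omit [Finite G] in
theorem sol_of_card_prime {R : Subgroup G} (hR : (Nat.card R).Prime) : Group.IsSolvable R :=
  sol_of_abelian (abelian_of_cyclic (isCyclic_of_card_prime hR))

theorem cent_of_minNormal {K R V : Subgroup G} (hn : R ≤ 𝒩(K)) (hreg : Semiregular K R) (hR : R ≠ ⊥)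
    (solK : Group.IsSolvable K) (hV : MinNormal V (K ⊔ R)) (hVK : V ≤ K) : K ≤ 𝒞(V) := by
  obtain ⟨p, hp, he⟩ := hV.abelem (sol_of_le solK hVK)
  have hKV : K ≤ 𝒩(V) := le_sup_left.trans hV.norm
  have hRV : R ≤ 𝒩(V) := le_sup_right.trans hV.norm
  obtain ⟨P, hP⟩ := sylow_exists hp K
  have pV := abelem_pGrp hp he
  have h1 : V ⊓ 𝒞(P) ≤ V ⊓ 𝒞(K) := by
    refine le_inf inf_le_left (le_cent_symm (le_of_exists_sylow fun q hq _ => ?_))
    by_cases hqp : q = p
    · subst hqp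
      exact ⟨P, hP, le_cent_symm inf_le_right⟩
    obtain ⟨Q, hQ, hRQ⟩ := sol_coprime_Sylow_exists hq (Or.inl solK) hn (regular_norm_coprime hn hreg)
    refine ⟨Q, hQ, le_trans ?_ (cent_anti inf_le_left)⟩
    by_contra hc
    have hQ1 : Q ≠ ⊥ := fun e => hc (e ▸ bot_le)
    exact Frobenius_rfix_compl (isFrob_sup hRQ (semiregularS hreg hQ.le le_rfl) hQ1 hR) he.1
      (sup_le (hQ.le.trans hKV) hRV) (pV.coprime_of_ne hQ.pGrp (Ne.symm hqp)) hc
      (cent_semiregular (semiregularS hreg hVK le_rfl) le_rfl hR)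
  have h2 := ne_bot_mono h1 (pGrp_inf_cent_ne_bot pV hP.pGrp (hP.le.trans hKV) hV.ne_bot)
  have h3 := (hV.eq_bot_or_eq inf_le_left (norm_inf hV.norm
    (norm_cent (sup_le Subgroup.le_normalizer hn)))).resolve_left h2
  exact le_cent_symm (inf_eq_left.1 h3)

theorem regular_sol_nil {K R : Subgroup G} (hn : R ≤ 𝒩(K)) (hsol : Group.IsSolvable K) (hR : R ≠ ⊥)
    (hreg : Semiregular K R) : Group.IsNilpotent K := by
  have hK : K ⊲ K ⊔ R := ⟨le_sup_left, sup_le Subgroup.le_normalizer hn⟩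
  refine nil_of_le (fitting_nil K) (chief_stab_sub_Fitting hsol hK le_rfl fun U V hch hU => ?_)
  have hUK : U ≤ K := hU.trans (fitting_le K)
  have hKV : K ≤ 𝒩(V) := le_sup_left.trans hch.normal_left.2
  have hRV : R ≤ 𝒩(V) := le_sup_right.trans hch.normal_left.2
  have hVK : V ≤ K := hch.lt.le.trans hUK
  rw [← quot_cent_iff' hKV hch.normal.2]
  refine cent_of_minNormal (quot_norm V hn) (semiregular_quotient hn hreg ⟨hVK, hKV⟩ hRV) ?_
    (sol_quot V hsol) (quot_sup hKV hRV ▸ hch.minNormal) (quot_mono V hUK)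
  intro e
  apply hR
  rw [eq_bot_iff, ← inf_eq_bot_of_cop (regular_norm_coprime hn hreg)]
  exact le_inf (((quot_eq_bot_iff hRV).1 e).trans hVK) le_rfl

theorem prime_regular_sol_nil {K R : Subgroup G} (hn : R ≤ 𝒩(K))
    (hsol : Group.IsSolvable K) (hR : (Nat.card R).Prime) (hC : K ⊓ 𝒞(R) = ⊥) :
    Group.IsNilpotent K :=
  regular_sol_nil hn hsol (ne_bot_of_card_prime hR) (semiregular_of_prime hR hC)

theorem prime_Frobenius_sol_kernel_nil {M K R : Subgroup G} (h : SDProd K R M)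
    (hsol : Group.IsSolvable K) (hR : (Nat.card R).Prime) (hC : K ⊓ 𝒞(R) = ⊥) :
    Group.IsNilpotent K := prime_regular_sol_nil h.norm hsol hR hC

theorem Frobenius_sol_kernel_nil {M K R : Subgroup G} (h : IsFrob M K R) (hsol : Group.IsSolvable K) :
    Group.IsNilpotent K := regular_sol_nil h.1.norm hsol h.2.2.1 h.2.2.2

/-! ### Theorem 3.8 -/

theorem odd_prime_commg_sub_Fitting {K R : Subgroup G} (hn : R ≤ 𝒩(K)) (oK : Odd (Nat.card K))
    (oR : Odd (Nat.card R)) (hsol : Group.IsSolvable K) (hR : (Nat.card R).Prime)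
    (hco : (Nat.card K).Coprime (Nat.card R)) (hF : fittingOf K ⊓ 𝒞(R) = ⊥) :
    ⁅K, R⁆ ≤ fittingOf K := by
  set F := fittingOf K with hFdef
  have hFK : F ⊲ K := fitting_normal K
  have hRF : R ≤ 𝒩(F) := norm_fitting hn
  rw [← quot_cent_iff' hRF hFK.2]
  have h1 := coprime_cent_Fitting (quot_norm F hn) (coprime_quot F hco) (sol_quot F hsol)
  refine le_trans (le_inf le_rfl (le_cent_symm (fitting_le_of_forall_pcore fun p hp => ?_))) h1
  set L := quotPre F (pCoreOf p (K /ₛ F)) with hL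
  have hLK : L ⊲ K := quotPre_normalIn_of hFK (pcore_normal _ _)
  have hRL : R ≤ 𝒩(L) := le_norm_quotPre hRF (norm_pcore _ (quot_norm F hn))
  obtain ⟨P, hP, hRP⟩ := sol_coprime_Sylow_exists hp (Or.inl (sol_of_le hsol hLK.1)) hRL
    (cop_of_le_left hco hLK.1)
  have hPK : P ≤ K := hP.le.trans hLK.1
  have hPq : P /ₛ F = pCoreOf p (K /ₛ F) := by
    have := hP.quot (K := F) (hLK.1.trans hFK.2)
    rw [hL, quot_quotPre] at this
    exact this.eq_self (pcore_pGrp _ _)
  set V := pPrimeCoreOf p F with hV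
  have hVF : V ≤ F := pcore_le _ _
  have hVK : V ⊲ K := hFK.pcore _
  have hcoPR := cop_of_le_left hco hPK
  have h2 := odd_prime_sdprod_cent1 (M := P ⊔ R) (V := V) (by
      rw [card_sup_of_inf_eq_bot (Or.inr hRP) (inf_eq_bot_of_cop hcoPR)]
      exact (odd_of_le oK hPK).mul oR)
    (sdprod_mk hRP rfl (inf_eq_bot_of_cop hcoPR)) hcoPR hR (sol_of_le hsol hVK.1)
    (sup_le (hPK.trans hVK.2) (norm_pcore _ hRF)) (by
      rw [card_sup_of_inf_eq_bot (Or.inr hRP) (inf_eq_bot_of_cop hcoPR)]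
      exact Nat.Coprime.mul_right (PiNat.coprime' (pcore_piGrp _ _) hP.piGrp)
        (cop_of_le_left hco hVK.1))
    (eq_bot_iff.2 ((inf_le_inf_right _ hVF).trans hF.le))
  have h3 : L ⊓ 𝒞(V) ≤ F := by
    refine fitting_max ⟨inf_le_left.trans hLK.1, norm_inf hLK.2 (norm_cent hVK.2)⟩
      (nil_of_quot_of_cent (K := V) inf_le_right (IsPGrp.nil (p := p) ?_))
    refine IsPiGrp.of_le ?_ (quot_mono V inf_le_left)
    rw [piGrp_quot_iff (hLK.1.trans hVK.2),
      ← Subgroup.relIndex_mul_relIndex V F L hVF (le_quotPre _)]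
    refine PiNat.mul ?_ ?_
    · exact piNat_compl_compl.1 (nilpotent_pcore_Hall _ (fitting_nil K)).index
    · rw [hL, relIndex_quotPre_self]
      exact pcore_pGrp _ _
  rw [← hPq, quot_cent_iff' (hPK.trans hFK.2) hRF]
  exact h2.trans ((inf_le_inf_right _ hP.le).trans h3)

theorem odd_sdprod_primact_commg_sub_Fitting {M K R : Subgroup G} (h : SDProd K R M)
    (hodd : Odd (Nat.card M)) (hsol : Group.IsSolvable M)
    (hco : (Nat.card R).Coprime (Nat.card K)) (hprim : Semiprime K R) (hF : fittingOf K ⊓ 𝒞(R) = ⊥) :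
    ⁅K, R⁆ ≤ fittingOf K := by
  by_cases hR : R = ⊥
  · rw [hR, Subgroup.commutator_bot_right]; exact bot_le
  obtain ⟨r, hr, hd⟩ := exists_prime_dvd_card hR
  obtain ⟨X, hX, oX⟩ := exists_le_card_eq_prime hr hd
  have hX1 : X ≠ ⊥ := ne_bot_of_card_prime (oX ▸ hr)
  have solK := sol_of_le hsol h.left_le
  have hXK := hX.trans h.norm
  have hcoX := cop_of_le_right hco.symm hX
  have h1 := odd_prime_commg_sub_Fitting hXK (odd_of_le hodd h.left_le)
    (odd_of_le hodd (hX.trans h.right_le)) solK (oX ▸ hr) hcoX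
    (by rw [cent_semiprime (semiprimeS hprim (fitting_le K) le_rfl) hX hX1, hF])
  have h2 := coprime_cent_prod hXK hcoX (Or.inl solK)
  rw [cent_semiprime hprim hX hX1] at h2
  conv_lhs => rw [← h2]
  refine comm_sup_left_le ((comm_le_left hXK).trans (fitting_norm K))
    (inf_le_left.trans (fitting_norm K)) ?_ ?_
  · exact (Subgroup.commutator_mono h1 le_rfl).trans (comm_le_left (norm_fitting h.norm))
  · rw [comm_eq_bot_iff.2 inf_le_right]; exact bot_le

/-! ### Proposition 3.9 -/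

theorem abelian_regular_cyclic {H R : Subgroup G} (hR : IsMulCommutative R) (hH : H ≠ ⊥)
    (hn : R ≤ 𝒩(H)) (hreg : Semiregular H R) : IsCyclic R := by
  by_contra hc
  exact hH (le_bot_iff.1 (coprime_abelian_gen_cent1_le hR hc hn (regular_norm_coprime hn hreg)
    fun a ha ha1 => (hreg a ha ha1).le))

theorem odd_regular_pgroup_cyclic {p : ℕ} (hp : p.Prime) {H R : Subgroup G} (hR : IsPGrp p R)
    (hodd : Odd (Nat.card R)) (hH : H ≠ ⊥) (hn : R ≤ 𝒩(H)) (hreg : Semiregular H R) :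
    IsCyclic R := by
  by_contra hc
  have pR := hR.isPGroup hp
  obtain ⟨S, hS, hE⟩ := P04.ex_normal_p2Elem hp (P04.ne_two_of_odd hp pR hodd (ne_bot_of_not_cyclic hc))
    pR hc
  exact P04.not_cyclic_of_pnElem2 (R := S) hp ⟨le_rfl, hE.2⟩
    (abelian_regular_cyclic hE.2.1.1 hH (hS.1.trans hn) (semiregularS hreg le_rfl hS.1))

theorem odd_regular_Zgroup {H R : Subgroup G} (hodd : Odd (Nat.card R)) (hH : H ≠ ⊥) (hn : R ≤ 𝒩(H))
    (hreg : Semiregular H R) : IsZGroup R := by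
  refine ⟨fun p hp P => ?_⟩
  have hP := sylow_map_subtype hp P
  exact (cyclic_map_iff_of_inj R.subtype_injective).1 (odd_regular_pgroup_cyclic hp hP.pGrp
    (odd_of_le hodd hP.le) hH (hP.le.trans hn) (semiregularS hreg le_rfl hP.le))

theorem regular_prime_sdprod_cyclic {H K S : Subgroup G} (hK : (Nat.card K).Prime)
    (hS : (Nat.card S).Prime) (hSK : S ≤ 𝒩(K)) (hH : H ≠ ⊥) (hn : K ⊔ S ≤ 𝒩(H))
    (hreg : Semiregular H (K ⊔ S)) : IsCyclic ↥(K ⊔ S) := by
  refine abelian_regular_cyclic (abelian_sup (abelian_of_cyclic (isCyclic_of_card_prime hK))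
    (abelian_of_cyclic (isCyclic_of_card_prime hS)) ?_) hH hn hreg
  refine (inf_eq_bot_or_le_of_card_prime hK _).resolve_left fun h => ?_
  have hF := isFrob_sup hSK (semiregular_of_prime hS h) (ne_bot_of_card_prime hK)
    (ne_bot_of_card_prime hS)
  have co := regular_norm_coprime hn hreg
  obtain ⟨q, hq, hd⟩ := exists_prime_dvd_card hH
  obtain ⟨Q, hQ, hnQ⟩ := sol_coprime_Sylow_exists hq
    (Or.inr (sol_sup (sol_of_card_prime hK) (sol_of_card_prime hS) (Or.inr hSK))) hn co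
  have hZ := center_nil_ne_bot hQ.pGrp.nil (IsSylowOf.ne_bot' hQ hq hd)
  have hZH : 𝒵(Q) ≤ H := inf_le_left.trans hQ.le
  have hregZ := semiregularS hreg hZH le_rfl
  refine Frobenius_rfix_compl hF (abelian_inf_cent Q) (norm_inf hnQ (norm_cent hnQ))
    (cop_of_le_right (cop_of_le_left co hZH) le_sup_left) (fun hc => hZ ?_)
    (cent_semiregular hregZ le_sup_right (ne_bot_of_card_prime hS))
  rw [← cent_semiregular hregZ le_sup_left (ne_bot_of_card_prime hK), inf_eq_left.2 (le_cent_symm hc)]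

theorem regular_pq_group_cyclic {p q : ℕ} (hp : p.Prime) (hq : q.Prime) (hpq : p ≠ q) {H R : Subgroup G}
    (hR : Nat.card R = p * q) (hH : H ≠ ⊥) (hn : R ≤ 𝒩(H)) (hreg : Semiregular H R) :
    IsCyclic R := by
  wlog hlt : p < q generalizing p q
  · exact this hq hp hpq.symm (by rw [hR, mul_comm]) (by omega)
  obtain ⟨S, hS, oS⟩ := exists_le_card_eq_prime hp (hR ▸ Dvd.intro q rfl : p ∣ Nat.card R)
  have hi : S.relIndex R = q := by
    have := card_mul_relIndex hS
    rw [oS, hR] at this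
    exact Nat.eq_of_mul_eq_mul_left hp.pos this
  have hsyl : IsSylowOf p S R := sylow_mk hS (pGrp_of_card_eq hp oS) (by
    rw [hi]; exact fun h => hpq ((Nat.prime_dvd_prime_iff_eq hp hq).1 h))
  have hsd := cyclic_pdiv_normal_complement hp (fun r hr hd => by
    rw [hR] at hd
    rcases (Nat.Prime.dvd_mul hr).1 hd with h | h
    · exact ((Nat.prime_dvd_prime_iff_eq hr hp).1 h).ge
    · exact hlt.le.trans ((Nat.prime_dvd_prime_iff_eq hr hq).1 h).ge) hsyl
    (isCyclic_of_card_prime (oS ▸ hp))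
  have oK : Nat.card (pPrimeCoreOf p R) = q := by
    have := hsd.card_mul
    rw [oS, hR, mul_comm] at this
    exact Nat.eq_of_mul_eq_mul_left hp.pos this
  have := regular_prime_sdprod_cyclic (oK ▸ hq) (oS ▸ hp) hsd.norm hH (hsd.sup_eq.symm ▸ hn)
    (hsd.sup_eq.symm ▸ hreg)
  rwa [hsd.sup_eq] at this

theorem odd_regular_metacyclic {H R : Subgroup G} (hodd : Odd (Nat.card R)) (hH : H ≠ ⊥)
    (hn : R ≤ 𝒩(H)) (hreg : Semiregular H R) : IsMetacyclic R :=
  Zgroup_metacyclic (odd_regular_Zgroup hodd hH hn hreg)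

theorem prime_odd_regular_normal {H R S : Subgroup G} (hS : (Nat.card S).Prime)
    (hodd : Odd (Nat.card R)) (hSR : S ≤ R) (hH : H ≠ ⊥) (hn : R ≤ 𝒩(H)) (hreg : Semiregular H R) :
    S ⊲ R := by
  have hZ := odd_regular_Zgroup hodd hH hn hreg
  have cF : IsCyclic (fittingOf R) := nil_Zgroup_cyclic (zgroup_of_le hZ (fitting_le R)) (fitting_nil R)
  have hSF : S ≤ fittingOf R := by
    refine le_trans (le_inf hSR (le_cent_symm (fitting_le_of_forall_pcore fun q hq => ?_)))
      (cent_sub_Fitting (Zgroup_sol hZ))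
    set Q := pCoreOf q R with hQ
    have hQR : Q ⊲ R := pcore_normal _ _
    have qQ : IsPGrp q Q := pcore_pGrp _ _
    have cQ : IsCyclic Q := cyclic_of_le cF (pcore_le_fitting q R)
    have hSQ : S ≤ 𝒩(Q) := hSR.trans hQR.2
    by_cases hqp : q = Nat.card S
    · have hle : Q ⊔ S ≤ R := sup_le hQR.1 hSR
      have := odd_regular_pgroup_cyclic hq (qQ.sup (pGrp_of_card_eq hq hqp.symm) (Or.inr hSQ))
        (odd_of_le hodd hle) hH (hle.trans hn) (semiregularS hreg le_rfl hle)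
      exact le_sup_left.trans ((abelian_iff_le_cent.1 (abelian_of_cyclic this)).trans
        (cent_anti le_sup_right))
    by_cases hQ1 : Q = ⊥
    · rw [hQ1]; exact bot_le
    refine le_cent_symm (coprime_abelian_pgroup_faithful_Ohm1 qQ hSQ
      (qQ.coprime_of_ne (pGrp_of_card_eq hS rfl) hqp) (abelian_of_cyclic cQ) ?_)
    have oO := P04.card_ohm1_of_cyclic hq (qQ.isPGroup hq) cQ hQ1
    have hle : ohm1 q Q ⊔ S ≤ R := sup_le ((P04.ohm1_le q Q).trans hQR.1) hSR
    have := regular_prime_sdprod_cyclic (oO.symm ▸ hq) hS (P04.norm_ohm1 q hSQ) hH (hle.trans hn)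
      (semiregularS hreg le_rfl hle)
    exact le_sup_right.trans ((abelian_iff_le_cent.1 (abelian_of_cyclic this)).trans
      (cent_anti le_sup_left))
  exact (charIn_of_cyclic cF hSF).trans_normal (fitting_normal R)

end CA.BG.P03
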