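/-
B & G section 4: Theorems 4.12, 4.13, 4.17 (coprime action on p-groups of rank two).
-/
import Cfsg.Agent.FG.Nil
import Cfsg.Agent.BG.I01
import Cfsg.Agent.BG.I02
import Cfsg.Agent.BG.P04c

set_option autoImplicit false

namespace CA.BG.P04

open Cfsg CA.FG Subgroup

universe u v

variable {G : Type u} [Group G]

/-! ### action on cyclic groups -/

theorem conj_pow_iter {a s : G} {i : ℕ} (h : a * s * a⁻¹ = s ^ i) (k : ℕ) :
    a ^ k * s * (a ^ k)⁻¹ = s ^ i ^ k := by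
  induction k with
  | zero => simp
  | succ k ih =>
    calc a ^ (k + 1) * s * (a ^ (k + 1))⁻¹ = a * (a ^ k * s * (a ^ k)⁻¹) * a⁻¹ := by
          rw [pow_succ']; group
      _ = s ^ i ^ (k + 1) := by rw [ih, ← conj_pow, h, ← pow_mul, pow_succ']

theorem der_le_cent_of_cyclic [Finite G] {S A : Subgroup G} (cS : IsCyclic S) (nA : A ≤ 𝒩(S)) :
    ⁅A, A⁆ ≤ 𝒞(S) := by
  obtain ⟨s, hs, rfl⟩ := cyclic_iff_eq_zpowers.1 cS
  rw [cent_zpowers]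
  refine comm_le_of_rc fun a ha b hb => mem_centralizer_singleton_iff.2 ?_
  obtain ⟨i, hi⟩ := exists_nat_of_mem_zpowers (conj_mem_of_le_norm nA ha hs)
  obtain ⟨j, hj⟩ := exists_nat_of_mem_zpowers (conj_mem_of_le_norm nA hb hs)
  have h1 : a * (b * s * b⁻¹) * a⁻¹ = b * (a * s * a⁻¹) * b⁻¹ := by
    rw [hj, hi, ← conj_pow, ← conj_pow, hi, hj, ← pow_mul, ← pow_mul, mul_comm]
  calc rc a b * s = a⁻¹ * b⁻¹ * (a * (b * s * b⁻¹) * a⁻¹) * a * b := by unfold rc; group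
    _ = s * rc a b := by rw [h1]; unfold rc; group

theorem pow_pred_mem_cent [Finite G] {p : ℕ} (hp : p.Prime) {S : Subgroup G}
    (oS : Nat.card S ∣ p) {a : G} (ha : a ∈ 𝒩(S)) : a ^ (p - 1) ∈ 𝒞(S) := by
  rcases (Nat.dvd_prime hp).1 oS with h | h
  · rw [card_eq_one.1 h, cent_bot]; trivial
  obtain ⟨s, hs, hs1⟩ := exists_mem_ne_one (ne_bot_of_card_prime (h ▸ hp))
  have hsp := pow_eq_one_of_card h hs
  have e := eq_zpowers_of_card_prime (h ▸ hp) hs hs1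
  obtain ⟨i, hi⟩ := exists_nat_of_mem_zpowers (e ▸ conj_mem_of_mem_norm ha hs)
  have hpi : ¬ p ∣ i := fun hd => hs1 (by
    rw [pow_eq_one_of_dvd hsp hd] at hi
    simpa using hi)
  have h1 := conj_pow_iter hi (p - 1)
  have h2 : s ^ i ^ (p - 1) = s ^ 1 := by
    rw [pow_eq_pow_iff_modEq, orderOf_eq_of_pow hp hs1 hsp]
    rw [← Nat.totient_prime hp]
    exact Nat.ModEq.pow_totient ((Nat.Prime.coprime_iff_not_dvd hp).2 hpi).symm
  rw [h2, pow_one, mul_inv_eq_iff_eq_mul] at h1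
  rw [e, cent_zpowers]
  exact mem_centralizer_singleton_iff.2 h1

/-! ### counting fixed points, indices -/

theorem card_modEq_cent [Finite G] {q : ℕ} (hq : q.Prime) {Q H : Subgroup G} (pQ : IsPGroup q Q)
    (nH : Q ≤ 𝒩(H)) : Nat.card H ≡ Nat.card (H ⊓ 𝒞(Q) : Subgroup G) [MOD q] := by
  have := Fact.mk hq
  let _ : MulAction Q H :=
    { smul := fun a x => ⟨a * x * (a : G)⁻¹, conj_mem_of_le_norm nH a.2 x.2⟩
      one_smul := fun x => Subtype.ext (by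
        change ((1 : Q) : G) * x * ((1 : Q) : G)⁻¹ = x
        simp)
      mul_smul := fun a b x => Subtype.ext (by
        change ((a * b : Q) : G) * x * ((a * b : Q) : G)⁻¹ = a * (b * x * (b : G)⁻¹) * (a : G)⁻¹
        rw [Subgroup.coe_mul]; group) }
  have h := pQ.card_modEq_card_fixedPoints H
  have e : Nat.card (MulAction.fixedPoints Q H) = Nat.card (H ⊓ 𝒞(Q) : Subgroup G) := by
    refine Nat.card_congr ⟨fun x => ⟨x.1.1, x.1.2, fun a ha => ?_⟩,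
      fun x => ⟨⟨x.1, x.2.1⟩, fun a => Subtype.ext ?_⟩, fun _ => rfl, fun _ => rfl⟩
    · exact mul_inv_eq_iff_eq_mul.1 (congrArg Subtype.val (x.2 ⟨a, ha⟩))
    · exact mul_inv_eq_iff_eq_mul.2 (x.2.2 a a.2)
  rwa [e] at h

theorem piNat_relIndex_of_forall [Finite G] {π : Set ℕ} {K H : Subgroup G}
    (h : ∀ q, q.Prime → q ∉ π → ∀ x ∈ H, IsPiElt {q} x → x ∈ K) : PiNat π (K.relIndex H) := by
  intro q hq hd
  by_contra hπ
  obtain ⟨Q, sylQ⟩ := sylow_exists hq H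
  have hQ : Q ≤ K ⊓ H := fun x hx => ⟨h q hq hπ x (sylQ.le hx) (sylQ.piGrp.piElt hx), sylQ.le hx⟩
  refine sylQ.not_dvd_index hq (hd.trans ?_)
  rw [← inf_relIndex_right K H]
  exact relIndex_dvd_of_le_left H hQ

theorem piElt_compl_of_ne {p q : ℕ} {x : G} (h : IsPiElt {q} x) (hne : q ≠ p) : IsPiElt {p}ᶜ x :=
  PiNat.mono h fun _ hr e => hne (hr.symm.trans e)

theorem exists_not_le_of_dvd_relIndex [Finite G] {q : ℕ} (hq : q.Prime) {K H : Subgroup G}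
    (h : q ∣ K.relIndex H) : ∃ x ∈ H, IsPiElt {q} x ∧ x ∉ K := by
  by_contra hn
  push Not at hn
  refine piNat_relIndex_of_forall (π := {q}ᶜ) (fun r _ hr x hx hxr => hn x hx ?_) q hq h rfl
  have : r = q := by simpa using hr
  exact this ▸ hxr

theorem dvd_sq_sub_one_of_modEq {p q a b : ℕ} (hp : p.Prime) (hq : q.Prime) (hqp : q ≠ p)
    (hab : b < a) (ha : a ≤ b + 2) (h : p ^ a ≡ p ^ b [MOD q]) : q ∣ p ^ 2 - 1 := by
  obtain ⟨c, rfl⟩ := Nat.exists_eq_add_of_lt hab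
  have co : Nat.Coprime q (p ^ b) := ((Nat.coprime_primes hq hp).2 hqp).pow_right b
  have h1 : p ^ (c + 1) ≡ 1 [MOD q] := by
    refine Nat.ModEq.cancel_left_of_coprime co ?_
    rwa [← pow_add, mul_one, ← add_assoc]
  have h2 : p ^ 2 ≡ 1 [MOD q] := by
    obtain rfl | rfl : c = 0 ∨ c = 1 := by omega
    · simpa using h1.pow 2
    · exact h1
  exact (Nat.modEq_iff_dvd' (Nat.one_le_pow _ _ hp.pos)).1 h2.symm

theorem dvd_sq_sub_one_of_act [Finite G] {p q : ℕ} (hp : p.Prime) (hq : q.Prime) (hqp : q ≠ p)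
    {Q H : Subgroup G} (pH : IsPGroup p H) (pQ : IsPGroup q Q) (nH : Q ≤ 𝒩(H)) (hc : ¬ Q ≤ 𝒞(H))
    (oH : Nat.card H ≤ Nat.card (H ⊓ 𝒞(Q) : Subgroup G) * p ^ 2) : q ∣ p ^ 2 - 1 := by
  have h := card_modEq_cent hq pQ nH
  have hlt : H ⊓ 𝒞(Q) < H :=
    lt_of_le_of_ne inf_le_left fun e => hc (le_cent_symm (inf_eq_left.1 e))
  have h1 := card_lt_of_lt hlt
  obtain ⟨a, ha⟩ := card_pow hp pH
  obtain ⟨b, hb⟩ := card_pow hp (pH.to_le (inf_le_left (b := 𝒞(Q))))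
  rw [ha, hb] at h h1 oH
  rw [← pow_add, pow_le_pow_iff hp] at oH
  exact dvd_sq_sub_one_of_modEq hp hq hqp ((pow_lt_pow_iff hp).1 h1) oH h

theorem dvd_sq_sub_one_of_exp [Finite G] {p q : ℕ} (hp : p.Prime) (hq : q.Prime) (hqp : q ≠ p)
    {Q H : Subgroup G} (rH : RkLE p 2 H) (eH : ∀ x ∈ H, x ^ p = 1) (pQ : IsPGroup q Q)
    (nH : Q ≤ 𝒩(H)) (hc : ¬ Q ≤ 𝒞(H)) : q ∣ p ^ 2 - 1 := by
  have pH := isPGroup_of_forall eH
  have oH := card_le_cube_of_exp hp rH eH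
  by_cases abH : IsMulCommutative H
  · exact dvd_sq_sub_one_of_act hp hq hqp pH pQ nH hc
      ((rH H le_rfl ⟨abH, eH⟩).trans (Nat.le_mul_of_pos_left _ Nat.card_pos))
  obtain ⟨-, oZ, -⟩ := p3group_extraspecial hp pH abH oH
  by_cases hZ : Q ≤ 𝒞(𝒵(H))
  · refine dvd_sq_sub_one_of_act hp hq hqp pH pQ nH hc (oH.trans ?_)
    rw [pow_succ' p 2]
    refine Nat.mul_le_mul_right _ ?_
    rw [← oZ]
    exact Subgroup.card_le_of_le (le_inf inf_le_left (le_cent_symm hZ))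
  · refine dvd_sq_sub_one_of_act hp hq hqp (pH.to_le inf_le_left) pQ
      (norm_inf nH (norm_cent nH)) hZ ?_
    rw [oZ]
    exact (Nat.le_self_pow two_ne_zero p).trans (Nat.le_mul_of_pos_left _ Nat.card_pos)

theorem lt_of_dvd_sq_sub_one {p q : ℕ} (hp : p.Prime) (hp2 : p ≠ 2) (hq : q.Prime)
    (h : q ∣ p ^ 2 - 1) : q < p ∧ (q ∣ (p + 1) / 2 ∨ q ∣ (p - 1) / 2) := by
  obtain ⟨k, rfl⟩ := hp.odd_of_ne_two hp2
  have hk : 0 < k := by
    have := hp.one_lt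
    omega
  have e1 : (2 * k + 1 + 1) / 2 = k + 1 := by omega
  have e2 : (2 * k + 1 - 1) / 2 = k := by omega
  have e3 : (2 * k + 1) ^ 2 - 1 = 2 * 2 * ((k + 1) * k) := by
    rw [Nat.sub_eq_iff_eq_add (Nat.one_le_pow _ _ (by omega))]; ring
  rw [e1, e2]
  rw [e3] at h
  have h1 : q ∣ (k + 1) * k := by
    rcases (Nat.Prime.dvd_mul hq).1 h with h | h
    · have h2 : q ∣ 2 := by simpa using (Nat.Prime.dvd_mul hq).1 h
      exact h2.trans (by rw [mul_comm]; exact (Nat.even_mul_succ_self k).two_dvd)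
    · exact h
  have h2 := (Nat.Prime.dvd_mul hq).1 h1
  refine ⟨?_, h2⟩
  rcases h2 with h2 | h2
  · have := Nat.le_of_dvd (by omega) h2
    omega
  · have := Nat.le_of_dvd hk h2
    omega

/-- A critical subgroup of exponent `p`. -/
theorem exists_critical [Finite G] {p : ℕ} (hp : p.Prime) (hp2 : p ≠ 2) {R : Subgroup G}
    (pR : IsPGroup p R) : ∃ H : Subgroup G, CharIn H R ∧ (∀ x ∈ H, x ^ p = 1) ∧
      ∀ x ∈ 𝒩(R), IsPiElt {p}ᶜ x → x ∈ 𝒞(H) → x ∈ 𝒞(R) := by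
  by_cases ntR : R = ⊥
  · subst ntR
    exact ⟨⊥, charIn_refl _, fun x hx => by rw [mem_bot.1 hx, one_pow], fun _ _ _ h => h⟩
  obtain ⟨H, chH, -, -, -, eH, cH, -⟩ :=
    critical_odd hp (isPGrp_of hp pR) (odd_of_ne_two hp pR hp2) ntR
  exact ⟨H, chH, eH, fun x h1 h2 h3 => zpowers_le.1
    (cH _ (zpowers_le.2 h1) (piGrp_zpowers_iff.2 h2) (zpowers_le.2 h3))⟩

/-- Lemma 4.13. -/
theorem dvd_sq_sub_one_of_rank2 [Finite G] {p q : ℕ} (hp : p.Prime) (hp2 : p ≠ 2) (hq : q.Prime)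
    {R A : Subgroup G} (pR : IsPGroup p R) (rR : RkLE p 2 R) (nRA : A ≤ 𝒩(R))
    (hqA : q ∣ (𝒞(R)).relIndex A) (hqp : q ≠ p) : q ∣ p ^ 2 - 1 := by
  obtain ⟨H, chH, eH, cH⟩ := exists_critical hp hp2 pR
  obtain ⟨x, hx, qx, hxc⟩ := exists_not_le_of_dvd_relIndex hq hqA
  exact dvd_sq_sub_one_of_exp hp hq hqp (rR.mono chH.le) eH
    (isPGroup_of hq (piGrp_zpowers_iff.2 qx)) (chH.norm (zpowers_le.2 (nRA hx)))
    fun h => hxc (cH x (nRA hx) (piElt_compl_of_ne qx hqp) (zpowers_le.1 h))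

/-- A group whose primes are all at least `p` and different from `p` centralizes `R`. -/
theorem cent_of_rank2_of_large [Finite G] {p : ℕ} (hp : p.Prime) (hp2 : p ≠ 2)
    {R A : Subgroup G} (pR : IsPGroup p R) (rR : RkLE p 2 R) (nRA : A ≤ 𝒩(R))
    (h : ∀ q, q.Prime → q ∣ Nat.card A → p < q) : A ≤ 𝒞(R) := by
  rw [← relIndex_eq_one]
  by_contra hne
  obtain ⟨q, hq, hd⟩ := Nat.exists_prime_and_dvd hne
  have h1 := h q hq (hd.trans (relIndex_dvd_card _ _))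
  have := (lt_of_dvd_sq_sub_one hp hp2 hq
    (dvd_sq_sub_one_of_rank2 hp hp2 hq pR rR nRA hd h1.ne')).1
  omega

theorem coprime_of_pgroup [Finite G] {p : ℕ} (hp : p.Prime) {R A : Subgroup G} (pR : IsPGroup p R)
    (p'A : IsPiGrp {p}ᶜ A) : (Nat.card R).Coprime (Nat.card A) :=
  (isPGrp_of hp pR).coprime p'A

theorem abelem_quot_der {p : ℕ} {H : Subgroup G} (eH : ∀ x ∈ H, x ^ p = 1) :
    IsElementaryAbelian p (H /ₛ ⁅H, H⁆) := by
  refine ⟨(quot_abelian_iff (der_normalIn H).2).2 le_rfl, fun y hy => ?_⟩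
  obtain ⟨x, hx, rfl⟩ := mem_quot.1 hy
  rw [← map_pow, coset_eq_one_iff, Subgroup.coe_pow, eH x hx]
  exact one_mem _

/-- Theorem 4.17, elementwise form. -/
theorem der_cent_of_rank2 [Finite G] {p : ℕ} (hp : p.Prime) (hp2 : p ≠ 2) {R A : Subgroup G}
    (pR : IsPGroup p R) (rR : RkLE p 2 R) (nRA : A ≤ 𝒩(R)) (oddA : Odd (Nat.card A)) {x : G}
    (hx : x ∈ ⁅A, A⁆) (p'x : IsPiElt {p}ᶜ x) : x ∈ 𝒞(R) := by
  obtain ⟨H, chH, eH, cH⟩ := exists_critical hp hp2 pR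
  have hxA := (der_normalIn A).1 hx
  refine cH x (nRA hxA) p'x ?_
  have pH := isPGroup_of_forall eH
  have oH := card_le_cube_of_exp hp (rR.mono chH.le) eH
  have nH := chH.norm nRA
  have nD : A ≤ 𝒩(⁅H, H⁆) := norm_comm nH nH
  have oD : Nat.card (⁅H, H⁆ : Subgroup G) ≤ p := by simpa using card_der_le hp pH (k := 1) oH
  have oQ : Nat.card (H /ₛ ⁅H, H⁆) ≤ p ^ 2 := by
    by_cases abH : IsMulCommutative H
    · exact (card_quot_le _ _).trans (rR H chH.le ⟨abH, eH⟩)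
    · obtain ⟨o3, oZ, eZ, -⟩ := p3group_extraspecial hp pH abH oH
      have := card_mul_card_quot (der_normalIn H)
      rw [o3, eZ, oZ, pow_succ' p 2] at this
      rw [eZ]
      exact (Nat.eq_of_mul_eq_mul_left hp.pos this).le
  have h1 := der1_odd_abelem2_relIndex hp (abelem_quot_der eH) oQ (quot_norm _ nH) (odd_quot _ oddA)
  have h2 : coset ⁅H, H⁆ ⟨x, nD hxA⟩ ∈ ⁅A /ₛ ⁅H, H⁆, A /ₛ ⁅H, H⁆⁆ := by
    rw [← quot_comm nD nD]
    exact mem_quot_of_mem _ hx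
  have h3 : coset ⁅H, H⁆ ⟨x, nD hxA⟩ ∈ 𝒞(H /ₛ ⁅H, H⁆) := (mem_of_coprime_relIndex h2 (norm_inf le_normalizer
    (norm_cent ((der_normalIn _).1.trans (quot_norm _ nH))))
    (PiNat.coprime' (IsPiElt.map (x := (⟨x, nD hxA⟩ : 𝒩(⁅H, H⁆))) (by
      rwa [IsPiElt, ← Subgroup.orderOf_coe]) _) h1)).2
  rw [← zpowers_le, ← quot_zpowers, quot_cent_iff' (zpowers_le.2 (nD hxA)) (der_normalIn H).2] at h3
  exact zpowers_le.1 (stable_factor_cent'
    (zpowers_le.2 (der_le_cent_of_cyclic (cyclic_of_card_le hp (pH.to_le (der_normalIn H).1) oD)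
      nD hx)) h3 (coprime_of_pgroup hp (pH.to_le (der_normalIn H).1) (piGrp_zpowers_iff.2 p'x)))

/-- Theorem 4.17. -/
theorem der1_norm_rank2 [Finite G] {p : ℕ} (hp : p.Prime) (hp2 : p ≠ 2) {R A : Subgroup G}
    (pR : IsPGroup p R) (rR : RkLE p 2 R) (nRA : A ≤ 𝒩(R)) (oddA : Odd (Nat.card A)) :
    PiNat {p} ((𝒞(R)).relIndex ⁅A, A⁆) :=
  piNat_relIndex_of_forall fun _ _ hq _ hx qx =>
    der_cent_of_rank2 hp hp2 pR rR nRA oddA hx (piElt_compl_of_ne qx hq)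

/-! ### Theorem 4.12 -/

theorem card_ohm1_le_of_meta [Finite G] {p : ℕ} (hp : p.Prime) (hp2 : p ≠ 2) {R : Subgroup G}
    (pR : IsPGroup p R) (metaR : Meta R) : Nat.card (ohm1 p R) ≤ p ^ 2 := by
  by_cases cR : IsCyclic R
  · exact (card_ohm1_le_of_cyclic hp cR).trans (Nat.le_self_pow two_ne_zero p)
  · exact (ohm1_meta_p2Elem hp hp2 metaR pR cR).2.2.le

theorem Meta.cyclic_der {R : Subgroup G} (h : Meta R) : IsCyclic ↥⁅R, R⁆ := by
  obtain ⟨S, nS, cS, cQ⟩ := h.exists_normal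
  exact cyclic_of_le cS ((quot_abelian_iff nS.2).1 (abelian_of_cyclic cQ))

theorem abelian_of_meta_comm_eq [Finite G] {p : ℕ} (hp : p.Prime) (hp2 : p ≠ 2) {R A : Subgroup G}
    (pR : IsPGroup p R) (p'A : IsPiGrp {p}ᶜ A) (nRA : A ≤ 𝒩(R)) (metaR : Meta R)
    (defR : ⁅R, A⁆ = R) : IsMulCommutative R := by
  obtain ⟨S, hDS, ⟨hSR, cS, nSA⟩, maxS⟩ := exists_max_subgroup
    (P := fun S : Subgroup G => S ≤ R ∧ IsCyclic S ∧ A ≤ 𝒩(S)) (H := ⁅R, R⁆)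
    ⟨(der_normalIn R).1, metaR.cyclic_der, norm_comm nRA nRA⟩
  by_cases ntS : S = ⊥
  · exact abelian_iff_le_cent.2 (comm_eq_bot_iff.1 (eq_bot_iff.2 (ntS ▸ hDS)))
  have nS : S ⊲ R := ⟨hSR, norm_of_comm_le hSR hDS⟩
  have cSR : R ≤ 𝒞(S) := by
    rw [← defR]
    exact (commutator_mono nS.2 nSA).trans (der_le_cent_of_cyclic cS le_rfl)
  refine abelian_of_cyclic_quot hSR cSR ?_
  have pQ : IsPGroup p (R /ₛ S) := isPGroup_of hp ((isPGrp_of hp pR).quot _)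
  have abQ : IsMulCommutative (R /ₛ S) := (quot_abelian_iff nS.2).2 hDS
  have hU : ohm1 p R /ₛ S ≤ ohm1 p (R /ₛ S) := quot_le_of_le_quotPre (ohm1_le_quotPre nS.2)
  obtain ⟨W, hW, nW⟩ := Maschke_abelem (ohm1_abelem abQ) (p'A.quot S) hp hU
    (norm_ohm1 p (quot_norm S nRA)) (quot_norm S (norm_ohm1 p nRA))
  have hXR : quotPre S W ≤ R := quotPre_le_of_le_quot hSR (hW.right_le.trans (ohm1_le _ _))
  have h1 : ohm1 p (quotPre S W) ≤ ohm1 p S := ohm1_le_iff.2 fun x hx hxp => by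
    refine mem_ohm1 ?_ hxp
    obtain ⟨h2, h3⟩ := mem_quotPre.1 hx
    have : coset S ⟨x, h2⟩ ∈ (ohm1 p R /ₛ S) ⊓ W := ⟨mem_quot_of_mem _ (mem_ohm1 (hXR hx) hxp), h3⟩
    rw [hW.inf_eq, mem_bot, coset_eq_one_iff] at this
    exact this
  have cX : IsCyclic (quotPre S W) := cyclic_of_card_ohm1_le hp hp2 (pR.to_le hXR)
    ((Subgroup.card_le_of_le h1).trans (card_ohm1_le_of_cyclic hp cS))
  have hW0 := quotPre_eq_self_iff.1
    (maxS _ ⟨hXR, cX, le_norm_quotPre nSA nW⟩ (le_quotPre W))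
  apply cyclic_of_card_ohm1_le hp hp2 pQ
  rw [← hW.sup_eq, hW0, sup_bot_eq, card_quot ((ohm1_le p R).trans nS.2)]
  have h2 := card_inf_mul_relIndex S (ohm1 p R)
  have h3 : p ≤ Nat.card (S ⊓ ohm1 p R : Subgroup G) :=
    (card_ohm1_of_cyclic hp (pR.to_le hSR) cS ntS).ge.trans
      (Subgroup.card_le_of_le (le_inf (ohm1_le p S) (ohm1_mono p hSR)))
  have h4 := card_ohm1_le_of_meta hp hp2 pR metaR
  rw [← h2, sq] at h4
  generalize S.relIndex (ohm1 p R) = k at h4 ⊢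
  exact Nat.le_of_mul_le_mul_left ((Nat.mul_le_mul_right k h3).trans h4) hp.pos

theorem cyclic_of_inf_eq_bot [Finite G] {p : ℕ} (hp : p.Prime) (hp2 : p ≠ 2) {R T C : Subgroup G}
    (pR : IsPGroup p R) (hΩ : IsPnElem p 2 (ohm1 p R) R) (hT : T ≤ R) (hC : C ≤ R)
    (ti : T ⊓ C = ⊥) (ntC : C ≠ ⊥) : IsCyclic T := by
  apply cyclic_of_card_ohm1_le hp hp2 (pR.to_le hT)
  have h1 := le_card_of_ne_bot hp (pR.to_le ((ohm1_le p C).trans hC))
    (ohm1_ne_bot hp (pR.to_le hC) ntC)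
  have h2 := Subgroup.card_le_of_le (sup_le (ohm1_mono p hT) (ohm1_mono p hC))
  rw [card_sup_of_inf_eq_bot (Or.inl ((ohm1_mono p hT).trans
    (norm_of_le_abelian hΩ.2.1.1 (ohm1_mono p hC))))
    (eq_bot_iff.2 (ti ▸ inf_le_inf (ohm1_le p T) (ohm1_le p C))), hΩ.2.2, sq] at h2
  exact Nat.le_of_mul_le_mul_right ((Nat.mul_le_mul_left _ h1).trans h2) hp.pos

/-- Theorem 4.12. -/
theorem coprime_meta_cent_sdprod [Finite G] {p : ℕ} (hp : p.Prime) (hp2 : p ≠ 2)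
    {R A : Subgroup G} (pR : IsPGroup p R) (p'A : IsPiGrp {p}ᶜ A) (nRA : A ≤ 𝒩(R))
    (metaR : Meta R) :
    IsMulCommutative ↥⁅R, A⁆ ∧ SDProd ⁅R, A⁆ (R ⊓ 𝒞(A)) R ∧
      (¬ IsMulCommutative R → ¬ A ≤ 𝒞(R) →
        IsCyclic ↥⁅R, A⁆ ∧ IsCyclic ↥(R ⊓ 𝒞(A)) ∧ ⁅R, A⁆ ≠ ⊥ ∧ R ⊓ 𝒞(A) ≠ ⊥ ∧
          ⁅R, R⁆ ≤ ⁅R, A⁆) := by
  have solR := Or.inl (b := Group.IsSolvable A) (isPGrp_of hp pR).sol
  have nT := comm_normalIn_left nRA
  have nTA : A ≤ 𝒩(⁅R, A⁆) := norm_comm nRA le_normalizer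
  have gid := coprime_commGid nRA (coprime_of_pgroup hp pR p'A) solR
  have abT := abelian_of_meta_comm_eq hp hp2 (pR.to_le nT.1) p'A nTA (metaR.of_le nT.1) gid
  have ti := coprime_abel_cent_TI nTA (coprime_of_pgroup hp (pR.to_le nT.1) p'A) abT
  rw [gid] at ti
  have ti' : ⁅R, A⁆ ⊓ (R ⊓ 𝒞(A)) = ⊥ := eq_bot_iff.2 (ti ▸ inf_le_inf_left _ inf_le_right)
  have sd : SDProd ⁅R, A⁆ (R ⊓ 𝒞(A)) R := sdprod_mk (inf_le_left.trans nT.2)
    (coprime_cent_prod nRA (coprime_of_pgroup hp pR p'A) solR) ti'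
  refine ⟨abT, sd, fun nabR ncA => ?_⟩
  have ntT : ⁅R, A⁆ ≠ ⊥ := fun e => ncA (comm_eq_bot_iff'.1 e)
  have ntC : R ⊓ 𝒞(A) ≠ ⊥ := fun e => by
    have := sd.sup_eq
    rw [e, sup_bot_eq] at this
    exact nabR (this ▸ abT)
  have hΩ := ohm1_meta_p2Elem hp hp2 metaR pR (not_cyclic_of_not_abelian nabR)
  have cC := cyclic_of_inf_eq_bot hp hp2 pR hΩ inf_le_left nT.1 (by rw [inf_comm, ti']) ntT
  exact ⟨cyclic_of_inf_eq_bot hp hp2 pR hΩ nT.1 inf_le_left ti' ntC, cC, ntT, ntC,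
    sd.der_le (abelian_of_cyclic cC)⟩

end CA.BG.P04
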