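/-
Section 3, part d: Theorem 3.6.
Owner: helper6.
-/
import Cfsg.Agent.BG.P03c
import Cfsg.Agent.BG.P04d

set_option autoImplicit false

namespace CA.BG.P03

open Module Cfsg CA.FG CA.BG.Rep

universe u

variable {G : Type u} [Group G] [Finite G]

theorem abelem_of_frattini_eq_bot {p : ℕ} (hp : p.Prime) {V : Subgroup G} (pV : IsPGrp p V)
    (h : frattiniOf V = ⊥) : IsElementaryAbelian p V := by
  constructor
  · rw [abelian_iff_le_cent, ← comm_eq_bot_iff, eq_bot_iff, ← h]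
    refine P04.le_frattiniOf (comm_le_of_le le_rfl le_rfl) fun M hM => ?_
    have hN := hM.normal_of_nil pV.nil
    rw [← quot_abelian_iff hN.2]
    refine abelian_of_cyclic (isCyclic_of_card_prime ?_)
    rw [card_quot hN.2, hM.index_eq_of_pGrp pV]
    exact hp
  · intro x hx
    rw [← Subgroup.mem_bot, ← h]
    refine P04.le_frattiniOf (K := Subgroup.zpowers (x ^ p))
      (Subgroup.zpowers_le.2 (V.pow_mem hx p)) (fun M hM => ?_) (Subgroup.mem_zpowers _)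
    exact Subgroup.zpowers_le.2
      (P04.pow_mem_of_relIndex (hM.normal_of_nil pV.nil).2 hM.1.le (hM.index_eq_of_pGrp pV) hx)

theorem abelian_case {p : ℕ} (hp : p.Prime) {V K P R : Subgroup G} (hV : IsElementaryAbelian p V)
    (hV1 : V ≠ ⊥) (hKV : K ≤ 𝒩(V)) (hPV : P ≤ 𝒩(V)) (hRV : R ≤ 𝒩(V)) (hab : IsMulCommutative K)
    (hK : ¬ p ∣ Nat.card K) (hPK : P ≤ 𝒩(K)) (hRK : R ≤ 𝒩(K)) (hRP : R ≤ 𝒩(P)) (pP : IsPGrp p P)
    (hR : (Nat.card R).Prime) (hpo : Odd p) (hro : Odd (Nat.card R)) (hpr : p ≠ Nat.card R)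
    (co : (Nat.card K).Coprime (Nat.card R)) (hreg : P ⊓ 𝒞(R) = ⊥) (hKP : ⁅K, P⁆ = K)
    (h0 : V ⊓ 𝒞(K) = ⊥) (hC : Nat.card ↥(V ⊓ 𝒞(R)) ≤ p) : False := by
  obtain ⟨k, _, _, _, W, _, _, _, ρ, hb⟩ := exists_bridge hp hV
  haveI : Nontrivial W := by
    refine Module.nontrivial_of_finrank_pos (R := k) (Nat.pos_of_ne_zero fun e => hV1 ?_)
    rw [← Subgroup.card_eq_one, hb.card, e, pow_zero]
  have hX : ⁅K, R⁆ ≤ K := comm_le_left hRK
  obtain ⟨m, h1, h2, -⟩ := frob_fix ρ (hX.trans hKV) hRV (norm_comm hRK Subgroup.le_normalizer)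
    (semiregular_of_prime hR (coprime_abel_cent_TI hRK co hab))
    (cast_ne_zero_of_not_dvd (p := p) fun h => hK (h.trans (Subgroup.card_dvd_of_le hX)))
  rw [hb.card_eq hRV, h2, pow_add] at hC
  have hm := le_one_of_mul_pow_le hp (pow_pos hp.pos _) hC
  refine weight_contra ρ hKV hPV hRV hab (cast_ne_zero_of_not_dvd hK) hPK hRK hRP hp pP hR hpo hro hpr
    hreg hKP ((hb.eq_bot_iff hp hKV).1 h0) ?_
  rw [h1]
  nlinarith

theorem nonabelian_case {K P R : Subgroup G} (nilK : Group.IsNilpotent K) (oK : Odd (Nat.card K))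
    (hnab : ¬ IsMulCommutative K) (hPK : P ≤ 𝒩(K)) (hRK : R ≤ 𝒩(K)) (hRP : R ≤ 𝒩(P))
    (hR : (Nat.card R).Prime) (hro : Odd (Nat.card R)) (coP : (Nat.card K).Coprime (Nat.card P))
    (co : (Nat.card K).Coprime (Nat.card R)) (hreg : P ⊓ 𝒞(R) = ⊥) (hnc : ¬ K ≤ 𝒞(P))
    (hmin : ∀ X : Subgroup G, X < K → P ≤ 𝒩(X) → R ≤ 𝒩(X) → X ≤ 𝒞(P))
    (hcyc : IsCyclic ↥(K ⊓ 𝒞(R)))
    (hab : ⁅K, R⁆ ⊓ 𝒞(R) = ⊥ → IsMulCommutative ↥⁅K, R⁆) : False := by
  obtain ⟨hKP, hDP, hCZ⟩ := min_act_struct hPK hRK hRP nilK coP hnc hmin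
  have solK := sol_of_nil nilK
  have hK1 : K ≠ ⊥ := fun e => hnc (e ▸ bot_le)
  set D := ⁅K, K⁆ with hD
  have hDK : D ⊲ K := der_normalIn K
  have hPD : P ≤ 𝒩(D) := norm_comm hPK hPK
  have hRD : R ≤ 𝒩(D) := norm_comm hRK hRK
  have habq : IsMulCommutative (K /ₛ D) := (quot_abelian_iff hDK.2).2 le_rfl
  have hTI : ∀ A : Subgroup G, A ≤ 𝒩(K) → (Nat.card K).Coprime (Nat.card A) →
      ⁅K, A⁆ ⊓ 𝒞(A) ≤ D := by
    intro A hA hco
    have hAD : A ≤ 𝒩(D) := norm_comm hA hA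
    rw [← quot_eq_bot_iff ((inf_le_left.trans (comm_le_left hA)).trans hDK.2), eq_bot_iff,
      ← coprime_abel_cent_TI (quot_norm D hA) (coprime_quot D hco) habq, ← quot_comm hDK.2 hAD]
    exact quot_inf_cent_le _ _
  have hCD : K ⊓ 𝒞(P) ≤ D := by
    have := hTI P hPK coP
    rwa [hKP] at this
  have hK1' : K /ₛ D ≠ ⊥ := fun e =>
    (der_lt_of_sol solK hK1).not_ge ((quot_eq_bot_iff hDK.2).1 e)
  have hmn : MinNormal (K /ₛ D) ((P ⊔ R) /ₛ D) := by
    refine ⟨hK1', quot_norm D (sup_le hPK hRK), fun W hW hW1 hn => ?_⟩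
    have h1 : quotPre D W ≤ K := quotPre_le_of_le_quot hDK.1 hW
    have h2 := le_norm_quotPre (sup_le hPD hRD) hn
    by_contra hne
    have h3 : quotPre D W < K := lt_of_le_of_ne h1 fun e => hne (by rw [← e, quot_quotPre])
    exact (lt_quotPre hW1).not_ge
      ((le_inf h1 (hmin _ h3 (le_sup_left.trans h2) (le_sup_right.trans h2))).trans hCD)
  obtain ⟨q, hq, he⟩ := hmn.abelem (sol_of_abelian habq)
  have hqK : q ∣ Nat.card K := ((abelem_pGrp hq he).dvd_card hK1').trans (card_quot_dvd _ _)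
  have hq2 : q ≠ 2 := by
    rintro rfl
    exact (Nat.not_even_iff_odd.2 oK) (even_iff_two_dvd.2 hqK)
  have hDZ : D ≤ 𝒞(K) := (le_inf hDK.1 hDP).trans hCZ
  have hpow : ∀ x ∈ K, x ^ q ∈ D := fun x hx => by
    have := he.2 _ (mem_quot_of_mem (hDK.2 hx) hx)
    rw [← map_pow] at this
    exact coset_eq_one_iff.1 this
  have hmul : ∀ x ∈ K, ∀ y ∈ K, (x * y) ^ q = x ^ q * y ^ q := fun x hx y hy => by
    have hw : P04.rc y x ∈ 𝒞(K) := hDZ (P04.rc_mem hy hx)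
    exact P04.mul_pow_of_class2 hq hq2 (P04.rc_spec y x) (P04.commute_of_mem_cent hw hx)
      (P04.commute_of_mem_cent hw hy) (P04.eq_one_of_pow_mul (P04.rc_spec y x)
        (P04.commute_of_mem_cent hw hy) (P04.commute_of_mem_cent (hDZ (hpow y hy)) hx))
  have hexp : ∀ x ∈ K, x ^ q = 1 := by
    have h1 : K ≤ ohm1 q K := by
      conv_lhs => rw [← hKP]
      rw [Subgroup.commutator_le]
      intro x hx y hy
      have hc := conj_mem_of_le_norm hPK hy (K.inv_mem hx)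
      have e : x * y * x⁻¹ * y⁻¹ = x * (y * x⁻¹ * y⁻¹) := by group
      refine P04.mem_ohm1 (by rw [commutatorElement_def, e]; exact K.mul_mem hx hc) ?_
      rw [commutatorElement_def, e, hmul x hx _ hc, conj_pow, inv_pow]
      have := hDP (hpow x hx) y hy
      calc x ^ q * (y * (x ^ q)⁻¹ * y⁻¹) = x ^ q * y * (y * x ^ q)⁻¹ := by group
        _ = 1 := by rw [this]; group
    intro x hx
    exact P04.ohm1_exp (fun x hx y hy h1 h2 => by rw [hmul x hx y hy, h1, h2, one_mul]) x (h1 hx)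
  have hcoPR : (Nat.card P).Coprime (Nat.card R) :=
    regular_norm_coprime hRP (semiregular_of_prime hR hreg)
  have hDTI : D ⊓ (P ⊔ R) = ⊥ := by
    refine inf_eq_bot_of_cop (cop_of_le_left ?_ hDK.1)
    rw [card_sup_of_inf_eq_bot (Or.inr hRP) (inf_eq_bot_of_cop hcoPR)]
    exact Nat.Coprime.mul_right coP co
  obtain ⟨m, h1, h2, -⟩ := frob_card hq he (quot_norm D hPK) (quot_norm D hRK) (quot_norm D hRP)
    (semiregular_quot_of_TI (semiregular_of_prime hR hreg) le_sup_left le_sup_right hDTI)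
    (not_dvd_of_cop hq he hK1' (coprime_quot D coP))
  rw [← coprime_quotient_cent hDK.1 hPD coP (Or.inl solK), quot_eq_bot_of_le hCD, Subgroup.card_bot,
    one_mul, card_quot_of_inf_eq_bot hRD
      (eq_bot_iff.2 ((inf_le_inf_left _ le_sup_right).trans hDTI.le))] at h1
  have hm : m ≠ 0 := by
    rintro rfl
    rw [pow_zero, one_pow, Subgroup.card_eq_one] at h1
    exact hK1' h1
  have hr3 : 3 ≤ Nat.card R := by
    have := hR.two_le
    obtain ⟨c, hc⟩ := hro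
    omega
  have hbig : q ^ 3 ≤ D.relIndex K := by
    rw [← card_quot hDK.2, h1, ← pow_mul]
    exact Nat.pow_le_pow_right hq.pos (by nlinarith [Nat.pos_of_ne_zero hm])
  set C := K ⊓ 𝒞(R) with hC
  have hCnD : ¬ C ≤ D := by
    intro h
    rw [← coprime_quotient_cent hDK.1 hRD co (Or.inl solK), quot_eq_bot_of_le h,
      Subgroup.card_bot] at h2
    exact hm ((Nat.pow_eq_one.1 (Nat.eq_one_of_mul_eq_one_left h2.symm)).resolve_left hq.ne_one)
  have oC : Nat.card C = q := by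
    refine le_antisymm (P04.card_le_of_cyclic_exp hq hcyc fun x hx => hexp x hx.1) ?_
    exact P04.le_card_of_ne_bot hq (P04.isPGroup_of_forall fun x hx => hexp x hx.1)
      (fun e => hCnD (e ▸ bot_le))
  have hCTI : C ⊓ D = ⊥ := (inf_eq_bot_or_le_of_card_prime (oC ▸ hq) D).resolve_right hCnD
  set X := ⁅K, R⁆ with hX
  have hXK : X ⊲ K := comm_normalIn_left hRK
  have habX := hab (by
    rw [eq_bot_iff, ← hCTI]
    exact le_inf (inf_le_inf_right _ hXK.1) (hTI R hRK co))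
  have hXlt : X < K := lt_of_le_of_ne hXK.1 fun e => hnab (e ▸ habX)
  have hXC : X ⊔ C = K := coprime_cent_prod hRK co (Or.inl solK)
  have hiX : X.relIndex K = q := by
    have h3 : X.relIndex K ∣ q := by
      rw [← hXC, relIndex_sup_of_right_le_norm (inf_le_left.trans hXK.2), ← oC]
      exact Subgroup.relIndex_dvd_card _ _
    exact ((Nat.dvd_prime hq).1 h3).resolve_left fun e => hXlt.not_ge (Subgroup.relIndex_eq_one.1 e)
  have hsmall : ∀ Y : Subgroup G, Y ≤ D → Y.relIndex K ≤ q * q → False := by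
    intro Y hY h
    have := Subgroup.relIndex_le_of_le_left hY (relIndex_pos Y K).ne'
    have h3 : q * q < q ^ 3 := by
      rw [pow_succ, pow_two]
      exact lt_mul_of_one_lt_right (Nat.mul_pos hq.pos hq.pos) hq.one_lt
    omega
  by_cases hPX : P ≤ 𝒩(X)
  · refine hsmall X ((le_inf hXK.1 (hmin X hXlt hPX (norm_comm hRK Subgroup.le_normalizer))).trans hCD) ?_
    rw [hiX]
    exact Nat.le_mul_self q
  obtain ⟨y, hy, hyX⟩ := SetLike.not_le_iff_exists.1 hPX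
  have hKy : K :^ y = K := conjg_of_mem_norm (hPK hy)
  have hX'K : X :^ y ≤ K := conjg_le_of_mem_norm hXK.1 (hPK hy)
  have hsup : X ⊔ X :^ y = K := by
    by_contra hne
    have := (maximalIn_of_index_prime hXK.1 (hiX ▸ hq)).2 _ le_sup_left
      (lt_of_le_of_ne (sup_le hXK.1 hX'K) hne)
    exact hyX (mem_norm_of_conjg_le (le_sup_right.trans this.le))
  have hZ : K ⊓ 𝒞(K) < K :=
    lt_of_le_not_ge inf_le_left fun h => hnab (abelian_iff_le_cent.2 (h.trans inf_le_right))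
  refine hsmall (X ⊓ X :^ y) ?_ ?_
  · refine le_trans ?_ ((le_inf inf_le_left (hmin _ hZ (norm_inf hPK (norm_cent hPK))
      (norm_inf hRK (norm_cent hRK)))).trans hCD)
    refine le_inf (inf_le_left.trans hXK.1) ?_
    rw [← hsup]
    exact le_cent_sup (inf_le_left.trans (abelian_iff_le_cent.1 habX))
      (inf_le_right.trans (abelian_iff_le_cent.1 (abelian_conjg.2 habX)))
  · refine Subgroup.relIndex_inf_le.trans ?_
    conv_lhs => rw [hiX, ← hKy, relIndex_conjg, hiX]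

theorem plength1_aux {p : ℕ} (hp : p.Prime) (n : ℕ) : ∀ (G : Type u) [Group G] [Finite G]
    (H R R₀ : Subgroup G), Nat.card H + Nat.card R = n → R ≤ 𝒩(H) → Group.IsSolvable H →
    Odd (Nat.card H) → Odd (Nat.card R₀) → (Nat.card H).Coprime (Nat.card R) → R₀ ≤ R →
    (Nat.card R₀).Prime → IsZGroup ↥(H ⊓ 𝒞(R₀)) → PLengthLE p 1 ↥⁅H, R⁆ := by
  induction n using Nat.strong_induction_on with
  | _ n ih =>
  intro G _ _ H R R₀ hc hn solH oH oR₀ co hR₀ pR₀ hZ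
  subst hc
  have IHsub : ∀ H₁ R₁ : Subgroup G, H₁ ≤ H → R₁ ≤ R → R₀ ≤ R₁ → R₁ ≤ 𝒩(H₁) → (H₁ < H ∨ R₁ < R) →
      PLengthLE p 1 ↥⁅H₁, R₁⁆ := by
    intro H₁ R₁ h1 h2 h3 h4 h5
    refine ih _ ?_ G H₁ R₁ R₀ rfl h4 (sol_of_le solH h1) (odd_of_le oH h1) oR₀
      (cop_of_le_right (cop_of_le_left co h1) h2) h3 pR₀ (zgroup_of_le hZ (inf_le_inf_right _ h1))
    have a1 := Subgroup.card_le_of_le h1
    have a2 := Subgroup.card_le_of_le h2
    rcases h5 with h | h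
    · have := card_lt_of_lt h; omega
    · have := card_lt_of_lt h; omega
  by_contra hnot
  have defH : ⁅H, R⁆ = H := by
    by_contra hne
    have := IHsub _ R (comm_le_left hn) le_rfl hR₀ (norm_comm hn Subgroup.le_normalizer)
      (Or.inl (lt_of_le_of_ne (comm_le_left hn) hne))
    rw [coprime_commGid hn co (Or.inl solH)] at this
    exact hnot this
  rw [defH] at hnot
  have co₀ := cop_of_le_right co hR₀
  have hn₀ := hR₀.trans hn
  have IHquo : ∀ X : Subgroup G, X ≠ ⊥ → X ⊲ H → R ≤ 𝒩(X) → PLengthLE p 1 ↥(H /ₛ X) := by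
    intro X hX1 hX hRX
    have oR : Nat.card (R₀ /ₛ X) = Nat.card R₀ := card_quot_of_inf_eq_bot (hR₀.trans hRX)
      (inf_eq_bot_of_cop (cop_of_le_left co₀ hX.1))
    have := ih _ (by
        have a1 := card_quot_lt_of_normal hX hX1
        have a2 := card_quot_le R X
        omega) (Coset X) (H /ₛ X) (R /ₛ X) (R₀ /ₛ X) rfl (quot_norm X hn) (sol_quot X solH)
      (odd_quot X oH) (odd_quot X oR₀) (coprime_quot X co) (quot_mono X hR₀) (oR ▸ pR₀) (by
        rw [← coprime_quotient_cent hX.1 (hR₀.trans hRX) co₀ (Or.inl solH)]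
        exact zgroup_quot X hZ)
    rwa [← quot_comm hX.2 hRX, defH] at this
  have hO : pPrimeCoreOf p H = ⊥ := by
    by_contra h
    exact hnot ((p'quo_plength1 hp (pcore_normal _ _) (pcore_piGrp _ _)).1
      (IHquo _ h (pcore_normal _ _) (norm_pcore _ hn)))
  set V := pCoreOf p H with hV
  have hVH : V ⊲ H := pcore_normal _ _
  have pV : IsPGrp p V := pcore_pGrp _ _
  have hRV : R ≤ 𝒩(V) := norm_pcore _ hn
  have hCV : H ⊓ 𝒞(V) ≤ V := cent_sub_pcore solH hO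
  have hp'C : ∀ X : Subgroup G, X ≤ H → IsPiGrp {p}ᶜ X → X ≤ 𝒞(V) → X = ⊥ := fun X h1 h2 h3 =>
    IsPiGrp.eq_bot (pV.of_le ((le_inf h1 h3).trans hCV)) h2
  have hV1 : V ≠ ⊥ := by
    intro e
    rw [e, cent_bot, inf_top_eq, le_bot_iff] at hCV
    exact hnot (plength1_pgroup hp (hCV ▸ piGrp_bot _))
  have hVe : IsElementaryAbelian p V := by
    refine abelem_of_frattini_eq_bot hp pV ?_
    by_contra h
    have hch : CharIn (frattiniOf V) V := charIn_map_subtype _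
    set F := frattiniOf V with hF
    have hFH : F ⊲ H := hch.trans_normal hVH
    refine hnot ((pquo_plength1 hp hFH (pV.of_le hch.le) ?_).1 (IHquo _ h hFH (hch.norm hRV)))
    set L := quotPre F (pPrimeCoreOf p (H /ₛ F)) with hL
    have hLH : L ⊲ H := quotPre_normalIn_of hFH (pcore_normal _ _)
    obtain ⟨D, hD⟩ := Hall_exists {p}ᶜ (sol_of_le solH hLH.1)
    have hDH := hD.le.trans hLH.1
    have hDq : D /ₛ F = pPrimeCoreOf p (H /ₛ F) := by
      have := hD.quot (K := F) (hLH.1.trans hFH.2)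
      rw [hL, quot_quotPre] at this
      exact this.eq_self (pcore_piGrp _ _)
    rw [← hDq, hp'C D hDH hD.piGrp (coprime_cent_Phi pV (pV.coprime hD.piGrp) ?_), bot_quot]
    rw [← quot_cent_iff (hVH.1.trans hFH.2) (hDH.trans hFH.2), hDq]
    exact (pcore_quot_le _ _ _).trans (pcore_cent_compl _ _)
  have hUb : IsPiGrp {p}ᶜ (fittingOf (H /ₛ V)) := by
    have := pcore_sylow_fitting p (H /ₛ V)
    exact this.eq_bot_iff.1 (pcore_quot_pcore _ _)
  set U := quotPre V (fittingOf (H /ₛ V)) with hU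
  have hUH : U ⊲ H := quotPre_normalIn_of hVH (fitting_normal _)
  have hRU : R ≤ 𝒩(U) := le_norm_quotPre hRV (norm_fitting (quot_norm V hn))
  have hVU : V ≤ U := le_quotPre _
  obtain ⟨K, hK, hRK⟩ := coprime_Hall_exists {p}ᶜ hRU (cop_of_le_left co hUH.1) (sol_of_le solH hUH.1)
  have hKH := hK.le.trans hUH.1
  have hKV := hKH.trans hVH.2
  have hKq : K /ₛ V = fittingOf (H /ₛ V) := by
    have := hK.quot (K := V) (hUH.1.trans hVH.2)
    rw [hU, quot_quotPre] at this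
    exact this.eq_self hUb
  have hVK : V ⊔ K = U := by rw [hU, ← hKq, quotPre_quot hKV]
  have coVK := pV.coprime hK.piGrp
  have hVKi : V ⊓ K = ⊥ := inf_eq_bot_of_cop coVK
  have nilK : Group.IsNilpotent K := by
    obtain ⟨e⟩ := quot_equiv hKV hVKi
    have : Group.IsNilpotent (K /ₛ V) := hKq ▸ fitting_nil _
    exact Group.nilpotent_of_mulEquiv e.symm
  have hp'K : ¬ p ∣ Nat.card K := (piGrp_compl_singleton_iff hp).1 hK.piGrp
  set N := H ⊓ 𝒩(K) with hN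
  have hVN : V ⊔ N = H := by
    have := Hall_Frattini_arg (sol_of_le solH hUH.1) hUH hK
    rwa [← hVK, sup_assoc, sup_eq_right.2 (le_inf hKH Subgroup.le_normalizer : K ≤ N)] at this
  have hRN : R ≤ 𝒩(N) := norm_inf hn (norm_norm hRK)
  obtain ⟨P, hP, hRP⟩ := sol_coprime_Sylow_exists hp (Or.inl (sol_of_le solH inf_le_left)) hRN
    (cop_of_le_left co (inf_le_left : N ≤ H))
  have hPH : P ≤ H := hP.le.trans inf_le_left
  have hPK : P ≤ 𝒩(K) := hP.le.trans inf_le_right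
  have hPV : P ≤ 𝒩(V) := hPH.trans hVH.2
  have hPU : ¬ P ≤ U := by
    intro h
    have h1 : P ≤ V := by
      rw [← quot_eq_bot_iff hPV]
      refine IsPiGrp.eq_bot (hP.piGrp.quot V) (hUb.of_le ?_)
      exact quot_le_of_le_quotPre h
    have h2 := (pHall_refl pV).sup_sup hP (inf_le_left.trans hVH.2) (Or.inr hPV)
    rw [sup_eq_left.2 h1, hVN] at h2
    exact hnot (plength1_of_normal_Sylow hp h2 hVH.2)
  have hCU : H ⊓ 𝒞(K) ≤ U := by
    rw [hU, ← quot_le_iff (inf_le_left.trans hVH.2)]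
    refine (quot_inf_cent_le _ _).trans ?_
    rw [hKq]
    exact cent_sub_Fitting (sol_quot V solH)
  have hKP : ¬ K ≤ 𝒞(P) := fun h => hPU ((le_inf hPH (le_cent_symm h)).trans hCU)
  have hK1 : K ≠ ⊥ := fun e => hKP (e ▸ bot_le)
  have hCK : V ⊓ 𝒞(K) = ⊥ := by
    by_contra h
    have hNV : N ≤ 𝒩(V) := inf_le_left.trans hVH.2
    have a1 : ⁅V, K⁆ ⊲ H := ⟨(comm_le_left hKV).trans hVH.1, by
      rw [← hVN]
      exact sup_le (comm_normalIn_left hKV).2 (norm_comm hNV inf_le_right)⟩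
    have a2 : V ⊓ 𝒞(K) ⊲ H := ⟨inf_le_left.trans hVH.1, by
      rw [← hVN]
      exact sup_le (norm_of_le_abelian hVe.1 inf_le_left) (norm_inf hNV (norm_cent inf_le_right))⟩
    refine hnot ((quo2_plength1 hp a1 a2 ?_).1 ⟨IHquo _ ?_ a1 (norm_comm hRV hRK),
      IHquo _ h a2 (norm_inf hRV (norm_cent hRK))⟩)
    · rw [← inf_assoc, inf_eq_left.2 (comm_le_left hKV), coprime_abel_cent_TI hKV coVK hVe.1]
    · exact fun e => hK1 (hp'C K hKH hK.piGrp (comm_eq_bot_iff'.1 e))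
  have hVNi : V ⊓ 𝒩(K) = ⊥ := by rw [coprime_norm_cent hKV coVK, hCK]
  have hVP : V ⊓ P = ⊥ := eq_bot_iff.2 ((inf_le_inf_left _ hPK).trans hVNi.le)
  have hKR₀ : ¬ K ≤ 𝒞(R₀) := by
    intro h
    have cK : IsCyclic K := nil_Zgroup_cyclic (zgroup_of_le hZ (le_inf hKH h)) nilK
    apply hPU
    refine hPH.trans ?_
    rw [← defH]
    conv_lhs => rw [← hVN]
    refine comm_sup_left_le (hVH.1.trans hUH.2) (inf_le_left.trans hUH.2)
      ((comm_le_left hRV).trans hVU) (le_trans (le_inf ?_ ?_) hCU)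
    · exact (comm_le_left hRN).trans inf_le_left
    · exact (Subgroup.commutator_mono inf_le_right hRK).trans (P04.der_le_cent_of_cyclic cK le_rfl)
  have hpH : p ∣ Nat.card H := (pV.dvd_card hV1).trans (Subgroup.card_dvd_of_le hVH.1)
  have hp'R : ¬ p ∣ Nat.card R₀ := (Nat.Prime.coprime_iff_not_dvd hp).1 (co₀.coprime_dvd_left hpH)
  have hCR : V ⊓ 𝒞(R₀) ≠ ⊥ := by
    intro h
    have h1 := odd_prime_abelem_cent hp (hR₀.trans hRK) (odd_of_le oH hKH) oR₀ pR₀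
      (cop_of_le_left co₀ hKH) hVe hKV (hR₀.trans hRV) hp'K hp'R h
    have h2 := comm_le_right (hR₀.trans hRK)
    exact hKR₀ (comm_eq_bot_iff'.1 (hp'C _ (h2.trans hKH) (hK.piGrp.of_le h2) h1))
  have cY : IsCyclic ↥((V ⊔ P) ⊓ 𝒞(R₀)) :=
    nil_Zgroup_cyclic (zgroup_of_le hZ (inf_le_inf_right _ (sup_le hVH.1 hPH)))
      (IsPGrp.nil ((pV.sup hP.piGrp (Or.inr hPV)).inf_left _))
  have oCR : Nat.card ↥(V ⊓ 𝒞(R₀)) ≤ p := P04.card_le_of_cyclic_exp hp
    (cyclic_of_le cY (inf_le_inf_right _ le_sup_left)) fun x hx => hVe.2 x hx.1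
  have hPR : P ⊓ 𝒞(R₀) = ⊥ := by
    by_contra h
    obtain ⟨A, hA, oA⟩ := exists_le_card_eq_prime hp (IsPGrp.dvd_card (pV.inf_left _) hCR)
    obtain ⟨B, hB, oB⟩ := exists_le_card_eq_prime hp (IsPGrp.dvd_card (hP.pGrp.inf_left _) h)
    have e := eq_of_cyclic_of_card_eq cY (hA.trans (inf_le_inf_right _ le_sup_left))
      (hB.trans (inf_le_inf_right _ le_sup_right)) (oA.trans oB.symm)
    refine ne_bot_of_card_prime (oA ▸ hp) (eq_bot_iff.2 (le_trans (le_inf ?_ ?_) hVP.le))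
    · exact hA.trans inf_le_left
    · exact e ▸ hB.trans inf_le_left
  have key : ∀ X : Subgroup G, X ≤ K → P ≤ 𝒩(X) → R₀ ≤ 𝒩(X) → (V ⊔ X ⊔ P < H ∨ R₀ < R) →
      X ≤ 𝒞(P) := by
    intro X hX hPX hRX hlt
    have h1 : V ⊔ X ⊔ P ≤ H := sup_le (sup_le hVH.1 (hX.trans hKH)) hPH
    have h2 : R₀ ≤ 𝒩(V ⊔ X ⊔ P) := norm_sup (norm_sup (hR₀.trans hRV) hRX) (hR₀.trans hRP)
    have h3 := IHsub _ R₀ h1 hR₀ le_rfl h2 hlt
    set Y := ⁅V ⊔ X ⊔ P, R₀⁆ with hY
    have hYn : Y ⊲ V ⊔ X ⊔ P := comm_normalIn_left h2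
    have hPY : P ≤ Y := by
      have := coprime_cent_prod (hR₀.trans hRP) (cop_of_le_left co₀ hPH) (Or.inl hP.pGrp.sol)
      rw [hPR, sup_bot_eq] at this
      exact this.ge.trans (Subgroup.commutator_mono le_sup_right le_rfl)
    have h4 : pPrimeCoreOf p Y = ⊥ := by
      have a1 := hYn.pcore {p}ᶜ
      refine hp'C _ (a1.1.trans h1) (pcore_piGrp _ _) ?_
      exact le_cent_of_norm_of_coprime ((le_sup_left.trans le_sup_left).trans a1.2)
        ((a1.1.trans h1).trans hVH.2) (PiNat.coprime' (pcore_piGrp _ _) pV)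
    have h5 : P ≤ pCoreOf p Y :=
      ((plength1_pcore_Sylow hp h4).1 h3).le_of_normal (pcore_norm _ _) hP.piGrp hPY
    rw [← comm_eq_bot_iff, eq_bot_iff,
      ← IsPiGrp.inf_eq_bot (pcore_piGrp {p} Y) (hK.piGrp.of_le hX)]
    exact le_inf ((Subgroup.commutator_mono le_rfl h5).trans (comm_le_right
      ((le_sup_right.trans le_sup_left).trans (hYn.pcore {p}).2))) (comm_le_left hPX)
  have eR : R₀ = R := by
    by_contra hne
    exact hKP (key K le_rfl hPK (hR₀.trans hRK) (Or.inr (lt_of_le_of_ne hR₀ hne)))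
  subst eR
  have hmin : ∀ X : Subgroup G, X < K → P ≤ 𝒩(X) → R₀ ≤ 𝒩(X) → X ≤ 𝒞(P) := by
    intro X hX hPX hRX
    refine key X hX.le hPX hRX (Or.inl (lt_of_le_of_ne
      (sup_le (sup_le hVH.1 (hX.le.trans hKH)) hPH) fun e => ?_))
    have h1 : Nat.card K ∣ Nat.card X * (Nat.card V * Nat.card P) := by
      refine (Subgroup.card_dvd_of_le (hKH.trans e.ge)).trans ?_
      refine (card_sup_dvd (Or.inr (norm_sup hPV hPX))).trans ?_
      rw [← mul_assoc, mul_comm (Nat.card X)]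
      exact Nat.mul_dvd_mul_right (card_sup_dvd (Or.inr (hX.le.trans hKV))) _
    have h2 := PiNat.dvd_of_dvd_mul hK.piGrp (piNat_compl_compl.2 (PiNat.mul pV hP.piGrp)) h1
    exact (card_lt_of_lt hX).not_ge (Nat.le_of_dvd Nat.card_pos h2)
  have coKP : (Nat.card K).Coprime (Nat.card P) := PiNat.coprime' hK.piGrp hP.piGrp
  have coKR := cop_of_le_left co₀ hKH
  by_cases hab : IsMulCommutative K
  · exact abelian_case hp hVe hV1 hKV hPV hRV hab hp'K hPK hRK hRP hP.pGrp pR₀ (oH.of_dvd_nat hpH) oR₀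
      (fun e => hp'R (e ▸ dvd_rfl)) coKR hPR (min_act_struct hPK hRK hRP nilK coKP hKP hmin).1 hCK oCR
  refine nonabelian_case nilK (odd_of_le oH hKH) hab hPK hRK hRP pR₀ oR₀ coKP coKR hPR hKP hmin
    (nil_Zgroup_cyclic (zgroup_of_le hZ (inf_le_inf_right _ hKH)) (nil_of_le nilK inf_le_left))
    fun h => ?_
  have hX : ⁅K, R₀⁆ ≤ K := comm_le_left hRK
  have h1 := Frobenius_prime_cent_le hp (norm_comm hRK Subgroup.le_normalizer)
    (semiregular_of_prime pR₀ h) hVe (hX.trans hKV) hRV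
    (fun e => hp'K (e.trans (Subgroup.card_dvd_of_le hX))) oCR
  have h2 : ⁅⁅K, R₀⁆, ⁅K, R₀⁆⁆ ≤ K := comm_le_of_le hX hX
  exact abelian_iff_le_cent.2 (comm_eq_bot_iff.1 (hp'C _ (h2.trans hKH) (hK.piGrp.of_le h2) h1))

theorem odd_sdprod_Zgroup_cent_prime_plength1 {p : ℕ} (hp : p.Prime) {M H R R₀ : Subgroup G}
    (hsol : Group.IsSolvable M) (hodd : Odd (Nat.card M)) (h : SDProd H R M)
    (hco : (Nat.card H).Coprime (Nat.card R)) (hR₀ : R₀ ≤ R) (hR₀p : (Nat.card R₀).Prime)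
    (hZ : IsZGroup ↥(H ⊓ 𝒞(R₀))) :
    PLengthLE p 1 ↥⁅H, R⁆ :=
  plength1_aux hp _ G H R R₀ rfl h.norm (sol_of_le hsol h.left_le) (odd_of_le hodd h.left_le)
    (odd_of_le hodd (hR₀.trans h.right_le)) hco hR₀ hR₀p hZ

end CA.BG.P03
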