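/-
Interface for section 3 of the local analysis (actions of Frobenius groups): statements used later.
Owner: helper6.
-/
import Cfsg.Agent.BG.P03d
import Cfsg.Agent.BG.I02

set_option autoImplicit false

namespace CA.BG

open Cfsg CA.FG

universe u

variable {G : Type u} [Group G] [Finite G]

/-! ### elementary facts on semiregular action and Frobenius groups -/

theorem semiregular_sym {K H : Subgroup G} (h : Semiregular K H) : Semiregular H K :=
  P03.semiregular_sym h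

theorem semiregularS {K H K₁ H₁ : Subgroup G} (h : Semiregular K H) (hK : K₁ ≤ K) (hH : H₁ ≤ H) :
    Semiregular K₁ H₁ :=
  P03.semiregularS h hK hH

theorem semiregular_prime {K H : Subgroup G} (h : Semiregular K H) : Semiprime K H :=
  P03.semiregular_prime h

theorem semiprime_regular {K H : Subgroup G} (h : Semiprime K H) (h1 : K ⊓ 𝒞(H) = ⊥) :
    Semiregular K H :=
  P03.semiprime_regular h h1

theorem semiprimeS {K H K₁ H₁ : Subgroup G} (h : Semiprime K H) (hK : K₁ ≤ K) (hH : H₁ ≤ H) :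
    Semiprime K₁ H₁ :=
  P03.semiprimeS h hK hH

theorem cent_semiprime {K H X : Subgroup G} (h : Semiprime K H) (hX : X ≤ H) (hX1 : X ≠ ⊥) :
    K ⊓ 𝒞(X) = K ⊓ 𝒞(H) :=
  P03.cent_semiprime h hX hX1

theorem cent_semiregular {K H X : Subgroup G} (h : Semiregular K H) (hX : X ≤ H) (hX1 : X ≠ ⊥) :
    K ⊓ 𝒞(X) = ⊥ :=
  P03.cent_semiregular h hX hX1

/-- A group of prime order acts in a prime manner. -/
theorem semiprime_of_prime {K H : Subgroup G} (hH : (Nat.card H).Prime) : Semiprime K H :=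
  P03.semiprime_of_prime hH

theorem regular_norm_dvd_pred {K H : Subgroup G} (hn : H ≤ 𝒩(K)) (h : Semiregular K H) :
    Nat.card H ∣ Nat.card K - 1 :=
  P03.regular_norm_dvd_pred hn h

theorem regular_norm_coprime {K H : Subgroup G} (hn : H ≤ 𝒩(K)) (h : Semiregular K H) :
    (Nat.card K).Coprime (Nat.card H) :=
  P03.regular_norm_coprime hn h

/-- A semiregular action on a nontrivial normalized subgroup gives a Frobenius group `K ⊔ H`. -/
theorem isFrob_sup {K H : Subgroup G} (hn : H ≤ 𝒩(K)) (h : Semiregular K H) (hK : K ≠ ⊥) (hH : H ≠ ⊥) :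
    IsFrob (K ⊔ H) K H :=
  P03.isFrob_sup hn h hK hH

theorem prime_FrobeniusP {M K R : Subgroup G} (hK : K ≠ ⊥) (hR : (Nat.card R).Prime) :
    IsFrob M K R ↔ SDProd K R M ∧ K ⊓ 𝒞(R) = ⊥ :=
  P03.prime_FrobeniusP hK hR

theorem Frobenius_coprime {M K R : Subgroup G} (h : IsFrob M K R) :
    (Nat.card K).Coprime (Nat.card R) :=
  P03.Frobenius_coprime h

theorem Frobenius_dvd_ker1 {M K R : Subgroup G} (h : IsFrob M K R) : Nat.card R ∣ Nat.card K - 1 :=
  P03.Frobenius_dvd_ker1 h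

theorem Frobenius_trivg_cent {M K R : Subgroup G} (h : IsFrob M K R) : K ⊓ 𝒞(R) = ⊥ :=
  P03.Frobenius_trivg_cent h

theorem Frobenius_ker_normal {M K R : Subgroup G} (h : IsFrob M K R) : K ⊲ M :=
  P03.Frobenius_ker_normal h

theorem Frobenius_cent1_ker {M K R : Subgroup G} (h : IsFrob M K R) {x : G} (hx : x ∈ K) (hx1 : x ≠ 1) :
    M ⊓ 𝒞[x] ≤ K :=
  P03.Frobenius_cent1_ker h hx hx1

theorem Frobenius_reg_compl {M K R : Subgroup G} (h : IsFrob M K R) {x : G} (hx : x ∈ R) (hx1 : x ≠ 1) :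
    M ⊓ 𝒞[x] ≤ R :=
  P03.Frobenius_reg_compl h hx hx1

/-- Every element of a Frobenius group outside the kernel is `K`-conjugate into the complement. -/
theorem Frobenius_partition {M K R : Subgroup G} (h : IsFrob M K R) {x : G} (hx : x ∈ M) (hxK : x ∉ K) :
    ∃ k ∈ K, x ∈ R :^ k :=
  P03.Frobenius_partition h hx hxK

/-- The complement of a Frobenius group is a TI-subgroup, self-normalizing. -/
theorem Frobenius_compl_TI {M K R : Subgroup G} (h : IsFrob M K R) {g : G} (hg : g ∈ M) (hgR : g ∉ R) :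
    R ⊓ R :^ g = ⊥ :=
  P03.Frobenius_compl_TI h hg hgR

theorem Frobenius_commg {M K R : Subgroup G} (h : IsFrob M K R) : ⁅K, R⁆ = K :=
  P03.Frobenius_commg h

theorem Frobenius_subl {M K R K₁ : Subgroup G} (h : IsFrob M K R) (hK1 : K₁ ≠ ⊥) (hK : K₁ ≤ K)
    (hn : R ≤ 𝒩(K₁)) : IsFrob (K₁ ⊔ R) K₁ R :=
  P03.Frobenius_subl h hK1 hK hn

theorem Frobenius_subr {M K R R₁ : Subgroup G} (h : IsFrob M K R) (hR1 : R₁ ≠ ⊥) (hR : R₁ ≤ R) :
    IsFrob (K ⊔ R₁) K R₁ :=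
  P03.Frobenius_subr h hR1 hR

/-- Semiregular action passes to quotients of the group acted on (no solvability needed). -/
theorem semiregular_quotient {K R N : Subgroup G} (hn : R ≤ 𝒩(K)) (h : Semiregular K R) (hN : N ⊲ K)
    (hRN : R ≤ 𝒩(N)) : Semiregular (K /ₛ N) (R /ₛ N) :=
  P03.semiregular_quotient hn h hN hRN

/-- Lemma 3.2(b), special case. -/
theorem Frobenius_proper_quotient {M K R N : Subgroup G} (h : IsFrob M K R) (hN : N ⊲ M) (hNK : N < K) :
    IsFrob (M /ₛ N) (K /ₛ N) (R /ₛ N) :=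
  P03.Frobenius_proper_quotient h hN hNK

/-- Lemma 3.2(a). -/
theorem Frobenius_normal_proper_ker {M K R N : Subgroup G} (h : IsFrob M K R) (hN : N ⊲ M)
    (hNK : ¬ K ≤ N) : N < K :=
  P03.Frobenius_normal_proper_ker h hN hNK

/-- Lemma 3.2(b). -/
theorem Frobenius_quotient {M K R N : Subgroup G} (h : IsFrob M K R) (hN : N ⊲ M) (hNK : ¬ K ≤ N) :
    IsFrob (M /ₛ N) (K /ₛ N) (R /ₛ N) :=
  P03.Frobenius_quotient h hN hNK

/-! ### the results of section 3 -/

/-- Lemma 3.3, internal form for an abelian group `V` (only `|K|` is coprime to `|V|`). -/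
theorem Frobenius_rfix_compl {M K R V : Subgroup G} (h : IsFrob M K R) (hV : IsMulCommutative V)
    (hn : M ≤ 𝒩(V)) (hco : (Nat.card V).Coprime (Nat.card K)) (hK : ¬ K ≤ 𝒞(V)) :
    V ⊓ 𝒞(R) ≠ ⊥ :=
  P03.Frobenius_rfix_compl h hV hn hco hK

/-- Theorem 3.4, internal form (solvability of `M` is not needed; `V` is any solvable group). -/
theorem odd_prime_sdprod_cent1 {M K R V : Subgroup G} (hodd : Odd (Nat.card M)) (h : SDProd K R M)
    (hco : (Nat.card K).Coprime (Nat.card R)) (hR : (Nat.card R).Prime) (hV : Group.IsSolvable V)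
    (hn : M ≤ 𝒩(V)) (hcoV : (Nat.card V).Coprime (Nat.card M)) (hC : V ⊓ 𝒞(R) = ⊥) :
    ⁅R, K⁆ ≤ K ⊓ 𝒞(V) :=
  P03.odd_prime_sdprod_cent1 hodd h hco hR hV hn hcoV hC

/-- Theorem 3.4, internal form as in the Coq development. -/
theorem odd_prime_sdprod_abelem_cent1 {k : ℕ} (hk : k.Prime) {M K R V : Subgroup G}
    (hodd : Odd (Nat.card M)) (h : SDProd K R M)
    (hco : (Nat.card K).Coprime (Nat.card R)) (hR : (Nat.card R).Prime) (hV : IsElementaryAbelian k V)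
    (hn : M ≤ 𝒩(V)) (hk' : ¬ k ∣ Nat.card M) (hC : V ⊓ 𝒞(R) = ⊥) :
    ⁅R, K⁆ ≤ K ⊓ 𝒞(V) :=
  P03.odd_prime_sdprod_abelem_cent1 hk hodd h hco hR hV hn hk' hC

/-- Theorem 3.5, internal form (neither solvability nor primality of `|R|` is needed, and `R` may have
order divisible by `k`). -/
theorem Frobenius_prime_cent_prime {k : ℕ} (hk : k.Prime) {M K R V : Subgroup G} (h : IsFrob M K R)
    (hV : IsElementaryAbelian k V) (hn : M ≤ 𝒩(V)) (hk' : ¬ k ∣ Nat.card K)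
    (hC : Nat.card ↥(V ⊓ 𝒞(R)) = k) :
    ⁅K, K⁆ ≤ K ⊓ 𝒞(V) :=
  P03.Frobenius_prime_cent_prime hk h hV hn hk' hC

/-- Theorem 3.6. -/
theorem odd_sdprod_Zgroup_cent_prime_plength1 {p : ℕ} (hp : p.Prime) {M H R R₀ : Subgroup G}
    (hsol : Group.IsSolvable M) (hodd : Odd (Nat.card M)) (h : SDProd H R M)
    (hco : (Nat.card H).Coprime (Nat.card R)) (hR₀ : R₀ ≤ R) (hR₀p : (Nat.card R₀).Prime)
    (hZ : IsZGroup ↥(H ⊓ 𝒞(R₀))) :
    PLengthLE p 1 ↥⁅H, R⁆ :=
  P03.odd_sdprod_Zgroup_cent_prime_plength1 hp hsol hodd h hco hR₀ hR₀p hZ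

/-- Theorem 3.7. -/
theorem prime_Frobenius_sol_kernel_nil {M K R : Subgroup G} (h : SDProd K R M)
    (hsol : Group.IsSolvable K) (hR : (Nat.card R).Prime) (hC : K ⊓ 𝒞(R) = ⊥) :
    Group.IsNilpotent K :=
  P03.prime_Frobenius_sol_kernel_nil h hsol hR hC

/-- Theorem 3.7 without naming the product. -/
theorem prime_regular_sol_nil {K R : Subgroup G} (hn : R ≤ 𝒩(K))
    (hsol : Group.IsSolvable K) (hR : (Nat.card R).Prime) (hC : K ⊓ 𝒞(R) = ⊥) :
    Group.IsNilpotent K :=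
  P03.prime_regular_sol_nil hn hsol hR hC

theorem Frobenius_sol_kernel_nil {M K R : Subgroup G} (h : IsFrob M K R) (hsol : Group.IsSolvable K) :
    Group.IsNilpotent K :=
  P03.Frobenius_sol_kernel_nil h hsol

/-- Theorem 3.8. -/
theorem odd_sdprod_primact_commg_sub_Fitting {M K R : Subgroup G} (h : SDProd K R M)
    (hodd : Odd (Nat.card M)) (hsol : Group.IsSolvable M)
    (hco : (Nat.card R).Coprime (Nat.card K)) (hprim : Semiprime K R) (hF : fittingOf K ⊓ 𝒞(R) = ⊥) :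
    ⁅K, R⁆ ≤ fittingOf K :=
  P03.odd_sdprod_primact_commg_sub_Fitting h hodd hsol hco hprim hF

/-- Proposition 3.9. -/
theorem odd_regular_pgroup_cyclic {p : ℕ} (hp : p.Prime) {H R : Subgroup G} (hR : IsPGrp p R)
    (hodd : Odd (Nat.card R)) (hH : H ≠ ⊥) (hn : R ≤ 𝒩(H)) (hreg : Semiregular H R) :
    IsCyclic R :=
  P03.odd_regular_pgroup_cyclic hp hR hodd hH hn hreg

theorem odd_regular_Zgroup {H R : Subgroup G} (hodd : Odd (Nat.card R)) (hH : H ≠ ⊥) (hn : R ≤ 𝒩(H))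
    (hreg : Semiregular H R) : IsZGroup R :=
  P03.odd_regular_Zgroup hodd hH hn hreg

/-- An abelian group acting semiregularly is cyclic. -/
theorem abelian_regular_cyclic {H R : Subgroup G} (hR : IsMulCommutative R) (hH : H ≠ ⊥)
    (hn : R ≤ 𝒩(H)) (hreg : Semiregular H R) : IsCyclic R :=
  P03.abelian_regular_cyclic hR hH hn hreg

theorem regular_pq_group_cyclic {p q : ℕ} (hp : p.Prime) (hq : q.Prime) (hpq : p ≠ q) {H R : Subgroup G}
    (hR : Nat.card R = p * q) (hH : H ≠ ⊥) (hn : R ≤ 𝒩(H)) (hreg : Semiregular H R) :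
    IsCyclic R :=
  P03.regular_pq_group_cyclic hp hq hpq hR hH hn hreg

theorem odd_regular_metacyclic {H R : Subgroup G} (hodd : Odd (Nat.card R)) (hH : H ≠ ⊥)
    (hn : R ≤ 𝒩(H)) (hreg : Semiregular H R) : IsMetacyclic R :=
  P03.odd_regular_metacyclic hodd hH hn hreg

theorem prime_odd_regular_normal {H R S : Subgroup G} (hS : (Nat.card S).Prime)
    (hodd : Odd (Nat.card R)) (hSR : S ≤ R) (hH : H ≠ ⊥) (hn : R ≤ 𝒩(H)) (hreg : Semiregular H R) :
    S ⊲ R :=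
  P03.prime_odd_regular_normal hS hodd hSR hH hn hreg

/-- The Wielandt fixed point formula for a Frobenius group. -/
theorem Frobenius_Wielandt_fixpoint {M K R V : Subgroup G} (h : IsFrob M K R) (hn : M ≤ 𝒩(V))
    (hco : (Nat.card V).Coprime (Nat.card M)) (hsol : Group.IsSolvable V) :
    Nat.card ↥(V ⊓ 𝒞(M)) ^ Nat.card R * Nat.card V
        = Nat.card ↥(V ⊓ 𝒞(R)) ^ Nat.card R * Nat.card ↥(V ⊓ 𝒞(K)) ∧
      (V ⊓ 𝒞(R) = ⊥ → K ≤ 𝒞(V)) ∧
      (V ⊓ 𝒞(K) = ⊥ → Nat.card V = Nat.card ↥(V ⊓ 𝒞(R)) ^ Nat.card R) :=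
  P03.Frobenius_Wielandt_fixpoint h hn hco hsol

/-- Theorem 3.10 (`V` solvable; neither oddness nor solvability of `M` is needed). -/
theorem Frobenius_primact {M K R V : Subgroup G} (h : IsFrob M K R) (hn : M ≤ 𝒩(V))
    (hsol : Group.IsSolvable V) (hV : V ≠ ⊥) (hco : (Nat.card V).Coprime (Nat.card M))
    (hprim : Semiprime V R) (hC : V ⊓ 𝒞(K) = ⊥) :
    (Nat.card R).Prime ∧ Nat.card V = Nat.card ↥(V ⊓ 𝒞(R)) ^ Nat.card R ∧
      (IsCyclic ↥(V ⊓ 𝒞(R)) → ⁅K, K⁆ ≤ K ⊓ 𝒞(V)) :=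
  P03.Frobenius_primact h hn hsol hV hco hprim hC

end CA.BG
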