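/-
B & G section 4: Theorem 4.16 (Blackburn).
-/
import Cfsg.Agent.BG.P04d

set_option autoImplicit false

namespace CA.BG.P04

open Cfsg CA.FG Subgroup

universe u v

variable {G : Type u} [Group G]

theorem rc_mul_left' (x y b : G) : rc (x * y) b = y⁻¹ * rc x b * y * rc y b := by
  unfold rc; group

theorem rc_mul_right' (x y z : G) : rc x (y * z) = rc x z * (z⁻¹ * rc x y * z) := by
  unfold rc; group

theorem conj_rc (a x y : G) : a * rc x y * a⁻¹ = rc (a * x * a⁻¹) (a * y * a⁻¹) := by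
  unfold rc; group

theorem inv_conj_eq_mul_rc (w y : G) : y⁻¹ * w * y = w * rc w y := by
  unfold rc; group

theorem inv_conj_of_commute {w y : G} (h : Commute w y) : y⁻¹ * w * y = w := by
  rw [mul_assoc, h.eq, inv_mul_cancel_left]

theorem rc_one_right (x : G) : rc x 1 = 1 := by unfold rc; group

theorem rc_one_left (x : G) : rc 1 x = 1 := by unfold rc; group

theorem norm_of_rc [Finite G] {A H : Subgroup G} (h : ∀ x ∈ H, ∀ a ∈ A, rc x a ∈ H) :
    A ≤ 𝒩(H) := fun a ha => mem_norm_of_forall fun x hx => by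
  rw [conj_eq_mul_rc]
  exact mul_mem hx (h x hx _ (inv_mem ha))

theorem relIndex_eq_of_card [Finite G] {p : ℕ} {H K : Subgroup G} (h : H ≤ K)
    (e : Nat.card K = Nat.card H * p) : H.relIndex K = p := by
  have := card_mul_relIndex h
  rw [e] at this
  exact Nat.eq_of_mul_eq_mul_left Nat.card_pos this

theorem exists_eq_sup_zpowers [Finite G] {p : ℕ} (hp : p.Prime) {H K : Subgroup G} (h : H ≤ K)
    (e : H.relIndex K = p) : ∃ y ∈ K, y ∉ H ∧ H ⊔ zpowers y = K := by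
  have hn : ¬ K ≤ H := fun e' => by
    rw [relIndex_eq_one.2 e'] at e
    exact hp.one_lt.ne e
  obtain ⟨y, hy, hyH⟩ := SetLike.not_le_iff_exists.1 hn
  exact ⟨y, hy, hyH, eq_sup_zpowers_of_relIndex hp h e hy hyH⟩

theorem relIndex_eq_of_le [Finite G] {p : ℕ} (hp : p.Prime) {H R : Subgroup G} (pR : IsPGroup p R)
    (h : H.relIndex R ≤ p) (hn : ¬ R ≤ H) : H.relIndex R = p := by
  obtain ⟨n, e⟩ := relIndex_pow hp pR H
  obtain _ | _ | n := n
  · exact absurd (relIndex_eq_one.1 (by simpa using e)) hn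
  · simpa using e
  · rw [e, ← pow_one p, ← pow_mul, pow_le_pow_iff hp] at h
    omega

/-- Lemma 4.15, for groups of order `p ^ 3`. -/
theorem sup_cent_eq_of_p3 [Finite G] {p : ℕ} (hp : p.Prime) {R S : Subgroup G} (pS : IsPGroup p S)
    (hSR : S ≤ R) (nabS : ¬ IsMulCommutative S) (oS : Nat.card S ≤ p ^ 3) (h : ⁅S, R⁆ ≤ 𝒵(S)) :
    S ⊔ (R ⊓ 𝒞(S)) = R := by
  obtain ⟨o3, oZ, -⟩ := p3group_extraspecial hp pS nabS oS
  have nab := nabS
  rw [abelian_iff_forall] at nab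
  push Not at nab
  obtain ⟨x, hx, y, hy, hxy⟩ := nab
  have hle : zpowers x ⊔ zpowers y ≤ S := sup_le (zpowers_le.2 hx) (zpowers_le.2 hy)
  have e : zpowers x ⊔ zpowers y = S := by
    refine eq_of_le_of_card_le hle (oS.trans (pow_le_card_of_lt hp (pS.to_le hle) ?_))
    by_contra hc
    exact hxy (commute_of_abelian (abelian_of_card_le_sq hp (pS.to_le hle) (not_lt.1 hc))
      (le_sup_left (b := zpowers y) (mem_zpowers x))
      (le_sup_right (a := zpowers x) (mem_zpowers y))).eq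
  have i1 : (𝒞(S)).relIndex R ≤ p * p := by
    conv_lhs => rw [← e, cent_sup, cent_zpowers, cent_zpowers]
    exact relIndex_inf_le.trans (Nat.mul_le_mul
      ((relIndex_cent1_le fun r hr => h (rc_mem hx hr)).trans oZ.le)
      ((relIndex_cent1_le fun r hr => h (rc_mem hy hr)).trans oZ.le))
  refine eq_of_le_of_card_le (sup_le hSR inf_le_left) ?_
  have h1 := card_le_mul_card_inf le_rfl i1
  have h2 := card_sup_mul_card_inf (H := S) (K := R ⊓ 𝒞(S)) (Or.inr (norm_of_cent inf_le_right))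
  rw [← inf_assoc, inf_eq_left.2 hSR, oZ, o3] at h2
  rw [inf_comm] at h1
  refine h1.trans (Nat.le_of_mul_le_mul_right (le_of_eq ?_) hp.pos)
  rw [h2]; ring

theorem comm_le_center_aux [Finite G] {p : ℕ} (hp : p.Prime) {R S A : Subgroup G}
    (pR : IsPGroup p R) (nsS : S ⊲ R) (eS : ∀ x ∈ S, x ^ p = 1) (oS : Nat.card S ≤ p ^ 3)
    (nabS : ¬ IsMulCommutative S) (hΩ : ∀ x ∈ R, x ^ p = 1 → x ∈ S) (nRA : A ≤ 𝒩(R))
    (nSA : A ≤ 𝒩(S)) (cC : IsCyclic ↥(R ⊓ 𝒞(S))) (defR : ⁅R, A⁆ = R) (oddA : Odd (Nat.card A)) :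
    ⁅S, R⁆ ≤ 𝒵(S) := by
  by_contra hTZ
  have pS := pR.to_le nsS.1
  obtain ⟨o3, oZ, eZ, -⟩ := p3group_extraspecial hp pS nabS oS
  set T := ⁅S, R⁆ with hT
  set Z := 𝒵(S) with hZ
  set C := R ⊓ 𝒞(S) with hC
  have hZT : Z ≤ T := eZ ▸ commutator_mono le_rfl nsS.1
  have hTS : T ≤ S := comm_le_left nsS.2
  have hTR : T ≤ R := hTS.trans nsS.1
  have pT := pR.to_le hTR
  have oT : Nat.card T = p * p := by
    refine le_antisymm (sq p ▸ card_comm_le hp pR nsS.1 nsS.2 oS) ?_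
    have := mul_card_le_of_lt hp pT (lt_of_le_of_ne hZT fun e => hTZ e.ge)
    rwa [oZ] at this
  have abT := abelian_of_card_le_sq hp pT (by rw [oT, sq])
  have nT : R ≤ 𝒩(T) := norm_comm nsS.2 le_normalizer
  have nTA : A ≤ 𝒩(T) := norm_comm nSA nRA
  have nZ : R ≤ 𝒩(Z) := norm_inf nsS.2 (norm_cent nsS.2)
  have cZ : R ≤ 𝒞(Z) := cent_of_card_le hp pR (inf_le_left.trans nsS.1) nZ oZ.le
  have cTR : ⁅T, R⁆ ≤ Z := by
    refine le_inf ((comm_le_left nT).trans hTS) (le_cent_symm (nsS.1.trans ?_))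
    exact cent_of_card_le hp pR (comm_le_of_le hTR le_rfl) (norm_comm nT le_normalizer)
      (by simpa using card_comm_le hp pR hTR nT (k := 1) (by rw [oT]; exact (sq p).ge))
  have iT : T.relIndex S = p := relIndex_eq_of_card hTS (by rw [o3, oT]; ring)
  have hSB : ∀ s ∈ S, s ∈ 𝒞(T) → s ∈ T := fun s hs hc => by
    by_contra hn
    exact nabS (eq_sup_zpowers_of_relIndex hp hTS iT hs hn ▸
      abelian_sup abT (abelian_zpowers s) (le_cent_symm (zpowers_le.2 hc)))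
  obtain ⟨y, hyS, hyT, eS'⟩ := exists_eq_sup_zpowers hp hTS iT
  have hyR := nsS.1 hyS
  set B := R ⊓ 𝒞(T) with hB
  have hyB : y ∉ B := fun h => hyT (hSB y hyS h.2)
  have hTB : T ≤ B := le_inf hTR (abelian_iff_le_cent.1 abT)
  have iB : B.relIndex R = p := by
    refine relIndex_eq_of_le hp pR ?_ fun h => hyB (h hyR)
    rw [hB, inf_relIndex_left]
    exact relIndex_cent_le hp pR hTR nT (by rw [oT, sq])
  have eR := eq_sup_zpowers_of_relIndex hp inf_le_left iB hyR hyB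
  have cCR : R ≤ 𝒞(C) := by
    have := (commutator_mono (norm_inf le_normalizer (norm_cent nsS.2))
      (norm_inf nRA (norm_cent nSA))).trans (der_le_cent_of_cyclic cC le_rfl)
    rwa [defR] at this
  have hCB : C ≤ B := inf_le_inf_left _ (cent_anti hTS)
  have kerC : ∀ b ∈ B, rc y b = 1 → b ∈ C := fun b hb h => by
    refine ⟨hb.1, ?_⟩
    rw [← eS', cent_sup, cent_zpowers]
    exact ⟨hb.2, mem_centralizer_singleton_iff.2 (rc_eq_one_iff.1 h).eq.symm⟩
  have psiT : ∀ b ∈ R, rc y b ∈ T := fun b hb => rc_mem hyS hb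
  have psiC : ∀ c ∈ C, rc y c = 1 := fun c hc =>
    rc_eq_one_iff.2 (commute_of_mem_cent hc.2 hyS).symm
  have psiZ : ∀ t ∈ T, rc y t ∈ Z := fun t ht => by
    rw [← rc_inv]; exact inv_mem (cTR (rc_mem ht hyR))
  have psiM : ∀ b ∈ B, ∀ b' ∈ B, rc y (b * b') = rc y b * rc y b' := fun b hb b' hb' => by
    rw [rc_mul_right', inv_conj_of_commute (commute_of_mem_cent hb'.2 (psiT b hb.1)).symm,
      (commute_of_abelian abT (psiT b hb.1) (psiT b' hb'.1)).eq]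
  have psiP : ∀ b ∈ B, ∀ k : ℕ, rc y (b ^ k) = rc y b ^ k := fun b hb k => by
    induction k with
    | zero => rw [pow_zero, pow_zero, rc_one_right]
    | succ k ih => rw [pow_succ, psiM _ (pow_mem hb k) b hb, ih, pow_succ]
  have cz : ∀ z ∈ Z, ∀ r ∈ R, Commute z r := fun z hz r hr =>
    (commute_of_mem_cent (cZ hr) hz).symm
  have pw : ∀ b ∈ R, ∀ j : ℕ, ∃ z ∈ Z, rc (y ^ j) b = rc y b ^ j * z := fun b hb j => by
    induction j with
    | zero => exact ⟨1, one_mem _, by rw [pow_zero, pow_zero, rc_one_left, mul_one]⟩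
    | succ j ih =>
      obtain ⟨z, hz, e⟩ := ih
      have h1 : rc (rc (y ^ j) b) y ∈ Z := cTR (rc_mem (rc_mem (pow_mem hyS j) hb) hyR)
      refine ⟨_, mul_mem hz h1, ?_⟩
      rw [pow_succ, rc_mul_left', inv_conj_eq_mul_rc, pow_succ, mul_assoc (rc y b ^ j),
        ← (cz _ (mul_mem hz h1) _ (hTR (psiT b hb))).eq]
      generalize rc (rc (y ^ j) b) y = w
      rw [e]
      simp only [mul_assoc]
  obtain ⟨x, hx, hu⟩ : ∃ x ∈ B, rc y x ∉ Z := by
    by_contra hn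
    push Not at hn
    apply hTZ
    rw [hT, ← eS']
    refine comm_sup_left_le (hTR.trans nZ) ((zpowers_le.2 hyR).trans nZ) cTR ?_
    rw [← eR]
    refine comm_sup_right_le (inf_le_left.trans nZ) ((zpowers_le.2 hyR).trans nZ)
      (comm_le_of_rc fun w hw b hb => ?_) ?_
    · obtain ⟨j, rfl⟩ := exists_nat_of_mem_zpowers hw
      obtain ⟨z, hz, e⟩ := pw b hb.1 j
      rw [e]
      exact mul_mem (pow_mem (hn b hb) j) hz
    · rw [comm_eq_bot_iff.2 (abelian_iff_le_cent.1 (abelian_zpowers y))]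
      exact bot_le
  have huT := psiT x hx.1
  set u := rc y x with hudef
  have eT := eq_sup_zpowers_of_relIndex hp hZT (relIndex_eq_of_card hZT (by rw [oT, oZ])) huT hu
  have hz1 : rc y u ≠ 1 := fun h => hu ⟨hTS huT, (kerC u (hTB huT) h).2⟩
  have hzZ := psiZ u huT
  have eZ' := eq_zpowers_of_card_prime (oZ ▸ hp) hzZ hz1
  have dec : ∀ b ∈ B, ∃ c ∈ C, ∃ t ∈ T, ∃ i : ℕ, b = c * t * x ^ i := fun b hb => by
    obtain ⟨z, hz, i, e⟩ := mem_sup_zpowers_nat (nZ (hTR huT)) (eT ▸ psiT b hb.1)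
    obtain ⟨m, rfl⟩ := exists_nat_of_mem_zpowers (eZ' ▸ hz)
    have hd : u ^ m * x ^ i ∈ B := mul_mem (pow_mem (hTB huT) m) (pow_mem hx i)
    have hc : b * (u ^ m * x ^ i)⁻¹ ∈ B := mul_mem hb (inv_mem hd)
    refine ⟨_, kerC _ hc ?_, u ^ m, pow_mem huT m, i, by group⟩
    have h1 := psiM _ hc _ hd
    rw [inv_mul_cancel_right, e, psiM _ (pow_mem (hTB huT) m) _ (pow_mem hx i),
      psiP _ (hTB huT), psiP _ hx] at h1
    exact (mul_eq_right.1 h1.symm)
  have hxp : x ^ p ∈ C := kerC _ (pow_mem hx p) (by rw [psiP x hx]; exact eS _ (hTS huT))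
  have genC : C ≤ zpowers (x ^ p) := by
    obtain ⟨g, hg, eg⟩ := cyclic_iff_eq_zpowers.1 cC
    obtain ⟨k, hk⟩ := exists_nat_of_mem_zpowers (eg ▸ hxp)
    rw [eg, zpowers_le, hk]
    obtain ⟨n, hn⟩ := exists_pow_eq_one pR hg.1
    refine mem_zpowers_pow_of_not_dvd hp hn ?_
    rintro ⟨k, rfl⟩
    have hg' : (g ^ k)⁻¹ ∈ C := inv_mem (pow_mem hg k)
    have h1 : x * (g ^ k)⁻¹ ∈ B := mul_mem hx (hCB hg')
    have h2 : (x * (g ^ k)⁻¹) ^ p = 1 := by
      rw [(commute_of_mem_cent (cCR hx.1) hg').mul_pow, hk, inv_pow, ← pow_mul, mul_comm k,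
        mul_inv_cancel]
    have h3 := psiZ _ (hSB _ (hΩ _ h1.1 h2) h1.2)
    rw [psiM x hx _ (hCB hg'), psiC _ hg', mul_one] at h3
    exact hu h3
  have nBR : R ≤ 𝒩(B) := norm_inf le_normalizer (norm_cent nT)
  have nBA : A ≤ 𝒩(B) := norm_inf nRA (norm_cent nTA)
  have hzZ' : rc u y ∈ Z := cTR (rc_mem huT hyR)
  have hz1' : rc u y ≠ 1 := by rw [← rc_inv]; exact inv_ne_one.2 hz1
  have hzp : rc u y ^ p = 1 := eS _ hzZ'.1
  have psiY : ∀ j : ℕ, rc u (y ^ j) = rc u y ^ j := fun j => by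
    induction j with
    | zero => rw [pow_zero, pow_zero, rc_one_right]
    | succ j ih =>
      rw [pow_succ, rc_mul_right', ih, inv_conj_of_commute (cz _ (pow_mem hzZ' j) y hyR), pow_succ']
  have key : ∀ a (ha : a ∈ A), coset B ⟨a, nBA ha⟩ ∈ 𝒞[coset B ⟨y, nBR hyR⟩] := fun a ha => by
    obtain ⟨t₁, ht₁, j, ej⟩ := mem_sup_zpowers_nat (nT hyR) (eS' ▸ conj_mem_of_le_norm nSA ha hyS)
    have hb' := conj_mem_of_le_norm nBA ha hx
    obtain ⟨c, hc, t, ht, i, ei⟩ := dec _ hb'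
    have h1 : a * rc u y * a⁻¹ = rc u y ^ i := by
      obtain ⟨m, hm⟩ := exists_nat_of_mem_zpowers (genC ⟨nsS.1 hzZ'.1, hzZ'.2⟩)
      obtain ⟨e, he⟩ := exists_nat_of_mem_zpowers (genC hc)
      have c1 : Commute (c * t) (x ^ i) := ((commute_of_mem_cent (cCR hx.1) hc).symm.mul_left
        (commute_of_mem_cent hx.2 ht).symm).pow_right i
      have c2 : Commute c t := (commute_of_mem_cent (cCR (hTR ht)) hc).symm
      have h2 : (c ^ p) ^ m = 1 := by
        calc (c ^ p) ^ m = (((x ^ p) ^ m) ^ p) ^ e := by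
              rw [he]; simp only [← pow_mul]; congr 1; ring
          _ = 1 := by rw [← hm, hzp, one_pow]
      rw [hm, ← conj_pow, ← conj_pow, ei, c1.mul_pow, c2.mul_pow, eS t (hTS ht), mul_one,
        (((commute_of_mem_cent (cCR hx.1) hc).symm.pow_right i).pow_pow p p).mul_pow, h2, one_mul]
      simp only [← pow_mul]; congr 1; ring
    have h2 : a * rc u y * a⁻¹ = (rc u y ^ i) ^ j ^ 2 := by
      obtain ⟨z, hz, ez⟩ := pw _ hb'.1 j
      have h3 : a * u * a⁻¹ = (rc y t * u ^ i) ^ j * z := by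
        rw [hudef, conj_rc, ej, rc_mul_left', rc_eq_one_iff.2 (commute_of_mem_cent hb'.2 ht₁).symm,
          mul_one, inv_mul_cancel, one_mul, ez, ei,
          psiM _ (mul_mem (hCB hc) (hTB ht)) _ (pow_mem hx i), psiM _ (hCB hc) _ (hTB ht),
          psiC c hc, one_mul, psiP x hx]
      have hw : t₁ * y ^ j ∈ R := mul_mem (hTR ht₁) (pow_mem hyR j)
      have h4 : rc y t * u ^ i ∈ T := mul_mem (hZT (psiZ t ht)) (pow_mem huT i)
      rw [conj_rc, h3, ej, rc_mul_left_of_abelian abT (nT hw) (pow_mem h4 j) (hZT hz),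
        rc_eq_one_iff.2 (cz z hz _ hw), mul_one, rc_pow_left_of_abelian abT (nT hw) h4,
        rc_mul_left_of_abelian abT (nT hw) (hZT (psiZ t ht)) (pow_mem huT i),
        rc_eq_one_iff.2 (cz _ (psiZ t ht) _ hw), one_mul, rc_pow_left_of_abelian abT (nT hw) huT,
        rc_mul_right', rc_eq_one_iff.2 (commute_of_abelian abT huT ht₁), mul_one, inv_mul_cancel,
        mul_one, psiY]
      simp only [← pow_mul]; congr 1; ring
    have h3 : rc u y ^ i ≠ 1 := by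
      rw [← h1]
      simpa using hz1'
    have h4 : 1 ≡ j ^ 2 [MOD p] := by
      rw [h1] at h2
      nth_rewrite 1 [← pow_one (rc u y ^ i)] at h2
      rwa [pow_eq_pow_iff_modEq, orderOf_eq_of_pow hp h3 (by
        rw [← pow_mul, mul_comm, pow_mul, hzp, one_pow])] at h2
    have h5 : coset B ⟨a, nBA ha⟩ * coset B ⟨y, nBR hyR⟩ * (coset B ⟨a, nBA ha⟩)⁻¹ =
        coset B ⟨y, nBR hyR⟩ ^ j := by
      rw [← map_inv, ← map_mul, ← map_mul, ← map_pow, coset_eq_iff]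
      change (a * y * a⁻¹)⁻¹ * y ^ j ∈ B
      rw [ej, mul_inv_rev]
      exact hTB (conj_mem_of_le_norm' nT (pow_mem hyR j) (inv_mem ht₁))
    have h6 := conj_pow_iter h5 2
    have h7 : coset B ⟨y, nBR hyR⟩ ^ p = 1 := by
      rw [← map_pow, coset_eq_one_iff, Subgroup.coe_pow, eS y hyS]
      exact one_mem _
    rw [← pow_eq_pow_iff_modEq.2 (h4.of_dvd (orderOf_dvd_of_pow_eq_one h7)), pow_one,
      mul_inv_eq_iff_eq_mul, ← mem_centralizer_singleton_iff] at h6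
    obtain ⟨k, hk⟩ := oddA
    have h8 : coset B ⟨a, nBA ha⟩ ^ (2 * k + 1) = 1 := by
      rw [← map_pow, coset_eq_one_iff, Subgroup.coe_pow, ← hk, pow_card_eq_one_of_mem ha]
      exact one_mem _
    have h9 := pow_mem h6 (k + 1)
    rwa [← pow_mul, mul_add, mul_one, pow_succ _ (2 * k + 1), h8, one_mul] at h9
  apply hyB
  have h1 : A /ₛ B ≤ 𝒞(R /ₛ B) := by
    rw [quot_eq_zpowers (nBR hyR) eR, cent_zpowers]
    intro w hw
    obtain ⟨a, ha, rfl⟩ := mem_quot.1 hw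
    exact key a ha
  rw [quot_cent_iff' nBA nBR, defR] at h1
  exact h1 hyR

/-- Theorem 4.16, with explicit subgroups. -/
theorem rank2_cprod [Finite G] {p : ℕ} (hp : p.Prime) (hp2 : p ≠ 2) {R A : Subgroup G}
    (pR : IsPGroup p R) (ntR : R ≠ ⊥) (rR : RkLE p 2 R) (defR : ⁅R, A⁆ = R)
    (p'A : IsPiGrp {p}ᶜ A) (oddA : Odd (Nat.card A)) :
    3 < p ∧ (IsMulCommutative R ∨ (¬ IsMulCommutative (ohm1 p R) ∧ Nat.card (ohm1 p R) = p ^ 3 ∧
      (∀ x ∈ ohm1 p R, x ^ p = 1) ∧ CProd (ohm1 p R) (R ⊓ 𝒞(ohm1 p R)) R ∧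
      IsCyclic ↥(R ⊓ 𝒞(ohm1 p R)) ∧ ohm1 p (R ⊓ 𝒞(ohm1 p R)) = ⁅ohm1 p R, ohm1 p R⁆)) := by
  have nRA : A ≤ 𝒩(R) := by
    have := le_sup_right.trans (comm_normalIn_sup R A).2
    rwa [defR] at this
  have hp3 : 3 < p := by
    have h1 : (𝒞(R)).relIndex A ≠ 1 := fun e =>
      ntR (defR ▸ comm_eq_bot_iff'.2 (relIndex_eq_one.1 e))
    obtain ⟨q, hq, hd⟩ := Nat.exists_prime_and_dvd h1
    have hqA := hd.trans (relIndex_dvd_card _ _)
    have h2 := (lt_of_dvd_sq_sub_one hp hp2 hq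
      (dvd_sq_sub_one_of_rank2 hp hp2 hq pR rR nRA hd (p'A q hq hqA))).1
    have h3 : q ≠ 2 := by
      rintro rfl
      exact (Nat.not_even_iff_odd.2 oddA) (even_iff_two_dvd.2 hqA)
    have := hq.two_le
    omega
  refine ⟨hp3, or_iff_not_imp_left.2 fun nabR => ?_⟩
  have eS := ohm1_exp_rank2 hp hp3 pR rR
  have nS := ohm1_normalIn p R
  have oS := card_le_cube_of_exp hp (rR.mono nS.1) eS
  have hlt : ¬ Nat.card (ohm1 p R) ≤ p ^ 2 := fun h =>
    nabR (abelian_of_meta_comm_eq hp hp2 pR p'A nRA (meta_of_card_ohm1 hp hp3 pR h) defR)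
  have nabS : ¬ IsMulCommutative (ohm1 p R) := fun h => hlt (rR _ nS.1 ⟨h, eS⟩)
  have pS := pR.to_le nS.1
  obtain ⟨o3, oZ, eZ, -⟩ := p3group_extraspecial hp pS nabS oS
  have h1 : ohm1 p (R ⊓ 𝒞(ohm1 p R)) = 𝒵(ohm1 p R) :=
    le_antisymm (le_inf (ohm1_mono p inf_le_left) ((ohm1_le _ _).trans inf_le_right))
      fun x hx => mem_ohm1 ⟨nS.1 hx.1, hx.2⟩ (eS x hx.1)
  have cC : IsCyclic ↥(R ⊓ 𝒞(ohm1 p R)) :=
    cyclic_of_card_ohm1_le hp hp2 (pR.to_le inf_le_left) (by rw [h1, oZ])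
  exact ⟨nabS, o3, eS, ⟨sup_cent_eq_of_p3 hp pS nS.1 nabS oS (comm_le_center_aux hp pR nS eS oS nabS
    (fun x hx h => mem_ohm1 hx h) nRA (norm_ohm1 p nRA) cC defR oddA), inf_le_right⟩, cC,
    h1.trans eZ.symm⟩

end CA.BG.P04
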