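/-
B & G section 4: Theorems 4.18 - 4.20 (solvable groups of odd order and rank two).
-/
import Cfsg.Agent.BG.P04e

set_option autoImplicit false

namespace CA.BG.P04

open Cfsg CA.FG Subgroup

universe u v

variable {G : Type u} [Group G] [Finite G]

theorem ne_two_or_bot {p : ℕ} (hp : p.Prime) {R H : Subgroup G} (pR : IsPGroup p R) (h : R ≤ H)
    (oddH : Odd (Nat.card H)) : p ≠ 2 ∨ R = ⊥ :=
  or_iff_not_imp_right.2 fun nt => ne_two_of_odd hp pR (odd_of_le oddH h) nt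

theorem pcore_isPGroup {p : ℕ} (hp : p.Prime) (H : Subgroup G) : IsPGroup p (pCoreOf p H) :=
  isPGroup_of hp (pcore_pGrp p H)

theorem exists_equiv_of_pgroup_quot {p : ℕ} (hp : p.Prime) {K H : Subgroup G} (nK : K ⊲ H)
    (p'K : IsPiGrp {p}ᶜ K) {B : Subgroup (Coset K)} (hB : B ≤ H /ₛ K) (pB : IsPGrp p B) :
    ∃ P : Subgroup G, P ≤ H ∧ Nonempty (P ≃* B) := by
  obtain ⟨P, sylP⟩ := sylow_exists hp (quotPre K B)
  have h1 := sylP.quot (K := K) (quotPre_le_norm B)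
  rw [quot_quotPre] at h1
  have h2 := quot_equiv (K := K) (sylP.le.trans (quotPre_le_norm B))
    (by rw [inf_comm]; exact sylP.piGrp.inf_eq_bot p'K)
  rw [h1.eq_self pB] at h2
  exact ⟨P, sylP.le.trans (quotPre_le_of_le_quot nK.1 hB), h2⟩

theorem rkLE_quot {p k : ℕ} (hp : p.Prime) {K H : Subgroup G} (nK : K ⊲ H) (p'K : IsPiGrp {p}ᶜ K)
    (h : RkLE p k H) : RkLE p k (H /ₛ K) := by
  intro B hB abB
  obtain ⟨P, hP, ⟨e⟩⟩ := exists_equiv_of_pgroup_quot hp nK p'K hB (abelem_pGrp hp abB)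
  rw [← Nat.card_congr e.toEquiv]
  refine h P hP ⟨(abelian_congr e).2 abB.1, fun x hx => ?_⟩
  have : e (⟨x, hx⟩ ^ p) = e 1 := by
    rw [map_pow, map_one]
    exact Subtype.ext (abB.2 _ (e ⟨x, hx⟩).2)
  exact congrArg Subtype.val (e.injective this)

theorem rkLE_of_sylow {p k : ℕ} (hp : p.Prime) {S H : Subgroup G} (sylS : IsSylowOf p S H)
    (h : RkLE p k S) : RkLE p k H := by
  intro B hB abB
  obtain ⟨x, -, hx⟩ := sylow_Jsub hp sylS (abelem_pGrp hp abB) hB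
  rw [← card_conjg B x]
  exact h _ hx (abelem_map _ abB)

theorem sylow_pcore_of_der_le {p : ℕ} (hp : p.Prime) {H : Subgroup G} (h : ⁅H, H⁆ ≤ pCoreOf p H) :
    IsSylowOf p (pCoreOf p H) H := by
  obtain ⟨P, sylP⟩ := sylow_exists hp H
  exact pcore_pHall_of_normal sylP (norm_of_comm_le sylP.le (h.trans sylP.pcore_le))

theorem pGrp_of_relIndex_cent {p : ℕ} {H X : Subgroup G} (solH : Group.IsSolvable H)
    (h0 : pPrimeCoreOf p H = ⊥) (hX : X ≤ H) (h : PiNat {p} ((𝒞(pCoreOf p H)).relIndex X)) :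
    IsPGrp p X := by
  refine IsPiGrp.of_relIndex (K := X ⊓ 𝒞(pCoreOf p H)) inf_le_left
    ((pcore_pGrp p H).of_le ((inf_le_inf_right _ hX).trans (cent_sub_pcore solH h0))) ?_
  rwa [inf_relIndex_left]

/-- The structure of `H` when `(H / O_{p'}(H))'` is a `p`-group. -/
theorem der1_complement_of_pGrp {p : ℕ} (hp : p.Prime) {H : Subgroup G}
    (h : IsPGrp p ⁅H /ₛ pPrimeCoreOf p H, H /ₛ pPrimeCoreOf p H⁆) :
    IsPiHallOf {p}ᶜ (pPrimeCoreOf p ⁅H, H⁆) ⁅H, H⁆ ∧ ⁅H, H⁆ ≤ pPrimePCoreOf p H ∧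
      PiNat {p}ᶜ ((pPrimePCoreOf p H).relIndex H) := by
  have nK := pcore_normal {p}ᶜ H
  have h1 := pcore_max (der_normalIn _) h
  have h2 := quot_comm nK.2 nK.2
  refine ⟨pHall_mk (pcore_le _ _) (pcore_piGrp _ _) ?_, ?_, ?_⟩
  · rw [piNat_compl_compl]
    change PiNat {p} ((piCoreOf {p}ᶜ ⁅H, H⁆).relIndex ⁅H, H⁆)
    rw [← pcore_inf_normal {p}ᶜ (der_normalIn H), inf_relIndex_right,
      ← piGrp_quot_iff ((der_normalIn H).1.trans nK.2), h2]
    exact h
  · rw [le_pcore2_iff (der_normalIn H).1, h2]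
    exact h1
  · have h3 := (sylow_pcore_of_der_le hp h1).index
    change PiNat {p}ᶜ ((piCore2Of {p}ᶜ {p} H).relIndex H)
    rw [← relIndex_quot (pcore_le_pcore2 _ _ H) (pcore2_le _ _ H) nK.2, pcore2_quot]
    exact h3

theorem rank2_max_pdiv {p q : ℕ} (hp : p.Prime) (hq : q.Prime) {H : Subgroup G}
    (solH : Group.IsSolvable H) (oddH : Odd (Nat.card H)) (rH : RkLE p 2 H)
    (hqH : q ∣ (pPrimeCoreOf p H).relIndex H) : q ≤ p := by
  have nK := pcore_normal {p}ᶜ H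
  by_cases hqp : q = p
  · exact hqp.le
  rw [← card_quot nK.2] at hqH
  have h0 := pcore_quot_pcore {p}ᶜ H
  have hC := cent_sub_pcore (sol_quot _ solH) h0
  have h1 : q ∣ (𝒞(pCoreOf p (H /ₛ pPrimeCoreOf p H))).relIndex (H /ₛ pPrimeCoreOf p H) := by
    rw [← card_inf_mul_relIndex 𝒞(pCoreOf p (H /ₛ pPrimeCoreOf p H)), inf_comm] at hqH
    exact ((Nat.Prime.dvd_mul hq).1 hqH).resolve_left fun h =>
      hqp ((pcore_pGrp p _).of_le hC q hq h)
  rcases ne_two_or_bot hp (pcore_isPGroup hp (H /ₛ pPrimeCoreOf p H)) (pcore_le _ _)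
    (odd_quot _ oddH) with hp2 | h
  · exact (lt_of_dvd_sq_sub_one hp hp2 hq (dvd_sq_sub_one_of_rank2 hp hp2 hq (pcore_isPGroup hp _)
      ((rkLE_quot hp nK (pcore_piGrp _ _) rH).mono (pcore_le _ _)) (pcore_norm _ _) h1 hqp)).1.le
  · rw [h, cent_bot, relIndex_top_left] at h1
    exact absurd h1 hq.not_dvd_one

theorem der1_norm_rank2' {p : ℕ} (hp : p.Prime) {R A : Subgroup G} (pR : IsPGroup p R)
    (oddR : Odd (Nat.card R)) (rR : RkLE p 2 R) (nRA : A ≤ 𝒩(R)) (oddA : Odd (Nat.card A)) :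
    PiNat {p} ((𝒞(R)).relIndex ⁅A, A⁆) := by
  rcases ne_two_or_bot hp pR le_rfl oddR with hp2 | rfl
  · exact der1_norm_rank2 hp hp2 pR rR nRA oddA
  · rw [cent_bot, relIndex_top_left]
    exact PiNat.one _

theorem rank2_der1_complement {p : ℕ} (hp : p.Prime) {H : Subgroup G}
    (solH : Group.IsSolvable H) (oddH : Odd (Nat.card H)) (rH : RkLE p 2 H) :
    IsPiHallOf {p}ᶜ (pPrimeCoreOf p ⁅H, H⁆) ⁅H, H⁆ ∧ ⁅H, H⁆ ≤ pPrimePCoreOf p H ∧
      PiNat {p}ᶜ ((pPrimePCoreOf p H).relIndex H) := by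
  have nK := pcore_normal {p}ᶜ H
  refine der1_complement_of_pGrp hp (pGrp_of_relIndex_cent (sol_quot _ solH)
    (pcore_quot_pcore {p}ᶜ H) (der_normalIn _).1 ?_)
  exact der1_norm_rank2' hp (pcore_isPGroup hp _) (odd_of_le (odd_quot _ oddH) (pcore_le _ _))
    ((rkLE_quot hp nK (pcore_piGrp _ _) rH).mono (pcore_le _ _)) (pcore_norm _ _) (odd_quot _ oddH)

theorem p_complement_of_max_pdiv {p : ℕ} {H : Subgroup G}
    (hmin : p = 3 ∨ ∀ q : ℕ, q.Prime → q ∣ Nat.card H → p ≤ q) (oddH : Odd (Nat.card H))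
    (h : ∀ q : ℕ, q.Prime → q ∣ (pPrimeCoreOf p H).relIndex H → q ≤ p) :
    IsPiHallOf {p}ᶜ (pPrimeCoreOf p H) H := by
  refine pHall_mk (pcore_le _ _) (pcore_piGrp _ _) (piNat_compl_compl.2 fun q hq hd => ?_)
  have h1 := h q hq hd
  have h2 := hd.trans (relIndex_dvd_card _ _)
  refine le_antisymm h1 ?_
  rcases hmin with rfl | hmin
  · have h3 : q ≠ 2 := by
      rintro rfl
      exact (Nat.not_even_iff_odd.2 oddH) (even_iff_two_dvd.2 h2)
    have := hq.two_le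
    omega
  · exact hmin q hq h2

theorem cent_of_minnormal_of_index {p : ℕ} (hp : p.Prime) {V H X D : Subgroup G}
    (minV : MinNormal V H) (pV : IsPGrp p V) (nX : H ≤ 𝒩(X)) (nV : X ≤ 𝒩(V)) (hD : D ≤ X)
    (cD : D ≤ 𝒞(V)) (h : PiNat {p} (D.relIndex X)) : X ≤ 𝒞(V) := by
  obtain ⟨P, sylP⟩ := sylow_exists hp X
  have e := sylP.sup_eq_of_index hD h
  have h1 := pGrp_inf_cent_ne_bot pV sylP.piGrp (sylP.le.trans nV) minV.ne_bot
  have h2 : V ⊓ 𝒞(P) ≤ V ⊓ 𝒞(X) := by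
    refine le_inf inf_le_left ?_
    rw [← e]
    exact le_cent_sup (inf_le_left.trans (le_cent_symm cD)) inf_le_right
  rcases minV.eq_bot_or_eq inf_le_left (norm_inf minV.norm (norm_cent nX)) with h3 | h3
  · exact absurd (eq_bot_iff.2 (h3 ▸ h2)) h1
  · exact le_cent_symm (inf_eq_left.1 h3)

/-- Corollary 4.19. -/
theorem rank2_cent_chief {p : ℕ} (hp : p.Prime) {H U V : Subgroup G} (oddH : Odd (Nat.card H))
    (solH : Group.IsSolvable H) (rU : RkLE p 2 U) (chUV : ChiefFactor H V U)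
    (pUV : PiNat {p} (V.relIndex U)) : ⁅U, ⁅H, H⁆⁆ ≤ V := by
  have nU := chUV.normal_right
  have nV := chUV.normal_left
  have nVU := chUV.normal
  have nKU := pcore_normal {p}ᶜ U
  have nK : pPrimeCoreOf p U ⊲ H := nU.pcore _
  have pQ : IsPGrp p (U /ₛ V) := (piGrp_quot_iff nVU.2).2 pUV
  have hKV : pPrimeCoreOf p U ≤ V := (quot_eq_bot_iff (nKU.1.trans nVU.2)).1
    ((pQ.of_le (quot_mono V nKU.1)).eq_bot ((pcore_piGrp _ _).quot V))
  have hW := pcore2_le {p}ᶜ {p} U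
  have nW : H ≤ 𝒩(pPrimePCoreOf p U) := norm_pcore2 _ _ nU.2
  have eU : V ⊔ pPrimePCoreOf p U = U := sup_eq_of_coprime_relIndex nVU.1 hW
    (pUV.coprime (rank2_der1_complement hp (sol_of_le solH nU.1) (odd_of_le oddH nU.1) rU).2.2)
  have nD := der_normalIn H
  set D := ⁅H, H⁆ ⊓ quotPre V 𝒞(U /ₛ V) with hD
  have h1 : PiNat {p} (D.relIndex ⁅H, H⁆) := by
    refine piNat_relIndex_of_forall fun q _ hq x hx qx => mem_inf.2 ⟨hx, ?_⟩
    have hxH := nD.1 hx
    have p'x := piElt_compl_of_ne qx hq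
    rcases ne_two_or_bot hp (pcore_isPGroup hp (U /ₛ pPrimeCoreOf p U)) (pcore_le _ _)
      (odd_quot _ (odd_of_le oddH nU.1)) with hp2 | h
    · have h2 := der_cent_of_rank2 hp hp2 (pcore_isPGroup hp (U /ₛ pPrimeCoreOf p U))
        ((rkLE_quot hp nKU (pcore_piGrp _ _) rU).mono (pcore_le _ _))
        (norm_pcore _ (quot_norm _ nU.2)) (odd_quot _ oddH)
        (x := coset _ ⟨x, nK.2 hxH⟩) (by
          rw [← quot_comm nK.2 nK.2]; exact mem_quot_of_mem _ hx)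
        (IsPiElt.map (x := (⟨x, nK.2 hxH⟩ : 𝒩(pPrimeCoreOf p U))) (by
          rwa [IsPiElt, ← Subgroup.orderOf_coe]) _)
      rw [← zpowers_le, ← quot_zpowers] at h2
      have h3 := (quot_cent_iff' (zpowers_le.2 (nK.2 hxH)) (hW.trans nKU.2)).1
        ((pcore2_quot {p}ᶜ {p} U).symm ▸ h2)
      rw [← zpowers_le, ← quot_le_iff (zpowers_le.2 (nV.2 hxH)),
        quot_cent_iff' (zpowers_le.2 (nV.2 hxH)) nVU.2, ← eU]
      exact comm_sup_left_le le_normalizer (hW.trans nVU.2)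
        (comm_le_left (zpowers_le.2 (nV.2 hxH))) (h3.trans hKV)
    · exfalso
      have h2 := pcore2_quot {p}ᶜ {p} U
      rw [show piCoreOf {p} (U /ₛ piCoreOf {p}ᶜ U) = ⊥ from h,
        quot_eq_bot_iff (hW.trans nKU.2)] at h2
      exact chUV.lt.not_ge (eU ▸ sup_le le_rfl (h2.trans hKV))
  rw [← quot_cent_iff' (nD.1.trans nV.2) nVU.2]
  refine cent_of_minnormal_of_index hp chUV.minNormal pQ (quot_norm V nD.2)
    (quot_norm V (nD.1.trans nU.2)) (D := D /ₛ V) (quot_mono V inf_le_left)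
    (quot_le_of_le_quotPre inf_le_right)
    (h1.of_dvd (relIndex_quot_dvd inf_le_left (nD.1.trans nV.2)))

theorem le_fitting_of_cent_pcore {H X : Subgroup G} (solH : Group.IsSolvable H) (nX : X ⊲ H)
    (h : ∀ p, p.Prime → ∀ x ∈ X, IsPiElt {p}ᶜ x → x ∈ 𝒞(pCoreOf p H)) : X ≤ fittingOf H := by
  refine le_of_forall_pElt fun q hq x hx qx => ?_
  have nF := fitting_normal H
  have nilF := fitting_nil H
  set L := piCoreOf {q}ᶜ (fittingOf H) with hL
  have nL : L ⊲ H := nF.pcore _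
  set D := X ⊓ 𝒞(L) with hD
  have nD : D ⊲ H := ⟨inf_le_left.trans nX.1, norm_inf nX.2 (norm_cent nL.2)⟩
  have hxD : x ∈ D := by
    refine ⟨hx, mem_cent_iff_le_cent_singleton.2 (nil_le_of_forall_pcore
      (nil_of_le nilF (pcore_le _ _)) fun p hp => ?_)⟩
    by_cases e : q = p
    · subst e
      exact (pcore_eq_bot_of_piGrp (pcore_piGrp _ _)).le.trans bot_le
    · exact (nL.pcore_le _).trans
        (mem_cent_iff_le_cent_singleton.1 (h p hp x hx (piElt_compl_of_ne qx e)))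
  refine fitting_max nD ?_ hxD
  have h1 : PiNat {q} ((fittingOf H ⊓ D).relIndex D) := by
    refine piNat_relIndex_of_forall fun r _ hr y hy ry => ⟨cent_sub_Fitting solH ⟨nD.1 hy, ?_⟩, hy⟩
    rw [← (nilpotent_pcoreC {q} nilF).sup_eq, cent_sup]
    refine ⟨?_, hy.2⟩
    have := h q hq y hy.1 (piElt_compl_of_ne ry hr)
    rwa [← p_core_Fitting] at this
  have h2 := (nilpotent_pcore_Hall {q}ᶜ (nil_of_le nilF (inf_le_left (b := D)))).trans_index
    inf_le_right (piNat_compl_compl.2 h1)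
  have h3 : D ≤ 𝒞(piCoreOf {q}ᶜ (fittingOf H ⊓ D)) :=
    inf_le_right.trans (cent_anti (nilpotent_pcore_mono _ nilF inf_le_left))
  refine nil_of_quot_of_cent h3 (IsPGrp.nil (p := q) ?_)
  exact piNat_compl_compl.1 (h2.quot_piGrp (norm_of_cent h3))

/-- Theorem 4.20(a). -/
theorem rank2_der1_sub_Fitting {H : Subgroup G} (oddH : Odd (Nat.card H))
    (solH : Group.IsSolvable H) (rF : rank (fittingOf H) ≤ 2) : ⁅H, H⁆ ≤ fittingOf H := by
  refine le_fitting_of_cent_pcore solH (der_normalIn H) fun p hp x hx p'x => ?_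
  rcases ne_two_or_bot hp (pcore_isPGroup hp H) (pcore_le _ _) oddH with hp2 | h
  · exact der_cent_of_rank2 hp hp2 (pcore_isPGroup hp H)
      ((rank_le_iff.1 rF p hp).mono (pcore_le_fitting p H)) (pcore_norm _ _) oddH hx p'x
  · rw [h, cent_bot]; trivial

theorem char_Sylow_normal_of_der_le {p : ℕ} (hp : p.Prime) {H S T : Subgroup G}
    (hF : ⁅H, H⁆ ≤ fittingOf H) (sylS : IsSylowOf p S H) (chT : CharIn T S) (sTS' : T ≤ ⁅S, S⁆) :
    T ⊲ H := by
  refine ⟨chT.le.trans sylS.le, ?_⟩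
  have hle : fittingOf H ⊔ S ≤ H := sup_le (fitting_le H) sylS.le
  have h1 := frattini_arg hp ⟨hle, norm_of_comm_le hle (hF.trans le_sup_left)⟩
    (sylS.of_le le_sup_right hle)
  have hT : T ≤ piCoreOf {p} (fittingOf H) := nilpotent_le_pcore (fitting_nil H)
    (sTS'.trans ((commutator_mono sylS.le sylS.le).trans hF)) (sylS.piGrp.of_le chT.le)
  rw [← h1]
  refine sup_le (sup_le ?_ chT.normalIn.2) (inf_le_right.trans chT.norm_le)
  rw [← (nilpotent_pcoreC {p} (fitting_nil H)).sup_eq]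
  refine sup_le (((p_core_Fitting p H).le.trans sylS.pcore_le).trans chT.normalIn.2) ?_
  exact norm_of_cent' (hT.trans (pcore_cent_compl _ _))

/-- Theorem 4.20(c). -/
theorem rank2_ge_pcore_Hall (m : ℕ) {H : Subgroup G} (oddH : Odd (Nat.card H))
    (solH : Group.IsSolvable H) (rF : rank (fittingOf H) ≤ 2) :
    IsPiHallOf {q | m ≤ q} (piCoreOf {q | m ≤ q} H) H := by
  set π : Set ℕ := {q | m ≤ q} with hπ
  have nF := fitting_normal H
  have nilF := fitting_nil H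
  have abQ := (quot_abelian_iff nF.2).2 (rank2_der1_sub_Fitting oddH solH rF)
  have hQ := nilpotent_pcore_Hall π (nil_of_abelian abQ)
  set L := quotPre (fittingOf H) (piCoreOf π (H /ₛ fittingOf H)) with hL
  have nL : L ⊲ H := quotPre_normalIn_of nF (pcore_normal _ _)
  have iL : PiNat πᶜ (L.relIndex H) := by
    have := hQ.index
    rwa [← relIndex_quotPre, quotPre_quot_of_normal nF] at this
  have nN : piCoreOf πᶜ (fittingOf H) ⊲ H := nF.pcore _
  have hN : IsPiHallOf πᶜ (piCoreOf πᶜ (fittingOf H)) L :=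
    (nilpotent_pcore_Hall πᶜ nilF).trans_index (le_quotPre _) (piNat_compl_compl.2 (by
      rw [hL, relIndex_quotPre_self]; exact pcore_piGrp _ _))
  obtain ⟨Y, hY⟩ := hN.exists_sdprod (nL.1.trans nN.2)
  have hallY : IsPiHallOf π Y L := by
    have := hY.1.pHall_compl hN
    rwa [compl_compl] at this
  have cY : Y ≤ 𝒞(piCoreOf πᶜ (fittingOf H)) := by
    refine le_cent_symm (nil_le_of_forall_pcore (nil_of_le nilF (pcore_le _ _)) fun p hp => ?_)
    by_cases e : p ∈ π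
    · refine (pcore_eq_bot_of_piGrp (PiNat.mono (pcore_piGrp _ _) ?_)).le.trans bot_le
      rintro q hq rfl
      exact hq e
    refine (nN.pcore_le _).trans (le_cent_symm ?_)
    rcases ne_two_or_bot hp (pcore_isPGroup hp H) (pcore_le _ _) oddH with hp2 | h
    · exact cent_of_rank2_of_large hp hp2 (pcore_isPGroup hp H)
        ((rank_le_iff.1 rF p hp).mono (pcore_le_fitting p H))
        ((hallY.le.trans nL.1).trans (pcore_norm _ _))
        fun q hq hd => lt_of_lt_of_le (not_le.1 e) (hallY.piGrp q hq hd)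
    · rw [show piCoreOf {p} H = ⊥ from h, cent_bot]; exact le_top
  have nY := (DProd.right_normal ⟨hY.1, cY⟩).2
  exact pcore_pHall_of_normal (hallY.trans_index nL.1 iL) (nL.2.trans (hallY.norm_le_norm nY))

theorem rank2_min_p'core_Hall {p : ℕ}  {H : Subgroup G}
    (hmin : ∀ q : ℕ, q.Prime → q ∣ Nat.card H → p ≤ q) (oddH : Odd (Nat.card H))
    (solH : Group.IsSolvable H) (rF : rank (fittingOf H) ≤ 2) :
    IsPiHallOf {p}ᶜ (pPrimeCoreOf p H) H := by
  have h : ∀ q, q.Prime → q ∣ Nat.card H → (q ∈ {q | p + 1 ≤ q} ↔ q ∈ ({p}ᶜ : Set ℕ)) :=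
    fun q hq hd => by
      have := hmin q hq hd
      simp only [Set.mem_ofPred_eq, Set.mem_compl_iff, Set.mem_singleton_iff]
      omega
  have h1 := rank2_ge_pcore_Hall (p + 1) oddH solH rF
  rwa [pcore_congr h, pHall_congr h] at h1

theorem rank2_max_pcore_Sylow {p : ℕ} {H : Subgroup G}
    (hmax : ∀ q : ℕ, q.Prime → q ∣ Nat.card H → q ≤ p) (oddH : Odd (Nat.card H))
    (solH : Group.IsSolvable H) (rF : rank (fittingOf H) ≤ 2) :
    IsSylowOf p (pCoreOf p H) H := by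
  have h : ∀ q, q.Prime → q ∣ Nat.card H → (q ∈ {q | p ≤ q} ↔ q ∈ ({p} : Set ℕ)) :=
    fun q hq hd => by
      have := hmax q hq hd
      simp only [Set.mem_ofPred_eq, Set.mem_singleton_iff]
      omega
  have h1 := rank2_ge_pcore_Hall p oddH solH rF
  rwa [pcore_congr h, pHall_congr h] at h1

end CA.BG.P04
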