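/-
B & G section 4: versions for automorphism groups.
-/
import Cfsg.Agent.BG.P04f

set_option autoImplicit false
set_option linter.unusedSectionVars false

namespace CA.BG.P04

open Cfsg CA.FG Subgroup

universe u v

theorem exists_holomorph (R : Type u) [Group R] [Finite R] :
    ∃ (G' : Type u) (_ : Group G') (_ : Finite G') (f : R →* G') (g : MulAut R →* G'),
      Function.Injective f ∧ Function.Injective g ∧
      (⊤ : Subgroup (MulAut R)).map g ≤ 𝒩((⊤ : Subgroup R).map f) ∧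
      (⊤ : Subgroup (MulAut R)).map g ⊓ 𝒞((⊤ : Subgroup R).map f) = ⊥ := by
  refine ⟨R ⋊[MonoidHom.id _] MulAut R, inferInstance,
    Finite.of_equiv _ SemidirectProduct.equivProd.symm, SemidirectProduct.inl,
    SemidirectProduct.inr, SemidirectProduct.inl_injective, SemidirectProduct.inr_injective, ?_, ?_⟩
  · rw [← MonoidHom.range_eq_map SemidirectProduct.inl, SemidirectProduct.range_inl_eq_ker_rightHom]
    exact le_normalizer_of_normal
  · rw [eq_bot_iff]
    rintro _ ⟨⟨a, -, rfl⟩, h⟩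
    have : a = 1 := by
      ext x
      have h1 := h (SemidirectProduct.inl x) ⟨x, trivial, rfl⟩
      have h2 := SemidirectProduct.inl_aut (φ := MonoidHom.id (MulAut R)) a x
      rw [← h1, mul_assoc, ← map_mul, mul_inv_cancel, map_one, mul_one] at h2
      exact SemidirectProduct.inl_injective h2
    rw [this, map_one]
    exact one_mem _

variable {G : Type u} [Group G] [Finite G]

theorem relIndex_eq_card_of_inf_eq_bot {C X : Subgroup G} (h : X ⊓ C = ⊥) :
    C.relIndex X = Nat.card X := by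
  rw [← card_inf_mul_relIndex C X, inf_comm, h, card_bot, one_mul]

theorem rkLE_map_top_iff {G' : Type v} [Group G'] {p k : ℕ} {R : Subgroup G} {f : R →* G'}
    (hf : Function.Injective f) : RkLE p k ((⊤ : Subgroup R).map f) ↔ RkLE p k R := by
  rw [rkLE_map_iff_of_inj hf, ← rkLE_map_iff_of_inj R.subtype_injective, map_subtype_top]

theorem dvd_sq_sub_one_of_aut {p q : ℕ} (hp : p.Prime) (hp2 : p ≠ 2) (hq : q.Prime) {R : Subgroup G}
    (pR : IsPGroup p R) (rR : RkLE p 2 R) (hqA : q ∣ Nat.card (MulAut R)) (hqp : q ≠ p) :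
    q ∣ p ^ 2 - 1 := by
  obtain ⟨G', _, _, f, g, hf, hg, h1, h2⟩ := exists_holomorph R
  refine dvd_sq_sub_one_of_rank2 hp hp2 hq ((pR.to_subgroup ⊤).map f) ((rkLE_map_top_iff hf).2 rR)
    h1 ?_ hqp
  rwa [relIndex_eq_card_of_inf_eq_bot h2, card_map_of_injective hg, card_top]

theorem pi_Aut_rank2_pgroup {p q : ℕ} (hp : p.Prime) (hq : q.Prime) {R : Subgroup G}
    (pR : IsPGroup p R) (oddR : Odd (Nat.card R)) (rR : RkLE p 2 R)
    (hqA : q ∣ Nat.card (MulAut R)) (hqp : q ≠ p) :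
    q ∣ p ^ 2 - 1 ∧ q < p ∧ (q ∣ (p + 1) / 2 ∨ q ∣ (p - 1) / 2) := by
  rcases ne_two_or_bot hp pR le_rfl oddR with hp2 | rfl
  · have h := dvd_sq_sub_one_of_aut hp hp2 hq pR rR hqA hqp
    exact ⟨h, lt_of_dvd_sq_sub_one hp hp2 hq h⟩
  · have : Subsingleton (MulAut (⊥ : Subgroup G)) :=
      ⟨fun a b => MulEquiv.ext fun x => Subsingleton.elim _ _⟩
    rw [Nat.card_of_subsingleton (1 : MulAut (⊥ : Subgroup G))] at hqA
    exact absurd hqA hq.not_dvd_one

theorem pi_norm_rank2_pgroup {p q : ℕ} (hp : p.Prime) (hq : q.Prime) {R A : Subgroup G}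
    (pR : IsPGroup p R) (oddR : Odd (Nat.card R)) (rR : RkLE p 2 R) (nRA : A ≤ 𝒩(R))
    (hqA : q ∣ (𝒞(R)).relIndex A) (hqp : q ≠ p) :
    q ∣ p ^ 2 - 1 ∧ q < p ∧ (q ∣ (p + 1) / 2 ∨ q ∣ (p - 1) / 2) := by
  rcases ne_two_or_bot hp pR le_rfl oddR with hp2 | rfl
  · have h := dvd_sq_sub_one_of_rank2 hp hp2 hq pR rR nRA hqA hqp
    exact ⟨h, lt_of_dvd_sq_sub_one hp hp2 hq h⟩
  · rw [cent_bot, relIndex_top_left] at hqA
    exact absurd hqA hq.not_dvd_one

theorem der1_Aut_rank2_pgroup {p : ℕ} (hp : p.Prime) {R : Subgroup G} (pR : IsPGroup p R)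
    (oddR : Odd (Nat.card R)) (rR : RkLE p 2 R) {A : Subgroup (MulAut R)}
    (oddA : Odd (Nat.card A)) : IsPGrp p ⁅A, A⁆ := by
  obtain ⟨G', _, _, f, g, hf, hg, h1, h2⟩ := exists_holomorph R
  have h := der1_norm_rank2' hp ((pR.to_subgroup ⊤).map f)
    (odd_map f (by rwa [card_top])) ((rkLE_map_top_iff hf).2 rR)
    ((map_mono le_top).trans h1) (odd_map g oddA)
  rwa [← map_commutator, relIndex_eq_card_of_inf_eq_bot
    (eq_bot_iff.2 (h2 ▸ inf_le_inf_right _ (map_mono le_top))), card_map_of_injective hg] at h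

end CA.BG.P04
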