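/-
Bender-Glauberman, Section 4 (p-groups of small rank): interface.
Conventions: `exponent X ∣ p` is `∀ x ∈ X, x ^ p = 1`; `X / C(R)` is a `p`-group is written
`PiNat {p} ((𝒞(R)).relIndex X)`; `q ∈ π(H / K)` is `q.Prime ∧ q ∣ K.relIndex H`.
-/
import Cfsg.Agent.BG.P04g

set_option autoImplicit false
set_option linter.unusedVariables false

namespace CA.BG

open Cfsg CA.FG

universe u

variable {G : Type u} [Group G] [Finite G]

/-- B & G, Lemma 4.3(a): class at most 2 (at most 3 if `p > 3`). -/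
theorem exponent_Ohm1_odd_nil23 {p : ℕ} (hp : p.Prime) {R : Subgroup G} (pR : IsPGrp p R)
    (oddR : Odd (Nat.card R))
    (hcl : ⁅⁅R, R⁆, R⁆ = ⊥ ∨ (3 < p ∧ ⁅⁅⁅R, R⁆, R⁆, R⁆ = ⊥)) :
    ∀ x ∈ ohm1 p R, x ^ p = 1 :=
  P04.exponent_Ohm1_odd_nil23 hp pR oddR hcl

/-- B & G, Lemma 4.3(b). -/
theorem expMg_odd_nil23 {p : ℕ} (hp : p.Prime) {R : Subgroup G} (pR : IsPGrp p R)
    (oddR : Odd (Nat.card R))
    (hcl : ⁅⁅R, R⁆, R⁆ = ⊥ ∨ (3 < p ∧ ⁅⁅⁅R, R⁆, R⁆, R⁆ = ⊥)) (hder : ⁅R, R⁆ ≤ ohm1 p R) :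
    ∀ x ∈ R, ∀ y ∈ R, (x * y) ^ p = x ^ p * y ^ p :=
  P04.expMg_odd_nil23 hp pR oddR hcl hder

/-- B & G, Proposition 4.4(a): an abelian normal subgroup of a `p`-group lies in a member of `SCN`. -/
theorem exists_SCN_of_abelian_normal {p : ℕ} (hp : p.Prime) {R E : Subgroup G} (pR : IsPGrp p R)
    (nsER : E ⊲ R) (abE : IsMulCommutative E) : ∃ A : Subgroup G, IsSCN R A ∧ E ≤ A :=
  P04.exists_SCN hp (pR.isPGroup hp) nsER abE

/-- B & G, Proposition 4.4(b). -/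
theorem SCN_Sylow_cent_dprod {p : ℕ} (hp : p.Prime) {R H A : Subgroup G} (sylR : IsSylowOf p R H)
    (scnA : IsSCN R A) : DProd A (pPrimeCoreOf p (H ⊓ 𝒞(A))) (H ⊓ 𝒞(A)) :=
  P04.scn_sylow_cent_dprod sylR scnA

/-- Aschbacher (23.17): for a maximal normal elementary abelian subgroup `Z` of an odd `p`-group,
`Ω₁(C_R(Z)) = Z`. -/
theorem Ohm1_cent_max_normal_abelem {p : ℕ} (hp : p.Prime) (hp2 : p ≠ 2) {R Z : Subgroup G}
    (pR : IsPGrp p R) (nsZR : Z ⊲ R) (abZ : IsElementaryAbelian p Z)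
    (maxZ : ∀ Y : Subgroup G, Y ⊲ R → IsElementaryAbelian p Y → Z ≤ Y → Y = Z) :
    ohm1 p (R ⊓ 𝒞(Z)) = Z :=
  P04.ohm1_cent_max_normal_abelem hp hp2 (pR.isPGroup hp) nsZR abZ maxZ

/-- B & G, Lemma 4.5(b). -/
theorem Ohm1_extremal_odd {p : ℕ} (hp : p.Prime) {R : Subgroup G} {x : G} (pR : IsPGrp p R)
    (oddR : Odd (Nat.card R)) (ncycR : ¬ IsCyclic R) (hx : x ∈ R)
    (hidx : (Subgroup.zpowers x).relIndex R = p) : IsPnElem p 2 (ohm1 p R) R :=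
  P04.ohm1_extremal_odd hp (P04.ne_two_of_odd hp (pR.isPGroup hp) oddR (ne_bot_of_not_cyclic ncycR))
    (pR.isPGroup hp) ncycR hx hidx

/-- B & G, Lemma 4.5(a). -/
theorem ex_odd_normal_p2Elem {p : ℕ} (hp : p.Prime) {R : Subgroup G} (pR : IsPGrp p R)
    (oddR : Odd (Nat.card R)) (ncycR : ¬ IsCyclic R) :
    ∃ S : Subgroup G, S ⊲ R ∧ IsPnElem p 2 S R :=
  P04.ex_normal_p2Elem hp (P04.ne_two_of_odd hp (pR.isPGroup hp) oddR (ne_bot_of_not_cyclic ncycR))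
    (pR.isPGroup hp) ncycR

/-- An odd `p`-group of `p`-rank at most one is cyclic (`odd_pgroup_rank1_cyclic`). -/
theorem odd_pgroup_rank1_cyclic {p : ℕ} (hp : p.Prime) {R : Subgroup G} (pR : IsPGrp p R)
    (oddR : Odd (Nat.card R)) : IsCyclic R ↔ pRank p R ≤ 1 := by
  rw [P04.pRank_le_iff hp]
  refine ⟨P04.rkLE_one_of_cyclic hp, fun h => ?_⟩
  rcases P04.ne_two_or_bot hp (pR.isPGroup hp) le_rfl oddR with hp2 | rfl
  · exact P04.cyclic_of_rkLE_one hp hp2 (pR.isPGroup hp) h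
  · exact cyclic_bot

/-- B & G, Lemma 4.5(c). -/
theorem Ohm1_odd_ucn2 {p : ℕ} (hp : p.Prime) {R : Subgroup G} (pR : IsPGrp p R)
    (oddR : Odd (Nat.card R)) (ncycR : ¬ IsCyclic R) :
    ¬ IsCyclic (ohm1 p (ucnOf 2 R)) ∧ ∀ x ∈ ohm1 p (ucnOf 2 R), x ^ p = 1 := by
  obtain ⟨h1, h2⟩ := P04.ohm1_odd_ucn2 hp
    (P04.ne_two_of_odd hp (pR.isPGroup hp) oddR (ne_bot_of_not_cyclic ncycR)) (pR.isPGroup hp) ncycR
  refine ⟨fun h => ?_, h2⟩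
  have h3 := h1.trans (P04.card_le_of_cyclic_exp hp h h2)
  rw [← pow_one p, ← pow_mul, P04.pow_le_pow_iff hp] at h3
  omega

/-- B & G, Proposition 4.6. -/
theorem odd_normal_p2Elem_exists {p : ℕ} (hp : p.Prime) {R S : Subgroup G} (pR : IsPGrp p R)
    (oddR : Odd (Nat.card R)) (nsSR : S ⊲ R) (ncycS : ¬ IsCyclic S) :
    ∃ E : Subgroup G, E ⊲ R ∧ IsPnElem p 2 E S :=
  P04.normal_p2Elem_exists hp (P04.ne_two_of_odd hp (pR.isPGroup hp) oddR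
    (ne_bot_mono nsSR.1 (ne_bot_of_not_cyclic ncycS))) (pR.isPGroup hp) nsSR ncycS

/-- B & G, Lemma 4.7. -/
theorem rank2_SCN3_empty {p : ℕ} (hp : p.Prime) {R : Subgroup G} (pR : IsPGrp p R)
    (oddR : Odd (Nat.card R)) : rank R ≤ 2 ↔ ∀ A : Subgroup G, ¬ IsSCNAt 3 R A := by
  have pR' := pR.isPGroup hp
  rw [P04.rank_le_iff_of_pgroup hp pR']
  constructor
  · rintro h A ⟨scnA, rA⟩
    exact (P04.lt_rank_iff_of_pgroup hp (pR'.to_le scnA.1)).1 rA (h.mono scnA.1)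
  · intro h
    by_contra hr
    rcases P04.ne_two_or_bot hp pR' le_rfl oddR with hp2 | rfl
    · obtain ⟨A, scnA, -, rA⟩ := P04.exists_SCN3 hp hp2 pR' hr (bot_normalIn R) (P04.abelem_bot p)
      exact h A ⟨scnA, (P04.lt_rank_iff_of_pgroup hp (pR'.to_le scnA.1)).2 rA⟩
    · exact hr (P04.rkLE_of_not_dvd hp (by simpa using hp.one_lt.ne'))

/-- B & G, Proposition 4.8(a). -/
theorem rank2_exponent_p_p3group {p : ℕ} (hp : p.Prime) {R : Subgroup G} (pR : IsPGrp p R)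
    (rR : rank R ≤ 2) (expR : ∀ x ∈ R, x ^ p = 1) : Nat.card R ≤ p ^ 3 :=
  P04.card_le_cube_of_exp hp (P04.rank_le_iff.1 rR p hp) expR

/-- B & G, Proposition 4.8(b). -/
theorem exponent_Ohm1_rank2 {p : ℕ} (hp : p.Prime) {R : Subgroup G} (pR : IsPGrp p R)
    (rR : rank R ≤ 2) (hp3 : 3 < p) : ∀ x ∈ ohm1 p R, x ^ p = 1 :=
  P04.ohm1_exp_rank2 hp hp3 (pR.isPGroup hp) (P04.rank_le_iff.1 rR p hp)

/-- B & G, Lemma 4.9. -/
theorem quotient_p2_Ohm1 {p : ℕ} (hp : p.Prime) {R T : Subgroup G} (pR : IsPGrp p R) (hp3 : 3 < p)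
    (hΩ : Nat.card (ohm1 p R) ≤ p ^ 2) (nsTR : T ⊲ R) :
    Nat.card (ohm1 p (R /ₛ T)) ≤ p ^ 2 :=
  P04.card_ohm1_img_le hp hp3 (pR.isPGroup hp) hΩ nsTR.2 _

/-- B & G, Lemma 4.10. -/
theorem Ohm1_metacyclic_p2Elem {p : ℕ} (hp : p.Prime) {R : Subgroup G} (metaR : IsMetacyclic R)
    (pR : IsPGrp p R) (oddR : Odd (Nat.card R)) (ncycR : ¬ IsCyclic R) :
    IsPnElem p 2 (ohm1 p R) R :=
  P04.ohm1_meta_p2Elem hp (P04.ne_two_of_odd hp (pR.isPGroup hp) oddR (ne_bot_of_not_cyclic ncycR))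
    (P04.meta_iff.2 metaR) (pR.isPGroup hp) ncycR

/-- B & G, Proposition 4.11 (Huppert). -/
theorem p2_Ohm1_metacyclic {p : ℕ} (hp : p.Prime) {R : Subgroup G} (pR : IsPGrp p R) (hp3 : 3 < p)
    (hΩ : Nat.card (ohm1 p R) ≤ p ^ 2) : IsMetacyclic R :=
  P04.meta_iff.1 (P04.meta_of_card_ohm1 hp hp3 (pR.isPGroup hp) hΩ)

/-- B & G, Theorem 4.12 (Huppert). -/
theorem coprime_metacyclic_cent_sdprod {p : ℕ} (hp : p.Prime) {R A : Subgroup G} (pR : IsPGrp p R)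
    (oddR : Odd (Nat.card R)) (p'A : IsPiGrp {p}ᶜ A) (nRA : A ≤ 𝒩(R)) (metaR : IsMetacyclic R) :
    IsMulCommutative ↥⁅R, A⁆ ∧ SDProd ⁅R, A⁆ (R ⊓ 𝒞(A)) R ∧
      (¬ IsMulCommutative R → ¬ A ≤ 𝒞(R) →
        IsCyclic ↥⁅R, A⁆ ∧ IsCyclic ↥(R ⊓ 𝒞(A)) ∧ ⁅R, A⁆ ≠ ⊥ ∧ R ⊓ 𝒞(A) ≠ ⊥ ∧
          ⁅R, R⁆ ≤ ⁅R, A⁆) := by
  rcases P04.ne_two_or_bot hp (pR.isPGroup hp) le_rfl oddR with hp2 | rfl
  · exact P04.coprime_meta_cent_sdprod hp hp2 (pR.isPGroup hp) p'A nRA (P04.meta_iff.2 metaR)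
  · rw [Subgroup.commutator_bot_left, bot_inf_eq]
    exact ⟨inferInstance, sdprod_mk bot_le (sup_idem _) (inf_idem _),
      fun h => (h inferInstance).elim⟩

/-- B & G, Lemma 4.13, for internal action: `q` divides `|A : C_A(R)|`. -/
theorem pi_norm_rank2_pgroup {p q : ℕ} (hp : p.Prime) (hq : q.Prime) {R A : Subgroup G}
    (pR : IsPGrp p R) (oddR : Odd (Nat.card R)) (rR : rank R ≤ 2) (nRA : A ≤ 𝒩(R))
    (hqA : q ∣ (𝒞(R)).relIndex A) (hqp : q ≠ p) :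
    q ∣ p ^ 2 - 1 ∧ q < p ∧ (q ∣ (p + 1) / 2 ∨ q ∣ (p - 1) / 2) :=
  P04.pi_norm_rank2_pgroup hp hq (pR.isPGroup hp) oddR (P04.rank_le_iff.1 rR p hp) nRA hqA hqp

/-- B & G, Lemma 4.13. -/
theorem pi_Aut_rank2_pgroup {p q : ℕ} (hp : p.Prime) (hq : q.Prime) {R : Subgroup G}
    (pR : IsPGrp p R) (oddR : Odd (Nat.card R)) (rR : rank R ≤ 2)
    (hqA : q ∣ Nat.card (MulAut R)) (hqp : q ≠ p) :
    q ∣ p ^ 2 - 1 ∧ q < p ∧ (q ∣ (p + 1) / 2 ∨ q ∣ (p - 1) / 2) :=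
  P04.pi_Aut_rank2_pgroup hp hq (pR.isPGroup hp) oddR (P04.rank_le_iff.1 rR p hp) hqA hqp

/-- A non-abelian group of order at most `p ^ 3` is extraspecial (`p3group_extraspecial`). -/
theorem p3group_extraspecial {p : ℕ} (hp : p.Prime) {R : Subgroup G} (pR : IsPGrp p R)
    (nabR : ¬ IsMulCommutative R) (oR : Nat.card R ≤ p ^ 3) :
    Nat.card R = p ^ 3 ∧ Nat.card ↥𝒵(R) = p ∧ ⁅R, R⁆ = 𝒵(R) ∧ frattiniOf R = 𝒵(R) :=
  P04.p3group_extraspecial hp (pR.isPGroup hp) nabR oR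

/-- B & G, Theorem 4.16 (Blackburn). -/
theorem rank2_coprime_comm_cprod {p : ℕ} (hp : p.Prime) {R A : Subgroup G} (pR : IsPGrp p R)
    (oddR : Odd (Nat.card R)) (ntR : R ≠ ⊥) (rR : rank R ≤ 2) (defR : ⁅R, A⁆ = R)
    (p'A : IsPiGrp {p}ᶜ A) (oddA : Odd (Nat.card A)) :
    3 < p ∧ (IsMulCommutative R ∨ ∃ S C : Subgroup G, ¬ IsMulCommutative S ∧ Nat.card S = p ^ 3 ∧
      (∀ x ∈ S, x ^ p = 1) ∧ CProd S C R ∧ IsCyclic C ∧ ohm1 p C = ⁅S, S⁆) := by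
  obtain ⟨h1, h2⟩ := P04.rank2_cprod hp (P04.ne_two_of_odd hp (pR.isPGroup hp) oddR ntR)
    (pR.isPGroup hp) ntR (P04.rank_le_iff.1 rR p hp) defR p'A oddA
  exact ⟨h1, h2.imp_right fun h => ⟨_, _, h⟩⟩

/-- B & G, Theorem 4.17, for internal action: `A' / C_{A'}(R)` is a `p`-group. -/
theorem der1_norm_rank2_pgroup {p : ℕ} (hp : p.Prime) {R A : Subgroup G} (pR : IsPGrp p R)
    (oddR : Odd (Nat.card R)) (rR : rank R ≤ 2) (nRA : A ≤ 𝒩(R)) (solA : Group.IsSolvable A)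
    (oddA : Odd (Nat.card A)) : PiNat {p} ((𝒞(R)).relIndex ⁅A, A⁆) :=
  P04.der1_norm_rank2' hp (pR.isPGroup hp) oddR (P04.rank_le_iff.1 rR p hp) nRA oddA

/-- B & G, Theorem 4.17. -/
theorem der1_Aut_rank2_pgroup {p : ℕ} (hp : p.Prime) {R : Subgroup G} (pR : IsPGrp p R)
    (oddR : Odd (Nat.card R)) (rR : rank R ≤ 2) {A : Subgroup (MulAut R)}
    (solA : Group.IsSolvable A) (oddA : Odd (Nat.card A)) : IsPGrp p ⁅A, A⁆ :=
  P04.der1_Aut_rank2_pgroup hp (pR.isPGroup hp) oddR (P04.rank_le_iff.1 rR p hp) oddA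

/-- B & G, Theorem 4.18(a). -/
theorem rank2_max_pdiv {p q : ℕ} (hp : p.Prime) (hq : q.Prime) {H : Subgroup G}
    (solH : Group.IsSolvable H) (oddH : Odd (Nat.card H)) (rH : pRank p H ≤ 2)
    (hqH : q ∣ (pPrimeCoreOf p H).relIndex H) : q ≤ p :=
  P04.rank2_max_pdiv hp hq solH oddH ((P04.pRank_le_iff hp).1 rH) hqH

/-- B & G, Theorem 4.18(c,e). -/
theorem rank2_der1_complement {p : ℕ} (hp : p.Prime) {H : Subgroup G}
    (solH : Group.IsSolvable H) (oddH : Odd (Nat.card H)) (rH : pRank p H ≤ 2) :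
    IsPiHallOf {p}ᶜ (pPrimeCoreOf p ⁅H, H⁆) ⁅H, H⁆ ∧ ⁅H, H⁆ ≤ pPrimePCoreOf p H ∧
      PiNat {p}ᶜ ((pPrimePCoreOf p H).relIndex H) :=
  P04.rank2_der1_complement hp solH oddH ((P04.pRank_le_iff hp).1 rH)

/-- B & G, Theorem 4.18(b). -/
theorem rank2_min_p_complement {p : ℕ} (hp : p.Prime) {H : Subgroup G}
    (hmin : p = 3 ∨ ∀ q : ℕ, q.Prime → q ∣ Nat.card H → p ≤ q)
    (solH : Group.IsSolvable H) (oddH : Odd (Nat.card H)) (rH : pRank p H ≤ 2) :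
    IsPiHallOf {p}ᶜ (pPrimeCoreOf p H) H :=
  P04.p_complement_of_max_pdiv hmin oddH fun _ hq h =>
    P04.rank2_max_pdiv hp hq solH oddH ((P04.pRank_le_iff hp).1 rH) h

/-- B & G, Corollary 4.19: `H'` centralizes the chief factor `U / V`. -/
theorem rank2_cent_chief {p : ℕ} (hp : p.Prime) {H Hs U V : Subgroup G} (oddH : Odd (Nat.card H))
    (solH : Group.IsSolvable H) (nsHs : Hs ⊲ H) (rHs : pRank p Hs ≤ 2) (chUV : ChiefFactor H V U)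
    (pUV : PiNat {p} (V.relIndex U)) (sUHs : U ≤ Hs) : ⁅U, ⁅H, H⁆⁆ ≤ V :=
  P04.rank2_cent_chief hp oddH solH (((P04.pRank_le_iff hp).1 rHs).mono sUHs) chUV pUV

/-- B & G, Theorem 4.20(a). -/
theorem rank2_der1_sub_Fitting {H : Subgroup G} (oddH : Odd (Nat.card H))
    (solH : Group.IsSolvable H) (rF : rank (fittingOf H) ≤ 2) : ⁅H, H⁆ ≤ fittingOf H :=
  P04.rank2_der1_sub_Fitting oddH solH rF

/-- B & G, Theorem 4.20(b). -/
theorem rank2_char_Sylow_normal {p : ℕ} (hp : p.Prime) {H S T : Subgroup G}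
    (oddH : Odd (Nat.card H)) (solH : Group.IsSolvable H) (rF : rank (fittingOf H) ≤ 2)
    (sylS : IsSylowOf p S H) (chT : CharIn T S) (sTS' : T ≤ ⁅S, S⁆) : T ⊲ H :=
  P04.char_Sylow_normal_of_der_le hp (P04.rank2_der1_sub_Fitting oddH solH rF) sylS chT sTS'

/-- B & G, Theorem 4.20(c), for the last factor of the series. -/
theorem rank2_min_p'core_Hall {p : ℕ} (hp : p.Prime) {H : Subgroup G}
    (hmin : ∀ q : ℕ, q.Prime → q ∣ Nat.card H → p ≤ q) (oddH : Odd (Nat.card H))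
    (solH : Group.IsSolvable H) (rF : rank (fittingOf H) ≤ 2) :
    IsPiHallOf {p}ᶜ (pPrimeCoreOf p H) H :=
  P04.rank2_min_p'core_Hall hmin oddH solH rF

/-- B & G, Theorem 4.20(c), for intermediate factors. -/
theorem rank2_ge_pcore_Hall (m : ℕ) {H : Subgroup G} (oddH : Odd (Nat.card H))
    (solH : Group.IsSolvable H) (rF : rank (fittingOf H) ≤ 2) :
    IsPiHallOf {q | m ≤ q} (piCoreOf {q | m ≤ q} H) H :=
  P04.rank2_ge_pcore_Hall m oddH solH rF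

/-- B & G, Theorem 4.20(c), for the first factor of the series. -/
theorem rank2_max_pcore_Sylow {p : ℕ} (hp : p.Prime) {H : Subgroup G}
    (hmax : ∀ q : ℕ, q.Prime → q ∣ Nat.card H → q ≤ p) (oddH : Odd (Nat.card H))
    (solH : Group.IsSolvable H) (rF : rank (fittingOf H) ≤ 2) :
    IsSylowOf p (pCoreOf p H) H :=
  P04.rank2_max_pcore_Sylow hmax oddH solH rF

end CA.BG
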