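/-
B & G section 5: Lemmas 5.1 - 5.4 (structure of narrow p-groups).
-/
import Cfsg.Agent.FG.Aux1
import Cfsg.Agent.FG.Rank
import Cfsg.Agent.BG.NarrowDef
import Cfsg.Agent.BG.P04c

set_option autoImplicit false

namespace CA.BG.P05

open Cfsg CA.BG.P04 Subgroup
open CA.FG hiding abelem_bot abelem_map abelem_of_card_prime abelem_sup abelem_zpowers abelian_of_card_le_sq
  card_ohm1_of_cyclic der_le_cent_of_cyclic exists_holomorph mem_ohm1 norm_ohm1 ohm1_abelem ohm1_eq_of_le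
  ohm1_le ohm1_le_iff ohm1_map_le ohm1_map_of_inj ohm1_mono ohm1_ne_bot pRank_le_iff rank_le_iff

universe u v

variable {G : Type u} [Group G]

/-! ### transfer -/

section transfer

variable {G' : Type v} [Group G']

theorem abelem_map_iff {p : ℕ} {A : Subgroup G} {f : G →* G'} (hf : Function.Injective f) :
    IsElementaryAbelian p (A.map f) ↔ IsElementaryAbelian p A :=
  ⟨abelem_of_map_inj hf, abelem_map f⟩

theorem pnElem_map_iff {p n : ℕ} {A R : Subgroup G} {f : G →* G'} (hf : Function.Injective f) :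
    IsPnElem p n (A.map f) (R.map f) ↔ IsPnElem p n A R := by
  unfold IsPnElem
  rw [map_le_map_iff_of_injective hf, abelem_map_iff hf, card_map_of_injective hf]

theorem exists_eq_map_of_le {B : Subgroup G'} {R : Subgroup G} {f : G →* G'} (h : B ≤ R.map f) :
    ∃ A : Subgroup G, B = A.map f :=
  ⟨B.comap f, (map_comap_eq_self (h.trans (map_le_range f R))).symm⟩

theorem pmaxElem_map_iff {p : ℕ} {A R : Subgroup G} {f : G →* G'} (hf : Function.Injective f) :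
    IsPMaxElem p (A.map f) (R.map f) ↔ IsPMaxElem p A R := by
  unfold IsPMaxElem
  rw [map_le_map_iff_of_injective hf, abelem_map_iff hf]
  refine and_congr_right fun _ => and_congr_right fun _ => ⟨fun h B h1 h2 h3 => ?_, fun h B h1 => ?_⟩
  · exact map_injective hf (h _ (map_mono h1) (abelem_map f h2) (map_mono h3))
  · obtain ⟨B, rfl⟩ := exists_eq_map_of_le h1
    rw [map_le_map_iff_of_injective hf] at h1
    rw [map_le_map_iff_of_injective hf, abelem_map_iff hf]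
    exact fun h2 h3 => by rw [h B h1 h2 h3]

theorem pRank_map_of_inj (p : ℕ) (R : Subgroup G) {f : G →* G'} (hf : Function.Injective f) :
    pRank p (R.map f) = pRank p R := by
  unfold pRank
  congr 1
  ext n
  constructor
  · rintro ⟨A, hA⟩
    obtain ⟨A, rfl⟩ := exists_eq_map_of_le hA.1
    exact ⟨A, (pnElem_map_iff hf).1 hA⟩
  · rintro ⟨A, hA⟩
    exact ⟨_, (pnElem_map_iff hf).2 hA⟩

theorem injm_narrow {p : ℕ} {R : Subgroup G} (f : G →* G') (hf : Function.Injective f) :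
    Narrow p (R.map f) ↔ Narrow p R := by
  unfold Narrow
  rw [pRank_map_of_inj p R hf]
  refine imp_congr_right fun _ => ⟨?_, ?_⟩
  · rintro ⟨E, h1, h2⟩
    obtain ⟨E, rfl⟩ := exists_eq_map_of_le h1.1
    exact ⟨E, (pnElem_map_iff hf).1 h1, (pmaxElem_map_iff hf).1 h2⟩
  · rintro ⟨E, h1, h2⟩
    exact ⟨_, (pnElem_map_iff hf).2 h1, (pmaxElem_map_iff hf).2 h2⟩

theorem narrowJ {p : ℕ} {R : Subgroup G} (x : G) : Narrow p (R :^ x) ↔ Narrow p R :=
  injm_narrow _ (conj_inj x)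

theorem narrow_top_iff {p : ℕ} {R : Subgroup G} : Narrow p (⊤ : Subgroup R) ↔ Narrow p R := by
  rw [← injm_narrow R.subtype R.subtype_injective, map_subtype_top]

theorem isog_narrow {p : ℕ} {R : Subgroup G} {R' : Subgroup G'} (e : R ≃* R') :
    Narrow p R ↔ Narrow p R' := by
  rw [← narrow_top_iff, ← injm_narrow e.toMonoidHom e.injective,
    map_top_of_surjective _ e.surjective, narrow_top_iff]

end transfer

theorem narrow_iff [Finite G] {p : ℕ} (hp : p.Prime) {R : Subgroup G} :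
    Narrow p R ↔ (¬ RkLE p 2 R → ∃ E : Subgroup G, IsPnElem p 2 E R ∧ IsPMaxElem p E R) := by
  unfold Narrow
  rw [lt_pRank_iff hp]

theorem narrow_of_rkLE [Finite G] {p : ℕ} (hp : p.Prime) {R : Subgroup G} (h : RkLE p 2 R) :
    Narrow p R := (narrow_iff hp).2 fun h' => absurd h h'

theorem ne_bot_of_not_rkLE [Finite G] {p k : ℕ} (hp : p.Prime) {R : Subgroup G}
    (h : ¬ RkLE p k R) : R ≠ ⊥ := by
  rintro rfl
  exact h (rkLE_of_not_dvd hp (by simpa using hp.one_lt.ne'))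

theorem not_cyclic_of_not_rkLE [Finite G] {p : ℕ} (hp : p.Prime) {R : Subgroup G}
    (h : ¬ RkLE p 2 R) : ¬ IsCyclic R := fun hc => h fun B h1 h2 =>
  (rkLE_one_of_cyclic hp hc B h1 h2).trans ((pow_le_pow_iff hp).2 one_le_two)

theorem mem_of_pmaxElem {p : ℕ} {E R : Subgroup G} (h : IsPMaxElem p E R) {x : G} (hx : x ∈ R)
    (hc : x ∈ 𝒞(E)) (hxp : x ^ p = 1) : x ∈ E := by
  rw [← h.2.2 (E ⊔ zpowers x) (sup_le h.1 (zpowers_le.2 hx))
    (abelem_sup h.2.1 (abelem_zpowers hxp) (le_cent_symm (zpowers_le.2 hc))) le_sup_left]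
  exact le_sup_right (a := E) (mem_zpowers x)

theorem charIn_ohm1 (p : ℕ) (H : Subgroup G) : CharIn (ohm1 p H) H := by
  refine charIn_of_functor (K₀ := ohm1 p ⊤) ?_ fun e => ?_
  · rw [ohm1_map_of_inj p ⊤ H.subtype_injective, map_subtype_top]
  · exact (ohm1_map_le p ⊤ _).trans (ohm1_mono p le_top)

theorem charIn_ucnOf_two (H : Subgroup G) : CharIn (ucnOf 2 H) H :=
  charIn_of_functor (K₀ := Subgroup.upperCentralSeries H 2) rfl fun e =>
    (characteristic_iff_map_eq.1 inferInstance e).le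

theorem rc_mem_ohm1_center {p : ℕ} {R : Subgroup G} {w r : G} (hw : w ∈ ucnOf 2 R) (hr : r ∈ R)
    (h : w ^ p = 1 ∨ r ^ p = 1) : rc w r ∈ ohm1 p 𝒵(R) := by
  have h1 : rc w r ∈ 𝒵(R) := comm_ucnOf_two_le R (rc_mem hw hr)
  refine mem_ohm1 h1 ?_
  rcases h with h | h
  · exact eq_one_of_pow_mul (rc_spec w r) (commute_of_mem_cent h1.2 (ucnOf_two_le R hw))
      (by rw [h]; exact Commute.one_left _)
  · exact eq_one_of_mul_pow (rc_spec w r) (commute_of_mem_cent h1.2 hr)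
      (by rw [h]; exact Commute.one_right _)

theorem norm_of_rc [Finite G] {A H : Subgroup G} (h : ∀ x ∈ H, ∀ a ∈ A, rc x a ∈ H) :
    A ≤ 𝒩(H) := fun a ha => mem_norm_of_forall fun x hx => by
  rw [conj_eq_mul_rc]
  exact mul_mem hx (h x hx _ (inv_mem ha))

/-- Lemma 5.2. -/
theorem ohm1_ucn_p2maxElem [Finite G] {p : ℕ} (hp : p.Prime) (hp2 : p ≠ 2) {R E : Subgroup G}
    (pR : IsPGroup p R) (rR : ¬ RkLE p 2 R) (hE : IsPnElem p 2 E R) (maxE : IsPMaxElem p E R) :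
    ¬ E ≤ R ⊓ 𝒞(ohm1 p (ucnOf 2 R)) ∧ Nat.card (ohm1 p 𝒵(R)) = p ∧
      IsPnElem p 2 (ohm1 p (ucnOf 2 R)) R ∧ CharIn (R ⊓ 𝒞(ohm1 p (ucnOf 2 R))) R ∧
      (R ⊓ 𝒞(ohm1 p (ucnOf 2 R))).relIndex R = p := by
  obtain ⟨hER, abE, oE⟩ := hE
  set W := ohm1 p (ucnOf 2 R) with hW
  set Z := ohm1 p 𝒵(R) with hZ
  have hWR : W ≤ R := (ohm1_le _ _).trans (ucnOf_two_le R)
  have nW : R ≤ 𝒩(W) := norm_ohm1 p (norm_ucnOf_two le_normalizer)
  obtain ⟨oW, eW⟩ := ohm1_odd_ucn2 hp hp2 pR (not_cyclic_of_not_rkLE hp rR)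
  have hZE : Z ≤ E := ohm1_le_iff.2 fun x hx h =>
    mem_of_pmaxElem maxE hx.1 (cent_anti hER hx.2) h
  have nnE : ¬ R ≤ 𝒩(E) := fun nE => by
    obtain ⟨A, scnA, hEA, rA⟩ := exists_SCN3 hp hp2 pR rR ⟨hER, nE⟩ abE
    refine rA fun B hB abB => ?_
    rw [← oE]
    exact Subgroup.card_le_of_le fun x hx => mem_of_pmaxElem maxE (scnA.1 (hB hx))
      (cent_anti hEA (abelian_iff_le_cent.1 (scn_abelian scnA) (hB hx))) (abB.2 x hx)
  have nEW : ¬ E ≤ W := fun h => nnE (norm_of_rc fun x hx r hr =>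
    hZE (rc_mem_ohm1_center (ohm1_le _ _ (h hx)) hr (Or.inl (abE.2 x hx))))
  have hZW : Z ≤ W := ohm1_mono p (center_le_ucnOf_two R)
  have pE := abelem_pgroup abE
  have oEW : Nat.card (E ⊓ W : Subgroup G) ≤ p := by
    have := mul_card_le_of_lt hp pE (H := E ⊓ W)
      (lt_of_le_of_ne inf_le_left fun e => nEW (inf_eq_left.1 e))
    rw [oE, sq] at this
    exact Nat.le_of_mul_le_mul_left this hp.pos
  have oZ : Nat.card Z = p := by
    refine le_antisymm ((Subgroup.card_le_of_le (le_inf hZE hZW)).trans oEW) ?_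
    obtain ⟨z, hz, hz1, hzp, hzc⟩ := exists_central_order_p hp pR le_rfl le_normalizer
      (ne_bot_of_not_rkLE hp rR)
    rw [← card_zpowers_of_pow hp hz1 hzp]
    exact Subgroup.card_le_of_le (zpowers_le.2 (mem_ohm1 ⟨hz, hzc⟩ hzp))
  have nEW' : W ≤ 𝒩(E) := norm_of_rc fun x hx w hw => by
    rw [← rc_inv]
    exact inv_mem (hZE (rc_mem_ohm1_center (ohm1_le _ _ hw) (hER hx) (Or.inr (abE.2 x hx))))
  have hCW : 𝒞(E) ⊓ W ≤ E ⊓ W := fun x hx =>
    ⟨mem_of_pmaxElem maxE (hWR hx.2) hx.1 (eW x hx.2), hx.2⟩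
  have oW' : Nat.card W = p ^ 2 := by
    refine le_antisymm ?_ oW
    have h1 := relIndex_cent_le hp (pR.to_le (sup_le hWR hER)) le_sup_right
      (sup_le nEW' le_normalizer) oE.le
    refine (card_le_mul_card_inf le_sup_left h1).trans ?_
    rw [sq]
    exact Nat.mul_le_mul_right _ ((Subgroup.card_le_of_le hCW).trans oEW)
  have nET : ¬ E ≤ R ⊓ 𝒞(W) := fun h => by
    have h1 : W ≤ E := fun x hx =>
      (hCW ⟨le_cent_symm (h.trans inf_le_right) hx, hx⟩).1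
    exact nEW (eq_of_le_of_card_le h1 (by rw [oE, oW'])).ge
  refine ⟨nET, oZ, ⟨hWR, ⟨P04.abelian_of_card_le_sq hp (pR.to_le hWR) oW'.le, eW⟩, oW'⟩,
    ((charIn_ohm1 p _).trans (charIn_ucnOf_two R)).cent, ?_⟩
  have h1 := relIndex_cent_le hp pR hWR nW oW'.le
  rw [inf_relIndex_left]
  obtain ⟨n, hn⟩ := relIndex_pow hp pR 𝒞(W)
  obtain _ | _ | n := n
  · exact absurd (le_inf hER (hER.trans (relIndex_eq_one.1 (by simpa using hn)))) nET
  · simpa using hn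
  · rw [hn, ← pow_one p, ← pow_mul, pow_le_pow_iff hp] at h1
    omega

theorem sup_ohm1_center_p2max [Finite G] {p : ℕ} (hp : p.Prime) {R S : Subgroup G}
    (pR : IsPGroup p R) (rR : ¬ RkLE p 2 R) (oS : Nat.card S = p) (sSR : S ≤ R)
    (rC : RkLE p 2 (R ⊓ 𝒞(S))) :
    IsPnElem p 2 (S ⊔ ohm1 p 𝒵(R)) R ∧ IsPMaxElem p (S ⊔ ohm1 p 𝒵(R)) R := by
  have hZ : ohm1 p 𝒵(R) ≤ 𝒵(R) := ohm1_le _ _
  have abS := abelem_of_card_prime hp oS
  have ab : IsElementaryAbelian p (S ⊔ ohm1 p 𝒵(R)) :=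
    abelem_sup abS (ohm1_abelem (abelian_inf_cent R))
      (sSR.trans (le_cent_symm (hZ.trans inf_le_right)))
  have hle : S ⊔ ohm1 p 𝒵(R) ≤ R := sup_le sSR (hZ.trans inf_le_left)
  have key : ∀ B : Subgroup G, B ≤ R → IsElementaryAbelian p B → S ≤ B → Nat.card B ≤ p ^ 2 :=
    fun B h1 h2 h3 => rC B (le_inf h1 ((abelian_iff_le_cent.1 h2.1).trans (cent_anti h3))) h2
  have hlt : S < S ⊔ ohm1 p 𝒵(R) := by
    refine left_lt_sup.2 fun h => rR ?_
    obtain ⟨z, hz, hz1, hzp, hzc⟩ := exists_central_order_p hp pR le_rfl le_normalizer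
      (ne_bot_of_not_rkLE hp rR)
    have e := eq_zpowers_of_card_prime (oS ▸ hp) (h (mem_ohm1 ⟨hz, hzc⟩ hzp)) hz1
    rwa [inf_eq_left.2 (le_cent_symm (e ▸ zpowers_le.2 hzc))] at rC
  have h1 := mul_card_le_of_lt hp (abelem_pgroup ab) hlt
  rw [oS, ← sq] at h1
  exact ⟨⟨hle, ab, le_antisymm (key _ hle ab le_sup_left) h1⟩, hle, ab, fun B h2 h3 h4 =>
    (eq_of_le_of_card_le h4 ((key B h2 h3 (le_sup_left.trans h4)).trans h1)).symm⟩

theorem der_le_of_relIndex [Finite G] {p : ℕ} (hp : p.Prime) {R T : Subgroup G} (nT : T ⊲ R)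
    (h : T.relIndex R = p) : ⁅R, R⁆ ≤ T :=
  (quot_abelian_iff nT.2).1 (abelian_of_cyclic
    (isCyclic_of_card_prime (by rw [card_quot nT.2, h]; exact hp)))

/-- Theorem 5.3(d). -/
theorem narrow_cent_dprod [Finite G] {p : ℕ} (hp : p.Prime) (hp2 : p ≠ 2) {R S : Subgroup G}
    (pR : IsPGroup p R) (rR : ¬ RkLE p 2 R) (oS : Nat.card S = p) (sSR : S ≤ R)
    (rC : RkLE p 2 (R ⊓ 𝒞(S))) :
    IsCyclic ↥(R ⊓ 𝒞(ohm1 p (ucnOf 2 R)) ⊓ 𝒞(S)) ∧ S ⊓ ⁅R, R⁆ = ⊥ ∧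
      S ⊓ (R ⊓ 𝒞(ohm1 p (ucnOf 2 R))) = ⊥ ∧
      DProd S (R ⊓ 𝒞(ohm1 p (ucnOf 2 R)) ⊓ 𝒞(S)) (R ⊓ 𝒞(S)) := by
  obtain ⟨h1, h2⟩ := sup_ohm1_center_p2max hp pR rR oS sSR rC
  obtain ⟨nET, -, hW, chT, iT⟩ := ohm1_ucn_p2maxElem hp hp2 pR rR h1 h2
  set T := R ⊓ 𝒞(ohm1 p (ucnOf 2 R)) with hT
  have nST : ¬ S ≤ T := fun h => nET (sup_le h
    ((ohm1_le _ _).trans (inf_le_inf_left _ (cent_anti hW.1))))
  have tiST : S ⊓ T = ⊥ := (inf_eq_bot_or_le_of_card_prime (oS ▸ hp) T).resolve_right nST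
  have abS := abelem_of_card_prime hp oS
  have hSC : S ≤ R ⊓ 𝒞(S) := le_inf sSR (abelian_iff_le_cent.1 abS.1)
  obtain ⟨y, hy, hyT⟩ := SetLike.not_le_iff_exists.1 nST
  have eR : S ⊔ T = R := by
    refine le_antisymm (sup_le sSR inf_le_left) ?_
    conv_lhs => rw [← eq_sup_zpowers_of_relIndex hp chT.le iT (sSR hy) hyT]
    exact sup_le le_sup_right (le_sup_of_le_left (zpowers_le.2 hy))
  have hD : DProd S (T ⊓ 𝒞(S)) (R ⊓ 𝒞(S)) := by
    refine dprod_mk inf_le_right ?_ (eq_bot_iff.2 (tiST ▸ inf_le_inf_left _ inf_le_left))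
    have := eq_sup_inf_of_le (Or.inl (sSR.trans chT.normalIn.2)) hSC (inf_le_left.trans eR.ge)
    rw [inf_right_comm, inf_eq_right.2 chT.le] at this
    exact this.symm
  refine ⟨?_, eq_bot_iff.2 (tiST ▸ inf_le_inf_left _ (der_le_of_relIndex hp chT.normalIn iT)),
    tiST, hD⟩
  refine cyclic_of_rkLE_one hp hp2 (pR.to_le (inf_le_left.trans inf_le_left)) fun B hB abB => ?_
  have hBS : B ≤ 𝒞(S) := hB.trans inf_le_right
  have h3 := rC (S ⊔ B) (sup_le hSC (hB.trans hD.right_le)) (abelem_sup abS abB (le_cent_symm hBS))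
  rw [card_sup_of_inf_eq_bot (Or.inr (norm_of_cent hBS))
    (eq_bot_iff.2 (hD.inf_eq ▸ inf_le_inf_left _ hB)), oS, sq] at h3
  rw [pow_one]
  exact Nat.le_of_mul_le_mul_left h3 hp.pos

/-- Corollary 5.4. -/
theorem narrow_centP [Finite G] {p : ℕ} (hp : p.Prime) (hp2 : p ≠ 2) {R : Subgroup G}
    (pR : IsPGroup p R) (rR : ¬ RkLE p 2 R) :
    Narrow p R ↔ ∃ S : Subgroup G, S ≤ R ∧ Nat.card S = p ∧ RkLE p 2 (R ⊓ 𝒞(S)) := by
  rw [narrow_iff hp]
  constructor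
  · intro h
    obtain ⟨E, hE, maxE⟩ := h rR
    obtain ⟨-, oZ, -⟩ := ohm1_ucn_p2maxElem hp hp2 pR rR hE maxE
    have hZE : ohm1 p 𝒵(R) ≤ E := ohm1_le_iff.2 fun x hx h =>
      mem_of_pmaxElem maxE hx.1 (cent_anti hE.1 hx.2) h
    have iZ : (ohm1 p 𝒵(R)).relIndex E = p := by
      have := card_mul_relIndex hZE
      rw [oZ, hE.2.2, sq] at this
      exact Nat.eq_of_mul_eq_mul_left hp.pos this
    have hn : ¬ E ≤ ohm1 p 𝒵(R) := fun e => by
      rw [relIndex_eq_one.2 e] at iZ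
      exact hp.one_lt.ne iZ
    obtain ⟨y, hy, hyZ⟩ := SetLike.not_le_iff_exists.1 hn
    have e := eq_sup_zpowers_of_relIndex hp hZE iZ hy hyZ
    refine ⟨zpowers y, zpowers_le.2 (hE.1 hy), card_zpowers_of_pow hp
      (fun e => hyZ (e ▸ one_mem _)) (hE.2.1.2 y hy), fun B hB abB => ?_⟩
    rw [← hE.2.2]
    refine Subgroup.card_le_of_le fun x hx =>
      mem_of_pmaxElem maxE (hB hx).1 ?_ (abB.2 x hx)
    rw [← e, cent_sup]
    exact ⟨le_cent_symm ((ohm1_le _ _).trans inf_le_right) (hB hx).1, (hB hx).2⟩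
  · rintro ⟨S, h1, h2, h3⟩ -
    exact ⟨_, sup_ohm1_center_p2max hp pR rR h2 h1 h3⟩

theorem rkLE_of_dprod_cyclic [Finite G] {p : ℕ} (hp : p.Prime) {S C M : Subgroup G}
    (oS : Nat.card S = p) (cC : IsCyclic C) (h : IsComplIn S C M) : RkLE p 2 M := by
  intro B hB abB
  refine (card_le_mul_card_inf hB (h.relIndex_right.trans oS).le).trans ?_
  rw [sq]
  refine Nat.mul_le_mul_right _ ?_
  simpa using rkLE_one_of_cyclic hp cC _ inf_le_left (isElementaryAbelian_of_le abB inf_le_right)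

/-- Theorem 5.3. -/
theorem narrow_structureP [Finite G] {p : ℕ} (hp : p.Prime) (hp2 : p ≠ 2) {R : Subgroup G}
    (pR : IsPGroup p R) (rR : ¬ RkLE p 2 R) :
    Narrow p R ↔ ∃ S C : Subgroup G, S ≤ R ∧ C ≤ R ∧ Nat.card S = p ∧ IsCyclic C ∧
      DProd S C (R ⊓ 𝒞(S)) := by
  rw [narrow_centP hp hp2 pR rR]
  constructor
  · rintro ⟨S, h1, h2, h3⟩
    obtain ⟨h4, -, -, h5⟩ := narrow_cent_dprod hp hp2 pR rR h2 h1 h3
    exact ⟨S, _, h1, inf_le_left.trans inf_le_left, h2, h4, h5⟩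
  · rintro ⟨S, C, h1, -, h2, h3, h4⟩
    exact ⟨S, h1, h2, rkLE_of_dprod_cyclic hp h2 h3 h4.1⟩

theorem narrow_top_iff_isNarrow [Finite G] {p : ℕ} (hp : p.Prime) (hp2 : p ≠ 2)
    (pG : IsPGroup p G) : Narrow p (⊤ : Subgroup G) ↔ IsNarrow p G := by
  by_cases rR : RkLE p 2 (⊤ : Subgroup G)
  · exact iff_of_true (narrow_of_rkLE hp rR) (Or.inl (rkLE_top_iff.1 rR))
  rw [narrow_structureP hp hp2 (pG.to_subgroup ⊤) rR]
  constructor
  · rintro ⟨S, C, -, -, h1, h2, h3⟩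
    rw [top_inf_eq] at h3
    exact Or.inr ⟨S, C, h1, h2, h3.inf_eq, le_cent_iff_forall.1 (le_cent_symm h3.cent), h3.sup_eq⟩
  · rintro (h | ⟨S, C, h1, h2, h3, h4, h5⟩)
    · exact absurd (rkLE_top_iff.2 h) rR
    · refine ⟨S, C, le_top, le_top, h1, h2, ?_⟩
      rw [top_inf_eq]
      exact dprod_mk (le_cent_symm (le_cent_iff_forall.2 h4)) h5 h3

theorem narrow_iff_isNarrow [Finite G] {p : ℕ} (hp : p.Prime) (hp2 : p ≠ 2) {R : Subgroup G}
    (pR : IsPGroup p R) : Narrow p R ↔ IsNarrow p R := by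
  rw [← narrow_top_iff, narrow_top_iff_isNarrow hp hp2 pR]

end CA.BG.P05
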