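/-
B & G section 5: Theorems 5.5 - 5.7.
-/
import Cfsg.Agent.BG.P04g
import Cfsg.Agent.BG.P05a

set_option autoImplicit false

namespace CA.BG.P05

open Cfsg CA.BG.P04 Subgroup
open CA.FG hiding abelem_bot abelem_map abelem_of_card_prime abelem_sup abelem_zpowers abelian_of_card_le_sq
  card_ohm1_of_cyclic der_le_cent_of_cyclic exists_holomorph mem_ohm1 norm_ohm1 ohm1_abelem ohm1_eq_of_le
  ohm1_le ohm1_le_iff ohm1_map_le ohm1_map_of_inj ohm1_mono ohm1_ne_bot pRank_le_iff rank_le_iff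

universe u v

variable {G : Type u} [Group G] [Finite G]

/-- A coprime element stabilizing the series `K ≥ [K, R] ≥ [K, R, R] ≥ ..` centralizes `K`. -/
theorem cent_of_stab_series {p : ℕ} (hp : p.Prime) {R A H X : Subgroup G} (pR : IsPGroup p R)
    (hH : H ≤ R) (nRA : A ≤ 𝒩(R)) (p'X : IsPiGrp {p}ᶜ X)
    (h : ∀ K, K ≤ H → R ≤ 𝒩(K) → A ≤ 𝒩(K) → ⁅K, X⁆ ≤ ⁅K, R⁆) :
    ∀ K, K ≤ H → R ≤ 𝒩(K) → A ≤ 𝒩(K) → X ≤ 𝒞(K) := by
  intro K
  induction K using WellFoundedLT.induction with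
  | ind K ih =>
  intro h1 h2 h3
  by_cases nt : K = ⊥
  · rw [nt, cent_bot]; exact le_top
  have hlt := comm_lt_of_nil (pgrp_nil hp pR) (h1.trans hH) h2 nt
  exact stable_factor_cent' (ih _ hlt (hlt.le.trans h1) (norm_comm h2 le_normalizer)
    (norm_comm h3 nRA)) (h K h1 h2 h3)
    (coprime_of_pgroup hp (pR.to_le ((hlt.le.trans h1).trans hH)) p'X)

theorem comm_le_of_relIndex_dvd {p : ℕ} (hp : p.Prime) {A K V : Subgroup G} (nV : K ≤ 𝒩(V))
    (nKA : A ≤ 𝒩(K)) (nVA : A ≤ 𝒩(V)) (h : V.relIndex K ∣ p) {x : G}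
    (hx : x ∈ ⁅A, A⁆ ∨ ∃ a ∈ A, x = a ^ (p - 1)) : ⁅K, zpowers x⁆ ≤ V := by
  rw [← card_quot nV] at h
  rcases hx with hx | ⟨a, ha, rfl⟩
  · refine (commutator_mono le_rfl (zpowers_le.2 hx)).trans ?_
    rw [← quot_cent_iff' ((der_normalIn A).1.trans nVA) nV, quot_comm nVA nVA]
    refine der_le_cent_of_cyclic ?_ (quot_norm V nKA)
    rcases (Nat.dvd_prime hp).1 h with h | h
    · rw [card_eq_one.1 h]; exact cyclic_bot
    · exact isCyclic_of_card_prime (h ▸ hp)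
  · rw [← quot_cent_iff' (zpowers_le.2 (pow_mem (nVA ha) _)) nV]
    have := pow_pred_mem_cent hp h (quot_norm V nKA (mem_quot_of_mem (nVA ha) ha))
    rw [← map_pow, ← zpowers_le, ← quot_zpowers] at this
    exact this

theorem dvd_of_le_of_pgroup {p : ℕ} (hp : p.Prime) {K : Subgroup G} (pK : IsPGroup p K)
    {V : Subgroup G} (h : V.relIndex K ≤ p) : V.relIndex K ∣ p := by
  by_cases hn : K ≤ V
  · rw [relIndex_eq_one.2 hn]; exact one_dvd _
  · rw [relIndex_eq_of_le hp pK h hn]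

/-- The core of Theorem 5.5 for rank at least three. -/
theorem cent_of_narrow_rank3 {p : ℕ} (hp : p.Prime) (hp2 : p ≠ 2) {R A : Subgroup G}
    (pR : IsPGroup p R) (rR : ¬ RkLE p 2 R) (nnR : Narrow p R) (nRA : A ≤ 𝒩(R)) {x : G}
    (hx : x ∈ ⁅A, A⁆ ∨ ∃ a ∈ A, x = a ^ (p - 1)) (p'x : IsPiElt {p}ᶜ x) : x ∈ 𝒞(R) := by
  obtain ⟨S, hSR, oS, rC⟩ := (narrow_centP hp hp2 pR rR).1 nnR
  obtain ⟨cC, -, -⟩ := narrow_cent_dprod hp hp2 pR rR oS hSR rC
  obtain ⟨E, hE, maxE⟩ := (narrow_iff hp).1 nnR rR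
  obtain ⟨-, -, -, chT, iT⟩ := ohm1_ucn_p2maxElem hp hp2 pR rR hE maxE
  set T := R ⊓ 𝒞(ohm1 p (ucnOf 2 R)) with hT
  have pT := pR.to_le chT.le
  obtain ⟨H, chH, eH, cH⟩ := exists_critical hp hp2 pT
  have chHR := chH.trans chT
  have hxA : x ∈ A := by
    rcases hx with hx | ⟨a, ha, rfl⟩
    · exact (der_normalIn A).1 hx
    · exact pow_mem ha _
  have p'X := piGrp_zpowers_iff.2 p'x
  obtain ⟨s, hs, hs1⟩ := exists_mem_ne_one (ne_bot_of_card_prime (oS ▸ hp))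
  have h1 := cent_of_stab_series hp pR chHR.le nRA p'X (fun K hK nK nKA => by
    have pK := pR.to_le (hK.trans chHR.le)
    refine comm_le_of_relIndex_dvd hp ((hK.trans chHR.le).trans (norm_comm nK le_normalizer)) nKA
      (norm_comm nKA nRA) (dvd_of_le_of_pgroup hp pK ?_) hx
    have h2 : (𝒞[s]).relIndex K ≤ Nat.card (⁅K, R⁆ : Subgroup G) :=
      relIndex_cent1_le fun r hr => by rw [commutator_comm]; exact rc_mem (hSR hs) hr
    have h3 := card_le_mul_card_inf le_rfl h2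
    have h4 : Nat.card (𝒞[s] ⊓ K : Subgroup G) ≤ p := by
      refine card_le_of_cyclic_exp hp (cyclic_of_le cC ?_) fun y hy => eH y (hK hy.2)
      rw [cent_eq_cent_singleton_of_prime (oS ▸ hp) hs hs1, inf_comm]
      exact inf_le_inf_right _ (hK.trans chH.le)
    rw [← card_mul_relIndex (comm_le_left nK), mul_comm] at h3
    exact Nat.le_of_mul_le_mul_right (h3.trans (Nat.mul_le_mul_right _ h4)) Nat.card_pos)
    H le_rfl chHR.normalIn.2 (chHR.norm nRA)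
  have h2 := cH x (chT.norm nRA hxA) p'x (zpowers_le.1 h1)
  exact zpowers_le.1 (stable_factor_cent' (zpowers_le.2 h2)
    (comm_le_of_relIndex_dvd hp chT.normalIn.2 nRA (chT.norm nRA) iT.dvd hx)
    (coprime_of_pgroup hp pT p'X))

theorem der_cent_of_narrow {p : ℕ} (hp : p.Prime) {R A : Subgroup G} (pR : IsPGroup p R)
    (oddR : Odd (Nat.card R)) (nnR : Narrow p R) (nRA : A ≤ 𝒩(R)) (oddA : Odd (Nat.card A)) {x : G}
    (hx : x ∈ ⁅A, A⁆) (p'x : IsPiElt {p}ᶜ x) : x ∈ 𝒞(R) := by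
  rcases ne_two_or_bot hp pR le_rfl oddR with hp2 | rfl
  · by_cases rR : RkLE p 2 R
    · exact der_cent_of_rank2 hp hp2 pR rR nRA oddA hx p'x
    · exact cent_of_narrow_rank3 hp hp2 pR rR nnR nRA (Or.inl hx) p'x
  · rw [cent_bot]; trivial

theorem der1_norm_narrow {p : ℕ} (hp : p.Prime) {R A : Subgroup G} (pR : IsPGroup p R)
    (oddR : Odd (Nat.card R)) (nnR : Narrow p R) (nRA : A ≤ 𝒩(R)) (oddA : Odd (Nat.card A)) :
    PiNat {p} ((𝒞(R)).relIndex ⁅A, A⁆) :=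
  piNat_relIndex_of_forall fun _ _ hq _ hx qx =>
    der_cent_of_narrow hp pR oddR nnR nRA oddA hx (piElt_compl_of_ne qx hq)

theorem pow_pred_cent_of_narrow {p : ℕ} (hp : p.Prime) {R : Subgroup G} (pR : IsPGroup p R)
    (oddR : Odd (Nat.card R)) (nnR : Narrow p R) (rR : ¬ RkLE p 2 R) {x : G} (hx : x ∈ 𝒩(R))
    (p'x : IsPiElt {p}ᶜ x) : x ^ (p - 1) ∈ 𝒞(R) :=
  cent_of_narrow_rank3 hp (ne_two_of_odd hp pR oddR (ne_bot_of_not_rkLE hp rR)) pR rR nnR le_rfl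
    (Or.inr ⟨x, hx, rfl⟩) (p'x.pow _)

/-- Theorem 5.5 (a), (b). -/
theorem norm_narrow {p : ℕ} (hp : p.Prime) {R A : Subgroup G} (pR : IsPGroup p R)
    (oddR : Odd (Nat.card R)) (nnR : Narrow p R) (nRA : A ≤ 𝒩(R)) (oddA : Odd (Nat.card A)) :
    PiNat {p}ᶜ ((pCoreOf p (A /ₛ 𝒞(R))).relIndex (A /ₛ 𝒞(R))) ∧
      ⁅A /ₛ 𝒞(R), A /ₛ 𝒞(R)⁆ ≤ pCoreOf p (A /ₛ 𝒞(R)) ∧
      PiNat {p} ((𝒞(R)).relIndex ⁅A, A⁆) ∧
      (2 < rank R → ∀ x ∈ A, IsPiElt {p}ᶜ x → x ^ (p - 1) ∈ 𝒞(R)) := by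
  have h1 := der1_norm_narrow hp pR oddR nnR nRA oddA
  have nC := norm_cent nRA
  have h2 : ⁅A /ₛ 𝒞(R), A /ₛ 𝒞(R)⁆ ≤ pCoreOf p (A /ₛ 𝒞(R)) := by
    refine pcore_max (der_normalIn _) ?_
    rw [← quot_comm nC nC]
    exact (piGrp_quot_iff ((der_normalIn A).1.trans nC)).2 h1
  exact ⟨(sylow_pcore_of_der_le hp h2).index, h2, h1, fun rR x hx p'x =>
    pow_pred_cent_of_narrow hp pR oddR nnR ((lt_rank_iff_of_pgroup hp pR).1 rR) (nRA hx) p'x⟩

/-- Theorem 5.5 (a), (b), faithful action. -/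
theorem faithful_narrow {p : ℕ} (hp : p.Prime) {R A : Subgroup G} (pR : IsPGroup p R)
    (oddR : Odd (Nat.card R)) (nnR : Narrow p R) (nRA : A ≤ 𝒩(R)) (oddA : Odd (Nat.card A))
    (hf : A ⊓ 𝒞(R) = ⊥) :
    PiNat {p}ᶜ ((pCoreOf p A).relIndex A) ∧ ⁅A, A⁆ ≤ pCoreOf p A ∧
      (¬ RkLE p 2 R → ∀ x ∈ A, IsPiElt {p}ᶜ x → orderOf x ∣ p - 1) := by
  have h1 := der1_norm_narrow hp pR oddR nnR nRA oddA
  rw [relIndex_eq_card_of_inf_eq_bot
    (eq_bot_iff.2 (hf ▸ inf_le_inf_right _ (der_normalIn A).1))] at h1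
  have h2 := pcore_max (der_normalIn A) h1
  refine ⟨(sylow_pcore_of_der_le hp h2).index, h2, fun rR x hx p'x => ?_⟩
  apply orderOf_dvd_of_pow_eq_one
  rw [← mem_bot, ← hf]
  exact ⟨pow_mem hx _, pow_pred_cent_of_narrow hp pR oddR nnR rR (nRA hx) p'x⟩

theorem Aut_narrow {p : ℕ} (hp : p.Prime) {R : Subgroup G} (pR : IsPGroup p R)
    (oddR : Odd (Nat.card R)) (nnR : Narrow p R) {A : Subgroup (MulAut R)}
    (oddA : Odd (Nat.card A)) :
    PiNat {p}ᶜ ((pCoreOf p A).relIndex A) ∧ ⁅A, A⁆ ≤ pCoreOf p A ∧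
      (2 < rank R → ∀ x ∈ A, IsPiElt {p}ᶜ x → orderOf x ∣ p - 1) := by
  obtain ⟨G', _, _, f, g, hf, hg, h1, h2⟩ := exists_holomorph R
  obtain ⟨-, h3, h4⟩ := faithful_narrow hp ((pR.to_subgroup ⊤).map f)
    (odd_map f (by rwa [card_top])) ((injm_narrow f hf).2 (narrow_top_iff.2 nnR))
    ((map_mono le_top).trans h1) (odd_map g oddA)
    (eq_bot_iff.2 (h2 ▸ inf_le_inf_right _ (map_mono le_top)))
  have h5 : ⁅A, A⁆ ≤ pCoreOf p A := by
    rwa [← map_commutator, show pCoreOf p (A.map g) = (pCoreOf p A).map g from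
      (pcore_map_of_inj _ _ hg).symm, map_le_map_iff_of_injective hg] at h3
  refine ⟨(sylow_pcore_of_der_le hp h5).index, h5, fun rR x hx p'x => ?_⟩
  rw [← orderOf_injective g hg]
  exact h4 (fun h => (lt_rank_iff_of_pgroup hp pR).1 rR ((rkLE_map_top_iff hf).1 h)) _
    (mem_map_of_mem g hx) (p'x.map g)

/-- Theorem 5.5 (c). -/
theorem faithful_narrow_prime {p : ℕ} (hp : p.Prime) (hp2 : p ≠ 2) {R A : Subgroup G}
    (pR : IsPGroup p R) (nnR : Narrow p R) (nRA : A ≤ 𝒩(R)) (oddA : Odd (Nat.card A))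
    (hf : A ⊓ 𝒞(R) = ⊥) (hq : (Nat.card A).Prime) (hd : ¬ Nat.card A ∣ p * (p - 1)) :
    2 * Nat.card A ∣ p + 1 ∧ (⁅R, A⁆ = R → ¬ IsMulCommutative R → Nat.card R = p ^ 3) := by
  have oddR := odd_of_ne_two hp pR hp2
  have hqp : Nat.card A ≠ p := fun e => hd (e ▸ dvd_mul_right _ _)
  have hq1 : ¬ Nat.card A ∣ p - 1 := fun h => hd (h.mul_left _)
  have p'A : IsPiGrp {p}ᶜ A := (piNat_prime_iff hq).2 hqp
  obtain ⟨a, ha, oa⟩ := exists_mem_orderOf_eq hq dvd_rfl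
  have rR : RkLE p 2 R := by
    by_contra rR
    exact hq1 (oa ▸ (faithful_narrow hp pR oddR nnR nRA oddA hf).2.2 rR a ha (p'A.piElt ha))
  obtain ⟨k, hk⟩ := hp.odd_of_ne_two hp2
  refine ⟨?_, fun defR nabR => ?_⟩
  · rcases (pi_norm_rank2_pgroup hp hq pR oddR rR nRA
      (by rw [relIndex_eq_card_of_inf_eq_bot hf]) hqp).2.2 with h | h
    · rw [show p + 1 = 2 * ((p + 1) / 2) by omega]
      exact Nat.mul_dvd_mul_left 2 h
    · exact absurd (h.trans ⟨2, by omega⟩) hq1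
  obtain ⟨-, o3, -, hc, cC, -⟩ := (rank2_cprod hp hp2 pR (ne_bot_of_not_cyclic
    (not_cyclic_of_not_abelian nabR)) rR defR p'A oddA).2.resolve_left nabR
  have nS := norm_ohm1 p nRA
  have nC := norm_inf nRA (norm_cent nS)
  have pC := pR.to_le (inf_le_left (b := 𝒞(ohm1 p R)))
  have h1 : A ≤ 𝒞(R ⊓ 𝒞(ohm1 p R)) := by
    refine coprime_abelian_pgroup_faithful_Ohm1 (isPGrp_of hp pC) nC (coprime_of_pgroup hp pC p'A)
      (abelian_of_cyclic cC) ?_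
    have h2 := pow_pred_mem_cent hp (S := ohm1 p (R ⊓ 𝒞(ohm1 p R))) (by
      by_cases nt : R ⊓ 𝒞(ohm1 p R) = ⊥
      · rw [nt, le_bot_iff.1 (ohm1_le p ⊥), card_bot]; exact one_dvd _
      · rw [card_ohm1_of_cyclic hp pC cC nt]) (norm_ohm1 p nC ha)
    rw [eq_zpowers_of_card_prime hq (pow_mem ha (p - 1))
      (fun e => hq1 (oa ▸ orderOf_dvd_of_pow_eq_one e))]
    exact zpowers_le.2 h2
  have h3 := comm_sup_left_of_cent (norm_of_cent hc.2) (le_cent_symm h1)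
  rw [hc.1, defR] at h3
  rw [← o3]
  exact congrArg (fun X : Subgroup G => Nat.card X)
    (le_antisymm (h3.le.trans (comm_le_left nS)) (ohm1_le p R))

/-- Theorem 5.6. -/
theorem narrow_der1_complement_max_pdiv {p : ℕ} (hp : p.Prime) {H S : Subgroup G}
    (oddH : Odd (Nat.card H)) (solH : Group.IsSolvable H) (sylS : IsSylowOf p S H)
    (nnS : Narrow p S) (pl1 : ¬ RkLE p 2 S → PLengthLE p 1 H) :
    IsPiHallOf {p}ᶜ (pPrimeCoreOf p ⁅H, H⁆) ⁅H, H⁆ ∧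
      (∀ q : ℕ, q.Prime → q ∣ (pPrimeCoreOf p H).relIndex H → q ≤ p) ∧
      ⁅H, H⁆ ≤ pPrimePCoreOf p H ∧ PiNat {p}ᶜ ((pPrimePCoreOf p H).relIndex H) := by
  by_cases rS : RkLE p 2 S
  · have rH := rkLE_of_sylow hp sylS rS
    obtain ⟨h1, h2⟩ := rank2_der1_complement hp solH oddH rH
    exact ⟨h1, fun q hq h => rank2_max_pdiv hp hq solH oddH rH h, h2⟩
  have nK := pcore_normal {p}ᶜ H
  have sylQ := (plength1_pcore_quo_Sylow hp).1 (pl1 rS)
  have eS := sylQ.eq_of_normal (pcore_norm _ _) (sylS.quot nK.2)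
  obtain ⟨e⟩ := quot_equiv (K := pPrimeCoreOf p H) (sylS.le.trans nK.2)
    (by rw [inf_comm]; exact sylS.piGrp.inf_eq_bot (pcore_piGrp _ _))
  have nnR := (isog_narrow e).1 nnS
  have rR : ¬ RkLE p 2 (S /ₛ pPrimeCoreOf p H) := fun h => rS (by
    rw [← rkLE_map_top_iff (f := (S /ₛ pPrimeCoreOf p H).subtype.comp e.toMonoidHom)
      ((subtype_injective _).comp e.injective)]
    refine h.mono ?_
    rw [← map_map]
    exact map_subtype_le _)
  rw [eS] at nnR rR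
  have oddQ := odd_quot (pPrimeCoreOf p H) oddH
  have oddR := odd_of_le oddQ (pcore_le {p} _)
  have h0 := pcore_quot_pcore {p}ᶜ H
  obtain ⟨h1, h2⟩ := der1_complement_of_pGrp hp (pGrp_of_relIndex_cent (sol_quot _ solH) h0
    (der_normalIn _).1 (der1_norm_narrow hp (pcore_isPGroup hp _) oddR nnR (pcore_norm _ _) oddQ))
  refine ⟨h1, fun q hq hd => ?_, h2⟩
  by_cases hqp : q = p
  · exact hqp.le
  rw [← card_quot nK.2] at hd
  obtain ⟨x, hx, ox⟩ := exists_mem_orderOf_eq hq hd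
  have p'x : IsPiElt {p}ᶜ x := by
    rw [IsPiElt, ox]; exact (piNat_prime_iff hq).2 hqp
  have h3 := cent_sub_pcore (sol_quot _ solH) h0 ⟨pow_mem hx _,
    pow_pred_cent_of_narrow hp (pcore_isPGroup hp _) oddR nnR rR (pcore_norm _ _ hx) p'x⟩
  have h4 := orderOf_dvd_of_pow_eq_one (((pcore_pGrp p _).piElt h3).eq_one (p'x.pow _))
  rw [ox] at h4
  have := hp.two_le
  have := Nat.le_of_dvd (by omega) h4
  omega

theorem narrow_of_cent_abelem {p : ℕ} (hp : p.Prime) (hp2 : p ≠ 2) {R E : Subgroup G}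
    (pR : IsPGroup p R) (hE : E ≤ R) (abE : IsElementaryAbelian p E) (rC : RkLE p 2 (R ⊓ 𝒞(E))) :
    Narrow p R := by
  by_cases rR : RkLE p 2 R
  · exact narrow_of_rkLE hp rR
  have key : ∀ B : Subgroup G, B ≤ R → IsElementaryAbelian p B → E ≤ B → Nat.card B ≤ p ^ 2 :=
    fun B h1 h2 h3 => rC B (le_inf h1 ((abelian_iff_le_cent.1 h2.1).trans (cent_anti h3))) h2
  obtain ⟨n, hn⟩ := card_pow hp (abelem_pgroup abE)
  have h1 := key E hE abE le_rfl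
  rw [hn, pow_le_pow_iff hp] at h1
  obtain rfl | rfl | rfl : n = 0 ∨ n = 1 ∨ n = 2 := by omega
  · rw [card_eq_one.1 (hn.trans (pow_zero p)), cent_bot, inf_top_eq] at rC
    exact absurd rC rR
  · exact (narrow_centP hp hp2 pR rR).2 ⟨E, hE, hn.trans (pow_one p), rC⟩
  · exact (narrow_iff hp).2 fun _ => ⟨E, ⟨hE, abE, hn⟩, hE, abE, fun B h2 h3 h4 =>
      (eq_of_le_of_card_le h4 (hn ▸ key B h2 h3 h4)).symm⟩

/-- Theorem 5.7. -/
theorem der1_sub_Fitting_of_cent_abelem {p : ℕ} (hp : p.Prime) {H E : Subgroup G}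
    (oddH : Odd (Nat.card H)) (solH : Group.IsSolvable H) (hE : E ≤ fittingOf H)
    (abE : IsElementaryAbelian p E) (rC : rank (fittingOf H ⊓ 𝒞(E)) ≤ 2) :
    ⁅H, H⁆ ≤ fittingOf H := by
  refine le_fitting_of_cent_pcore solH (der_normalIn H) fun q hq x hx q'x => ?_
  have oddR := odd_of_le oddH (pcore_le {q} H)
  refine der_cent_of_narrow hq (pcore_isPGroup hq H) oddR ?_ (pcore_norm _ _) oddH hx q'x
  have r := rank_le_iff.1 rC q hq
  by_cases e : q = p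
  · subst e
    rcases ne_two_or_bot hq (pcore_isPGroup hq H) le_rfl oddR with hp2 | h
    · exact narrow_of_cent_abelem hq hp2 (pcore_isPGroup hq H)
        (le_pcore_of_le_fitting hE (abelem_pGrp hq abE)) abE
        (r.mono (inf_le_inf_right _ (pcore_le_fitting q H)))
    · exact narrow_of_rkLE hq (r.mono (h.le.trans bot_le))
  · exact narrow_of_rkLE hq (r.mono (le_inf (pcore_le_fitting q H)
      (sub_nilpotent_cent2 (fitting_nil H) (pcore_le_fitting q H) hE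
        ((pcore_pGrp q H).coprime_of_ne (abelem_pGrp hp abE) e))))

end CA.BG.P05
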