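/-
Bender-Glauberman, Section 5 (narrow p-groups): interface.
-/
import Cfsg.Agent.BG.P05b
import Cfsg.Agent.BG.I04

set_option autoImplicit false
set_option linter.unusedVariables false
set_option linter.unusedSectionVars false

namespace CA.BG

open Cfsg CA.FG

universe u v

variable {G : Type u} [Group G] [Finite G]

theorem narrowJ {p : ℕ} {R : Subgroup G} (x : G) : Narrow p (R :^ x) ↔ Narrow p R :=
  P05.narrowJ x

theorem injm_narrow {G' : Type v} [Group G'] [Finite G'] {p : ℕ} {R : Subgroup G} (f : G →* G')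
    (hf : Function.Injective f) : Narrow p (R.map f) ↔ Narrow p R :=
  P05.injm_narrow f hf

theorem isog_narrow {G' : Type v} [Group G'] [Finite G'] {p : ℕ} {R : Subgroup G} {R' : Subgroup G'}
    (e : R ≃* R') : Narrow p R ↔ Narrow p R' :=
  P05.isog_narrow e

/-- B & G, Lemma 5.1(a). -/
theorem rank3_SCN3 {p : ℕ} (hp : p.Prime) {R : Subgroup G} (pR : IsPGrp p R)
    (oddR : Odd (Nat.card R)) (rR : 2 < pRank p R) : ∃ B : Subgroup G, IsSCNAt 3 R B := by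
  obtain ⟨A, scnA, -, rA⟩ := P04.exists_SCN3 hp (P04.ne_two_of_odd hp (pR.isPGroup hp) oddR
    (P05.ne_bot_of_not_rkLE hp ((P04.lt_pRank_iff hp).1 rR)))
    (pR.isPGroup hp) ((P04.lt_pRank_iff hp).1 rR) (bot_normalIn R) (P04.abelem_bot p)
  exact ⟨A, scnA, (P04.lt_rank_iff_of_pgroup hp ((pR.isPGroup hp).to_le scnA.1)).2 rA⟩

/-- B & G, Lemma 5.1(b). -/
theorem normal_p2Elem_SCN3 {p : ℕ} (hp : p.Prime) {R E : Subgroup G} (pR : IsPGrp p R)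
    (oddR : Odd (Nat.card R)) (rR : 2 < pRank p R) (hE : IsPnElem p 2 E R) (nsER : E ⊲ R) :
    ∃ B : Subgroup G, IsSCNAt 3 R B ∧ E ≤ B := by
  obtain ⟨A, scnA, hEA, rA⟩ := P04.exists_SCN3 hp (P04.ne_two_of_odd hp (pR.isPGroup hp) oddR
    (P05.ne_bot_of_not_rkLE hp ((P04.lt_pRank_iff hp).1 rR)))
    (pR.isPGroup hp) ((P04.lt_pRank_iff hp).1 rR) nsER hE.2.1
  exact ⟨A, ⟨scnA, (P04.lt_rank_iff_of_pgroup hp ((pR.isPGroup hp).to_le scnA.1)).2 rA⟩, hEA⟩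

/-- B & G, Lemma 5.2, with `Z = Ω₁(Z(R))`, `W = Ω₁(Z₂(R))`, `T = C_R(W)`. -/
theorem Ohm1_ucn_p2maxElem {p : ℕ} (hp : p.Prime) {R E : Subgroup G} (pR : IsPGrp p R)
    (oddR : Odd (Nat.card R)) (rR : 2 < pRank p R) (hE : IsPnElem p 2 E R)
    (maxE : IsPMaxElem p E R) :
    ¬ E ≤ R ⊓ 𝒞(ohm1 p (ucnOf 2 R)) ∧ Nat.card (ohm1 p 𝒵(R)) = p ∧
      IsPnElem p 2 (ohm1 p (ucnOf 2 R)) R ∧ CharIn (R ⊓ 𝒞(ohm1 p (ucnOf 2 R))) R ∧
      (R ⊓ 𝒞(ohm1 p (ucnOf 2 R))).relIndex R = p :=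
  P05.ohm1_ucn_p2maxElem hp (P04.ne_two_of_odd hp (pR.isPGroup hp) oddR
    (P05.ne_bot_of_not_rkLE hp ((P04.lt_pRank_iff hp).1 rR)))
    (pR.isPGroup hp) ((P04.lt_pRank_iff hp).1 rR) hE maxE

/-- B & G, Theorem 5.3(d), with `T = C_R(Ω₁(Z₂(R)))`. -/
theorem narrow_cent_dprod {p : ℕ} (hp : p.Prime) {R S : Subgroup G} (pR : IsPGrp p R)
    (oddR : Odd (Nat.card R)) (rR : 2 < pRank p R) (nnR : Narrow p R) (oS : Nat.card S = p)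
    (sSR : S ≤ R) (rC : pRank p (R ⊓ 𝒞(S)) ≤ 2) :
    IsCyclic ↥(R ⊓ 𝒞(ohm1 p (ucnOf 2 R)) ⊓ 𝒞(S)) ∧ S ⊓ ⁅R, R⁆ = ⊥ ∧
      S ⊓ (R ⊓ 𝒞(ohm1 p (ucnOf 2 R))) = ⊥ ∧
      DProd S (R ⊓ 𝒞(ohm1 p (ucnOf 2 R)) ⊓ 𝒞(S)) (R ⊓ 𝒞(S)) :=
  P05.narrow_cent_dprod hp (P04.ne_two_of_odd hp (pR.isPGroup hp) oddR
    (P05.ne_bot_of_not_rkLE hp ((P04.lt_pRank_iff hp).1 rR)))
    (pR.isPGroup hp) ((P04.lt_pRank_iff hp).1 rR) oS sSR ((P04.pRank_le_iff hp).1 rC)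

/-- B & G, Corollary 5.4. -/
theorem narrow_centP {p : ℕ} (hp : p.Prime) {R : Subgroup G} (pR : IsPGrp p R)
    (oddR : Odd (Nat.card R)) (rR : 2 < pRank p R) :
    Narrow p R ↔ ∃ S : Subgroup G, S ≤ R ∧ Nat.card S = p ∧ pRank p (R ⊓ 𝒞(S)) ≤ 2 := by
  simp only [P04.pRank_le_iff hp]
  exact P05.narrow_centP hp (P04.ne_two_of_odd hp (pR.isPGroup hp) oddR
    (P05.ne_bot_of_not_rkLE hp ((P04.lt_pRank_iff hp).1 rR)))
    (pR.isPGroup hp) ((P04.lt_pRank_iff hp).1 rR)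

/-- B & G, Theorem 5.3. -/
theorem narrow_structureP {p : ℕ} (hp : p.Prime) {R : Subgroup G} (pR : IsPGrp p R)
    (oddR : Odd (Nat.card R)) (rR : 2 < pRank p R) :
    Narrow p R ↔ ∃ S C : Subgroup G, S ≤ R ∧ C ≤ R ∧ Nat.card S = p ∧ IsCyclic C ∧
      DProd S C (R ⊓ 𝒞(S)) :=
  P05.narrow_structureP hp (P04.ne_two_of_odd hp (pR.isPGroup hp) oddR
    (P05.ne_bot_of_not_rkLE hp ((P04.lt_pRank_iff hp).1 rR)))
    (pR.isPGroup hp) ((P04.lt_pRank_iff hp).1 rR)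

/-- Bridge to the definition used in the statements. -/
theorem narrow_iff_isNarrow {p : ℕ} (hp : p.Prime) {R : Subgroup G} (pR : IsPGrp p R)
    (oddR : Odd (Nat.card R)) : Narrow p R ↔ IsNarrow p R := by
  rcases P04.ne_two_or_bot hp (pR.isPGroup hp) le_rfl oddR with hp2 | rfl
  · exact P05.narrow_iff_isNarrow hp hp2 (pR.isPGroup hp)
  · have h : P04.RkLE p 2 (⊥ : Subgroup G) := P04.rkLE_of_not_dvd hp (by simpa using hp.one_lt.ne')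
    exact iff_of_true (P05.narrow_of_rkLE hp h) (Or.inl (P04.rkLE_iff_pRankLE.1 h))

/-- B & G, Theorem 5.5 (a), (b), for automorphism groups. -/
theorem Aut_narrow {p : ℕ} (hp : p.Prime) {R : Subgroup G} (pR : IsPGrp p R)
    (oddR : Odd (Nat.card R)) (nnR : Narrow p R) {A : Subgroup (MulAut R)}
    (solA : Group.IsSolvable A) (oddA : Odd (Nat.card A)) :
    PiNat {p}ᶜ ((pCoreOf p A).relIndex A) ∧ ⁅A, A⁆ ≤ pCoreOf p A ∧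
      (2 < rank R → ∀ x ∈ A, IsPiElt {p}ᶜ x → orderOf x ∣ p - 1) :=
  P05.Aut_narrow hp (pR.isPGroup hp) oddR nnR oddA

/-- B & G, Theorem 5.5 (a), (b), for internal action, with `Ā = A / C(R)`. -/
theorem norm_narrow {p : ℕ} (hp : p.Prime) {R A : Subgroup G} (pR : IsPGrp p R)
    (oddR : Odd (Nat.card R)) (nnR : Narrow p R) (nRA : A ≤ 𝒩(R))
    (solA : Group.IsSolvable A) (oddA : Odd (Nat.card A)) :
    PiNat {p}ᶜ ((pCoreOf p (A /ₛ 𝒞(R))).relIndex (A /ₛ 𝒞(R))) ∧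
      ⁅A /ₛ 𝒞(R), A /ₛ 𝒞(R)⁆ ≤ pCoreOf p (A /ₛ 𝒞(R)) ∧
      PiNat {p} ((𝒞(R)).relIndex ⁅A, A⁆) ∧
      (2 < rank R → ∀ x ∈ A, IsPiElt {p}ᶜ x → x ^ (p - 1) ∈ 𝒞(R)) :=
  P05.norm_narrow hp (pR.isPGroup hp) oddR nnR nRA oddA

/-- B & G, Theorem 5.6 (a), (c), (e). -/
theorem narrow_der1_complement_max_pdiv {p : ℕ} (hp : p.Prime) {H S : Subgroup G}
    (oddH : Odd (Nat.card H)) (solH : Group.IsSolvable H) (sylS : IsSylowOf p S H)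
    (nnS : Narrow p S) (pl1 : 2 < rank S → PLengthLE p 1 H) :
    IsPiHallOf {p}ᶜ (pPrimeCoreOf p ⁅H, H⁆) ⁅H, H⁆ ∧
      (∀ q : ℕ, q.Prime → q ∣ (pPrimeCoreOf p H).relIndex H → q ≤ p) ∧
      ⁅H, H⁆ ≤ pPrimePCoreOf p H ∧ PiNat {p}ᶜ ((pPrimePCoreOf p H).relIndex H) :=
  P05.narrow_der1_complement_max_pdiv hp oddH solH sylS nnS fun h =>
    pl1 ((P04.lt_rank_iff_of_pgroup hp (sylS.piGrp.isPGroup hp)).2 h)

end CA.BG
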