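/-
B & G Appendix A: pairs of quadratic elements, and auxiliary lemmas for section 6.
-/
import Cfsg.Agent.BG.I01
import Cfsg.Agent.BG.I02
import Cfsg.Agent.FG.CompCore

set_option autoImplicit false
set_option linter.unusedSectionVars false

namespace CA.BG.P06

open Subgroup Cfsg CA.FG
open scoped commutatorElement

universe u v

variable {G : Type u} [Group G] {G' : Type v} [Group G'] {p q : ℕ} {π : Set ℕ}

theorem quadratic_pair_linear {V : Type v} [AddCommGroup V] [Finite V] {X : Type u} [Group X] [Finite X]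
    (ρ : X →* AddMonoid.End V) (inj : Function.Injective ρ) (hp : p.Prime) (hV : ∀ v : V, p • v = 0)
    (x y : X) (hx : (ρ x - 1) * (ρ x - 1) = 0) (hy : (ρ y - 1) * (ρ y - 1) = 0)
    (irr : ∀ W : AddSubgroup V, (∀ g ∈ closure {x, y}, ∀ w ∈ W, ρ g w ∈ W) → W = ⊥ ∨ W = ⊤)
    (odd : Odd (Nat.card (closure {x, y} : Subgroup X))) :
    IsPGrp p ⁅(closure {x, y} : Subgroup X), closure {x, y}⁆ := by
  set L : Subgroup X := closure {x, y} with hL
  rcases subsingleton_or_nontrivial V with hs | hn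
  · have : L = ⊥ := (eq_bot_iff_forall _).2 fun g _ => inj (AddMonoidHom.ext fun v => Subsingleton.elim _ _)
    rw [this, commutator_bot_left]; exact piGrp_bot _
  set A := ρ x - 1 with hA
  set B := ρ y - 1 with hB
  have hT : ∀ T : Subring (AddMonoid.End V), A ∈ T → B ∈ T → ∀ g ∈ L, ρ g ∈ T := by
    intro T h1 h2 g hg
    have h3 : ∀ z : X, (ρ z - 1) * (ρ z - 1) = 0 → ρ z - 1 ∈ T → ρ z ∈ T ∧ ρ z⁻¹ ∈ T := by
      intro z hz h
      have h4 : ρ z ∈ T := by simpa using T.add_mem h T.one_mem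
      refine ⟨h4, ?_⟩
      have h5 : ρ z⁻¹ * ρ z = 1 := by rw [← map_mul, inv_mul_cancel, map_one]
      have h6 : ρ z * (1 - (ρ z - 1)) = 1 := by
        calc ρ z * (1 - (ρ z - 1)) = 1 - (ρ z - 1) * (ρ z - 1) := by noncomm_ring
          _ = 1 := by rw [hz, sub_zero]
      rw [left_inv_eq_right_inv h5 h6]
      exact T.sub_mem T.one_mem h
    induction hg using closure_induction'' with
    | mem z hz => rcases hz with rfl | rfl; exacts [(h3 _ hx h1).1, (h3 _ hy h2).1]
    | inv_mem z hz => rcases hz with rfl | rfl; exacts [(h3 _ hx h1).2, (h3 _ hy h2).2]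
    | one => rw [map_one]; exact T.one_mem
    | mul a b _ _ ha hb => rw [map_mul]; exact T.mul_mem ha hb
  let D : Subring (AddMonoid.End V) := Subring.centralizer (ρ '' L)
  have hD : ∀ (d : D) (g : X), g ∈ L → ρ g * d = d * ρ g := fun d g hg => d.2 _ ⟨g, hg, rfl⟩
  have hxL : x ∈ L := subset_closure (by simp)
  have hyL : y ∈ L := subset_closure (by simp)
  have hDA : ∀ d : D, A * d = d * A := fun d => by rw [hA, sub_mul, mul_sub, hD d x hxL, one_mul, mul_one]
  have hDB : ∀ d : D, B * d = d * B := fun d => by rw [hB, sub_mul, mul_sub, hD d y hyL, one_mul, mul_one]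
  have hC : A * B + B * A ∈ D := by
    rintro _ ⟨g, hg, rfl⟩
    refine (hT (Subring.centralizer {A * B + B * A}) ?_ ?_ g hg _ rfl).symm
    · rintro _ rfl
      rw [add_mul, mul_add, mul_assoc B A A, ← mul_assoc A A B, hx, mul_assoc]; simp
    · rintro _ rfl
      rw [add_mul, mul_add, mul_assoc A B B, ← mul_assoc B B A, hy, mul_assoc]; simp
  have : Finite (AddMonoid.End V) := DFunLike.finite (V →+ V)
  have : Nontrivial (AddMonoid.End V) := by
    obtain ⟨v, hv⟩ := exists_ne (0 : V)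
    exact ⟨1, 0, fun h => hv (DFunLike.congr_fun h v)⟩
  have : NoZeroDivisors D := ⟨fun {a b} hab => by
    rcases irr (a : V →+ V).ker (fun g hg w hw => by
      have := DFunLike.congr_fun (hD a g hg) w
      change ρ g (a.1 w) = a.1 (ρ g w) at this
      change a.1 (ρ g w) = 0
      rw [← this, show a.1 w = 0 from hw, map_zero]) with h | h
    · refine Or.inr (Subtype.ext (AddMonoidHom.ext fun v => ?_))
      have h1 : b.1 v ∈ (a : V →+ V).ker := DFunLike.congr_fun (congrArg Subtype.val hab) v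
      rwa [h] at h1
    · refine Or.inl (Subtype.ext (AddMonoidHom.ext fun v => ?_))
      have h1 : v ∈ (a : V →+ V).ker := h ▸ AddSubgroup.mem_top v
      exact h1⟩
  have : IsDomain D := NoZeroDivisors.to_isDomain D
  let : Field D := (Finite.isDomain_to_isField D).toField
  let ρ' : L →* (V →ₗ[D] V) :=
    { toFun := fun g =>
        { toFun := ρ g
          map_add' := map_add _
          map_smul' := fun d v => DFunLike.congr_fun (hD d g g.2) v }
      map_one' := LinearMap.ext fun v => by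
        change ρ 1 v = v
        rw [map_one]; rfl
      map_mul' := fun a b => LinearMap.ext fun v => by
        change ρ (a * b) v = ρ a (ρ b v)
        rw [map_mul]; rfl }
  have inj' : Function.Injective ρ' := fun a b h =>
    Subtype.ext (inj (AddMonoidHom.ext fun v => DFunLike.congr_fun h v))
  obtain ⟨v, hv0, hAv⟩ : ∃ v : V, v ≠ 0 ∧ A v = 0 := by
    obtain ⟨w, hw⟩ := exists_ne (0 : V)
    by_cases h : A w = 0
    · exact ⟨w, hw, h⟩
    · exact ⟨A w, h, DFunLike.congr_fun hx w⟩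
  let U : Submodule D V := Submodule.span D {v, B v}
  have hvU : v ∈ U := Submodule.subset_span (by simp)
  have hBU : B v ∈ U := Submodule.subset_span (by simp)
  let T : Subring (AddMonoid.End V) :=
    { carrier := {f | ∀ u ∈ U, f u ∈ U}
      mul_mem' := fun ha hb u hu => ha _ (hb u hu)
      one_mem' := fun u hu => hu
      add_mem' := fun ha hb u hu => U.add_mem (ha u hu) (hb u hu)
      zero_mem' := fun _ _ => U.zero_mem
      neg_mem' := fun ha u hu => U.neg_mem (ha u hu) }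
  have hU : U = ⊤ := by
    have hsm : ∀ F : AddMonoid.End V, (∀ d : D, F * d = d * F) → ∀ (d : D) (w : V),
        F (d • w) = d • F w := fun F h d w => DFunLike.congr_fun (h d) w
    refine (irr U.toAddSubgroup (hT T (fun u hu => ?_) (fun u hu => ?_))).elim (fun h => ?_) fun h => ?_
    rotate_left 2
    · have : v ∈ U.toAddSubgroup := hvU
      rw [h] at this
      exact absurd this hv0
    · exact eq_top_iff.2 fun w _ => show w ∈ U.toAddSubgroup from h ▸ AddSubgroup.mem_top w
    · obtain ⟨c, d, rfl⟩ := Submodule.mem_span_pair.1 hu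
      rw [map_add, hsm A hDA, hsm A hDA, hAv, smul_zero, zero_add]
      have : A (B v) = (⟨A * B + B * A, hC⟩ : D) • v := by
        change A (B v) = A (B v) + B (A v)
        rw [hAv, map_zero, add_zero]
      exact U.smul_mem _ (this ▸ U.smul_mem _ hvU)
    · obtain ⟨c, d, rfl⟩ := Submodule.mem_span_pair.1 hu
      rw [map_add, hsm B hDB, hsm B hDB, show B (B v) = 0 from DFunLike.congr_fun hy v, smul_zero,
        add_zero]
      exact U.smul_mem _ hBU
  have hr : Module.finrank D V ≤ 2 := by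
    have := finrank_le_of_span_eq_top (R := D) (v := ![v, B v]) (by
      rw [Matrix.range_cons, Matrix.range_cons_empty]; exact hU)
    simpa using this
  rw [← map_subtype_commutator, IsPGrp, piGrp_map_iff_of_inj L.subtype_injective]
  rcases hr.lt_or_eq with h | h
  · obtain ⟨w, hw⟩ := finrank_le_one_iff.1 (Nat.lt_succ_iff.1 h)
    have : commutator L = ⊥ := by
      refine der_eq_bot_iff.2 (abelian_iff_forall.2 fun a _ b _ => inj' (LinearMap.ext fun u => ?_))
      obtain ⟨c, rfl⟩ := hw u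
      obtain ⟨ca, ha⟩ := hw (ρ' a w)
      obtain ⟨cb, hb⟩ := hw (ρ' b w)
      simp only [map_mul, Module.End.mul_apply, map_smul, ← ha, ← hb, smul_smul, mul_comm]
    rw [this]; exact piGrp_bot _
  · intro q hq hd
    have h1 := der1_odd_GL2_charf h ρ' inj' odd q hq hd
    have h2 : q • v = 0 := by rw [← Nat.cast_smul_eq_nsmul D, h1, zero_smul]
    by_contra hne
    have h3 := Nat.eq_one_of_dvd_coprimes ((Nat.coprime_primes hq hp).2 hne)
      (addOrderOf_dvd_of_nsmul_eq_zero h2) (addOrderOf_dvd_of_nsmul_eq_zero (hV v))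
    exact hv0 (AddMonoid.addOrderOf_eq_one_iff.1 h3)

theorem closure_pair (x y : G) : closure {x, y} = zpowers x ⊔ zpowers y := by
  rw [zpowers_eq_closure, zpowers_eq_closure, ← Subgroup.closure_union]; rfl

theorem piGrp_closure_pair_of_der [Finite G] {x y : G} (hx : IsPiElt π x) (hy : IsPiElt π y)
    (h : IsPiGrp π ⁅(closure {x, y} : Subgroup G), closure {x, y}⁆) : IsPiGrp π (closure {x, y}) := by
  have nD := (der_normalIn (closure {x, y})).2
  refine IsPiGrp.of_quot nD ?_ h
  have cQ := quot_der_abelian (closure {x, y})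
  generalize (⁅(closure {x, y} : Subgroup G), closure {x, y}⁆) = D at *
  rw [closure_pair] at *
  have h1 := quot_sup (le_sup_left.trans nD) (le_sup_right.trans nD)
  rw [h1] at cQ ⊢
  exact ((piGrp_zpowers_iff.2 hx).quot D).sup ((piGrp_zpowers_iff.2 hy).quot D)
    (Or.inl (le_sup_left.trans (norm_of_le_abelian cQ le_sup_right)))

theorem piNat_relIndex_of_forall_le [Finite G] {K L : Subgroup G}
    (h : ∀ Q, Q ≤ L → IsPiGrp πᶜ Q → Q ≤ K) : PiNat π (K.relIndex L) := by
  intro q hq hd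
  by_contra hπ
  obtain ⟨Q, sylQ⟩ := sylow_exists hq L
  exact IsSylowOf.not_dvd_index sylQ hq
    (hd.trans (relIndex_dvd_of_le_left L (h Q sylQ.le (IsPGrp.piGrp sylQ.piGrp hπ))))

open scoped IsMulCommutative in
theorem quadratic_pair_minNormal [Finite G] (hp : p.Prime) {E : Subgroup G} {x y : G}
    (abE : IsElementaryAbelian p E) (minE : MinNormal E (closure {x, y})) (px : IsPiElt {p} x)
    (py : IsPiElt {p} y) (hx : ⁅⁅E, zpowers x⁆, zpowers x⁆ = ⊥) (hy : ⁅⁅E, zpowers y⁆, zpowers y⁆ = ⊥)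
    (odd : Odd (Nat.card (closure {x, y} : Subgroup G))) :
    PiNat {p} ((𝒞(E)).relIndex (closure {x, y})) := by
  have cE := abE.1
  have nE := minE.norm
  have hxN : x ∈ 𝒩(E) := nE (subset_closure (by simp))
  have hyN : y ∈ 𝒩(E) := nE (subset_closure (by simp))
  let f := E.normalizerMonoidHom
  let ρ : MulAut E →* AddMonoid.End (Additive E) :=
    { toFun := fun a => MonoidHom.toAdditive a.toMonoidHom
      map_one' := rfl
      map_mul' := fun a b => rfl }
  have inj : Function.Injective ρ := fun a b h => MulEquiv.ext fun v =>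
    congrArg Additive.toMul (DFunLike.congr_fun h (Additive.ofMul v))
  have e : img f (closure {x, y}) = closure {f ⟨x, hxN⟩, f ⟨y, hyN⟩} := by
    rw [closure_pair, closure_pair, img_sup (zpowers_le.2 hxN) (zpowers_le.2 hyN),
      ← img_zpowers, ← img_zpowers]
  have hq : ∀ z : 𝒩(E), ⁅⁅E, zpowers (z : G)⁆, zpowers (z : G)⁆ = ⊥ →
      (ρ (f z) - 1) * (ρ (f z) - 1) = 0 := by
    intro z hz
    refine AddMonoidHom.ext fun v => ?_
    set w := (ρ (f z) - 1) v with hw
    have h1 : ((w.toMul : E) : G) ∈ ⁅E, zpowers (z : G)⁆ := by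
      rw [commutator_comm]
      have := commutator_mem_commutator (mem_zpowers (z : G)) v.toMul.2
      rw [commutatorElement_def] at this
      convert this using 1
      change (z : G) * v.toMul * (z : G)⁻¹ / v.toMul = _
      rw [div_eq_mul_inv]
    change ρ (f z) w - w = 0
    rw [sub_eq_zero]
    refine Additive.toMul.injective (Subtype.ext ?_)
    change (z : G) * w.toMul * (z : G)⁻¹ = w.toMul
    rw [← comm_of_le_cent (comm_eq_bot_iff.1 hz) h1 (mem_zpowers _), mul_inv_cancel_right]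
  have h1 := quadratic_pair_linear ρ inj hp
    (fun v => Additive.toMul.injective (Subtype.ext (abE.2 _ v.toMul.2))) _ _
    (hq ⟨x, hxN⟩ hx) (hq ⟨y, hyN⟩ hy) (fun W hW => by
      rcases minE.eq_bot_or_eq (W := (Subgroup.toAddSubgroup.symm W).map E.subtype) (map_subtype_le _)
        (fun g hg => mem_norm_of_forall (by
          rintro _ ⟨w, hw, rfl⟩
          exact ⟨_, hW _ (e ▸ mem_img_of_mem (nE hg) hg) _ hw, rfl⟩)) with h | h
      · left
        rw [map_eq_bot_iff_of_injective _ E.subtype_injective] at h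
        exact Subgroup.toAddSubgroup.symm.injective (by rw [h, OrderIso.map_bot])
      · right
        refine eq_top_iff.2 fun v _ => ?_
        exact (mem_map_iff_mem E.subtype_injective).1 (h.ge v.toMul.2))
    (e ▸ odd_img _ odd)
  have h2 := piGrp_closure_pair_of_der
    (IsPiElt.map (x := (⟨x, hxN⟩ : 𝒩(E))) (by rwa [IsPiElt, ← Subgroup.orderOf_coe]) f)
    (IsPiElt.map (x := (⟨y, hyN⟩ : 𝒩(E))) (by rwa [IsPiElt, ← Subgroup.orderOf_coe]) f) h1
  rwa [← e, IsPiGrp, card_img_of_le nE, pre_def, MonoidHom.comap_bot, normalizerMonoidHom_ker,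
    map_subtype_subgroupOf (cent_le_norm E)] at h2

theorem quadratic_pair_cent [Finite G] (hp : p.Prime) {E : Subgroup G} {x y : G}
    (pE : IsPGrp p E) (nE : closure {x, y} ≤ 𝒩(E)) (px : IsPiElt {p} x)
    (py : IsPiElt {p} y) (hx : ⁅⁅E, zpowers x⁆, zpowers x⁆ = ⊥) (hy : ⁅⁅E, zpowers y⁆, zpowers y⁆ = ⊥)
    (odd : Odd (Nat.card (closure {x, y} : Subgroup G))) {Q : Subgroup G} (sQ : Q ≤ closure {x, y})
    (p'Q : IsPiGrp {p}ᶜ Q) : Q ≤ 𝒞(E) := by
  induction hn : Nat.card E using Nat.strong_induction_on generalizing G with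
  | _ n ih =>
  subst hn
  by_cases h0 : E = ⊥
  · rw [h0, cent_bot]; exact le_top
  obtain ⟨V, sVZ, minV⟩ := minNormal_exists (center_nil_ne_bot pE.nil h0) (norm_inf nE (norm_cent nE))
  have sVE := sVZ.trans inf_le_left
  have pV := pE.of_le sVE
  have nVE : E ≤ 𝒩(V) := norm_of_cent' (sVZ.trans inf_le_right)
  have abV : IsElementaryAbelian p V := by
    rcases minV.eq_bot_or_eq (ohm1_le p V) (norm_ohm1 p minV.norm) with h | h
    · exact absurd h (ohm1_ne_bot pV minV.ne_bot)
    · exact h ▸ ohm1_abelem p (abelian_of_le (abelian_inf_cent E) sVZ)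
  have h1 := quadratic_pair_minNormal hp abV minV px py
    (le_bot_iff.1 ((commutator_mono (commutator_mono sVE le_rfl) le_rfl).trans hx.le))
    (le_bot_iff.1 ((commutator_mono (commutator_mono sVE le_rfl) le_rfl).trans hy.le)) odd
  have cQV : Q ≤ 𝒞(V) :=
    le_of_piGrp_of_relIndex sQ (norm_cent minV.norm) p'Q (piNat_compl_compl.2 h1)
  have hxN : x ∈ 𝒩(V) := minV.norm (subset_closure (by simp))
  have hyN : y ∈ 𝒩(V) := minV.norm (subset_closure (by simp))
  have e : closure {x, y} /ₛ V = closure {coset V ⟨x, hxN⟩, coset V ⟨y, hyN⟩} := by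
    rw [closure_pair, closure_pair, quot_sup (zpowers_le.2 hxN) (zpowers_le.2 hyN),
      ← quot_zpowers, ← quot_zpowers]
  have hq : ∀ z : 𝒩(V), (z : G) ∈ 𝒩(E) → ⁅⁅E, zpowers (z : G)⁆, zpowers (z : G)⁆ = ⊥ →
      ⁅⁅E /ₛ V, zpowers (coset V z)⁆, zpowers (coset V z)⁆ = ⊥ := by
    intro z hzE hz
    rw [← quot_zpowers, ← quot_comm nVE (zpowers_le.2 z.2),
      ← quot_comm ((comm_le_left (zpowers_le.2 hzE)).trans nVE) (zpowers_le.2 z.2), hz, bot_quot]
  have h2 := ih _ (card_quot_lt_of_normal ⟨sVE, nVE⟩ minV.ne_bot) (pE.quot V) (e ▸ quot_norm V nE)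
    (IsPiElt.map (x := (⟨x, hxN⟩ : 𝒩(V))) (by rwa [IsPiElt, ← Subgroup.orderOf_coe]) _)
    (IsPiElt.map (x := (⟨y, hyN⟩ : 𝒩(V))) (by rwa [IsPiElt, ← Subgroup.orderOf_coe]) _)
    (hq ⟨x, hxN⟩ (nE (subset_closure (by simp))) hx) (hq ⟨y, hyN⟩ (nE (subset_closure (by simp))) hy)
    (e ▸ odd_quot V odd) (e ▸ quot_mono V sQ) (p'Q.quot V) rfl
  exact stable_factor_cent' cQV ((quot_cent_iff' (sQ.trans minV.norm) nVE).1 h2) (pV.coprime p'Q)

/-- Two quadratic `p`-elements generating a group of odd order act as a `p`-group. -/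
theorem quadratic_pair [Finite G] (hp : p.Prime) {E : Subgroup G} {x y : G}
    (pE : IsPGrp p E) (nE : closure {x, y} ≤ 𝒩(E)) (px : IsPiElt {p} x)
    (py : IsPiElt {p} y) (hx : ⁅⁅E, zpowers x⁆, zpowers x⁆ = ⊥) (hy : ⁅⁅E, zpowers y⁆, zpowers y⁆ = ⊥)
    (odd : Odd (Nat.card (closure {x, y} : Subgroup G))) :
    PiNat {p} ((𝒞(E)).relIndex (closure {x, y})) :=
  piNat_relIndex_of_forall_le fun _ => quadratic_pair_cent hp pE nE px py hx hy odd

/-- Baer-Suzuki, ambient form. -/
theorem baer_suzuki_of [Finite G] (hp : p.Prime) {M : Subgroup G} {K : Set G} (hKM : ∀ x ∈ K, x ∈ M)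
    (hK : ∀ g ∈ M, ∀ x ∈ K, g * x * g⁻¹ ∈ K) (h2 : ∀ x ∈ K, ∀ y ∈ K, IsPGrp p (closure {x, y})) :
    ∀ x ∈ K, x ∈ pCoreOf p M := by
  intro x hx
  rw [← pCore_map_subtype hp]
  refine ⟨⟨x, hKM x hx⟩, Comp.baer_suzuki hp (M.subtype ⁻¹' K) (fun g z hz => hK g g.2 z hz)
    (fun a ha b hb => ?_) hx, rfl⟩
  rw [← pGrp_iff_isPGroup hp, IsPGrp, ← piGrp_map_iff_of_inj M.subtype_injective,
    MonoidHom.map_closure, Set.image_pair]
  exact h2 _ ha _ hb

/-! ### restricting a partial homomorphism to a subgroup on which it is injective -/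

theorem img_eq_map_comp {D : Subgroup G} (f : D →* G') {S X : Subgroup G} (hS : S ≤ D) (hX : X ≤ S) :
    img f X = (X.subgroupOf S).map (f.comp (inclusion hS)) := by
  ext y
  rw [mem_img]
  exact ⟨fun ⟨x, hx, e⟩ => ⟨⟨x, hX hx⟩, hx, e⟩, fun ⟨x, hx, e⟩ => ⟨inclusion hS x, hx, e⟩⟩

theorem coset_comp_injective {K S : Subgroup G} (hS : S ≤ 𝒩(K)) (h : K ⊓ S = ⊥) :
    Function.Injective ((coset K).comp (inclusion hS)) := by
  rw [injective_iff_map_eq_one]
  intro x hx
  have : (x : G) ∈ K ⊓ S := ⟨coset_eq_one_iff.1 hx, x.2⟩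
  rw [h] at this
  exact Subtype.ext this

theorem pmaxElem_quot_iff {K S E : Subgroup G} (hS : S ≤ 𝒩(K)) (h : K ⊓ S = ⊥) (hE : E ≤ S) :
    IsPMaxElem p (E /ₛ K) (S /ₛ K) ↔ IsPMaxElem p E S := by
  rw [quot, quot, img_eq_map_comp _ hS hE, img_eq_map_comp _ hS le_rfl,
    pmaxElem_map_iff_of_inj (coset_comp_injective hS h),
    ← pmaxElem_map_iff_of_inj S.subtype_injective, map_subtype_subgroupOf hE,
    map_subtype_subgroupOf le_rfl]

theorem eq_of_sol_of_le_der_sup [Finite G] {R K : Subgroup G} (solK : Group.IsSolvable K) (nsR : R ⊲ K)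
    (h : K ≤ ⁅K, K⁆ ⊔ R) : R = K := by
  by_contra hne
  have h0 : K /ₛ R ≠ ⊥ := fun e => hne (le_antisymm nsR.1 ((quot_eq_bot_iff nsR.2).1 e))
  refine (der_lt_of_sol (sol_quot R solK) h0).not_ge ?_
  rw [← quot_comm nsR.2 nsR.2, quot_le_quot_iff nsR.2 ((der_le K).trans nsR.2), sup_comm]
  exact h

end CA.BG.P06
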