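/-
B & G Appendix B: elementary properties of the Puig series.
-/
import Cfsg.Agent.BG.P06a

set_option autoImplicit false
set_option linter.unusedSectionVars false

namespace CA.BG.P06

open Subgroup Cfsg CA.FG
open scoped commutatorElement

universe u v

variable {G : Type u} [Group G] {G' : Type v} [Group G'] {p : ℕ} {H K X Y A P : Subgroup G}

theorem le_puigSucc (h1 : A ≤ H) (h2 : IsMulCommutative A) (h3 : X ≤ 𝒩(A)) : A ≤ puigSucc H X :=
  le_sSup ⟨h1, h2, h3⟩

theorem puigSucc_le_iff :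
    puigSucc H X ≤ K ↔ ∀ A, A ≤ H → IsMulCommutative A → X ≤ 𝒩(A) → A ≤ K :=
  sSup_le_iff.trans ⟨fun h A h1 h2 h3 => h A ⟨h1, h2, h3⟩, fun h A hA => h A hA.1 hA.2.1 hA.2.2⟩

theorem puigSucc_le (H X : Subgroup G) : puigSucc H X ≤ H := puigSucc_le_iff.2 fun _ h _ _ => h

theorem puigSucc_mono (hH : H ≤ K) (hX : Y ≤ X) : puigSucc H X ≤ puigSucc K Y :=
  puigSucc_le_iff.2 fun _ h1 h2 h3 => le_puigSucc (h1.trans hH) h2 (hX.trans h3)

theorem puigSucc_restrict (hK : K ≤ H) (h : puigSucc H X ≤ K) : puigSucc K X = puigSucc H X :=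
  le_antisymm (puigSucc_mono hK le_rfl) (puigSucc_le_iff.2 fun _ h1 h2 h3 =>
    le_puigSucc ((le_puigSucc h1 h2 h3).trans h) h2 h3)

theorem puigSucc_map_of_inj (H X : Subgroup G) {f : G →* G'} (hf : Function.Injective f) :
    (puigSucc H X).map f = puigSucc (H.map f) (X.map f) := by
  refine le_antisymm (map_le_iff_le_comap.2 (puigSucc_le_iff.2 fun A h1 h2 h3 =>
    map_le_iff_le_comap.1 (le_puigSucc (map_mono h1) (abelian_map f h2) (map_norm f h3))))
    (puigSucc_le_iff.2 fun A h1 h2 h3 => ?_)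
  have e : (A.comap f).map f = A := map_comap_eq_self (h1.trans (map_le_range f H))
  rw [← e] at h1 h2 h3 ⊢
  exact map_mono (le_puigSucc ((map_le_map_iff_of_injective hf).1 h1) (abelian_of_map_inj hf h2)
    ((map_norm_iff_of_inj hf).1 h3))

theorem puigAt_zero (H : Subgroup G) : puigAt 0 H = ⊥ := rfl

theorem puigAt_succ (n : ℕ) (H : Subgroup G) : puigAt (n + 1) H = puigSucc H (puigAt n H) := rfl

theorem puigAt_map_of_inj (n : ℕ) (H : Subgroup G) {f : G →* G'} (hf : Function.Injective f) :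
    (puigAt n H).map f = puigAt n (H.map f) := by
  induction n with
  | zero => exact Subgroup.map_bot f
  | succ n ih => rw [puigAt_succ, puigAt_succ, puigSucc_map_of_inj _ _ hf, ih]

theorem puigAt_top (n : ℕ) : puigAt n (⊤ : Subgroup G) = puigSeq G n := by
  induction n with
  | zero => rfl
  | succ n ih =>
    rw [puigAt_succ, ih]
    exact congrArg sSup (Set.ext fun A => ⟨fun h => h.2, fun h => ⟨le_top, h⟩⟩)

theorem puigAt_eq_map (n : ℕ) (H : Subgroup G) : puigAt n H = (puigSeq H n).map H.subtype := by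
  rw [← puigAt_top, puigAt_map_of_inj _ _ H.subtype_injective, map_subtype_top]

theorem puigOf_eq (H : Subgroup G) : puigOf H = ⨅ n, puigAt (2 * n + 1) H :=
  (Subgroup.map_iInf H.subtype H.subtype_injective _).trans (iInf_congr fun _ => (puigAt_eq_map _ H).symm)

theorem puigInfOf_eq (H : Subgroup G) : puigInfOf H = ⨆ n, puigAt (2 * n) H :=
  (Subgroup.map_iSup H.subtype _).trans (iSup_congr fun _ => (puigAt_eq_map _ H).symm)

theorem puigAt_even_mono (H : Subgroup G) : Monotone fun n => puigAt (2 * n) H := by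
  refine monotone_nat_of_le_succ fun n => ?_
  induction n with
  | zero => exact bot_le
  | succ n ih => exact puigSucc_mono le_rfl (puigSucc_mono le_rfl ih)

theorem puigAt_even_le_odd (n : ℕ) (H : Subgroup G) : puigAt (2 * n) H ≤ puigAt (2 * n + 1) H := by
  induction n with
  | zero => exact bot_le
  | succ n ih => exact puigSucc_mono le_rfl (puigSucc_mono le_rfl ih)

theorem puigAt_even_le (n : ℕ) (H : Subgroup G) : puigAt (2 * n) H ≤ puigInfOf H :=
  (le_iSup (fun n => puigAt (2 * n) H) n).trans (puigInfOf_eq H).ge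

theorem puigInfOf_le_iff : puigInfOf H ≤ K ↔ ∀ n, puigAt (2 * n) H ≤ K := by
  rw [puigInfOf_eq, iSup_le_iff]

variable [Finite G]

theorem exists_puigAt_eq (H : Subgroup G) :
    ∃ k, puigAt (2 * k) H = puigInfOf H ∧ puigAt (2 * k + 1) H = puigOf H ∧
      puigAt (2 * k + 2) H = puigInfOf H := by
  obtain ⟨k, hk⟩ := WellFoundedGT.monotone_chain_condition ⟨_, puigAt_even_mono H⟩
  have h1 : ∀ n, puigAt (2 * n) H ≤ puigAt (2 * k) H := fun n =>
    (le_total n k).elim (fun h => puigAt_even_mono H h) fun h => (hk n h).ge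
  have h2 : puigAt (2 * k) H = puigInfOf H :=
    le_antisymm (puigAt_even_le k H) (puigInfOf_le_iff.2 h1)
  refine ⟨k, h2, ?_, (hk (k + 1) k.le_succ).symm.trans h2⟩
  rw [puigOf_eq]
  exact le_antisymm (le_iInf fun n => puigSucc_mono le_rfl (h1 n))
    (iInf_le (fun n => puigAt (2 * n + 1) H) k)

theorem Puig_def (H : Subgroup G) : puigSucc H (puigInfOf H) = puigOf H := by
  obtain ⟨k, h1, h2, -⟩ := exists_puigAt_eq H
  rw [← h1, ← h2]; rfl

theorem Puig_inf_def (H : Subgroup G) : puigSucc H (puigOf H) = puigInfOf H := by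
  obtain ⟨k, -, h2, h3⟩ := exists_puigAt_eq H
  rw [← h3, ← h2]; rfl

theorem Puig_inf_sub (H : Subgroup G) : puigInfOf H ≤ puigOf H := by
  obtain ⟨k, h1, h2, -⟩ := exists_puigAt_eq H
  rw [← h1, ← h2]; exact puigAt_even_le_odd k H

theorem Puig_sub (H : Subgroup G) : puigOf H ≤ H := (Puig_def H).ge.trans (puigSucc_le _ _)

theorem cent_puigSucc (nilP : Group.IsNilpotent P) (hX : X ≤ P) :
    P ⊓ 𝒞(puigSucc P X) ≤ puigSucc P X := by
  obtain ⟨A, hA, -⟩ := SCN_exists_of_nil nilP (bot_normalIn P) (abelian_of_cyclic cyclic_bot)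
  have h := le_puigSucc (SCN_normal hA).1 (SCN_abelian hA) (hX.trans (SCN_normal hA).2)
  exact ((inf_le_inf_left P (cent_anti h)).trans (SCN_cent hA).le).trans h

theorem quot_map_subtype {S : Subgroup G} (hS : S ≤ 𝒩(K)) (X : Subgroup S) :
    X.map S.subtype /ₛ K = X.map ((coset K).comp (inclusion hS)) := by
  rw [quot, img_eq_map_comp _ hS (map_subtype_le X), subgroupOf_map_subtype']

end CA.BG.P06
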