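/-
Interface for B & G appendices A, B and section 6.  Owner: helper5.
-/
import Cfsg.Agent.BG.I01
import Cfsg.Agent.BG.I02
import Cfsg.Agent.BG.P06b

set_option autoImplicit false
set_option linter.unusedSectionVars false

namespace CA.BG

open Subgroup Cfsg CA.FG CA.BG.P06
open scoped commutatorElement

universe u

variable {G : Type u} [Group G] [Finite G] {p : ℕ}

/-! ### Appendix A -/

/-- B & G, Theorem A.4(c). -/
theorem odd_p_stable (hp : p.Prime) {H : Subgroup G} (oddH : Odd (Nat.card H)) : PStable p H := by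
  intro P A pP _ sA pA hA y hy
  have nCN : H ⊓ 𝒩(P) ≤ 𝒩(H ⊓ 𝒞(P)) := norm_inf (norm_of_le inf_le_left) (norm_cent inf_le_right)
  obtain ⟨a, ha, rfl⟩ := mem_quot.1 hy
  refine baer_suzuki_of hp (K := {y | ∃ n : 𝒩(H ⊓ 𝒞(P)), (n : G) ∈ H ⊓ 𝒩(P) ∧ IsPiElt {p} (n : G) ∧
    ⁅⁅P, zpowers (n : G)⁆, zpowers (n : G)⁆ = ⊥ ∧ coset _ n = y}) ?_ ?_ ?_ _
    ⟨a, sA ha, pA.piElt ha, le_bot_iff.1 ((commutator_mono (commutator_mono le_rfl (zpowers_le.2 ha))
      (zpowers_le.2 ha)).trans hA.le), rfl⟩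
  · rintro _ ⟨n, hn, -, -, rfl⟩
    exact mem_quot.2 ⟨n, hn, rfl⟩
  · rintro g hg _ ⟨n, hn, pn, qn, rfl⟩
    obtain ⟨m, hm, rfl⟩ := mem_quot.1 hg
    refine ⟨m * n * m⁻¹, mul_mem (mul_mem hm hn) (inv_mem hm), pn.conj m, ?_,
      by rw [map_mul, map_mul, map_inv]⟩
    have := congrArg (· :^ (m : G)) qn
    simp only [conjg_comm, conjg_zpowers, conjg_bot, conjg_of_mem_norm hm.2] at this
    exact this
  · rintro _ ⟨x, hx, px, qx, rfl⟩ _ ⟨y, hy, py, qy, rfl⟩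
    have sL : closure {(x : G), (y : G)} ≤ H ⊓ 𝒩(P) := by
      rw [closure_pair]; exact sup_le (zpowers_le.2 hx) (zpowers_le.2 hy)
    have e : closure {(x : G), (y : G)} /ₛ (H ⊓ 𝒞(P)) = closure {coset _ x, coset _ y} := by
      rw [closure_pair, closure_pair, quot_sup (zpowers_le.2 x.2) (zpowers_le.2 y.2),
        ← quot_zpowers, ← quot_zpowers]
    rw [← e, IsPGrp, piGrp_quot_iff (sL.trans nCN)]
    refine piNat_relIndex_inf (norm_cent (sL.trans inf_le_right)) ?_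
      (quadratic_pair hp pP (sL.trans inf_le_right) px py qx qy (odd_of_le oddH (sL.trans inf_le_left)))
    rw [relIndex_eq_one.2 (sL.trans inf_le_left)]
    exact PiNat.one _

/-- B & G, Theorem A.5.1. -/
theorem odd_abelian_gen_stable (hp : p.Prime) {H P : Subgroup G} (oddH : Odd (Nat.card H))
    (pP : IsPGrp p P) (nsP : P ⊲ H) {S : Set (Subgroup G)}
    (hS : ∀ B ∈ S, B ≤ H ∧ IsMulCommutative B ∧ IsPGrp p B ∧ P ≤ 𝒩(B)) :
    (sSup S /ₛ (H ⊓ 𝒞(P))) ≤ pCoreOf p (H /ₛ (H ⊓ 𝒞(P))) := by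
  have nC : H ≤ 𝒩(H ⊓ 𝒞(P)) := (inf_cent_normalIn_of_norm nsP.2).2
  refine quot_le_of_le_quotPre (sSup_le fun B hB => ?_)
  obtain ⟨sB, cB, pB, nB⟩ := hS B hB
  have h := odd_p_stable hp oddH P B pP ((pcore_normal _ H).sup nsP) (le_inf sB (sB.trans nsP.2)) pB
    (comm_eq_bot_iff.2 ((comm_le_right nB).trans (abelian_iff_le_cent.1 cB)))
  rw [inf_eq_left.2 nsP.2] at h
  exact (quot_le_iff (sB.trans nC)).1 h

/-- B & G, Theorem A.5.2. -/
theorem odd_abelian_gen_constrained (hp : p.Prime) {H P : Subgroup G} (oddH : Odd (Nat.card H))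
    (solH : Group.IsSolvable H) (pP : IsPGrp p P) (nsP : P ⊲ H) {S : Set (Subgroup G)}
    (hS : ∀ B ∈ S, B ≤ H ∧ IsMulCommutative B ∧ IsPGrp p B ∧ P ≤ 𝒩(B))
    (hO : pPrimeCoreOf p H = ⊥) (hC : pCoreOf p H ⊓ 𝒞(P) ≤ P) : sSup S ≤ pCoreOf p H := by
  have nsC := inf_cent_normalIn_of_norm nsP.2
  have sPO : P ≤ pCoreOf p H := pcore_max nsP pP
  have pO := pcore_pGrp p H
  have pC : IsPGrp p (H ⊓ 𝒞(P)) := by
    rw [IsPGrp, IsPiGrp, ← relIndex_bot_left]
    refine piNat_relIndex_of_forall_le fun Q sQ p'Q => ?_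
    have sQH := sQ.trans inf_le_left
    have h1 : P ≤ pCoreOf p H ⊓ 𝒞(Q) := le_inf sPO (le_cent_symm (sQ.trans inf_le_right))
    have h2 := coprime_nil_faithful_cent_stab (sQH.trans (pcore_norm _ H)) (pO.coprime p'Q) pO.nil
      (((inf_le_inf_left _ (cent_anti h1)).trans hC).trans h1)
    exact ((pO.of_le ((le_inf sQH h2).trans (cent_sub_pcore solH hO))).eq_bot p'Q).le
  have h := odd_abelian_gen_stable hp oddH pP nsP hS
  rw [pCoreOf, ← pcore_quot_of_piGrp nsC pC] at h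
  exact (quot_le_quot_iff' ((sSup_le fun B hB => (hS B hB).1).trans nsC.2) (pcore_max nsC pC)).1 h

/-! ### Appendix B -/

theorem Puig_map_of_inj {G' : Type*} [Group G'] [Finite G'] (H : Subgroup G) {f : G →* G'}
    (hf : Function.Injective f) : puigOf (H.map f) = (puigOf H).map f := by
  rw [puigOf_eq, puigOf_eq, Subgroup.map_iInf f hf]
  exact iInf_congr fun n => (puigAt_map_of_inj _ H hf).symm

theorem Puig_char (H : Subgroup G) : CharIn (puigOf H) H := by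
  refine charIn_of_functor (K₀ := puigOf (⊤ : Subgroup H)) ?_ fun e => ?_
  · rw [← Puig_map_of_inj _ H.subtype_injective, map_subtype_top]
  · rw [← Puig_map_of_inj _ e.injective, map_top_of_surjective e.toMonoidHom e.surjective]

theorem center_Puig_char (H : Subgroup G) : CharIn 𝒵(puigOf H) H := (charIn_center _).trans (Puig_char H)

theorem Puig_conjg (H : Subgroup G) (g : G) : puigOf (H :^ g) = puigOf H :^ g := Puig_map_of_inj H (conj_inj g)

theorem abelian_normal_sub_Puig {H A : Subgroup G} (cAA : IsMulCommutative A) (nsA : A ⊲ H) :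
    A ≤ puigOf H :=   (le_puigSucc nsA.1 cAA (((Puig_inf_sub H).trans (Puig_sub H)).trans nsA.2)).trans (Puig_def H).le

theorem cent_Puig {P : Subgroup G} (pP : IsPGrp p P) : P ⊓ 𝒞(puigOf P) ≤ puigOf P := by
  rw [← Puig_def P]
  exact cent_puigSucc pP.nil ((Puig_inf_sub P).trans (Puig_sub P))

/-- B & G, Lemma B.1(f). -/
theorem trivg_center_Puig_pgroup {P : Subgroup G} (pP : IsPGrp p P) (h : 𝒵(puigOf P) = ⊥) : P = ⊥ := by
  by_contra h0
  refine center_nil_ne_bot pP.nil h0 (le_bot_iff.1 (le_trans ?_ h.le))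
  exact le_inf (abelian_normal_sub_Puig (abelian_inf_cent P) (center_normalIn P))
    (inf_le_right.trans (cent_anti (Puig_sub P)))

/-- B & G, Lemma B.1(g). -/
theorem sub_Puig_eq {H K : Subgroup G} (sKH : K ≤ H) (h : puigOf H ≤ K) : puigOf K = puigOf H := by
  have h' := (Puig_inf_sub H).trans h
  have e1 : puigSucc K (puigInfOf H) = puigOf H :=
    (puigSucc_restrict sKH ((Puig_def H).le.trans h)).trans (Puig_def H)
  have e2 : puigSucc K (puigOf H) = puigInfOf H :=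
    (puigSucc_restrict sKH ((Puig_inf_def H).le.trans h')).trans (Puig_inf_def H)
  have e3 : puigInfOf K = puigInfOf H := by
    refine le_antisymm (puigInfOf_le_iff.2 fun n => ?_) (puigInfOf_le_iff.2 fun n => ?_)
    · induction n with
      | zero => exact bot_le
      | succ n ih =>
        exact (puigSucc_mono le_rfl (e1.ge.trans (puigSucc_mono le_rfl ih))).trans e2.le
    · induction n with
      | zero => exact bot_le
      | succ n ih =>
        exact (puigSucc_restrict sKH ((puigAt_even_le (n + 1) H).trans h')).ge.trans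
          ((puigSucc_mono le_rfl ((Puig_def K).ge.trans (puigSucc_mono sKH ih))).trans
            (Puig_inf_def K).le)
  rw [← Puig_def K, e3, e1]

/-- B & G, Lemma B.3. -/
theorem pcore_Sylow_Puig_sub (hp : p.Prime) {H S : Subgroup G} (oddH : Odd (Nat.card H))
    (solH : Group.IsSolvable H) (sylS : IsSylowOf p S H) (hO : pPrimeCoreOf p H = ⊥) :
    puigInfOf S ≤ puigInfOf (pCoreOf p H) ∧ puigOf (pCoreOf p H) ≤ puigOf S := by
  have sTS : pCoreOf p H ≤ S := IsPiHallOf.pcore_le sylS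
  have pT := pcore_pGrp p H
  have h1 : puigSucc S (puigOf (pCoreOf p H)) ≤ pCoreOf p H :=
    odd_abelian_gen_constrained hp oddH solH (pT.of_le (Puig_sub _))
      ((Puig_char _).trans_normal (pcore_normal _ H))
      (fun B hB => ⟨hB.1.trans sylS.le, hB.2.1, sylS.piGrp.of_le hB.1, hB.2.2⟩) hO (cent_Puig pT)
  have h2 : puigInfOf S ≤ puigInfOf (pCoreOf p H) := by
    refine puigInfOf_le_iff.2 fun n => ?_
    induction n with
    | zero => exact bot_le
    | succ n ih =>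
      exact (puigSucc_mono le_rfl ((Puig_def _).ge.trans (puigSucc_mono sTS ih))).trans
        ((puigSucc_restrict sTS h1).symm.trans (Puig_inf_def _)).le
  exact ⟨h2, (Puig_def _).ge.trans ((puigSucc_mono sTS h2).trans (Puig_def S).le)⟩

/-- B & G, Theorem B.4(b). -/
theorem Puig_center_normal (hp : p.Prime) {H S : Subgroup G} (oddH : Odd (Nat.card H))
    (solH : Group.IsSolvable H) (sylS : IsSylowOf p S H) (hO : pPrimeCoreOf p H = ⊥) :
    𝒵(puigOf S) ⊲ H := by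
  obtain ⟨sLiST, sLTS⟩ := pcore_Sylow_Puig_sub hp oddH solH sylS hO
  have sTS : pCoreOf p H ≤ S := IsPiHallOf.pcore_le sylS
  have pS : IsPGrp p S := sylS.piGrp
  have sLS := Puig_sub S
  obtain ⟨Y, hY⟩ : ∃ Y, Y = 𝒵(puigOf (pCoreOf p H)) := ⟨_, rfl⟩
  have nsY : Y ⊲ H := hY ▸ (center_Puig_char _).trans_normal (pcore_normal _ H)
  have sYT : Y ≤ pCoreOf p H := hY ▸ inf_le_left.trans (Puig_sub _)
  have sZY : 𝒵(puigOf S) ≤ Y := by
    rw [hY]
    refine le_inf (le_trans ?_ (sLiST.trans (Puig_inf_sub _))) (inf_le_right.trans (cent_anti sLTS))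
    refine (inf_le_inf sLS (cent_anti (Puig_inf_sub S))).trans ?_
    rw [← Puig_inf_def S]
    exact cent_puigSucc pS.nil sLS
  have nsD := inf_cent_normalIn_of_norm nsY.2
  have nsC := quotPre_normalIn_of nsD (pcore_normal {p} _)
  have sYLi : Y ≤ puigInfOf S :=
    (le_puigSucc (sYT.trans sTS) (hY ▸ abelian_inf_cent _) ((sLS.trans sylS.le).trans nsY.2)).trans
      (Puig_inf_def S).le
  have sLC : puigOf S ≤ quotPre (H ⊓ 𝒞(Y)) (pCoreOf p (H /ₛ (H ⊓ 𝒞(Y)))) := by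
    refine ((Puig_def S).ge.trans (puigSucc_mono le_rfl sYLi)).trans ?_
    exact (quot_le_iff (((puigSucc_le S Y).trans sylS.le).trans nsD.2)).1
      (odd_abelian_gen_stable hp oddH ((pcore_pGrp p H).of_le sYT) nsY
        fun B hB => ⟨hB.1.trans sylS.le, hB.2.1, pS.of_le hB.1, hB.2.2⟩)
  have sylC := sylS.normal_inf nsC
  have defC := sylC.sup_eq_of_index (le_quotPre _) (by
    rw [relIndex_quotPre_self]; exact pcore_piGrp _ _)
  have hN := (center_Puig_char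
    (quotPre (H ⊓ 𝒞(Y)) (pCoreOf p (H /ₛ (H ⊓ 𝒞(Y)))) ⊓ S)).norm_le
  rw [sub_Puig_eq inf_le_right (le_inf sLC sLS)] at hN
  refine ⟨(inf_le_left.trans sLS).trans sylS.le, (frattini_arg hp nsC sylC).ge.trans
    (sup_le (defC.ge.trans (sup_le ?_ (le_normalizer.trans hN))) (inf_le_right.trans hN))⟩
  exact norm_of_cent (inf_le_right.trans (cent_anti sZY))

/-- B & G, Theorem 6.2. -/
theorem Puig_center_p'core_normal (hp : p.Prime) {H S : Subgroup G} (oddH : Odd (Nat.card H))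
    (solH : Group.IsSolvable H) (sylS : IsSylowOf p S H) :
    (pPrimeCoreOf p H ⊔ 𝒵(puigOf S)) ⊲ H := by
  have nsO := pcore_normal {p}ᶜ H
  have nOS := sylS.le.trans nsO.2
  have inj := coset_comp_injective nOS (inf_comm S _ ▸ sylS.piGrp.inf_eq_bot (pcore_piGrp {p}ᶜ H))
  have sZ : 𝒵(puigOf S) ≤ H := (inf_le_left.trans (Puig_sub S)).trans sylS.le
  have h := Puig_center_normal hp (odd_quot _ oddH) (sol_quot _ solH) (sylS.quot nsO.2)
    (pcore_quot_pcore _ H)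
  have e : 𝒵(puigOf (S /ₛ piCoreOf {p}ᶜ H)) = (pPrimeCoreOf p H ⊔ 𝒵(puigOf S)) /ₛ piCoreOf {p}ᶜ H := by
    rw [quot_sup_self_left (sZ.trans nsO.2)]
    conv => lhs; rw [← map_subtype_top S, quot_map_subtype nOS, Puig_map_of_inj _ inj,
      ← map_inf_cent_of_inj _ _ inj, ← quot_map_subtype nOS,
      map_inf_cent_of_inj _ _ S.subtype_injective, ← Puig_map_of_inj _ S.subtype_injective,
      map_subtype_top]
  rw [e] at h
  exact (quot_normalIn_iff ⟨le_sup_left, (sup_le nsO.1 sZ).trans nsO.2⟩ nsO).1 h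

/-- B & G, Theorem B.4(a). -/
theorem Puig_factorisation (hp : p.Prime) {H S : Subgroup G} (oddH : Odd (Nat.card H))
    (solH : Group.IsSolvable H) (sylS : IsSylowOf p S H) :
    pPrimeCoreOf p H ⊔ (H ⊓ 𝒩(𝒵(puigOf S))) = H := by
  have h := Puig_center_p'core_normal hp oddH solH sylS
  have sZ : 𝒵(puigOf S) ≤ S := inf_le_left.trans (Puig_sub S)
  have h1 := frattini_arg hp h (pHall_right_of_sup (Or.inr ((sZ.trans sylS.le).trans (pcore_norm _ H)))
    rfl (pcore_piGrp _ H) (sylS.piGrp.of_le sZ))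
  rwa [sup_assoc, sup_eq_right.2 (le_inf (sZ.trans sylS.le) le_normalizer)] at h1

/-! ### Section 6 -/

/-- B & G, Theorem 6.1. -/
theorem odd_p_abelian_constrained (hp : p.Prime) {H : Subgroup G} (oddH : Odd (Nat.card H))
    (solH : Group.IsSolvable H) : PAbelianConstrained p H :=   p_stable_abelian_constrained (solvable_p_constrained p solH) (odd_p_stable hp oddH)

/-- B & G, Lemma 6.3(a). -/
theorem coprime_der1_sdprod {K H M : Subgroup G} (defM : SDProd K H M)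
    (coKH : (Nat.card K).Coprime (Nat.card H)) (solK : Group.IsSolvable K) (sKM' : K ≤ ⁅M, M⁆) :
    ⁅K, H⁆ = K ∧ K ⊓ 𝒞(H) ≤ ⁅K, K⁆ := by
  have nKH := defM.norm
  have h1 : ⁅K, H⁆ = K := by
    refine eq_of_sol_of_le_der_sup solK (comm_normalIn_left nKH) ?_
    rw [← defM.sup_eq, comm_sup_self nKH] at sKM'
    have h2 := eq_sup_inf_of_le (Or.inr ((der_le H).trans (norm_sup (norm_comm nKH nKH)
      (norm_comm nKH le_normalizer)))) (sup_le (der_le K) (comm_le_left nKH)) sKM'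
    rw [le_bot_iff.1 ((inf_le_inf_left K (der_le H)).trans defM.inf_eq.le), sup_bot_eq] at h2
    exact h2.le
  refine ⟨h1, ?_⟩
  have nD := (der_normalIn K).2
  have h2 := coprime_abel_cent_TI (quot_norm ⁅K, K⁆ nKH) (coprime_quot _ coKH) (quot_der_abelian K)
  rw [← quot_comm nD (norm_comm nKH nKH), h1] at h2
  exact (quot_eq_bot_iff (inf_le_left.trans nD)).1 (le_bot_iff.1 ((quot_inf_cent_le K H).trans h2.le))

/-- B & G, Lemma 6.3(b). -/
theorem prime_nil_der1_factor {M : Subgroup G} (nilM' : Group.IsNilpotent ↥⁅M, M⁆)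
    (prM : (⁅M, M⁆.relIndex M).Prime) :
    IsHallOf ⁅M, M⁆ M ∧ ∀ H : Subgroup G, IsComplIn ⁅M, M⁆ H M → ⁅M, M⁆ = ⁅M, H⁆ := by
  obtain ⟨q, hq⟩ : ∃ q, q = ⁅M, M⁆.relIndex M := ⟨_, rfl⟩
  have nsM' := der_normalIn M
  have nsO := nsM'.pcore {q}ᶜ
  have sO := pcore_le {q}ᶜ ⁅M, M⁆
  have qM : IsPGrp q (M /ₛ piCoreOf {q}ᶜ ⁅M, M⁆) :=
    (piGrp_quot_iff nsO.2).2 (piNat_relIndex_trans sO nsM'.1
      (piNat_compl_compl.1 (nilpotent_pcore_Hall {q}ᶜ nilM').index)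
      (hq ▸ piNat_singleton_self (hq ▸ prM)))
  have cyc := cyclic_of_nil_of_cyclic_quot_der qM.nil (isCyclic_of_card_prime (by
    rwa [card_quot (der_normalIn _).2, ← quot_comm nsO.2 nsO.2, relIndex_quot sO nsM'.1 nsO.2]))
  have hall : IsHallOf ⁅M, M⁆ M := ⟨nsM'.1, PiNat.coprime'
    ((pcore_piGrp {q}ᶜ _).of_le (der_le_of_cyclic_quot nsO.2 cyc))
    (hq ▸ piNat_singleton_self (hq ▸ prM))⟩
  refine ⟨hall, fun H hH => le_antisymm ?_ (commutator_mono le_rfl hH.right_le)⟩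
  exact (coprime_der1_sdprod (hH.sdprod nsM'.2) (hH.relIndex_left ▸ hall.2) (sol_of_nil nilM')
    le_rfl).1.ge.trans (commutator_mono nsM'.1 le_rfl)

section PprodSubCoprime

variable {K U H M : Subgroup G}

/-- B & G, Lemma 6.5(a). -/
theorem pprod_focal_coprime (defM : K ⊔ U = M) (nsK : K ⊲ M) (sHU : H ≤ U)
    (coKH : (Nat.card K).Coprime (Nat.card H)) : H ⊓ ⁅M, M⁆ = H ⊓ ⁅U, U⁆ := by
  have sUM : U ≤ M := defM ▸ le_sup_right
  have nKU := sUM.trans nsK.2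
  refine le_antisymm (le_inf inf_le_left ?_) (inf_le_inf_left H (der_mono sUM))
  have h1 : ⁅M, M⁆ ≤ K ⊔ ⁅U, U⁆ := by
    rw [← defM, comm_sup_self nKU]
    exact sup_le_sup_right (sup_le (der_le K) (comm_le_left nKU)) _
  have h2 := (inf_le_inf sHU h1).trans
    (inf_sup_of_right_le (Or.inr ((der_le U).trans nKU)) (der_le U)).le
  have h3 : U ⊓ K ≤ 𝒩(⁅U, U⁆) := inf_le_left.trans (der_normalIn U).2
  refine le_of_coprime_relIndex h2 (sup_le h3 le_normalizer) ?_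
  rw [relIndex_sup_of_left_le_norm h3]
  exact (coKH.symm.coprime_dvd_left (card_dvd_of_le inf_le_left)).coprime_dvd_right
    ((relIndex_dvd_card _ _).trans (card_dvd_of_le inf_le_right))

/-- B & G, Lemma 6.5(c). -/
theorem pprod_trans_coprime (defM : K ⊔ U = M) (nsK : K ⊲ M) (sHU : H ≤ U)
    (coKH : (Nat.card K).Coprime (Nat.card H)) (sol : Group.IsSolvable K ∨ Group.IsSolvable H)
    {g : G} (hg : g ∈ M) (sHgU : H :^ g ≤ U) : ∃ u ∈ U, ∃ c ∈ K ⊓ 𝒞(H), g = u * c := by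
  have nKU := (defM ▸ le_sup_right : U ≤ M).trans nsK.2
  have nKH := sHU.trans nKU
  obtain ⟨u, hu, k, hk, rfl⟩ := (mem_sup_of_right_le_norm' nKU).1 (defM.ge hg)
  rw [conjg_mul, conjg_le_iff, conjg_of_mem (inv_mem hu)] at sHgU
  obtain ⟨x, hx, e⟩ := SchurZassenhaus_trans (H := U ⊓ K) (A := H) (B := H :^ k)
    (sol.imp_left fun h => sol_of_le h inf_le_right) (norm_inf (norm_of_le sHU) nKH)
    ((le_inf sHgU (conjg_le_of_mem le_sup_right (mem_sup_left hk))).trans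
      (inf_sup_of_right_le (Or.inr nKH) sHU).le)
    (coKH.coprime_dvd_left (card_dvd_of_le inf_le_right)) (card_conjg H k)
  refine ⟨u * x, mul_mem hu hx.1, x⁻¹ * k, (coprime_norm_cent nKH coKH).le
    ⟨K.mul_mem (K.inv_mem hx.2) hk, conjg_eq_conjg_iff.1 e⟩, by group⟩

/-- B & G, Lemma 6.5(b). -/
theorem pprod_norm_coprime_prod (defM : K ⊔ U = M) (nsK : K ⊲ M) (sHU : H ≤ U)
    (coKH : (Nat.card K).Coprime (Nat.card H)) (sol : Group.IsSolvable K ∨ Group.IsSolvable H) :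
    (K ⊓ 𝒞(H)) ⊔ (U ⊓ 𝒩(H)) = M ⊓ 𝒩(H) := by
  refine le_antisymm (sup_le (inf_le_inf nsK.1 (cent_le_norm H))
    (inf_le_inf_right _ (defM ▸ le_sup_right))) fun g hg => ?_
  obtain ⟨u, hu, c, hc, rfl⟩ := pprod_trans_coprime defM nsK sHU coKH sol hg.1
    ((conjg_of_mem_norm hg.2).le.trans sHU)
  exact mul_mem (mem_sup_right (mem_inf.2 ⟨hu,
    (Subgroup.mul_mem_cancel_right 𝒩(H) (cent_le_norm H hc.2)).1 hg.2⟩))
    (mem_sup_left hc)

end PprodSubCoprime

section Plength1Prod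

variable {H S : Subgroup G}

/-- B & G, Lemma 6.6(a1). -/
theorem plength1_Sylow_prod (hp : p.Prime) (sylS : IsSylowOf p S H) (pl1 : PLengthLE p 1 H) :
    pPrimeCoreOf p H ⊔ S = pPrimePCoreOf p H :=   pcore_sup_eq_pcore2 (sylS.of_le (le_of_piGrp_of_relIndex sylS.le (pcore2_norm _ _ H) sylS.piGrp
    ((plength1_pseries2_quo hp).1 pl1)) (pcore2_le _ _ H))

/-- B & G, Lemma 6.6(a2). -/
theorem plength1_Frattini (hp : p.Prime) (sylS : IsSylowOf p S H) (pl1 : PLengthLE p 1 H) :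
    pPrimeCoreOf p H ⊔ (H ⊓ 𝒩(S)) = H := by
  have e := plength1_Sylow_prod hp sylS pl1
  have h := frattini_arg hp (pcore2_normal {p}ᶜ {p} H)
    (sylS.of_le (le_sup_right.trans e.le) (pcore2_le _ _ H))
  refine Eq.trans ?_ h
  refine Eq.trans ?_ (congrArg (· ⊔ (H ⊓ 𝒩(S))) e)
  rw [sup_assoc, sup_eq_right.2 (le_inf sylS.le le_normalizer)]

/-- B & G, Lemma 6.6(b). -/
theorem plength1_Sylow_sub_der1 (hp : p.Prime) (sylS : IsSylowOf p S H) (pl1 : PLengthLE p 1 H)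
    (h : S ≤ ⁅H, H⁆) : S ≤ ⁅H ⊓ 𝒩(S), H ⊓ 𝒩(S)⁆ :=   (le_inf le_rfl h).trans ((pprod_focal_coprime (plength1_Frattini hp sylS pl1) (pcore_normal _ H)
    (le_inf sylS.le le_normalizer) (sylS.piGrp.coprime (pcore_piGrp _ H)).symm).le.trans inf_le_right)

/-- B & G, Lemma 6.6(c). -/
theorem plength1_Sylow_trans (hp : p.Prime) (sylS : IsSylowOf p S H) (pl1 : PLengthLE p 1 H)
    {Y : Subgroup G} {g : G} (sYS : Y ≤ S) (hg : g ∈ H) (sYgS : Y :^ g ≤ S) :
    ∃ u ∈ H ⊓ 𝒩(S), ∃ c ∈ H ⊓ 𝒞(Y), g = u * c := by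
  have sS : S ≤ H ⊓ 𝒩(S) := le_inf sylS.le le_normalizer
  have pY := sylS.piGrp.of_le sYS
  obtain ⟨u, hu, c, hc, e⟩ := pprod_trans_coprime (plength1_Frattini hp sylS pl1) (pcore_normal _ H)
    (sYS.trans sS) (pY.coprime (pcore_piGrp _ H)).symm (Or.inr (IsPGrp.sol pY)) hg (sYgS.trans sS)
  exact ⟨u, hu, c, ⟨pcore_le _ H hc.1, hc.2⟩, e⟩

/-- B & G, Lemma 6.6(d). -/
theorem plength1_Sylow_Jsub (hp : p.Prime) (sylS : IsSylowOf p S H) (pl1 : PLengthLE p 1 H)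
    {Q : Subgroup G} (sQH : Q ≤ H) (pQ : IsPGrp p Q) : ∃ x ∈ H ⊓ 𝒞(Q ⊓ S), Q :^ x ≤ S := by
  obtain ⟨x, hx, h⟩ := sylow_Jsub hp sylS pQ sQH
  obtain ⟨u, hu, c, hc, rfl⟩ := plength1_Sylow_trans hp sylS pl1 (inf_le_right (a := Q)) hx
    ((conjg_mono x inf_le_left).trans h)
  rw [conjg_mul, conjg_le_iff_of_mem_norm hu.2] at h
  exact ⟨c, hc, h⟩

end Plength1Prod

/-- B & G, Theorem 6.7. -/
theorem plength1_norm_pmaxElem (hp : p.Prime) (hp2 : p ≠ 2) {H E L : Subgroup G} (maxE : IsPMaxElem p E H)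
    (solH : Group.IsSolvable H) (pl1 : PLengthLE p 1 H) (sLH : L ≤ H) (nLE : E ≤ 𝒩(L))
    (p'L : IsPiGrp {p}ᶜ L) : L ≤ pPrimeCoreOf p H := by
  have nsO := pcore_normal {p}ᶜ H
  obtain ⟨S, sylS, sES⟩ := sylow_superset hp (abelem_pGrp hp maxE.abelem) maxE.le
  have h1 := (pmaxElem_quot_iff (sylS.le.trans nsO.2)
    (inf_comm S _ ▸ sylS.piGrp.inf_eq_bot (pcore_piGrp {p}ᶜ H)) sES).2 (maxE.of_le sES sylS.le)
  rw [(sylS.quot nsO.2).eq_pcore ((plength1_pcore_quo_Sylow hp).1 pl1)] at h1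
  have pT := pcore_pGrp p (H /ₛ piCoreOf {p}ᶜ H)
  have sL := quot_mono (piCoreOf {p}ᶜ H) sLH
  have nTL := sL.trans (pcore_norm {p} _)
  have p'L' := p'L.quot (piCoreOf {p}ᶜ H)
  have cLE : L /ₛ piCoreOf {p}ᶜ H ≤ 𝒞(E /ₛ piCoreOf {p}ᶜ H) :=
    comm_eq_bot_iff'.1 (le_bot_iff.1 ((le_inf ((commutator_mono h1.le le_rfl).trans (comm_le_left nTL))
      (comm_le_right (quot_norm _ nLE))).trans (pT.inf_eq_bot p'L').le))
  obtain ⟨k, hk⟩ := (pGrp_iff_card hp).1 pT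
  have h2 := coprime_odd_faithful_cent_abelem h1.le h1.abelem pT nTL (pT.coprime p'L')
    (hk ▸ (hp.odd_of_ne_two hp2).pow)
    fun x hx hxp => cLE.trans (cent_le_cent_singleton (h1.mem hx.1 hx.2 hxp))
  exact (quot_eq_bot_iff (sLH.trans nsO.2)).1 ((pT.of_le ((le_inf sL h2).trans
    (cent_sub_pcore (sol_quot _ solH) (pcore_quot_pcore _ H)))).eq_bot p'L')

end CA.BG
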