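/-
Elementary facts about the minimal simple group of odd order (start of B & G section 7).
-/
import Cfsg.Agent.BG.Defs
import Cfsg.Agent.FG.Conj

set_option autoImplicit false

namespace CA.BG

open Cfsg CA.FG

universe u

variable {G : Type u} [Group G]

section General

theorem UniqMax.mem {H M : Subgroup G} (h : UniqMax H M) : IsCoatom M ∧ H ≤ M := ⟨h.1, h.2.1⟩

theorem uniqMax_iff {H M : Subgroup G} :
    UniqMax H M ↔ IsCoatom M ∧ H ≤ M ∧ ∀ L : Subgroup G, IsCoatom L → H ≤ L → L = M := Iff.rfl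

/-- `eq_uniq_mmax`. -/
theorem eq_uniq_mmax {H M L : Subgroup G} (h : UniqMax H M) (maxL : IsCoatom L) (sHL : H ≤ L) : L = M :=
  h.2.2 L maxL sHL

theorem uniq_mmaxP {H : Subgroup G} : InUniqueMaximal H ↔ ∃ M, UniqMax H M := by
  constructor
  · rintro ⟨M, ⟨h1, h2⟩, h3⟩
    exact ⟨M, h1, h2, fun L hL hHL => h3 L ⟨hL, hHL⟩⟩
  · rintro ⟨M, h1, h2, h3⟩
    exact ⟨M, ⟨h1, h2⟩, fun L hL => h3 L hL.1 hL.2⟩

theorem inUniq_of_uniqMax {H M : Subgroup G} (h : UniqMax H M) : InUniqueMaximal H :=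
  uniq_mmaxP.2 ⟨M, h⟩

/-- `def_uniq_mmax`. -/
theorem def_uniq_mmax {H M : Subgroup G} (uH : InUniqueMaximal H) (maxM : IsCoatom M) (sHM : H ≤ M) :
    UniqMax H M := by
  obtain ⟨L, hL⟩ := uniq_mmaxP.1 uH
  rw [eq_uniq_mmax hL maxM sHM]; exact hL

theorem uniq_eq_of_le {H M L : Subgroup G} (uH : InUniqueMaximal H) (maxM : IsCoatom M) (sHM : H ≤ M)
    (maxL : IsCoatom L) (sHL : H ≤ L) : L = M :=
  eq_uniq_mmax (def_uniq_mmax uH maxM sHM) maxL sHL

theorem mmax_proper {M : Subgroup G} (maxM : IsCoatom M) : M ≠ ⊤ := maxM.1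

/-- `mmax_max`. -/
theorem mmax_max {M H : Subgroup G} (maxM : IsCoatom M) (prH : H ≠ ⊤) (sMH : M ≤ H) : H = M := by
  by_contra h
  exact prH (maxM.2 H (lt_of_le_of_ne sMH (Ne.symm h)))

theorem eq_mmax {M H : Subgroup G} (maxM : IsCoatom M) (maxH : IsCoatom H) (sMH : M ≤ H) : M = H :=
  (mmax_max maxM maxH.1 sMH).symm

theorem sub_proper {M H : Subgroup G} (prM : M ≠ ⊤) (sHM : H ≤ M) : H ≠ ⊤ := by
  rintro rfl
  exact prM (top_le_iff.1 sHM)

theorem sub_mmax_proper {M H : Subgroup G} (maxM : IsCoatom M) (sHM : H ≤ M) : H ≠ ⊤ :=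
  sub_proper maxM.1 sHM

theorem mmax_exists [Finite G] {H : Subgroup G} (prH : H ≠ ⊤) : ∃ M : Subgroup G, IsCoatom M ∧ H ≤ M :=
  (eq_top_or_exists_le_coatom H).resolve_left prH

theorem uniq_proper {H : Subgroup G} (uH : InUniqueMaximal H) : H ≠ ⊤ := by
  obtain ⟨M, hM⟩ := uniq_mmaxP.1 uH
  exact sub_mmax_proper hM.1 hM.2.1

/-- `sub_uniq_mmax`. -/
theorem sub_uniq_mmax [Finite G] {U M H : Subgroup G} (h : UniqMax U M) (sUH : U ≤ H) (prH : H ≠ ⊤) :
    H ≤ M := by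
  obtain ⟨L, maxL, sHL⟩ := mmax_exists prH
  rw [← eq_uniq_mmax h maxL (sUH.trans sHL)]; exact sHL

/-- `def_uniq_mmaxS`. -/
theorem def_uniq_mmaxS [Finite G] {U V M : Subgroup G} (sUV : U ≤ V) (prV : V ≠ ⊤) (h : UniqMax U M) :
    UniqMax V M :=
  ⟨h.1, sub_uniq_mmax h sUV prV, fun _ maxL sVL => eq_uniq_mmax h maxL (sUV.trans sVL)⟩

/-- `uniq_mmaxS`. -/
theorem uniq_mmaxS [Finite G] {U V : Subgroup G} (sUV : U ≤ V) (prV : V ≠ ⊤) (h : InUniqueMaximal U) :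
    InUniqueMaximal V := by
  obtain ⟨M, hM⟩ := uniq_mmaxP.1 h
  exact inUniq_of_uniqMax (def_uniq_mmaxS sUV prV hM)

theorem mmax_uniq_id {M : Subgroup G} (maxM : IsCoatom M) : UniqMax M M :=
  ⟨maxM, le_rfl, fun _ maxL h => (eq_mmax maxM maxL h).symm⟩

theorem def_uniq_mmaxJ {U M : Subgroup G} (g : G) (h : UniqMax U M) : UniqMax (U :^ g) (M :^ g) := by
  refine ⟨isCoatom_conjg.2 h.1, conjg_mono g h.2.1, fun L maxL sUL => ?_⟩
  have := eq_uniq_mmax h (isCoatom_conjg (g := g⁻¹).2 maxL) (conjg_le_iff.1 sUL)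
  rw [← this, conjg_cancel_inv]

theorem uniq_mmaxJ {U : Subgroup G} {g : G} : InUniqueMaximal (U :^ g) ↔ InUniqueMaximal U := by
  constructor
  · intro h
    obtain ⟨M, hM⟩ := uniq_mmaxP.1 h
    have := def_uniq_mmaxJ g⁻¹ hM
    rw [conjg_inv_cancel] at this
    exact inUniq_of_uniqMax this
  · intro h
    obtain ⟨M, hM⟩ := uniq_mmaxP.1 h
    exact inUniq_of_uniqMax (def_uniq_mmaxJ g hM)

/-- not unique: there is another maximal subgroup. -/
theorem exists_ne_of_not_uniqMax {H M : Subgroup G} (maxM : IsCoatom M) (sHM : H ≤ M)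
    (h : ¬ UniqMax H M) : ∃ L : Subgroup G, IsCoatom L ∧ H ≤ L ∧ L ≠ M := by
  by_contra hc
  push Not at hc
  exact h ⟨maxM, sHM, hc⟩

end General

variable [MinSimpleOdd G]

theorem mFT_odd_top : Odd (Nat.card G) := (MinSimpleOdd.out (G := G)).1

theorem mFT_odd (H : Subgroup G) : Odd (Nat.card H) :=
  Odd.of_dvd_nat mFT_odd_top (Subgroup.card_subgroup_dvd_card H)

theorem mFT_simple : IsSimpleGroup G := (MinSimpleOdd.out (G := G)).2.1

theorem mFT_nonAbelian : ¬ IsMulCommutative G := (MinSimpleOdd.out (G := G)).2.2.1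

theorem mFT_sol {H : Subgroup G} (prH : H ≠ ⊤) : Group.IsSolvable H :=
  (MinSimpleOdd.out (G := G)).2.2.2 H prH

theorem mFT_normal {H : Subgroup G} (h : H.Normal) : H = ⊥ ∨ H = ⊤ :=
  (mFT_simple (G := G)).eq_bot_or_eq_top_of_normal H h

theorem mFT_der1 : ⁅(⊤ : Subgroup G), (⊤ : Subgroup G)⁆ = ⊤ := by
  rcases mFT_normal (H := ⁅(⊤ : Subgroup G), (⊤ : Subgroup G)⁆) inferInstance with h | h
  · exact absurd (abelian_top_iff.1 (abelian_iff_le_cent.2 (comm_eq_bot_iff.1 h))) mFT_nonAbelian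
  · exact h

theorem mFT_nonSolvable : ¬ Group.IsSolvable G := by
  intro h
  haveI := mFT_simple (G := G)
  have h1 : commutator G < ⊤ := Group.IsSolvable.commutator_lt_top_of_nontrivial G
  exact h1.ne mFT_der1

theorem mFT_top_ne_bot : (⊤ : Subgroup G) ≠ ⊥ := by
  haveI := mFT_simple (G := G)
  exact top_ne_bot

theorem mFT_sol_proper {H : Subgroup G} : H ≠ ⊤ ↔ Group.IsSolvable H := by
  refine ⟨mFT_sol, ?_⟩
  rintro h rfl
  exact mFT_nonSolvable (sol_top_iff.1 h)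

theorem mFT_nil_proper {H : Subgroup G} (h : Group.IsNilpotent H) : H ≠ ⊤ :=
  mFT_sol_proper.2 (sol_of_nil h)

theorem mFT_abelian_proper {H : Subgroup G} (h : IsMulCommutative H) : H ≠ ⊤ :=
  mFT_sol_proper.2 (sol_of_abelian h)

theorem mFT_prime_odd {p : ℕ} (h : p ∣ Nat.card G) : Odd p := Odd.of_dvd_nat mFT_odd_top h

theorem mFT_prime_ne_two {p : ℕ} {H : Subgroup G} (h : p ∣ Nat.card H) : p ≠ 2 := by
  rintro rfl
  exact (Nat.not_even_iff_odd.2 (mFT_odd H)) (even_iff_two_dvd.2 h)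

theorem mFT_norm_proper {H : Subgroup G} (ntH : H ≠ ⊥) (prH : H ≠ ⊤) : 𝒩(H) ≠ ⊤ := by
  intro h
  rcases mFT_normal (normal_of_top_le_norm (H := H) h.ge) with h1 | h1
  · exact ntH h1
  · exact prH h1

theorem mFT_center : Subgroup.center G = ⊥ := by
  rcases mFT_normal (H := Subgroup.center G) inferInstance with h | h
  · exact h
  · exfalso
    apply mFT_nonAbelian (G := G)
    apply abelian_top_iff.1
    rw [abelian_iff_le_cent, cent_top, h]

theorem mFT_cent1_proper {x : G} (ntx : x ≠ 1) : 𝒞[x] ≠ ⊤ := by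
  intro h
  apply ntx
  have : x ∈ Subgroup.center G := by
    rw [Subgroup.mem_center_iff]
    intro g
    have : g ∈ 𝒞[x] := h ▸ Subgroup.mem_top g
    exact Subgroup.mem_centralizer_singleton_iff.1 this
  rwa [mFT_center, Subgroup.mem_bot] at this

theorem mFT_cent_proper {H : Subgroup G} (ntH : H ≠ ⊥) : 𝒞(H) ≠ ⊤ := by
  obtain ⟨x, hx, ntx⟩ := exists_mem_ne_one ntH
  exact sub_proper (mFT_cent1_proper ntx) (cent_le_cent_singleton hx)

theorem mmax_sol {M : Subgroup G} (maxM : IsCoatom M) : Group.IsSolvable M := mFT_sol maxM.1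

theorem any_mmax : ∃ M : Subgroup G, IsCoatom M := by
  obtain ⟨M, h, _⟩ := mmax_exists (H := (⊥ : Subgroup G)) mFT_top_ne_bot.symm
  exact ⟨M, h⟩

theorem mmax_neq1 {M : Subgroup G} (maxM : IsCoatom M) : M ≠ ⊥ := by
  rintro rfl
  obtain ⟨x, -, ntx⟩ := exists_mem_ne_one (mFT_top_ne_bot (G := G))
  have h1 : Subgroup.zpowers x ≠ ⊤ := mFT_abelian_proper (abelian_zpowers x)
  have := mmax_max maxM h1 bot_le
  exact ntx (Subgroup.zpowers_eq_bot.1 this)

/-- `mmax_norm`. -/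
theorem mmax_norm {M H : Subgroup G} (maxM : IsCoatom M) (ntH : H ≠ ⊥) (prH : H ≠ ⊤) (nHM : M ≤ 𝒩(H)) :
    𝒩(H) = M :=
  mmax_max maxM (mFT_norm_proper ntH prH) nHM

theorem norm_mmax {M : Subgroup G} (maxM : IsCoatom M) : 𝒩(M) = M :=
  mmax_norm maxM (mmax_neq1 maxM) maxM.1 Subgroup.le_normalizer

/-- `mmax_normal`. -/
theorem mmax_normal {M H : Subgroup G} (maxM : IsCoatom M) (nsHM : H ⊲ M) (ntH : H ≠ ⊥) : 𝒩(H) = M :=
  mmax_norm maxM ntH (sub_mmax_proper maxM nsHM.1) nsHM.2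

theorem mem_of_conjg_mmax {M : Subgroup G} (maxM : IsCoatom M) {g : G} (h : M :^ g = M) : g ∈ M := by
  rw [← norm_mmax maxM]; exact conjg_eq_self_iff.1 h

theorem conjg_mmax_ne {M : Subgroup G} (maxM : IsCoatom M) {g : G} (h : g ∉ M) : M :^ g ≠ M :=
  fun h' => h (mem_of_conjg_mmax maxM h')

/-- `uniq_mmax_norm_sub`. -/
theorem uniq_mmax_norm_sub {U M : Subgroup G} (h : UniqMax U M) : 𝒩(U) ≤ M := by
  intro g hg
  apply mem_of_conjg_mmax h.1
  apply eq_uniq_mmax h (isCoatom_conjg.2 h.1)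
  rw [← conjg_of_mem_norm hg]
  exact conjg_mono g h.2.1

theorem uniq_mmax_neq1 {U : Subgroup G} (h : InUniqueMaximal U) : U ≠ ⊥ := by
  rintro rfl
  obtain ⟨M, hM⟩ := uniq_mmaxP.1 h
  have := uniq_mmax_norm_sub hM
  exact hM.1.1 (top_le_iff.1 ((norm_bot ⊤).trans this))

/-- If `U ≤ M :^ g` has `M` as only maximal overgroup then `g ∈ M`. -/
theorem mem_of_uniqMax_le_conjg {U M : Subgroup G} (h : UniqMax U M) {g : G} (hg : U ≤ M :^ g) : g ∈ M :=
  mem_of_conjg_mmax h.1 (eq_uniq_mmax h (isCoatom_conjg.2 h.1) hg)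

theorem mFT_quo_odd (M H : Subgroup G) : Odd (Nat.card (M /ₛ H)) := by
  apply odd_map
  rw [card_subgroupOf']
  exact mFT_odd _

end CA.BG
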