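/-
B & G section 7: auxiliary lemmas.
-/
import Cfsg.Agent.BG.MinSimple
import Cfsg.Agent.BG.I04
import Cfsg.Agent.BG.I06

set_option autoImplicit false
set_option linter.unusedSectionVars false

namespace CA.BG.P07

open Subgroup Cfsg CA.FG
open scoped commutatorElement

universe u

section General

variable {G : Type u} [Group G] [Finite G] {p q : ℕ} {π : Set ℕ} {A P Q R X Y Z W : Subgroup G}

theorem maxInv_piGrp (h : Q ∈ maxInvSubgroups ⊤ A π) : IsPiGrp π Q := h.1.2.1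

theorem maxInv_norm (h : Q ∈ maxInvSubgroups ⊤ A π) : A ≤ 𝒩(Q) := h.1.2.2

theorem maxInv_eq (h : Q ∈ maxInvSubgroups ⊤ A π) (piR : IsPiGrp π R) (nR : A ≤ 𝒩(R)) (sQR : Q ≤ R) :
    R = Q := h.2 R ⟨le_top, piR, nR⟩ sQR

theorem maxInv_exists (piX : IsPiGrp π X) (nX : A ≤ 𝒩(X)) : ∃ Q ∈ maxInvSubgroups ⊤ A π, X ≤ Q := by
  obtain ⟨Q, h1, h2, h3⟩ := exists_max_subgroup (P := fun Y => Y ∈ invSubgroups ⊤ A π) (H := X)
    ⟨le_top, piX, nX⟩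
  exact ⟨Q, ⟨h2, h3⟩, h1⟩

theorem maxInv_conj (h : Q ∈ maxInvSubgroups ⊤ A π) (g : G) : Q :^ g ∈ maxInvSubgroups ⊤ (A :^ g) π := by
  refine ⟨⟨le_top, (maxInv_piGrp h).conjg g, conjg_le_norm_iff.2 (maxInv_norm h)⟩, fun R hR s => ?_⟩
  have h1 : A ≤ 𝒩(R :^ g⁻¹) := by
    rw [← conjg_inv_cancel A g]; exact conjg_le_norm_iff.2 hR.2.2
  rw [← maxInv_eq h (IsPiGrp.conjg hR.2.1 g⁻¹) h1 (conjg_le_iff.1 s), conjg_cancel_inv]

theorem maxInv_conj_norm (h : Q ∈ maxInvSubgroups ⊤ A π) {g : G} (hg : g ∈ 𝒩(A)) :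
    Q :^ g ∈ maxInvSubgroups ⊤ A π := by
  have := maxInv_conj h g
  rwa [conjg_of_mem_norm hg] at this

theorem maxInv_eq_bot (h : ⊥ ∈ maxInvSubgroups ⊤ A π) (piR : IsPiGrp π R) (nR : A ≤ 𝒩(R)) : R = ⊥ :=
  maxInv_eq h piR nR bot_le

theorem primesOf_pGrp (pA : IsPGrp p A) (h : A ≠ ⊥) : primesOf A = {p} :=
  Set.Subset.antisymm (piGrp_iff_primesOf_subset.1 pA)
    (Set.singleton_subset_iff.2 ⟨pA.prime h, pA.dvd_card h⟩)

theorem comm_le_p'core (sZ : Z ≤ pPrimePCoreOf p X) (sY : Y ≤ X) (p'Y : IsPiGrp {p}ᶜ Y) (nY : Z ≤ 𝒩(Y)) :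
    ⁅Y, Z⁆ ≤ pPrimeCoreOf p X :=
  (pcore_pHall_pcore2 {p}ᶜ X (ρ := {p}) (by rw [compl_compl])).le_of_normal
    ((pcore2_le _ _ X).trans (pcore_norm _ X)) (p'Y.of_le (comm_le_left nY))
    ((commutator_mono le_rfl sZ).trans (comm_le_right (sY.trans (pcore2_norm _ _ X))))

theorem le_p'core_of_cent (solX : Group.IsSolvable X) (sR : R ≤ X) (pR : IsPGrp p R) (sW : W ≤ X)
    (h : W ≤ pPrimeCoreOf p 𝒞(R)) : W ≤ pPrimeCoreOf p X :=
  ((le_inf (le_inf sW (h.trans (pcore_le _ _))) h).trans (inf_pcore_le _ inf_le_right)).trans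
    (p'core_cent_pgroup sR pR solX)

theorem le_p'core_of_norm (solX : Group.IsSolvable X) (sR : R ≤ X) (pR : IsPGrp p R) (sW : W ≤ X)
    (h : W ≤ pPrimeCoreOf p 𝒩(R)) : W ≤ pPrimeCoreOf p X :=
  ((le_inf (le_inf sW (h.trans (pcore_le _ _))) h).trans (inf_pcore_le _ inf_le_right)).trans
    (p'core_norm_pgroup sR pR solX)

/-- In a solvable group of odd order an `SCN` subgroup of a Sylow subgroup satisfies Hypothesis 7.1. -/
theorem SCN_norm_le_p'core (hp : p.Prime) (oddX : Odd (Nat.card X)) (solX : Group.IsSolvable X)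
    (sylP : IsSylowOf p P X) (scnA : IsSCN P A) (sY : Y ≤ X) (p'Y : IsPiGrp {p}ᶜ Y) (nY : A ≤ 𝒩(Y)) :
    Y ≤ pPrimeCoreOf p X := by
  have nsO := pcore_normal {p}ᶜ X
  have nsA := SCN_normal scnA
  have sA := odd_p_abelian_constrained hp oddX solX P A sylP (SCN_abelian scnA) nsA
  have pT := pcore_pGrp p (X /ₛ piCoreOf {p}ᶜ X)
  have sY' := quot_mono (piCoreOf {p}ᶜ X) sY
  have p'Y' := p'Y.quot (piCoreOf {p}ᶜ X)
  have sAX := nsA.1.trans sylP.le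
  have h1 : A /ₛ piCoreOf {p}ᶜ X ≤ pCoreOf p (X /ₛ piCoreOf {p}ᶜ X) ⊓ 𝒞(Y /ₛ piCoreOf {p}ᶜ X) :=
    le_inf ((le_pcore2_iff sAX).1 sA) ((quot_cent_iff' (sAX.trans nsO.2) (sY.trans nsO.2)).2
      (comm_le_p'core sA sY p'Y nY))
  have h2 := quotient_TI_subcent (norm_of_le nsA.1) (sAX.trans nsO.2)
    (sylP.piGrp.inf_eq_bot (pcore_piGrp {p}ᶜ X))
  rw [SCN_cent scnA] at h2
  have h3 := coprime_nil_faithful_cent_stab (sY'.trans (pcore_norm _ _)) (pT.coprime p'Y') pT.nil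
    (((inf_le_inf (IsPiHallOf.pcore_le (sylP.quot nsO.2)) (cent_anti h1)).trans h2.ge).trans h1)
  exact (quot_eq_bot_iff (sY.trans nsO.2)).1 ((pT.of_le ((le_inf sY' h3).trans
    (cent_sub_pcore (sol_quot _ solX) (pcore_quot_pcore _ X)))).eq_bot p'Y')

theorem normal_of_relIndex_dvd (hp : p.Prime) (pP : IsPGrp p P) (h : Q ≤ P) (hi : Q.relIndex P ∣ p) :
    Q ⊲ P := by
  rcases (Nat.dvd_prime hp).1 hi with h1 | h1
  · exact ⟨h, norm_of_le (relIndex_eq_one.1 h1)⟩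
  · exact normal_of_index_eq_of_pGrp hp pP h h1

theorem piNat_dvd_of_not_sq_dvd {n : ℕ} (hp : p.Prime) (hn : n ≠ 0) (h : PiNat {p} n) (h2 : ¬ p ^ 2 ∣ n) :
    n ∣ p := by
  obtain ⟨k, rfl⟩ := (piNat_singleton_iff hp hn).1 h
  have : k ≤ 1 := by
    by_contra hk
    exact h2 (pow_dvd_pow p (by omega))
  simpa using pow_dvd_pow p this

theorem relIndex_dvd_of_card_dvd (h1 : Q ≤ R) (h2 : Q ≤ P) (h : Nat.card R ∣ Nat.card P) :
    Q.relIndex R ∣ Q.relIndex P := by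
  rw [← card_mul_relIndex h1, ← card_mul_relIndex h2] at h
  exact Nat.dvd_of_mul_dvd_mul_left Nat.card_pos h

theorem exists_cent1_ne_bot {B : Subgroup G} (cB : IsMulCommutative B) (ncB : ¬ IsCyclic B)
    (nQ : B ≤ 𝒩(Q)) (co : (Nat.card Q).Coprime (Nat.card B)) (ntQ : Q ≠ ⊥) :
    ∃ z ∈ B, z ≠ 1 ∧ Q ⊓ 𝒞[z] ≠ ⊥ := by
  by_contra! h
  exact ntQ (le_bot_iff.1 (coprime_abelian_gen_cent1_le cB ncB nQ co fun z hz h1 => (h z hz h1).le))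

end General

variable {G : Type u} [Group G] [MinSimpleOdd G] {p q : ℕ} {A P Q R X Y : Subgroup G}

theorem pGrp_proper (pP : IsPGrp p P) : P ≠ ⊤ := mFT_nil_proper pP.nil

theorem cent_le_core (cstrA : NormedConstrained A) (h : Q ≤ 𝒞(A)) (piQ : IsPiGrp (primesOf A)ᶜ Q) :
    Q ≤ piCoreOf (primesOf A)ᶜ 𝒞(A) :=
  (le_inf h (cstrA.2.2 𝒩(A) Q le_normalizer (mFT_norm_proper cstrA.1 cstrA.2.1)
    ⟨h.trans (cent_le_norm A), piQ, norm_of_cent' h⟩)).trans (inf_pcore_le _ (cent_le_norm A))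

theorem core_inf_cent (cstrA : NormedConstrained A) (h : A ≤ P) :
    piCoreOf (primesOf A)ᶜ 𝒞(A) ⊓ 𝒞(P) = piCoreOf (primesOf A)ᶜ 𝒞(P) :=
  le_antisymm ((inf_comm _ _).le.trans (inf_pcore_le _ (cent_anti h)))
    (le_inf (cent_le_core cstrA ((pcore_le _ _).trans (cent_anti h)) (pcore_piGrp _ _)) (pcore_le _ _))

theorem coprime_of_compl (piQ : IsPiGrp (primesOf A)ᶜ Q) : (Nat.card Q).Coprime (Nat.card A) :=
  piGrp_compl_primesOf_iff.1 piQ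

end CA.BG.P07
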