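/-
Interface: B & G section 7 (the minimal counterexample, transitivity theorems).
The elementary facts about the minimal counterexample are in `BG/MinSimple`.
-/
import Cfsg.Agent.BG.MinSimple
import Cfsg.Agent.BG.P07a

set_option autoImplicit false
set_option linter.unusedVariables false

namespace CA.BG

open Subgroup Cfsg CA.FG CA.BG.P07
open scoped commutatorElement

universe u

variable {G : Type u} [Group G] [MinSimpleOdd G]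

/-- B & G, Lemma 7.1. -/
theorem normed_constrained_meet_trans {A : Subgroup G} (cstrA : NormedConstrained A) {q : ℕ}
    (hq : q.Prime) (hqA : q ∉ primesOf A) {Q₁ Q₂ H : Subgroup G} (sAH : A ≤ H) (prH : H ≠ ⊤)
    (maxQ₁ : Q₁ ∈ maxInvSubgroups ⊤ A {q}) (maxQ₂ : Q₂ ∈ maxInvSubgroups ⊤ A {q})
    (ntHQ₁ : Q₁ ⊓ H ≠ ⊥) (ntHQ₂ : Q₂ ⊓ H ≠ ⊥) :
    ∃ k ∈ piCoreOf (primesOf A)ᶜ 𝒞(A), Q₂ = Q₁ :^ k := by
  induction hn : Nat.card G - Nat.card ↥(Q₁ ⊓ Q₂) using Nat.strong_induction_on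
    generalizing Q₁ Q₂ H with
  | _ n ih =>
  subst hn
  by_cases e : Q₂ = Q₁
  · exact ⟨1, one_mem _, by rw [conjg_one, e]⟩
  have q1 : IsPGrp q Q₁ := maxInv_piGrp maxQ₁
  have q2 : IsPGrp q Q₂ := maxInv_piGrp maxQ₂
  have n1 := maxInv_norm maxQ₁
  have n2 := maxInv_norm maxQ₂
  obtain ⟨H', sAH', prH', lt1, lt2⟩ :
      ∃ H', A ≤ H' ∧ H' ≠ ⊤ ∧ Q₁ ⊓ Q₂ < Q₁ ⊓ H' ∧ Q₁ ⊓ Q₂ < Q₂ ⊓ H' := by
    by_cases h0 : Q₁ ⊓ Q₂ = ⊥
    · exact ⟨H, sAH, prH, h0 ▸ bot_lt_iff_ne_bot.2 ntHQ₁, h0 ▸ bot_lt_iff_ne_bot.2 ntHQ₂⟩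
    · exact ⟨𝒩(Q₁ ⊓ Q₂), norm_inf n1 n2, mFT_norm_proper h0 (pGrp_proper (q1.inf_left _)),
        nilpotent_proper_norm q1.nil (inf_lt_left.2 fun h => e (maxInv_eq maxQ₁ q2 n2 h)),
        nilpotent_proper_norm q2.nil (inf_lt_right.2 fun h => e (maxInv_eq maxQ₂ q1 n1 h).symm)⟩
  have sL := pcore_le (primesOf A)ᶜ H'
  have nL := sAH'.trans (pcore_norm (primesOf A)ᶜ H')
  have coL := coprime_of_compl (pcore_piGrp (primesOf A)ᶜ H')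
  have solL := sol_of_le (mFT_sol prH') sL
  have Qsyl : ∀ Q : Subgroup G, IsPGrp q Q → A ≤ 𝒩(Q) →
      ∃ R, IsSylowOf q R (piCoreOf (primesOf A)ᶜ H') ∧ A ≤ 𝒩(R) ∧ Q ⊓ H' ≤ R := fun Q qQ nQ =>
    have n' := norm_inf nQ (norm_of_le sAH')
    coprime_Hall_subset nL coL solL (cstrA.2.2 H' _ sAH' prH'
      ⟨inf_le_right, IsPGrp.piGrp (qQ.inf_left _) hqA, n'⟩) (qQ.inf_left _) n'
  obtain ⟨R₁, syl1, nR1, s1⟩ := Qsyl Q₁ q1 n1
  obtain ⟨R₂, syl2, nR2, s2⟩ := Qsyl Q₂ q2 n2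
  obtain ⟨h, hh, e2⟩ := coprime_Hall_trans nL coL solL syl2 nR2 syl1 nR1
  obtain ⟨Q₃, maxQ₃, s3⟩ := maxInv_exists syl2.piGrp nR2
  have nt2 : Q₂ ⊓ H' ≠ ⊥ := lt2.ne_bot
  have nt3 : Q₃ ⊓ H' ≠ ⊥ := ne_bot_mono (le_inf (s2.trans s3) inf_le_right) nt2
  have c1 := card_lt_of_lt lt1
  have c2 := card_lt_of_lt lt2
  have s4 : (Q₁ ⊓ H') :^ h ≤ Q₁ :^ h ⊓ Q₃ :=
    le_inf (conjg_mono h inf_le_left) ((conjg_mono h s1).trans (e2.ge.trans s3))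
  obtain ⟨k₁, hk₁, e3⟩ := ih _ (by
      have := card_le_of_le s4
      rw [card_conjg] at this
      have := card_le_card_group (Q₁ :^ h ⊓ Q₃)
      omega) sAH' prH' (maxInv_conj_norm maxQ₁ (cent_le_norm A hh.2)) maxQ₃
    (ne_bot_mono (le_inf (conjg_mono h inf_le_left) (conjg_le_of_mem inf_le_right (sL hh.1)))
      fun h0 => lt1.ne_bot (conjg_eq_bot.1 h0)) nt3 rfl
  obtain ⟨k₂, hk₂, e4⟩ := ih _ (by
      have := card_le_of_le (le_inf (s2.trans s3) inf_le_left)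
      have := card_le_card_group (Q₃ ⊓ Q₂)
      omega) sAH' prH' maxQ₃ maxQ₂ nt3 nt2 rfl
  refine ⟨k₂ * (k₁ * h), mul_mem hk₂ (mul_mem hk₁ (cent_le_core cstrA inf_le_right
    ((pcore_piGrp _ H').inf_left _) hh)), ?_⟩
  rw [conjg_mul, conjg_mul, ← e3, ← e4]

/-- B & G, Theorem 7.2. -/
theorem normed_constrained_rank3_trans {A : Subgroup G} (cstrA : NormedConstrained A) {q : ℕ}
    (hq : q.Prime) (hqA : q ∉ primesOf A) (r3 : 3 ≤ rank 𝒵(A)) :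
    TransOn (piCoreOf (primesOf A)ᶜ 𝒞(A)) (maxInvSubgroups ⊤ A {q}) := by
  intro Q₁ maxQ₁ Q₂ maxQ₂
  obtain ⟨p, hp, B, EB⟩ := rank_geP.1 r3
  have sBA := EB.le.trans inf_le_left
  have n1 := maxInv_norm maxQ₁
  have n2 := maxInv_norm maxQ₂
  have co : ∀ Q ∈ maxInvSubgroups ⊤ A {q}, ∀ C ≤ B, (Nat.card Q).Coprime (Nat.card C) := fun Q hQ C hC =>
    (coprime_of_compl (IsPGrp.piGrp (maxInv_piGrp hQ) hqA)).coprime_dvd_right
      (card_dvd_of_le (hC.trans sBA))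
  by_cases h1 : Q₁ = ⊥
  · exact ⟨1, one_mem _, by rw [conjg_one, h1, maxInv_eq_bot (h1 ▸ maxQ₁) (maxInv_piGrp maxQ₂) n2]⟩
  have h2 : Q₂ ≠ ⊥ := fun h2 => h1 (maxInv_eq_bot (h2 ▸ maxQ₂) (maxInv_piGrp maxQ₁) n1)
  obtain ⟨C, sCB, iC, ntC⟩ : ∃ C ≤ B, C.relIndex B = p ∧ Q₁ ⊓ 𝒞(C) ≠ ⊥ := by
    by_contra! h
    exact h1 (le_bot_iff.1 (coprime_abelem_gen_cent_le hp EB.abelem (EB.ne_bot hp (by decide))
      (sBA.trans n1) (co _ maxQ₁ B le_rfl) fun C hC hi => (h C hC hi).le))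
  have EC : IsPnElem p 2 C C := by
    refine ⟨le_rfl, abelem_of_le EB.abelem sCB, ?_⟩
    have := card_mul_relIndex sCB
    rw [iC, EB.card, pow_succ] at this
    exact Nat.eq_of_mul_eq_mul_right hp.pos this
  obtain ⟨z, hz, ntz, ntQ⟩ := exists_cent1_ne_bot EC.abelian (EC.not_cyclic hp le_rfl)
    ((sCB.trans sBA).trans n2) (co _ maxQ₂ C sCB) h2
  exact normed_constrained_meet_trans cstrA hq hqA
    (mem_cent_iff_le_cent_singleton.1 (EB.le (sCB hz)).2) (mFT_cent1_proper ntz) maxQ₁ maxQ₂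
    (ne_bot_mono (inf_le_inf_left _ (cent_le_cent_singleton hz)) ntC) ntQ

/-- B & G, Theorem 7.3. -/
theorem normed_constrained_rank2_trans {A : Subgroup G} (cstrA : NormedConstrained A) {q : ℕ}
    (hq : q.Prime) (hqA : q ∉ primesOf A) (qC : q ∣ Nat.card 𝒞(A)) (r2 : 2 ≤ rank 𝒵(A)) :
    TransOn (piCoreOf (primesOf A)ᶜ 𝒞(A)) (maxInvSubgroups ⊤ A {q}) := by
  obtain ⟨p, hp, B, EB⟩ := rank_geP.1 r2
  have sBA := EB.le.trans inf_le_left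
  obtain ⟨R₀, sylR₀⟩ := sylow_exists hq 𝒞(A)
  obtain ⟨R, maxR, sR⟩ := maxInv_exists sylR₀.piGrp (norm_of_cent' sylR₀.le)
  have ntR₀ := sylR₀.ne_bot' hq qC
  have key : ∀ Q ∈ maxInvSubgroups ⊤ A {q}, ∃ k ∈ piCoreOf (primesOf A)ᶜ 𝒞(A), Q = R :^ k := by
    intro Q maxQ
    have h2 : Q ≠ ⊥ := fun h2 =>
      ntR₀ (maxInv_eq_bot (h2 ▸ maxQ) sylR₀.piGrp (norm_of_cent' sylR₀.le))
    obtain ⟨z, hz, ntz, ntQ⟩ := exists_cent1_ne_bot EB.abelian (EB.not_cyclic hp le_rfl)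
      (sBA.trans (maxInv_norm maxQ)) ((coprime_of_compl
        (IsPGrp.piGrp (maxInv_piGrp maxQ) hqA)).coprime_dvd_right (card_dvd_of_le sBA)) h2
    exact normed_constrained_meet_trans cstrA hq hqA
      (mem_cent_iff_le_cent_singleton.1 (EB.le hz).2) (mFT_cent1_proper ntz) maxR maxQ
      (ne_bot_mono (le_inf sR (sylR₀.le.trans (cent_le_cent_singleton (sBA hz)))) ntR₀) ntQ
  intro Q₁ maxQ₁ Q₂ maxQ₂
  obtain ⟨k₁, hk₁, rfl⟩ := key Q₁ maxQ₁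
  obtain ⟨k₂, hk₂, rfl⟩ := key Q₂ maxQ₂
  exact ⟨k₂ * k₁⁻¹, mul_mem hk₂ (inv_mem hk₁), by rw [conjg_mul, conjg_inv_cancel]⟩

theorem normed_trans_step {A : Subgroup G} (cstrA : NormedConstrained A) {q : ℕ}
    (hqA : q ∉ primesOf A) {B P : Subgroup G} (sAB : A ≤ B) (nsB : B ⊲ P)
    (piP : IsPiGrp (primesOf A) P)
    (trB : TransOn (piCoreOf (primesOf A)ᶜ 𝒞(B)) (maxInvSubgroups ⊤ B {q})) :
    TransOn (piCoreOf (primesOf A)ᶜ 𝒞(P)) (maxInvSubgroups ⊤ P {q}) ∧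
      maxInvSubgroups ⊤ P {q} ⊆ maxInvSubgroups ⊤ B {q} := by
  have sAP := sAB.trans nsB.1
  have nK : P ≤ 𝒩(piCoreOf (primesOf A)ᶜ 𝒞(B)) := norm_pcore _ (norm_cent nsB.2)
  have coK := (piP.coprime (pcore_piGrp _ 𝒞(B))).symm
  have solK := sol_of_le (mFT_sol (mFT_cent_proper (ne_bot_mono sAB cstrA.1)))
    (pcore_le (primesOf A)ᶜ _)
  have sub : maxInvSubgroups ⊤ P {q} ⊆ maxInvSubgroups ⊤ B {q} := by
    intro Q maxQ
    have qQ : IsPGrp q Q := maxInv_piGrp maxQ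
    have nQ := maxInv_norm maxQ
    obtain ⟨Q₁, maxQ₁, sQ⟩ := maxInv_exists qQ (nsB.1.trans nQ)
    have q1 : IsPGrp q Q₁ := maxInv_piGrp maxQ₁
    suffices h : Q = Q₁ from h ▸ maxQ₁
    by_cases h0 : Q = ⊥
    · obtain ⟨x, -, hx⟩ := coprime_norm_conj_exists nK coK (Or.inl solK)
        fun a ha => trB Q₁ maxQ₁ _ (maxInv_conj_norm maxQ₁ (nsB.2 ha))
      rw [h0, conjg_eq_bot.1 (maxInv_eq_bot (h0 ▸ maxQ) (q1.conjg x) hx)]
    · have prN := mFT_norm_proper h0 (pGrp_proper qQ)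
      have sAN := sAP.trans nQ
      have h1 : ∀ Y, IsPGrp q Y → Y ≤ 𝒩(Q) → A ≤ 𝒩(Y) → Y ≤ piCoreOf (primesOf A)ᶜ 𝒩(Q) :=
        fun Y qY sY nY => cstrA.2.2 _ Y sAN prN ⟨sY, qY.piGrp hqA, nY⟩
      obtain ⟨R, sylR, nR, sR⟩ := coprime_Hall_subset (nQ.trans (pcore_norm _ _))
        (piP.coprime (pcore_piGrp _ 𝒩(Q))).symm (sol_of_le (mFT_sol prN) (pcore_le _ _))
        (h1 Q qQ le_normalizer sAN) qQ nQ
      rw [maxInv_eq maxQ sylR.piGrp nR sR] at sylR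
      exact nilpotent_sub_norm q1.nil sQ (sylR.le_of_le_norm (q1.inf_left _) (h1 _ (q1.inf_left _)
        inf_le_right (norm_inf (sAB.trans (maxInv_norm maxQ₁)) (norm_of_le sAN))) inf_le_right)
  refine ⟨fun Q₁ maxQ₁ Q₂ maxQ₂ => ?_, sub⟩
  obtain ⟨k, hk, rfl⟩ := trB Q₁ (sub maxQ₁) Q₂ (sub maxQ₂)
  obtain ⟨x, hx, e⟩ := coprime_norm_conj_trans nK coK (Or.inl solK) hk (maxInv_norm maxQ₂)
    (maxInv_norm maxQ₁)
  refine ⟨x, ?_, e⟩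
  rw [← core_inf_cent cstrA sAB] at hx
  rw [← core_inf_cent cstrA sAP]
  exact ⟨hx.1.1, hx.2⟩

/-- B & G, Theorem 7.4. -/
theorem normed_trans_superset {A : Subgroup G} (cstrA : NormedConstrained A) {q : ℕ}
    (hq : q.Prime) (hqA : q ∉ primesOf A) {P : Subgroup G} (prP : P ≠ ⊤) (sAP : A ≤ P)
    (snAP : (A.subgroupOf P).IsSubnormal) (piP : IsPiGrp (primesOf A) P)
    (trK : TransOn (piCoreOf (primesOf A)ᶜ 𝒞(A)) (maxInvSubgroups ⊤ A {q})) :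
    piCoreOf (primesOf A)ᶜ 𝒞(A) ⊓ 𝒞(P) = piCoreOf (primesOf A)ᶜ 𝒞(P) ∧
    TransOn (piCoreOf (primesOf A)ᶜ 𝒞(P)) (maxInvSubgroups ⊤ P {q}) ∧
    maxInvSubgroups ⊤ P {q} ⊆ maxInvSubgroups ⊤ A {q} ∧
    ∀ Q ∈ maxInvSubgroups ⊤ P {q},
      P ⊓ ⁅𝒩(P), 𝒩(P)⁆ ≤ ⁅𝒩(Q), 𝒩(Q)⁆ ∧
      𝒩(P) = piCoreOf (primesOf A)ᶜ 𝒞(P) ⊔ (𝒩(P) ⊓ 𝒩(Q)) := by
  have key : ∀ X : Subgroup P, X.IsSubnormal → A ≤ X.map P.subtype →
      TransOn (piCoreOf (primesOf A)ᶜ 𝒞(X.map P.subtype)) (maxInvSubgroups ⊤ (X.map P.subtype) {q}) →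
      TransOn (piCoreOf (primesOf A)ᶜ 𝒞(P)) (maxInvSubgroups ⊤ P {q}) ∧
        maxInvSubgroups ⊤ P {q} ⊆ maxInvSubgroups ⊤ (X.map P.subtype) {q} := by
    intro X hX
    induction hX with
    | top => rw [map_subtype_top]; exact fun _ h => ⟨h, le_rfl⟩
    | step X Y sXY _ nX ih =>
      intro sA tr
      obtain ⟨h1, h2⟩ := normed_trans_step cstrA hqA sA (map_normalIn P.subtype
        ⟨sXY, (normal_subgroupOf_iff_le_normalizer sXY).1 nX⟩) (piP.of_le (map_subtype_le Y)) tr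
      obtain ⟨h3, h4⟩ := ih (sA.trans (map_mono sXY)) h1
      exact ⟨h3, h4.trans h2⟩
  have e := map_subtype_subgroupOf sAP
  obtain ⟨trP, sub⟩ := key _ snAP e.ge (by rwa [e])
  rw [e] at sub
  refine ⟨core_inf_cent cstrA sAP, trP, sub, fun Q maxQ => ?_⟩
  have nsK : piCoreOf (primesOf A)ᶜ 𝒞(P) ⊲ 𝒩(P) :=
    NormalIn.pcore ⟨cent_le_norm P, norm_cent le_rfl⟩ _
  have defN : piCoreOf (primesOf A)ᶜ 𝒞(P) ⊔ (𝒩(P) ⊓ 𝒩(Q)) = 𝒩(P) := by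
    refine le_antisymm (sup_le nsK.1 inf_le_left) fun g hg => ?_
    obtain ⟨k, hk, h⟩ := trP Q maxQ _ (maxInv_conj_norm maxQ hg)
    rw [← mul_inv_cancel_left k g]
    exact mul_mem (mem_sup_left hk) (mem_sup_right (mem_inf.2
      ⟨mul_mem (inv_mem (nsK.1 hk)) hg, conjg_eq_conjg_iff.1 h⟩))
  refine ⟨?_, defN.symm⟩
  rw [pprod_focal_coprime defN nsK (le_inf le_normalizer (maxInv_norm maxQ))
    (piP.coprime (pcore_piGrp _ _)).symm]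
  exact inf_le_right.trans (der_mono inf_le_right)

/-- B & G, Proposition 7.5(a). -/
theorem plength_1_normed_constrained {p : ℕ} (hp : p.Prime) {A : Subgroup G} (ntA : A ≠ ⊥)
    (maxA : IsPMaxElem p A ⊤) (pl1 : ∀ M : Subgroup G, M ≠ ⊤ → PLengthLE p 1 M) :
    NormedConstrained A := by
  have pA := abelem_pGrp hp maxA.abelem
  refine ⟨ntA, pGrp_proper pA, fun X Y sAX prX hY => ?_⟩
  rw [primesOf_pGrp pA ntA] at hY ⊢
  exact plength1_norm_pmaxElem hp (mFT_prime_ne_two (pA.dvd_card ntA)) (maxA.of_le sAX le_top)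
    (mFT_sol prX) (pl1 X prX) hY.1 hY.2.2 hY.2.1

/-- B & G, Proposition 7.5(b). -/
theorem SCN_normed_constrained {p : ℕ} (hp : p.Prime) {P A : Subgroup G} (sylP : IsSylowOf p P ⊤)
    (scnA : IsSCNAt 2 P A) : NormedConstrained A := by
  obtain ⟨scn, r2⟩ := scnA
  have nsA := SCN_normal scn
  have cA := SCN_abelian scn
  have pP : IsPGrp p P := sylP.piGrp
  have pA : IsPGrp p A := pP.of_le nsA.1
  have ntA : A ≠ ⊥ := rank_pos_iff.1 (by omega)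
  rw [rank_pgroup hp pA] at r2
  obtain ⟨B, sB, nsB, oB⟩ := normal_pgroup hp pP (nsA.ohm1 p) (k := 2)
    (by rw [p_rank_abelian hp cA]; exact pow_dvd_pow p r2)
  have EB : IsPnElem p 2 B A := ⟨sB.trans (ohm1_le p A), abelem_of_le (ohm1_abelem p cA) sB, oB⟩
  have key1 : ∀ Z Y : Subgroup G, Z ≠ ⊥ → P ≤ 𝒞(Z) → Y ≤ 𝒞(Z) → IsPiGrp {p}ᶜ Y → A ≤ 𝒩(Y) →
      Y ≤ pPrimeCoreOf p 𝒞(Z) := fun Z Y ntZ sP sY p'Y nY =>
    SCN_norm_le_p'core hp (mFT_odd _) (mFT_sol (mFT_cent_proper ntZ)) (sylP.of_le sP le_top) scn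
      sY p'Y nY
  have key2 : ∀ X Y : Subgroup G, X ≤ B → Nat.card X = p → Y ≤ 𝒞(X) → IsPiGrp {p}ᶜ Y → A ≤ 𝒩(Y) →
      Y ≤ pPrimeCoreOf p 𝒞(X) := by
    intro X Y sXB oX sY p'Y nY
    have ntX := ne_bot_of_card_prime (oX ▸ hp)
    by_cases cX : P ≤ 𝒞(X)
    · exact key1 X Y ntX cX sY p'Y nY
    have solX := mFT_sol (mFT_cent_proper ntX)
    obtain ⟨Z, EZ⟩ := p1Elem_exists hp ((EB.pGrp hp).inf_left 𝒵(P) |> IsPGrp.dvd_card <|
      meet_center_nil pP.nil nsB (EB.ne_bot hp (by decide)))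
    have sZB := EZ.le.trans inf_le_left
    have cZP : Z ≤ 𝒞(P) := EZ.le.trans (inf_le_right.trans inf_le_right)
    have defB := (p2Elem_dprod hp EB (EZ.of_le sZB) ((pnElem_one_iff hp).2 ⟨sXB, oX⟩)
      fun h => cX (le_cent_symm (h ▸ cZP))).sup_eq
    have defP1 : P ⊓ 𝒞(B) = P ⊓ 𝒞(X) := by
      rw [← defB, cent_sup, ← inf_assoc, inf_eq_left.2 (le_cent_symm cZP)]
    obtain ⟨P₂, sylP₂, s12⟩ := sylow_superset hp (pP.inf_left 𝒞(X)) inf_le_right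
    have i1 : (P ⊓ 𝒞(X)).relIndex P ∣ p := by
      rw [← defP1, inf_relIndex_left]
      exact piNat_dvd_of_not_sq_dvd hp (relIndex_pos _ _).ne' (pP.relIndex _)
        (logn_quotient_cent_abelem hp nsB.2 EB.abelem oB.le)
    have ns12 := normal_of_relIndex_dvd hp sylP₂.piGrp s12 ((relIndex_dvd_of_card_dvd s12 inf_le_left
      (sylP.card_dvd sylP₂.piGrp le_top)).trans i1)
    have sAX : A ≤ 𝒞(X) := (abelian_iff_le_cent.1 cA).trans (cent_anti (sXB.trans EB.le))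
    have sZA := sZB.trans EB.le
    have sZ : Z ≤ pPrimePCoreOf p 𝒞(X) :=
      (le_inf (le_inf (sZA.trans nsA.1) (sZA.trans sAX)) (cZP.trans (cent_anti inf_le_left))).trans
        (odd_p_abelian_constrained hp (mFT_odd _) solX P₂ _ sylP₂ (abelian_inf_cent _)
          ((charIn_center _).trans_normal ns12))
    have pZ := EZ.pGrp hp
    rw [← coprime_cent_prod (sZA.trans nY) (pZ.coprime p'Y).symm (Or.inr pZ.sol)]
    refine sup_le (comm_le_p'core sZ sY p'Y (sZA.trans nY)) ?_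
    exact le_p'core_of_cent solX (sZA.trans sAX) pZ (inf_le_left.trans sY)
      (key1 Z _ (EZ.ne_bot hp one_pos) (le_cent_symm cZP) inf_le_right (p'Y.inf_left _)
        (norm_inf nY (norm_cent (norm_of_le_abelian cA sZA))))
  refine ⟨ntA, pGrp_proper pA, fun X Y sAX prX hY => ?_⟩
  rw [primesOf_pGrp pA ntA] at hY ⊢
  obtain ⟨sY, p'Y, nY⟩ := hY
  refine coprime_abelian_gen_cent1_le EB.abelian (EB.not_cyclic hp le_rfl) (EB.le.trans nY)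
    ((EB.pGrp hp).coprime p'Y).symm fun b hb ntb => ?_
  have sb := zpowers_le.2 hb
  rw [← cent_zpowers]
  exact le_p'core_of_cent (mFT_sol prX) ((sb.trans EB.le).trans sAX) ((EB.pGrp hp).of_le sb)
    (inf_le_left.trans sY) (key2 _ _ sb (card_zpowers_of_pow_prime hp (EB.abelem.2 b hb) ntb)
      inf_le_right (IsPiGrp.inf_left p'Y _)
      (norm_inf nY (norm_cent (norm_of_le_abelian cA (sb.trans EB.le)))))

/-- B & G, Theorem 7.6 (Thompson transitivity). -/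
theorem Thompson_transitivity {p q : ℕ} (hp : p.Prime) (hq : q.Prime) (hqp : q ≠ p) {P A : Subgroup G}
    (sylP : IsSylowOf p P ⊤) (scnA : IsSCNAt 3 P A) :
    TransOn (pPrimeCoreOf p 𝒞(A)) (maxInvSubgroups ⊤ A {q}) := by
  have pA : IsPGrp p A := sylP.piGrp.of_le scnA.1.1
  have r3 := scnA.2
  have e := primesOf_pGrp pA (rank_pos_iff.1 (by omega))
  have h := normed_constrained_rank3_trans (SCN_normed_constrained hp sylP ⟨scnA.1, by omega⟩) hq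
    (by rwa [e]) (by rwa [inf_eq_left.2 (abelian_iff_le_cent.1 (SCN_abelian scnA.1))])
  rwa [e] at h

end CA.BG
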