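/-
B & G section 8: auxiliary lemmas.
-/
import Cfsg.Agent.BG.I07

set_option autoImplicit false
set_option linter.unusedSectionVars false

namespace CA.BG.P08

open Subgroup Cfsg CA.FG CA.BG.P07
open scoped commutatorElement

universe u

section General

variable {G : Type u} [Group G] [Finite G] {p q : ℕ} {π : Set ℕ} {A F H P X Y : Subgroup G}

theorem le_pcore_compl_of_forall (sY : Y ≤ X) (h : ∀ q, q.Prime → q ∈ π → Y ≤ pPrimeCoreOf q X) :
    Y ≤ piCoreOf πᶜ X := by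
  have nW : X ≤ 𝒩(⨅ q : {q : ℕ // q.Prime ∧ q ∈ π}, pPrimeCoreOf q X) :=
    norm_iInf fun q => pcore_norm _ X
  have sW : Y ≤ ⨅ q : {q : ℕ // q.Prime ∧ q ∈ π}, pPrimeCoreOf q X := le_iInf fun q => h q q.2.1 q.2.2
  have hW : ∀ q, q.Prime → q ∈ π →
      ⨅ q : {q : ℕ // q.Prime ∧ q ∈ π}, pPrimeCoreOf q X ≤ pPrimeCoreOf q X := fun q hq hπ =>
    iInf_le (fun q : {q : ℕ // q.Prime ∧ q ∈ π} => pPrimeCoreOf q X) ⟨q, hq, hπ⟩
  generalize ⨅ q : {q : ℕ // q.Prime ∧ q ∈ π}, pPrimeCoreOf q X = W at nW sW hW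
  refine (le_inf sY sW).trans (pcore_max (inf_normalIn_of_norm nW) fun q hq hd hπ => ?_)
  exact (pcore_piGrp {q}ᶜ X).of_le (inf_le_right.trans (hW q hq hπ)) q hq hd rfl

theorem cent_p'core_of_forall (solH : Group.IsSolvable H) (pP : IsPGrp p P) (nH : P ≤ 𝒩(H))
    (h : ∀ q, q.Prime → q ≠ p → pCoreOf q H ≤ 𝒞(P)) : P ≤ 𝒞(pPrimeCoreOf p H) := by
  refine (le_inf le_rfl (le_cent_symm (fitting_le_of_forall_pcore fun q hq => ?_))).trans
    (coprime_cent_Fitting (norm_pcore _ nH) (pP.coprime (pcore_piGrp _ H)).symm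
      (sol_of_le solH (pcore_le _ H)))
  by_cases e : q = p
  · rw [e, pCoreOf, pcore_eq_bot_of_piGrp (pcore_piGrp _ H)]; exact bot_le
  · exact ((pcore_normal _ H).pcore_le _).trans (h q hq e)

theorem pcore_center_ne_bot (nilF : Group.IsNilpotent F) (hq : q.Prime) (h : q ∣ Nat.card F) :
    pCoreOf q 𝒵(F) ≠ ⊥ := by
  rw [pCoreOf, nilpotent_pcore_inf _ nilF inf_le_left, inf_comm]
  exact meet_center_nil nilF (pcore_normal _ F) ((nilpotent_pcore_Hall {q} nilF).ne_bot hq rfl h)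

theorem eq_bot_of_forall_pcore (solX : Group.IsSolvable X) (piX : IsPiGrp π X)
    (h : ∀ q, q.Prime → q ∈ π → pCoreOf q X = ⊥) : X = ⊥ := by
  by_contra h0
  obtain ⟨q, hq, h1⟩ := exists_pcore_ne_bot solX h0
  exact h1 (h q hq ((pcore_pGrp q X).mem_of_piGrp h1 (piX.of_le (pcore_le _ X))))

theorem p'core_eq_bot_of_fitting (solH : Group.IsSolvable H) (pF : IsPGrp p (fittingOf H)) :
    pPrimeCoreOf p H = ⊥ :=
  eq_bot_of_forall_pcore (sol_of_le solH (pcore_le _ H)) (pcore_piGrp _ H) fun q _ hq =>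
    (pF.of_le (((pcore_normal _ H).pcore_le _).trans (pcore_le_fitting q H))).eq_bot
      ((pcore_pGrp q _).piGrp hq)

end General

variable {G : Type u} [Group G] [MinSimpleOdd G] {p q : ℕ} {A F M Y : Subgroup G}

/-- If `И*(F; q) ⊆ И*(A; q)` and the latter has one element, normal in `N(F)`, it is trivial. -/
theorem eq_bot_of_trans_bot (maxM : IsCoatom M) (nF : M ≤ 𝒩(F))
    (tr : TransOn ⊥ (maxInvSubgroups ⊤ A {q}))
    (sub : maxInvSubgroups ⊤ F {q} ⊆ maxInvSubgroups ⊤ A {q}) (hM : pCoreOf q M = ⊥)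
    (qY : IsPGrp q Y) (nY : A ≤ 𝒩(Y)) : Y = ⊥ := by
  obtain ⟨Q, maxQ, -⟩ := maxInv_exists (piGrp_bot {q}) (norm_bot F)
  have qQ : IsPGrp q Q := maxInv_piGrp maxQ
  have nQ : M ≤ 𝒩(Q) := le_norm_iff_conjg.2 fun g hg => by
    obtain ⟨k, hk, e⟩ := tr Q (sub maxQ) _ (sub (maxInv_conj_norm maxQ (nF hg)))
    rw [e, mem_bot.1 hk, conjg_one]
  have h0 : Q = ⊥ := by
    by_contra h0
    exact h0 (eq_bot_of_pcore_eq_bot hM
      ⟨le_normalizer.trans (mmax_norm maxM h0 (pGrp_proper qQ) nQ).le, nQ⟩ qQ)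
  exact maxInv_eq_bot (h0 ▸ sub maxQ) qY nY

end CA.BG.P08
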