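/-
Interface: B & G section 8 (the Fitting subgroup of a maximal subgroup).
-/
import Cfsg.Agent.BG.I07
import Cfsg.Agent.BG.P08a

set_option autoImplicit false
set_option linter.unusedVariables false

namespace CA.BG

open Subgroup Cfsg CA.FG CA.BG.P07 CA.BG.P08
open scoped commutatorElement

universe u

variable {G : Type u} [Group G] [MinSimpleOdd G]

/-- B & G, Theorem 8.1(a). -/
theorem non_pcore_Fitting_Uniqueness {p : ℕ} (hp : p.Prime) {M A₀ : Subgroup G} (maxM : IsCoatom M)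
    (p'F : ¬ IsPGrp p (fittingOf M)) (maxA₀ : IsPMaxElem p A₀ (fittingOf M)) (r3 : 3 ≤ pRank p A₀) :
    InUniqueMaximal (fittingOf M ⊓ 𝒞(A₀)) := by
  obtain ⟨F, hF⟩ : ∃ F, F = fittingOf M := ⟨_, rfl⟩
  have nilF : Group.IsNilpotent F := hF ▸ fitting_nil M
  have nsF : F ⊲ M := hF ▸ fitting_normal M
  have solM := mmax_sol maxM
  have hCF : M ⊓ 𝒞(F) ≤ F := hF ▸ cent_sub_Fitting solM
  have hOF : ∀ q, pCoreOf q M ≤ F := hF ▸ fun q => pcore_le_fitting q M
  rw [← hF] at p'F maxA₀ ⊢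
  obtain ⟨A, hA⟩ : ∃ A, A = F ⊓ 𝒞(A₀) := ⟨_, rfl⟩
  rw [← hA]
  have sAF : A ≤ F := hA ▸ inf_le_left
  have sAM := sAF.trans nsF.1
  have nilA := nil_of_le nilF sAF
  have pA₀ := abelem_pGrp hp maxA₀.abelem
  have sA₀ : A₀ ≤ A := hA ▸ le_inf maxA₀.le (abelian_iff_le_cent.1 maxA₀.abelem.1)
  have cA₀ : A ≤ 𝒞(A₀) := hA ▸ inf_le_right
  have sZA : 𝒵(F) ≤ A := hA ▸ inf_le_inf_left F (cent_anti maxA₀.le)
  have ntZ := fun q (h : q ∈ primesOf F) => pcore_center_ne_bot nilF h.1 h.2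
  have hπ : primesOf A = primesOf F := Set.Subset.antisymm (primesOf_mono sAF) fun q h =>
    ⟨h.1, ((pcore_pGrp q _).dvd_card (ntZ q h)).trans (card_dvd_of_le ((pcore_le _ _).trans sZA))⟩
  have defN : ∀ q ∈ primesOf F, 𝒩(pCoreOf q 𝒵(F)) = M := fun q h =>
    mmax_normal maxM (((charIn_center F).trans_normal nsF).pcore _) (ntZ q h)
  have sZq : ∀ q, pCoreOf q 𝒵(F) ≤ pCoreOf q A := fun q => nilpotent_pcore_mono _ nilA sZA
  have sCq : ∀ q ∈ primesOf F, 𝒞(pCoreOf q A) ≤ M := fun q h =>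
    ((cent_anti (sZq q)).trans (cent_le_norm _)).trans (defN q h).le
  have pπ : p ∈ primesOf F :=
    ⟨hp, ((pRank_pos_iff hp).1 (by omega)).trans (card_dvd_of_le maxA₀.le)⟩
  have alt : ∀ q, ∃ r ∈ primesOf F, r ≠ q := fun q => by
    by_cases e : q = p
    · by_contra! h
      exact p'F fun r hr hd => (h r ⟨hr, hd⟩).trans e
    · exact ⟨p, pπ, Ne.symm e⟩
  have piF := piGrp_primesOf F
  have trivC : ∀ Q, Q ≤ 𝒞(A) → IsPiGrp (primesOf F)ᶜ Q → Q = ⊥ := fun Q sQ piQ => by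
    have sQM := sQ.trans ((cent_anti (pcore_le _ A)).trans (sCq p pπ))
    have h1 : A ≤ F ⊓ 𝒞(Q) := le_inf sAF (le_cent_symm sQ)
    have h2 := coprime_nil_faithful_cent_stab (sQM.trans nsF.2) (piF.coprime piQ) nilF
      (((inf_le_inf_left F (cent_anti (sA₀.trans h1))).trans hA.ge).trans h1)
    exact (piF.of_le ((le_inf sQM h2).trans hCF)).eq_bot piQ
  have sAr : ∀ q ∈ primesOf F, ∀ r, r ≠ q → ∀ X, A ≤ X → X ≠ ⊤ → pCoreOf r A ≤ pPrimeCoreOf q X :=
    fun q hq r hr X sAX prX => by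
      refine le_p'core_of_norm (mFT_sol prX) (((pcore_le _ _).trans sZA).trans sAX) (pcore_pGrp q _)
        ((pcore_le _ A).trans sAX) ?_
      rw [defN q hq]
      exact (nilpotent_le_pcore nilF ((pcore_le _ A).trans sAF) ((pcore_pGrp r A).piGrp hr)).trans
        (nsF.pcore_le _)
  have ntA : A ≠ ⊥ := ne_bot_mono sA₀ (ne_bot_of_pRank_pos hp (by omega))
  have cstrA : NormedConstrained A := by
    refine ⟨ntA, sub_mmax_proper maxM sAM, fun X Y sAX prX hY => ?_⟩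
    rw [hπ] at hY ⊢
    obtain ⟨sY, piY, nY⟩ := hY
    refine le_pcore_compl_of_forall sY fun q _ hq => ?_
    obtain ⟨r, hr, hrq⟩ := alt q
    have nYr := (pcore_le {r} A).trans nY
    have h1 : Y ⊓ 𝒞(pCoreOf r A) = ⊥ := by
      have piW : IsPiGrp (primesOf F)ᶜ (Y ⊓ 𝒞(pCoreOf r A)) := IsPiGrp.inf_left piY _
      refine trivC _ (comm_eq_bot_iff.1 (le_bot_iff.1 (le_trans (le_inf ?_ ?_)
        (piF.inf_eq_bot piW).le))) piW
      · exact (commutator_mono le_rfl sAF).trans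
          (comm_le_right ((inf_le_right.trans (sCq r hr)).trans nsF.2))
      · exact comm_le_left (norm_inf nY (norm_cent (pcore_norm _ A)))
    rw [← coprime_cent_prod nYr (((pcore_pGrp r A).piGrp hr).coprime piY).symm
      (Or.inr (pcore_pGrp r A).sol), h1, sup_bot_eq]
    exact (commutator_mono le_rfl (sAr q hq r hrq X sAX prX)).trans
      (comm_le_right (sY.trans (pcore_norm _ X)))
  have triv : ∀ q, q.Prime → q ∉ primesOf F → ∀ Y, IsPGrp q Y → A ≤ 𝒩(Y) → Y = ⊥ := by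
    intro q hq hqF Y qY nY
    have tr := normed_constrained_rank3_trans cstrA hq (hπ ▸ hqF)
      ((r3.trans (pRank_mono hp (le_inf sA₀ (le_cent_symm cA₀)))).trans (p_rank_le_rank hp _))
    have sub := (normed_trans_superset cstrA hq (hπ ▸ hqF) (sub_mmax_proper maxM nsF.1) sAF
      (isSubnormal_of_nil nilF sAF) (hπ ▸ piF) tr).2.2.1
    rw [trivC _ (pcore_le _ _) (hπ ▸ pcore_piGrp _ _)] at tr
    exact eq_bot_of_trans_bot maxM nsF.2 tr sub
      ((piF.of_le (hOF q)).eq_bot ((pcore_pGrp q M).piGrp hqF)) qY nY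
  refine ⟨M, ⟨maxM, sAM⟩, fun H ⟨maxH, sAH⟩ => ?_⟩
  have prH := mmax_proper maxH
  have solH := mFT_sol prH
  have piD : ∀ q, q.Prime → pCoreOf q H ≠ ⊥ → q ∈ primesOf F := fun q hq h => by
    by_contra h'
    exact h (triv q hq h' _ (pcore_pGrp q H) (sAH.trans (pcore_norm _ H)))
  have ntDp : pCoreOf p H ≠ ⊥ := fun h0 => by
    have h1 : piCoreOf {r | pCoreOf r H ≠ ⊥}ᶜ H = ⊥ :=
      eq_bot_of_forall_pcore (sol_of_le solH (pcore_le _ H)) (pcore_piGrp _ H) fun r _ hr =>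
        le_bot_iff.1 (((pcore_normal _ H).pcore_le _).trans (not_not.1 hr).le)
    refine ntZ p pπ (le_bot_iff.1 ((sZq p).trans (le_trans ?_ h1.le)))
    exact le_pcore_compl_of_forall ((pcore_le _ A).trans sAH) fun r hr h =>
      sAr r (piD r hr h) p (fun e => h (e ▸ h0)) H sAH prH
  have cAD : ∀ q r, q.Prime → r ≠ q → pCoreOf q H ≤ 𝒞(pCoreOf r A) := fun q r hq hr => by
    by_cases h0 : pCoreOf q H = ⊥
    · rw [h0]; exact bot_le
    · exact (pcore_cent_compl {q} H).trans (cent_anti (sAr q (piD q hq h0) r hr H sAH prH))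
  have defH := mmax_normal maxH (pcore_normal {p} H) ntDp
  obtain ⟨r, hr, hrp⟩ := alt p
  have sDM : pCoreOf p H ≤ M := (cAD p r hp hrp).trans (sCq r hr)
  have s1 : pPrimeCoreOf p H ≤ pPrimeCoreOf p M := by
    refine le_p'core_of_norm solM sDM (pcore_pGrp p H) ?_ (by rw [defH])
    exact (le_cent_symm (cent_p'core_of_forall solH (pcore_pGrp p A)
      (norm_of_le ((pcore_le _ A).trans sAH)) fun q hq h => cAD q p hq (Ne.symm h))).trans (sCq p pπ)
  have s2 : pPrimeCoreOf p M ≤ pPrimeCoreOf p H := by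
    refine le_p'core_of_norm solH (((pcore_le _ _).trans sZA).trans sAH) (pcore_pGrp p _) ?_
      (by rw [defN p pπ])
    refine ((le_cent_symm (cent_p'core_of_forall solM (pcore_pGrp p H) (norm_of_le sDM)
      fun q hq h => le_trans ?_ (le_cent_symm (cAD p q hp h)))).trans (cent_le_norm _)).trans defH.le
    exact nilpotent_le_pcore nilA (hA ▸ le_inf (hOF q) (sub_nilpotent_cent2 nilF (hOF q) maxA₀.le
      ((pcore_pGrp q M).coprime_of_ne pA₀ h))) (pcore_pGrp q M)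
  have nt : pPrimeCoreOf p M ≠ ⊥ := ne_bot_mono (pcore_max (((charIn_center F).trans_normal nsF).pcore _)
    ((pcore_pGrp r _).piGrp hrp)) (ntZ r hr)
  have e := le_antisymm s1 s2
  exact (mmax_normal maxH (pcore_normal {p}ᶜ H) (ne_bot_mono s2 nt)).symm.trans
    ((congrArg (fun X : Subgroup G => 𝒩(X)) e).trans (mmax_normal maxM (pcore_normal {p}ᶜ M) nt))

/-- B & G, Theorem 8.1(b). -/
theorem SCN_Fitting_Uniqueness {p : ℕ} (hp : p.Prime) {M P A : Subgroup G} (maxM : IsCoatom M)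
    (pF : IsPGrp p (fittingOf M)) (sylP : IsSylowOf p P M) (r3 : 3 ≤ pRank p (fittingOf M))
    (scnA : IsSCNAt 3 P A) :
    IsSylowOf p P ⊤ ∧ A ≤ fittingOf M ∧ InUniqueMaximal A := by
  obtain ⟨scn, rA⟩ := scnA
  have nsA := SCN_normal scn
  have cA := SCN_abelian scn
  have pP : IsPGrp p P := sylP.piGrp
  have pA : IsPGrp p A := pP.of_le nsA.1
  have sAM := nsA.1.trans sylP.le
  have ntA : A ≠ ⊥ := rank_pos_iff.1 (by omega)
  have solM := mmax_sol maxM
  have nsF := fitting_normal M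
  have hO := p'core_eq_bot_of_fitting solM pF
  have defF := Fitting_eq_pcore hO
  have sFP : fittingOf M ≤ P := defF ▸ IsPiHallOf.pcore_le sylP
  have sAF : A ≤ fittingOf M :=
    (odd_p_abelian_constrained hp (mFT_odd _) solM P A sylP cA nsA).trans
      ((pcore2_of_eq_bot hO _).trans defF.symm).le
  have sCA : 𝒞(A) ≤ M :=
    ((cent_anti ((inf_le_inf sFP (cent_anti sAF)).trans (SCN_cent scn).le)).trans (cent_le_norm _)).trans
      (mmax_normal maxM ((charIn_center _).trans_normal nsF)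
        (center_nil_ne_bot (fitting_nil M) (ne_bot_mono sAF ntA))).le
  have puig : ∀ H R : Subgroup G, IsCoatom H → pPrimeCoreOf p H = ⊥ → IsSylowOf p R H → R ≠ ⊥ →
      𝒩(𝒵(puigOf R)) = H ∧ IsSylowOf p R ⊤ := fun H R maxH h0 sylR ntR => by
    have e := mmax_normal maxH (Puig_center_normal hp (mFT_odd _) (mmax_sol maxH) sylR h0)
      fun h => ntR (trivg_center_Puig_pgroup sylR.piGrp h)
    exact ⟨e, sylR.of_norm_le hp le_top (inf_le_right.trans ((center_Puig_char R).norm_le.trans e.le))⟩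
  have sylPG := (puig M P maxM hO sylP (ne_bot_mono nsA.1 ntA)).2
  refine ⟨sylPG, sAF, M, ⟨maxM, sAM⟩, fun H₀ ⟨maxH₀, sAH₀⟩ => ?_⟩
  have K1 : pPrimeCoreOf p 𝒞(A) = ⊥ := by
    have p'K := pcore_piGrp {p}ᶜ 𝒞(A)
    have sKM := (pcore_le {p}ᶜ _).trans sCA
    have h1 : A ≤ fittingOf M ⊓ 𝒞(pPrimeCoreOf p 𝒞(A)) := le_inf sAF (le_cent_symm (pcore_le _ _))
    have h2 := coprime_nil_faithful_cent_stab (sKM.trans nsF.2) (pF.coprime p'K) pF.nil
      (((inf_le_inf sFP (cent_anti h1)).trans (SCN_cent scn).le).trans h1)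
    exact (pF.of_le ((le_inf sKM h2).trans (cent_sub_Fitting solM))).eq_bot p'K
  have eA := primesOf_pGrp pA ntA
  have triv : ∀ H, H ≠ ⊤ → A ≤ H → pPrimeCoreOf p H = ⊥ := fun H prH sAH => by
    refine eq_bot_of_forall_pcore (sol_of_le (mFT_sol prH) (pcore_le _ H)) (pcore_piGrp _ H)
      fun q hq hqp => ?_
    have tr := Thompson_transitivity hp hq hqp sylPG ⟨scn, rA⟩
    have sub := (normed_trans_superset (SCN_normed_constrained hp sylPG ⟨scn, by omega⟩) hq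
      (eA ▸ hqp) (pGrp_proper pF) sAF (isSubnormal_of_nil pF.nil sAF) (eA ▸ pF) (eA ▸ tr)).2.2.1
    rw [K1] at tr
    exact eq_bot_of_trans_bot maxM nsF.2 tr sub
      (le_bot_iff.1 ((pcore_mono_pi (Set.singleton_subset_iff.2 hqp) M).trans hO.le)) (pcore_pGrp q _)
      (norm_pcore _ (sAH.trans (pcore_norm _ H)))
  by_contra ne
  obtain ⟨R, sAR, ⟨pR, sRM, H, maxH, neH, sRH⟩, maxR⟩ := exists_max_subgroup
    (P := fun R => IsPGrp p R ∧ R ≤ M ∧ ∃ H, IsCoatom H ∧ H ≠ M ∧ R ≤ H) ⟨pA, sAM, H₀, maxH₀, ne, sAH₀⟩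
  have ntR := ne_bot_mono sAR ntA
  have sylRH : IsSylowOf p R H := by
    by_cases hN : 𝒩(R) ≤ M
    · exact (sylow_of_maximal hp pR (le_inf sRH sRM) fun Q pQ s1 s2 =>
        maxR Q ⟨pQ, s2.trans inf_le_right, H, maxH, neH, s2.trans inf_le_left⟩ s1).of_norm_le hp
        inf_le_left (inf_le_inf_left H hN)
    · obtain ⟨D, maxD, sD⟩ := mmax_exists (mFT_norm_proper ntR (pGrp_proper pR))
      obtain ⟨Q, sylQ, sRQ⟩ := sylow_superset hp pR sRM
      have e := nilpotent_sub_norm (IsPGrp.nil sylQ.piGrp) sRQ (maxR _ ⟨sylQ.piGrp.inf_left _,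
        inf_le_left.trans sylQ.le, D, maxD, fun e => hN (e ▸ sD), inf_le_right.trans sD⟩
        (le_inf sRQ le_normalizer)).le
      exact (sylPG.of_card_eq le_top (e ▸ sylQ.card_eq sylP)).of_le sRH le_top
  obtain ⟨e1, sylR⟩ := puig H R maxH (triv H (mmax_proper maxH) (sAR.trans sRH)) sylRH ntR
  exact neH (e1.symm.trans (puig M R maxM hO (sylR.of_le sRM le_top) ntR).1)

/-- Summary of Theorem 8.1, as used in section 9. -/
theorem Fitting_Uniqueness {p : ℕ} (hp : p.Prime) {M : Subgroup G} (maxM : IsCoatom M)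
    (r3 : 3 ≤ pRank p (fittingOf M)) :
    ∃ H : Subgroup G, H ≤ fittingOf M ∧ 3 ≤ pRank p 𝒵(H) ∧ InUniqueMaximal H := by
  by_cases pF : IsPGrp p (fittingOf M)
  · obtain ⟨P, sylP⟩ := sylow_exists hp M
    have pP : IsPGrp p P := sylP.piGrp
    obtain ⟨A, scnA⟩ : ∃ A, IsSCNAt 3 P A := by
      by_contra! h
      have h1 := (rank2_SCN3_empty hp pP (mFT_odd P)).2 h
      have h2 := pRank_mono hp (fitting_le M)
      rw [rank_Sylow hp sylP] at h1
      omega
    obtain ⟨-, h1, h2⟩ := SCN_Fitting_Uniqueness hp maxM pF sylP r3 scnA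
    refine ⟨A, h1, ?_, h2⟩
    rw [inf_eq_left.2 (abelian_iff_le_cent.1 (SCN_abelian scnA.1)),
      ← rank_pgroup hp (pP.of_le scnA.1.1)]
    exact scnA.2
  · obtain ⟨E, hE⟩ := (p_rank_geP hp).1 r3
    obtain ⟨A, maxA, sEA⟩ := pmaxElem_exists hE.le hE.abelem
    have r := (hE.of_le sEA).le_pRank hp
    exact ⟨_, inf_le_left, r.trans (pRank_mono hp (le_inf (le_inf maxA.le
      (abelian_iff_le_cent.1 maxA.abelem.1)) (le_cent_symm inf_le_right))),
      non_pcore_Fitting_Uniqueness hp maxM pF maxA r⟩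

end CA.BG
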