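/-
B & G section 9, part a: Theorem 9.1, Corollaries 9.2, 9.3 and Lemma 9.4.
-/
import Cfsg.Agent.BG.I08

set_option autoImplicit false
set_option linter.unusedVariables false

namespace CA.BG.P09

open Subgroup Cfsg CA.FG CA.BG.P07
open scoped commutatorElement

universe u

variable {G : Type u} [Group G] [MinSimpleOdd G]

/-- B & G, Theorem 9.1(b). -/
theorem noncyclic_normed_sub_Uniqueness {p : ℕ} (hp : p.Prime) {M B : Subgroup G} (maxM : IsCoatom M)
    (sBM : B ≤ M) (abelB : IsElementaryAbelian p B) (ncB : ¬ IsCyclic B)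
    (snB : ∀ K ∈ invSubgroups ⊤ B {p}ᶜ, K ≤ M) : InUniqueMaximal B := by
  refine inUniq_of_uniqMax (M := M) (by_contra fun hn => ?_)
  obtain ⟨H₀, maxH₀, sBH₀, neH₀⟩ := exists_ne_of_not_uniqMax maxM sBM hn
  have pB := abelem_pGrp hp abelB
  obtain ⟨R, sBR, ⟨pR, sRM, H, maxH, neHM, sRH⟩, maxR⟩ := exists_max_subgroup
    (P := fun R => IsPGrp p R ∧ R ≤ M ∧ ∃ H : Subgroup G, IsCoatom H ∧ H ≠ M ∧ R ≤ H)
    ⟨pB, sBM, H₀, maxH₀, neH₀, sBH₀⟩
  obtain ⟨P, sylP, sRP⟩ := sylow_superset hp pR sRM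
  have pP : IsPGrp p P := sylP.piGrp
  have solM := mmax_sol maxM
  have sHp'M : pPrimeCoreOf p H ≤ M :=
    snB _ ⟨le_top, pcore_piGrp _ H, (sBR.trans sRH).trans (pcore_norm _ H)⟩
  have ntB : B ≠ ⊥ := fun h => ncB (h ▸ inferInstance)
  have ntR : R ≠ ⊥ := ne_bot_mono sBR ntB
  have sNPM : 𝒩(P) ≤ M := by
    by_cases h1 : pPrimeCoreOf p M = ⊥
    · have nsZ := Puig_center_normal hp (mFT_odd M) solM sylP h1
      rw [← mmax_normal maxM nsZ fun h => ne_bot_mono sRP ntR (trivg_center_Puig_pgroup pP h)]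
      exact (center_Puig_char P).norm_le
    · obtain ⟨A, scnA, -⟩ := SCN_exists_of_nil pP.nil (E := ⊥) ⟨bot_le, norm_bot _⟩ inferInstance
      rw [← mmax_normal maxM (pcore_normal _ M) h1]
      intro x hx
      have n1 : P ≤ 𝒩(pPrimeCoreOf p M :^ x) := by
        have := conjg_mono x (sylP.le.trans (pcore_norm {p}ᶜ M))
        rwa [conjg_of_mem_norm hx, conjg_norm] at this
      have p1 : IsPiGrp {p}ᶜ (pPrimeCoreOf p M :^ x) := IsPiGrp.conjg (pcore_piGrp _ M) x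
      have s1 := SCN_norm_le_p'core hp (mFT_odd M) solM sylP scnA
        (snB _ ⟨le_top, p1, (sBR.trans sRP).trans n1⟩) p1 ((SCN_normal scnA).1.trans n1)
      exact mem_norm_of_conjg_le s1
  have sylPG : IsSylowOf p P ⊤ := IsSylowOf.of_norm_le sylP hp le_top (inf_le_right.trans sNPM)
  obtain ⟨sNRM, sylRH⟩ : 𝒩(R) ≤ M ∧ IsSylowOf p R H := by
    rcases sRP.eq_or_lt with e | ltRP
    · subst e
      exact ⟨sNPM, sylPG.of_le sRH le_top⟩
    · obtain ⟨D, maxD, sND⟩ := mmax_exists (mFT_norm_proper ntR (pGrp_proper pR))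
      have ltRN := nilpotent_proper_norm pP.nil ltRP
      have eD : D = M := by_contra fun h => ltRN.ne' (maxR _ ⟨pP.inf_left _,
        inf_le_left.trans sylP.le, D, maxD, h, inf_le_right.trans sND⟩ ltRN.le)
      subst eD
      refine ⟨sND, sylow_of_sylow_norm hp sRH (sylow_of_maximal hp pR (le_inf sRH le_normalizer)
        fun Q pQ sRQ sQ => maxR _ ⟨pQ, sQ.trans (inf_le_right.trans sND), H, maxH, neHM,
          sQ.trans inf_le_left⟩ sRQ)⟩
  have sF : fittingOf H ≤ R ⊔ pPrimeCoreOf p H := by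
    rw [← (nilpotent_pcoreC {p} (fitting_nil H)).sup_eq]
    exact sup_le_sup (((fitting_normal H).pcore_le _).trans sylRH.pcore_le)
      ((fitting_normal H).pcore_le _)
  have sRO : R ⊔ pPrimeCoreOf p H ≤ M := sup_le sRM sHp'M
  refine neHM ?_
  by_cases r3 : 3 ≤ rank (fittingOf H)
  · obtain ⟨q, hq, rq⟩ := le_rank_iff.1 r3
    obtain ⟨U, sU, -, uU⟩ := Fitting_Uniqueness hq maxH rq
    exact uniq_eq_of_le uU maxM (sU.trans (sF.trans sRO)) maxH (sU.trans (fitting_le H))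
  · have nsR : (R ⊔ pPrimeCoreOf p H) ⊲ H := normalIn_of_der_le
      ((rank2_der1_sub_Fitting (mFT_odd H) (mmax_sol maxH) (by omega)).trans sF)
      (sup_le sRH (pcore_le _ H))
    refine eq_mmax maxH maxM ?_
    rw [← frattini_arg hp nsR (sylRH.of_le le_sup_left nsR.1)]
    exact sup_le sRO (inf_le_right.trans sNRM)

/-- B & G, Theorem 9.1(a). -/
theorem noncyclic_cent1_sub_Uniqueness {p : ℕ} (hp : p.Prime) {M B : Subgroup G} (maxM : IsCoatom M)
    (sBM : B ≤ M) (abelB : IsElementaryAbelian p B) (ncB : ¬ IsCyclic B)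
    (sCB : ∀ b ∈ B, b ≠ 1 → 𝒞[b] ≤ M) : InUniqueMaximal B :=
  noncyclic_normed_sub_Uniqueness hp maxM sBM abelB ncB fun K hK =>
    coprime_abelian_gen_cent1_le abelB.1 ncB hK.2.2 ((abelem_pGrp hp abelB).coprime hK.2.1).symm
      fun b hb ntb => inf_le_right.trans (sCB b hb ntb)

/-- B & G, Corollary 9.2. -/
theorem cent_uniq_Uniqueness {K L : Subgroup G} (uL : InUniqueMaximal L) (cLK : K ≤ 𝒞(L))
    (r2 : 2 ≤ rank K) : InUniqueMaximal K := by
  have ntL := uniq_mmax_neq1 uL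
  obtain ⟨H, uLH⟩ := uniq_mmaxP.1 uL
  obtain ⟨p, hp, B, EB⟩ := rank_geP.1 r2
  have sCB : ∀ b ∈ B, b ≠ 1 → 𝒞[b] ≤ H := fun b hb ntb =>
    sub_uniq_mmax uLH (mem_cent_iff_le_cent_singleton.1 (cLK (EB.le hb))) (mFT_cent1_proper ntb)
  have sBH : B ≤ H := fun b hb => by
    by_cases h : b = 1
    · exact h ▸ one_mem _
    · exact sCB b hb h (mem_cent_singleton_self b)
  exact uniq_mmaxS EB.le (sub_proper (mFT_cent_proper ntL) cLK)
    (noncyclic_cent1_sub_Uniqueness hp uLH.1 sBH EB.abelem (EB.not_cyclic hp le_rfl) sCB)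

theorem rank_inf_cent_p2Elem {p : ℕ} (hp : p.Prime) {A D H : Subgroup G} (pA : IsPGrp p A)
    (rA : 3 ≤ pRank p A) (ED : IsPnElem p 2 D H) (nDA : A ≤ 𝒩(D)) : 2 ≤ rank (A ⊓ 𝒞(D)) := by
  have i1 : (A ⊓ 𝒞(D)).relIndex A ∣ p := by
    rw [inf_relIndex_left]
    exact piNat_dvd_of_not_sq_dvd hp (relIndex_pos _ _).ne' (pA.relIndex _)
      (logn_quotient_cent_abelem hp nDA ED.abelem ED.card.le)
  have := pRank_le_add_of_relIndex hp (k := 1) (H := A) (K := A ⊓ 𝒞(D))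
    (by rw [pow_one]; exact Nat.le_of_dvd hp.pos i1)
  have := p_rank_le_rank hp (A ⊓ 𝒞(D))
  omega

/-- B & G, Corollary 9.3. -/
theorem any_cent_rank3_Uniqueness {p : ℕ} (hp : p.Prime) {A B : Subgroup G}
    (cAA : IsMulCommutative A) (pA : IsPGrp p A) (rA : 3 ≤ pRank p A) (uA : InUniqueMaximal A)
    (pB : IsPGrp p B) (ncB : ¬ IsCyclic B) (rC : 3 ≤ pRank p 𝒞(B)) : InUniqueMaximal B := by
  obtain ⟨C, EC⟩ := (p_rank_geP hp).1 rC
  have pC := EC.pGrp hp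
  obtain ⟨P, sylP, sCP⟩ := sylow_superset hp pC (le_top (a := C))
  have pP : IsPGrp p P := sylP.piGrp
  obtain ⟨x, -, sAP⟩ := sylow_Jsub hp sylP pA le_top
  have uA' : InUniqueMaximal (A :^ x) := uniq_mmaxJ.2 uA
  have cA' : IsMulCommutative ↥(A :^ x) := abelian_conjg.2 cAA
  obtain ⟨D, nsD, ED⟩ := ex_odd_normal_p2Elem hp pP (mFT_odd P)
    ((EC.of_le sCP).not_cyclic_of_le hp (by decide))
  have r1 := rank_inf_cent_p2Elem hp (pA.conjg x) (by rwa [pRank_conjg]) ED (sAP.trans nsD.2)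
  have r2 := rank_inf_cent_p2Elem hp pC (EC.pRank_eq hp).ge ED (sCP.trans nsD.2)
  have u1 := cent_uniq_Uniqueness uA' (inf_le_left.trans (abelian_iff_le_cent.1 cA')) r1
  have u2 := cent_uniq_Uniqueness u1 (le_cent_symm inf_le_right) (ED.rank_eq hp).ge
  have u3 := cent_uniq_Uniqueness u2 inf_le_right r2
  have u4 := cent_uniq_Uniqueness u3
    ((abelian_iff_le_cent.1 EC.abelian).trans (cent_anti inf_le_left))
    (by rw [EC.rank_eq hp]; decide)
  refine cent_uniq_Uniqueness u4 (le_cent_symm EC.le) ?_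
  rw [rank_pgroup hp pB]
  have := mt (odd_pgroup_rank1_cyclic hp pB (mFT_odd B)).2 ncB
  omega

/-- B & G, Lemma 9.4. -/
theorem any_rank3_Fitting_Uniqueness {p : ℕ} (hp : p.Prime) {M P : Subgroup G} (maxM : IsCoatom M)
    (rF : 3 ≤ pRank p (fittingOf M)) (pP : IsPGrp p P) (rP : 3 ≤ pRank p P) :
    InUniqueMaximal P := by
  obtain ⟨B, EB⟩ := (p_rank_geP hp).1 rP
  obtain ⟨H, -, rH, uH⟩ := Fitting_Uniqueness hp maxM rF
  obtain ⟨E, EE⟩ := (p_rank_geP hp).1 rH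
  have uE := cent_uniq_Uniqueness uH (EE.le.trans inf_le_right) (by rw [EE.rank_eq hp]; decide)
  exact uniq_mmaxS EB.le (pGrp_proper pP) (any_cent_rank3_Uniqueness hp EE.abelian (EE.pGrp hp)
    (EE.pRank_eq hp).ge uE (EB.pGrp hp) (EB.not_cyclic hp (by decide))
    ((EB.of_le (abelian_iff_le_cent.1 EB.abelian)).le_pRank hp))

end CA.BG.P09
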