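/-
B & G section 9, part b: Lemma 9.5 and Theorem 9.6.
-/
import Cfsg.Agent.BG.P09a
import Cfsg.Agent.BG.I05

set_option autoImplicit false
set_option linter.unusedVariables false

namespace CA.BG.P09

open Subgroup Cfsg CA.FG CA.BG.P07
open scoped commutatorElement

universe u

theorem rank2_der1_cent {G : Type u} [Group G] [Finite G] {H W X : Subgroup G}
    (oddH : Odd (Nat.card H)) (solH : Group.IsSolvable H) (nsW : W ⊲ H) (rW : rank W ≤ 2)
    (sX : X ≤ ⁅H, H⁆) (co : (Nat.card W).Coprime (Nat.card X)) : X ≤ 𝒞(W) := by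
  obtain ⟨V, -, ⟨sVW, nV, cV⟩, maxV⟩ := exists_max_subgroup
    (P := fun V => V ≤ W ∧ H ≤ 𝒩(V) ∧ X ≤ 𝒞(V)) (H := ⊥) ⟨bot_le, norm_bot _, by rw [cent_bot]; exact le_top⟩
  rcases sVW.eq_or_lt with e | lt
  · exact e ▸ cV
  obtain ⟨U, sUW, chU⟩ := chiefFactor_exists_above nsW nV lt
  obtain ⟨q, hq, abU⟩ := chU.abelem (sol_of_le solH chU.1.1)
  have h := rank2_cent_chief hq oddH solH nsW ((p_rank_le_rank hq W).trans rW) chU
    ((piGrp_quot_iff chU.normal.2).1 (abelem_pGrp hq abU)) sUW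
  exact absurd (maxV U ⟨sUW, chU.1.2, stable_factor_cent cV chU.lt.le
    ((commutator_mono le_rfl sX).trans h) (co.coprime_dvd_left (card_dvd_of_le sUW))⟩ chU.lt.le)
    chU.lt.ne'

variable {G : Type u} [Group G] [MinSimpleOdd G]

theorem pcore_uniqMax {q : ℕ} (hq : q.Prime) {M : Subgroup G} (maxM : IsCoatom M)
    (rq : 3 ≤ pRank q (fittingOf M)) : UniqMax (pCoreOf q M) M :=
  def_uniq_mmax (any_rank3_Fitting_Uniqueness hq maxM rq (pcore_pGrp q M)
    (by rwa [pRank_pcore_fitting hq])) maxM (pcore_le _ M)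

theorem comm_norm_Sylow_ne_bot {p : ℕ} (hp : p.Prime) {P : Subgroup G} (sylP : IsSylowOf p P ⊤)
    (ntP : P ≠ ⊥) : ⁅P, 𝒩(P)⁆ ≠ ⊥ := by
  intro h
  have d := Burnside_normal_complement hp sylP (inf_le_right.trans (comm_eq_bot_iff'.1 h))
  rcases mFT_normal (normal_of_top_le_norm d.normal.2) with e | e
  · have := d.sup_eq
    rw [e, bot_sup_eq] at this
    exact pGrp_proper sylP.piGrp this
  · have := d.inf_eq
    rw [e, top_inf_eq] at this
    exact ntP this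

section
variable {p : ℕ} (hp : p.Prime) {P A : Subgroup G} (sylP : IsSylowOf p P ⊤)
  (scnA : IsSCNAt 3 P A) (nuA : ¬ InUniqueMaximal A)
include hp sylP scnA nuA

theorem SCN3_Fitting_le2 {M : Subgroup G} (maxM : IsCoatom M) : pRank p (fittingOf M) ≤ 2 := by
  have pA : IsPGrp p A := sylP.piGrp.of_le scnA.1.1
  by_contra! h
  exact nuA (any_rank3_Fitting_Uniqueness hp maxM h pA (rank_pgroup hp pA ▸ scnA.2))

theorem SCN3_norm_le {M R : Subgroup G} (maxM : IsCoatom M) (sCM : 𝒞(A) ≤ M) (sAR : A ≤ R)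
    (sRP : R ≤ P) (sRM : R ≤ M) : 𝒩(R) ≤ M := by
  have pP : IsPGrp p P := sylP.piGrp
  have pA : IsPGrp p A := pP.of_le scnA.1.1
  have pR : IsPGrp p R := pP.of_le sRP
  have r3 := scnA.2
  have ntA : A ≠ ⊥ := rank_pos_iff.1 (by omega)
  have Fp := SCN3_Fitting_le2 hp sylP scnA nuA maxM
  obtain ⟨q, hq, hqp, hQ⟩ : ∃ q : ℕ, q.Prime ∧ q ≠ p ∧
      ∀ Q, IsPGrp q Q → pCoreOf q M ≤ Q → 𝒩(Q) ≤ M := by
    by_cases rF : 3 ≤ rank (fittingOf M)
    · obtain ⟨q, hq, rq⟩ := le_rank_iff.1 rF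
      have uq := pcore_uniqMax hq maxM rq
      refine ⟨q, hq, fun e => by subst e; omega, fun Q qQ sQ => sub_uniq_mmax uq
        (sQ.trans le_normalizer) (mFT_norm_proper (ne_bot_mono sQ
          (uniq_mmax_neq1 (inUniq_of_uniqMax uq))) (pGrp_proper qQ))⟩
    · have h1 := one_lt_card (mmax_neq1 maxM)
      have hne : (Nat.card M).primeFactors.Nonempty := Nat.nonempty_primeFactors.2 h1
      set q := (Nat.card M).primeFactors.max' hne
      have hq' := Nat.mem_primeFactors.1 ((Nat.card M).primeFactors.max'_mem hne)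
      have hq : q.Prime := hq'.1
      have sylq := rank2_max_pcore_Sylow hq (fun r hr hd => Finset.le_max' _ r
        (Nat.mem_primeFactors.2 ⟨hr, hd, hq'.2.2⟩)) (mFT_odd M) (mmax_sol maxM) (by omega)
      have defN := mmax_normal maxM (pcore_normal _ M) (sylq.ne_bot' hq hq'.2.1)
      have sylG : IsSylowOf q (pCoreOf q M) ⊤ :=
        IsSylowOf.of_norm_le sylq hq le_top (inf_le_right.trans defN.le)
      refine ⟨q, hq, fun e => ?_, fun Q qQ sQ => ?_⟩
      · have h2 := p_rank_Sylow hq sylG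
        rw [pRank_pcore_fitting hq, e] at h2
        have := pRank_mono hp (le_top (a := A))
        rw [rank_pgroup hp pA] at r3
        omega
      · rw [sylG.eq_of_le qQ sQ le_top]
        exact defN.le
  obtain ⟨Q, maxQ, sQ⟩ := maxInv_exists (pcore_pGrp q M) (sRM.trans (pcore_norm _ M))
  have sNQ := hQ Q (maxInv_piGrp maxQ) sQ
  have e := primesOf_pGrp pA ntA
  obtain ⟨-, tr, -⟩ := normed_trans_superset (SCN_normed_constrained hp sylP ⟨scnA.1, by omega⟩) hq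
    (by rwa [e]) (pGrp_proper pR) sAR (isSubnormal_of_nil pR.nil sAR) (by rwa [e])
    (by rw [e]; exact Thompson_transitivity hp hq hqp sylP scnA)
  intro x hx
  obtain ⟨k, hk, ek⟩ := tr Q maxQ _ (maxInv_conj_norm maxQ hx)
  rw [← mul_inv_cancel_left k x]
  exact mul_mem (sCM (cent_anti sAR (pcore_le _ _ hk))) (sNQ (conjg_eq_conjg_iff.1 ek))

theorem SCN3_norm_Sylow_le {M : Subgroup G} (maxM : IsCoatom M) (sCM : 𝒞(A) ≤ M) : 𝒩(P) ≤ M := by
  have nsA := SCN_normal scnA.1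
  have sNA := SCN3_norm_le hp sylP scnA nuA maxM sCM le_rfl nsA.1
    ((abelian_iff_le_cent.1 (SCN_abelian scnA.1)).trans sCM)
  exact SCN3_norm_le hp sylP scnA nuA maxM sCM nsA.1 le_rfl (nsA.2.trans sNA)

theorem SCN3_exists_cent1 {M B : Subgroup G} (maxM : IsCoatom M) (sCM : 𝒞(A) ≤ M) (sBA : B ≤ A)
    (abB : IsElementaryAbelian p B) (ncB : ¬ IsCyclic B) :
    ∃ x ∈ B, ∃ L : Subgroup G, IsCoatom L ∧ 𝒞[x] ≤ L ∧ L ≠ M ∧ 𝒞(A) ≤ L := by
  have pA : IsPGrp p A := sylP.piGrp.of_le scnA.1.1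
  obtain ⟨x, hx, ntx, nC⟩ : ∃ x ∈ B, x ≠ 1 ∧ ¬ 𝒞[x] ≤ M := by
    by_contra! h
    exact nuA (uniq_mmaxS sBA (pGrp_proper pA) (noncyclic_cent1_sub_Uniqueness hp maxM
      (sBA.trans ((abelian_iff_le_cent.1 (SCN_abelian scnA.1)).trans sCM)) abB ncB h))
  obtain ⟨L, maxL, sL⟩ := mmax_exists (mFT_cent1_proper ntx)
  exact ⟨x, hx, L, maxL, sL, fun e => nC (e ▸ sL), (cent_le_cent_singleton (sBA hx)).trans sL⟩

theorem SCN3_cent_p'core {M : Subgroup G} (maxM : IsCoatom M) (sCM : 𝒞(A) ≤ M) :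
    pPrimeCoreOf p (fittingOf M) ≤ 𝒞(⁅P, 𝒩(P)⁆) := by
  have pP : IsPGrp p P := sylP.piGrp
  have pA : IsPGrp p A := pP.of_le scnA.1.1
  have cA := SCN_abelian scnA.1
  have sAM := (abelian_iff_le_cent.1 cA).trans sCM
  have r3 := scnA.2
  rw [rank_pgroup hp pA] at r3
  have EA := ohm1_pnElem_of_abelian hp cA
  have nsD : pPrimeCoreOf p (fittingOf M) ⊲ M := (fitting_normal M).pcore _
  have p'D : IsPiGrp {p}ᶜ (pPrimeCoreOf p (fittingOf M)) := pcore_piGrp _ _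
  refine coprime_abelem_gen_cent_le hp EA.abelem (EA.ne_bot hp (by omega))
    ((EA.le.trans sAM).trans nsD.2) ((EA.pGrp hp).coprime p'D).symm fun B sB iB => ?_
  have abB := abelem_of_le EA.abelem sB
  have ncB : ¬ IsCyclic B := by
    rw [abelem_cyclic_iff hp abB]
    intro h
    have h1 := card_mul_relIndex sB
    rw [iB, EA.card] at h1
    have h2 : p ^ 3 ≤ p ^ 2 := by
      calc p ^ 3 ≤ p ^ pRank p A := Nat.pow_le_pow_right hp.pos r3
        _ ≤ p * p := h1 ▸ Nat.mul_le_mul_right p h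
        _ = p ^ 2 := (sq p).symm
    have := (Nat.pow_le_pow_iff_right hp.one_lt).1 h2
    omega
  obtain ⟨x, hx, L, maxL, sL, neL, sCL⟩ :=
    SCN3_exists_cent1 hp sylP scnA nuA maxM sCM (sB.trans EA.le) abB ncB
  have sN : 𝒩(P) ≤ L ⊓ M := le_inf (SCN3_norm_Sylow_le hp sylP scnA nuA maxL sCL)
    (SCN3_norm_Sylow_le hp sylP scnA nuA maxM sCM)
  have rDL : rank (pPrimeCoreOf p (fittingOf M) ⊓ L) ≤ 2 := by
    by_contra! h
    obtain ⟨q, hq, E, EE⟩ := rank_geP.1 h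
    have sEF := EE.le.trans (inf_le_left.trans (pcore_le _ _))
    exact neL (uniq_eq_of_le (any_rank3_Fitting_Uniqueness hq maxM ((EE.of_le sEF).le_pRank hq)
      (EE.pGrp hq) (EE.pRank_eq hq).ge) maxM (sEF.trans (fitting_le M)) maxL
      (EE.le.trans inf_le_right))
  have c := rank2_der1_cent (H := L ⊓ M) (X := ⁅P, 𝒩(P)⁆) (mFT_odd _)
    (sol_of_le (mmax_sol maxL) inf_le_left)
    ⟨le_inf inf_le_right (inf_le_left.trans nsD.1),
      norm_inf (inf_le_right.trans nsD.2) (norm_of_le inf_le_left)⟩ rDL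
    (commutator_mono (le_normalizer.trans sN) sN)
    ((pP.of_le (comm_le_left le_rfl)).coprime (IsPiGrp.inf_left p'D _)).symm
  exact (inf_le_inf_left _ ((cent_le_cent_singleton hx).trans sL)).trans (le_cent_symm c)

theorem SCN3_uniqMax {M : Subgroup G} (maxM : IsCoatom M) (sCM : 𝒞(A) ≤ M) :
    UniqMax 𝒩(⁅P, 𝒩(P)⁆) M := by
  have pP : IsPGrp p P := sylP.piGrp
  have r3 := scnA.2
  have ntP₀ := comm_norm_Sylow_ne_bot hp sylP
    (ne_bot_mono scnA.1.1 (rank_pos_iff.1 (by omega)))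
  have cD := (SCN3_cent_p'core hp sylP scnA nuA maxM sCM).trans (cent_le_norm _)
  have Fp := SCN3_Fitting_le2 hp sylP scnA nuA maxM
  have sP₀ : ⁅P, 𝒩(P)⁆ ≤ P := comm_le_left le_rfl
  by_cases rF : 3 ≤ rank (fittingOf M)
  · obtain ⟨q, hq, rq⟩ := le_rank_iff.1 rF
    refine def_uniq_mmaxS (le_trans ?_ cD) (mFT_norm_proper ntP₀ (pGrp_proper (pP.of_le sP₀)))
      (pcore_uniqMax hq maxM rq)
    rw [← p_core_Fitting]
    refine pcore_mono_pi ?_ _
    rintro r rfl rfl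
    omega
  · have sNM := SCN3_norm_Sylow_le hp sylP scnA nuA maxM sCM
    have sPM := le_normalizer.trans sNM
    have nN : 𝒩(P) ≤ 𝒩(⁅P, 𝒩(P)⁆) := norm_comm le_rfl le_normalizer
    have nsF : (fittingOf M ⊔ P) ⊲ M := normalIn_of_der_le
      ((rank2_der1_sub_Fitting (mFT_odd M) (mmax_sol maxM) (by omega)).trans le_sup_left)
      (sup_le (fitting_le M) sPM)
    have nM : M ≤ 𝒩(⁅P, 𝒩(P)⁆) := by
      rw [← frattini_arg hp nsF (sylP.of_le le_sup_right le_top)]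
      refine sup_le (sup_le ?_ (le_normalizer.trans nN)) (inf_le_right.trans nN)
      rw [← (nilpotent_pcoreC {p} (fitting_nil M)).sup_eq]
      exact sup_le ((((fitting_normal M).pcore_le _).trans (sylP.of_le sPM le_top).pcore_le).trans
        (le_normalizer.trans nN)) cD
    rw [mmax_normal maxM ⟨sP₀.trans sPM, nM⟩ ntP₀]
    exact mmax_uniq_id maxM

end

/-- B & G, Lemma 9.5. -/
theorem SCN_3_Uniqueness {p : ℕ} (hp : p.Prime) {P A : Subgroup G} (sylP : IsSylowOf p P ⊤)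
    (scnA : IsSCNAt 3 P A) : InUniqueMaximal A := by
  by_contra nuA
  have pA : IsPGrp p A := sylP.piGrp.of_le scnA.1.1
  have r3 := scnA.2
  obtain ⟨M, maxM, sCM⟩ := mmax_exists (mFT_cent_proper (H := A) (rank_pos_iff.1 (by omega)))
  rw [rank_pgroup hp pA] at r3
  have EA := ohm1_pnElem_of_abelian hp (SCN_abelian scnA.1)
  obtain ⟨x, hx, L, maxL, sL, neL, sCL⟩ :=
    SCN3_exists_cent1 hp sylP scnA nuA maxM sCM EA.le EA.abelem (EA.not_cyclic hp (by omega))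
  have u := SCN3_uniqMax hp sylP scnA nuA maxL sCL
  exact neL (eq_uniq_mmax (SCN3_uniqMax hp sylP scnA nuA maxM sCM) maxL u.2.1)

/-- B & G, Theorem 9.6, first assertion. -/
theorem rank3_Uniqueness {K : Subgroup G} (prK : K ≠ ⊤) (r3 : 3 ≤ rank K) : InUniqueMaximal K := by
  obtain ⟨p, hp, B, EB⟩ := rank_geP.1 r3
  obtain ⟨P, sylP, sBP⟩ := sylow_superset hp (EB.pGrp hp) (le_top (a := B))
  have pP : IsPGrp p P := sylP.piGrp
  obtain ⟨A, scnA⟩ := rank3_SCN3 hp pP (mFT_odd P) ((EB.of_le sBP).le_pRank hp)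
  have pA : IsPGrp p A := pP.of_le scnA.1.1
  exact uniq_mmaxS EB.le prK (any_cent_rank3_Uniqueness hp (SCN_abelian scnA.1) pA
    (rank_pgroup hp pA ▸ scnA.2) (SCN_3_Uniqueness hp sylP scnA) (EB.pGrp hp)
    (EB.not_cyclic hp (by decide)) ((EB.of_le (abelian_iff_le_cent.1 EB.abelian)).le_pRank hp))

/-- B & G, Theorem 9.6, second assertion. -/
theorem cent_rank3_Uniqueness {K : Subgroup G} (r2 : 2 ≤ rank K) (r3 : 3 ≤ rank 𝒞(K)) :
    InUniqueMaximal K :=
  cent_uniq_Uniqueness (rank3_Uniqueness (mFT_cent_proper (rank_pos_iff.1 (by omega))) r3)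
    (le_cent_symm le_rfl) r2

/-- B & G, Theorem 9.6, final observation. -/
theorem nonmaxElem2_Uniqueness {p : ℕ} (hp : p.Prime) {A : Subgroup G} (EpA : IsPnElem p 2 A ⊤)
    (nmaxA : ¬ IsPMaxElem p A ⊤) : InUniqueMaximal A := by
  obtain ⟨B, EB, sAB⟩ := EpA.exists_succ_of_not_max hp nmaxA
  exact cent_rank3_Uniqueness (EpA.rank_eq hp).ge
    ((EB.of_le ((abelian_iff_le_cent.1 EB.abelian).trans (cent_anti sAB))).le_rank hp)

end CA.BG.P09
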