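/-
Interface: B & G section 9 (the Uniqueness Theorem).
-/
import Cfsg.Agent.BG.I08
import Cfsg.Agent.BG.P09b

set_option autoImplicit false

namespace CA.BG

open Cfsg CA.FG

universe u

variable {G : Type u} [Group G] [MinSimpleOdd G]

/-- B & G, Theorem 9.1(b). -/
theorem noncyclic_normed_sub_Uniqueness {p : ℕ} (hp : p.Prime) {M B : Subgroup G} (maxM : IsCoatom M)
    (sBM : B ≤ M) (abelB : IsElementaryAbelian p B) (ncB : ¬ IsCyclic B)
    (snB : ∀ K ∈ invSubgroups ⊤ B {p}ᶜ, K ≤ M) : InUniqueMaximal B :=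
  P09.noncyclic_normed_sub_Uniqueness hp maxM sBM abelB ncB snB

/-- B & G, Theorem 9.1(a). -/
theorem noncyclic_cent1_sub_Uniqueness {p : ℕ} (hp : p.Prime) {M B : Subgroup G} (maxM : IsCoatom M)
    (sBM : B ≤ M) (abelB : IsElementaryAbelian p B) (ncB : ¬ IsCyclic B)
    (sCB : ∀ b ∈ B, b ≠ 1 → 𝒞[b] ≤ M) : InUniqueMaximal B :=
  P09.noncyclic_cent1_sub_Uniqueness hp maxM sBM abelB ncB sCB

/-- B & G, Corollary 9.2. -/
theorem cent_uniq_Uniqueness {K L : Subgroup G} (uL : InUniqueMaximal L) (cLK : K ≤ 𝒞(L))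
    (r2 : 2 ≤ rank K) : InUniqueMaximal K :=
  P09.cent_uniq_Uniqueness uL cLK r2

/-- B & G, Corollary 9.3. -/
theorem any_cent_rank3_Uniqueness {p : ℕ} (hp : p.Prime) {A B : Subgroup G}
    (cAA : IsMulCommutative A) (pA : IsPGrp p A) (rA : 3 ≤ pRank p A) (uA : InUniqueMaximal A)
    (pB : IsPGrp p B) (ncB : ¬ IsCyclic B) (rC : 3 ≤ pRank p 𝒞(B)) : InUniqueMaximal B :=
  P09.any_cent_rank3_Uniqueness hp cAA pA rA uA pB ncB rC

/-- B & G, Lemma 9.4. -/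
theorem any_rank3_Fitting_Uniqueness {p : ℕ} (hp : p.Prime) {M P : Subgroup G} (maxM : IsCoatom M)
    (rF : 3 ≤ pRank p (fittingOf M)) (pP : IsPGrp p P) (rP : 3 ≤ pRank p P) :
    InUniqueMaximal P :=
  P09.any_rank3_Fitting_Uniqueness hp maxM rF pP rP

/-- B & G, Lemma 9.5. -/
theorem SCN_3_Uniqueness {p : ℕ} (hp : p.Prime) {P A : Subgroup G} (sylP : IsSylowOf p P ⊤)
    (scnA : IsSCNAt 3 P A) : InUniqueMaximal A :=
  P09.SCN_3_Uniqueness hp sylP scnA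

/-- B & G, Theorem 9.6, first assertion. -/
theorem rank3_Uniqueness {K : Subgroup G} (prK : K ≠ ⊤) (r3 : 3 ≤ rank K) : InUniqueMaximal K :=
  P09.rank3_Uniqueness prK r3

/-- B & G, Theorem 9.6, second assertion. -/
theorem cent_rank3_Uniqueness {K : Subgroup G} (r2 : 2 ≤ rank K) (r3 : 3 ≤ rank 𝒞(K)) :
    InUniqueMaximal K :=
  P09.cent_rank3_Uniqueness r2 r3

/-- B & G, Theorem 9.6, final observation. -/
theorem nonmaxElem2_Uniqueness {p : ℕ} (hp : p.Prime) {A : Subgroup G} (EpA : IsPnElem p 2 A ⊤)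
    (nmaxA : ¬ IsPMaxElem p A ⊤) : InUniqueMaximal A :=
  P09.nonmaxElem2_Uniqueness hp EpA nmaxA

end CA.BG
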