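/-
B & G section 10, part a: elementary facts, Theorems 10.1 and 10.2.
-/
import Cfsg.Agent.BG.I09
import Cfsg.Agent.BG.I05
import Cfsg.Agent.BG.I06
import Cfsg.Agent.FG.Frattini

set_option autoImplicit false
set_option linter.unusedSectionVars false

namespace CA.BG.P10

open Cfsg CA.FG
open scoped commutatorElement

universe u

variable {G : Type u} [Group G] [MinSimpleOdd G]

theorem mem_alpha_iff {M : Subgroup G} {p : ℕ} : p ∈ alpha M ↔ p.Prime ∧ 2 < pRank p M := by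
  constructor
  · rintro ⟨hp, h⟩
    exact ⟨hp, lt_of_not_ge fun h' => h ((pRank_le_iff_PRankLE hp).1 h')⟩
  · rintro ⟨hp, h⟩
    exact ⟨hp, fun h' => absurd ((pRank_le_iff_PRankLE hp).2 h') (not_le.2 h)⟩

theorem mem_sigma_iff {M : Subgroup G} {p : ℕ} :
    p ∈ sigma M ↔ p.Prime ∧ p ∣ Nat.card M ∧ ∃ P : Subgroup G, IsSylowOf p P M ∧ 𝒩(P) ≤ M := by
  constructor
  · rintro ⟨hp, hd, P, hP⟩
    exact ⟨hp, hd, _, sylow_map_subtype hp P, hP⟩
  · rintro ⟨hp, hd, P, sylP, hP⟩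
    obtain ⟨S, rfl⟩ := sylP.exists_sylow hp
    exact ⟨hp, hd, S, hP⟩

theorem ideal_iff {p : ℕ} :
    IsIdealPrime p G ↔ p.Prime ∧ 2 < pRank p (⊤ : Subgroup G) ∧
      ∀ P : Subgroup G, IsSylowOf p P ⊤ → ¬ Narrow p P := by
  have key : ∀ hp : p.Prime, PRankLE p 2 G ↔ pRank p (⊤ : Subgroup G) ≤ 2 := by
    intro hp
    constructor
    · intro h
      by_contra hc
      obtain ⟨A, -, abA, oA⟩ := (p_rank_geP hp).1 (Nat.succ_le_of_lt (lt_of_not_ge hc))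
      have := h A abA.1 abA.2
      rw [oA] at this
      exact absurd ((Nat.pow_le_pow_iff_right hp.one_lt).1 this) (by norm_num)
    · intro h A cA eA
      obtain ⟨k, hk⟩ := (pGrp_iff_card hp).1 (abelem_pGrp hp ⟨cA, eA⟩)
      rw [hk]
      exact Nat.pow_le_pow_right hp.pos
        (((p_rank_geP hp).2 ⟨A, le_top, ⟨cA, eA⟩, hk⟩).trans h)
  constructor
  · rintro ⟨hp, h1, h2⟩
    have r3 : 2 < pRank p (⊤ : Subgroup G) := lt_of_not_ge fun h' => h1 ((key hp).2 h')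
    refine ⟨hp, r3, fun P sylP nP => ?_⟩
    obtain ⟨S, rfl⟩ := sylP.exists_sylow_top hp
    obtain ⟨E, hE, maxE⟩ := nP (by rwa [p_rank_Hall hp sylP rfl])
    obtain ⟨B, sBS, abB, ltEB⟩ := h2 S E hE.1 hE.2.1 hE.2.2
    exact ltEB.ne (maxE.2.2 B sBS abB ltEB.le).symm
  · rintro ⟨hp, h1, h2⟩
    refine ⟨hp, fun h' => absurd ((key hp).1 h') (not_le.2 h1), fun P A sAP abA oA => ?_⟩
    by_contra hc
    apply h2 P (sylow_top hp P)
    intro _
    refine ⟨A, ⟨sAP, abA, oA⟩, sAP, abA, fun B sBP abB sAB => ?_⟩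
    by_contra hne
    exact hc ⟨B, sBP, abB, lt_of_le_of_ne sAB (Ne.symm hne)⟩

theorem not_narrow_ideal {p : ℕ} (hp : p.Prime) {P : Subgroup G} (sylP : IsSylowOf p P ⊤)
    (nnP : ¬ Narrow p P) : IsIdealPrime p G := by
  refine ideal_iff.2 ⟨hp, ?_, fun Q sylQ nQ => ?_⟩
  · rw [← p_rank_Hall hp sylP rfl]
    by_contra h
    exact nnP fun h' => absurd h' h
  · obtain ⟨x, -, rfl⟩ := sylow_trans hp sylP sylQ
    exact nnP ((narrowJ x).1 nQ)

theorem alphaJ (M : Subgroup G) (g : G) : alpha (M :^ g) = alpha M := by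
  ext p
  rw [mem_alpha_iff, mem_alpha_iff]
  exact and_congr_right fun hp => by rw [pRank_conjg]

theorem betaJ (M : Subgroup G) (g : G) : beta (M :^ g) = beta M := by
  ext p
  change p ∈ alpha (M :^ g) ∧ _ ↔ p ∈ alpha M ∧ _
  rw [alphaJ]

theorem sigmaJ_le (M : Subgroup G) (g : G) : sigma M ⊆ sigma (M :^ g) := by
  intro p h
  obtain ⟨hp, hd, P, sylP, sNM⟩ := mem_sigma_iff.1 h
  refine mem_sigma_iff.2 ⟨hp, by rwa [card_conjg], P :^ g, sylP.conjg g, ?_⟩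
  rw [← conjg_norm]
  exact conjg_mono g sNM

theorem sigmaJ (M : Subgroup G) (g : G) : sigma (M :^ g) = sigma M := by
  refine Set.Subset.antisymm ?_ (sigmaJ_le M g)
  have := sigmaJ_le (M :^ g) g⁻¹
  rwa [conjg_inv_cancel] at this

theorem MalphaJ (M : Subgroup G) (g : G) : alphaCore (M :^ g) = alphaCore M :^ g := by
  change piCoreOf (alpha (M :^ g)) (M :^ g) = piCoreOf (alpha M) M :^ g
  rw [alphaJ, pcore_conjg]

theorem MbetaJ (M : Subgroup G) (g : G) : betaCore (M :^ g) = betaCore M :^ g := by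
  change piCoreOf (beta (M :^ g)) (M :^ g) = piCoreOf (beta M) M :^ g
  rw [betaJ, pcore_conjg]

theorem MsigmaJ (M : Subgroup G) (g : G) : sigmaCore (M :^ g) = sigmaCore M :^ g := by
  change piCoreOf (sigma (M :^ g)) (M :^ g) = piCoreOf (sigma M) M :^ g
  rw [sigmaJ, pcore_conjg]

theorem Malpha_normal (M : Subgroup G) : alphaCore M ⊲ M := pcore_normal _ M
theorem Mbeta_normal (M : Subgroup G) : betaCore M ⊲ M := pcore_normal _ M
theorem Msigma_normal (M : Subgroup G) : sigmaCore M ⊲ M := pcore_normal _ M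
theorem Malpha_pgroup (M : Subgroup G) : IsPiGrp (alpha M) (alphaCore M) := pcore_piGrp _ M
theorem Mbeta_pgroup (M : Subgroup G) : IsPiGrp (beta M) (betaCore M) := pcore_piGrp _ M
theorem Msigma_pgroup (M : Subgroup G) : IsPiGrp (sigma M) (sigmaCore M) := pcore_piGrp _ M

theorem mFT_pgroup_proper {p : ℕ} {P : Subgroup G} (pP : IsPGrp p P) : P ≠ ⊤ := mFT_nil_proper pP.nil

theorem mmax_sigma_Sylow {p : ℕ} (hp : p.Prime) {M P : Subgroup G} (sylP : IsSylowOf p P M)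
    (sNM : 𝒩(P) ≤ M) : IsSylowOf p P ⊤ :=
  sylP.of_norm_le hp le_top (inf_le_right.trans sNM)

theorem mmax_Fitting_neq1 {M : Subgroup G} (maxM : IsCoatom M) : fittingOf M ≠ ⊥ :=
  fitting_ne_bot (mmax_sol maxM) (mmax_neq1 maxM)

theorem alpha_dvd {M : Subgroup G} {p : ℕ} (h : p ∈ alpha M) : p ∣ Nat.card M := by
  obtain ⟨hp, r3⟩ := mem_alpha_iff.1 h
  exact (pRank_pos_iff hp).1 (by omega)

theorem alpha_Sylow_uniq {M P : Subgroup G} {p : ℕ} (maxM : IsCoatom M) (h : p ∈ alpha M)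
    (sylP : IsSylowOf p P M) : UniqMax P M := by
  obtain ⟨hp, r3⟩ := mem_alpha_iff.1 h
  refine def_uniq_mmax (rank3_Uniqueness (mFT_pgroup_proper sylP.pGrp) ?_) maxM sylP.le
  rw [rank_pgroup hp sylP.pGrp, p_rank_Hall hp sylP rfl]
  exact r3

theorem alpha_sub_sigma {M : Subgroup G} (maxM : IsCoatom M) : alpha M ⊆ sigma M := by
  intro p h
  obtain ⟨P, sylP⟩ := sylow_exists h.1 M
  exact mem_sigma_iff.2 ⟨h.1, alpha_dvd h, P, sylP, uniq_mmax_norm_sub (alpha_Sylow_uniq maxM h sylP)⟩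

theorem beta_sub_sigma {M : Subgroup G} (maxM : IsCoatom M) : beta M ⊆ sigma M :=
  fun _ h => alpha_sub_sigma maxM h.1

theorem Mbeta_sub_Malpha (M : Subgroup G) : betaCore M ≤ alphaCore M :=
  pcore_mono_pi (fun _ h => h.1) M

theorem Malpha_sub_Msigma {M : Subgroup G} (maxM : IsCoatom M) : alphaCore M ≤ sigmaCore M :=
  pcore_mono_pi (alpha_sub_sigma maxM) M

theorem Mbeta_sub_Msigma {M : Subgroup G} (maxM : IsCoatom M) : betaCore M ≤ sigmaCore M :=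
  pcore_mono_pi (beta_sub_sigma maxM) M

theorem norm_sigma_Sylow {M P : Subgroup G} {p : ℕ} (sMp : p ∈ sigma M) (sylP : IsSylowOf p P M) :
    𝒩(P) ≤ M := by
  obtain ⟨hp, -, Q, sylQ, sNM⟩ := mem_sigma_iff.1 sMp
  obtain ⟨x, Mx, rfl⟩ := sylow_trans hp sylQ sylP
  rw [← conjg_norm]
  exact conjg_le_of_mem sNM Mx

theorem sigma_Sylow_G {M P : Subgroup G} {p : ℕ} (sMp : p ∈ sigma M) (sylP : IsSylowOf p P M) :
    IsSylowOf p P ⊤ :=
  mmax_sigma_Sylow sMp.1 sylP (norm_sigma_Sylow sMp sylP)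

theorem sigma_Sylow_neq1 {M P : Subgroup G} {p : ℕ} (sMp : p ∈ sigma M) (sylP : IsSylowOf p P M) :
    P ≠ ⊥ :=
  sylP.ne_bot' sMp.1 sMp.2.1

theorem sigma_pRank {M : Subgroup G} {p : ℕ} (sMp : p ∈ sigma M) :
    pRank p M = pRank p (⊤ : Subgroup G) := by
  obtain ⟨P, sylP⟩ := sylow_exists sMp.1 M
  rw [← p_rank_Hall sMp.1 sylP rfl, p_rank_Hall sMp.1 (sigma_Sylow_G sMp sylP) rfl]

theorem predI_sigma_beta {M : Subgroup G} (maxM : IsCoatom M) {p : ℕ} :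
    p ∈ beta M ↔ p ∈ sigma M ∧ IsIdealPrime p G := by
  refine ⟨fun h => ⟨beta_sub_sigma maxM h, h.2⟩, fun h => ⟨mem_alpha_iff.2 ⟨h.1.1, ?_⟩, h.2⟩⟩
  rw [sigma_pRank h.1]
  exact (ideal_iff.1 h.2).2.1

/-- A prime whose Sylow normalizer (in `G`) lies in `M` is in `σ(M)`. -/
theorem mem_sigma_of_norm_le {M P : Subgroup G} {p : ℕ} (hp : p.Prime) (prM : M ≠ ⊤)
    (sylP : IsSylowOf p P M) (sNM : 𝒩(P) ≤ M) : p ∈ sigma M := by
  refine mem_sigma_iff.2 ⟨hp, ?_, P, sylP, sNM⟩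
  have ntP : P ≠ ⊥ := by
    rintro rfl
    exact prM (top_le_iff.1 ((norm_bot ⊤).trans sNM))
  exact (sylP.pGrp.dvd_card ntP).trans (Subgroup.card_dvd_of_le sylP.le)

/-! ### Theorem 10.1 -/

theorem sigma_Sylow_trans {M X : Subgroup G} {p : ℕ} {g : G} (sMp : p ∈ sigma M)
    (sylX : IsSylowOf p X M) (sXgM : X :^ g ≤ M) : g ∈ M := by
  have sylXg : IsSylowOf p (X :^ g) M := sylX.of_card_eq sXgM (card_conjg X g)
  obtain ⟨m, Mm, hm⟩ := sylow_trans sMp.1 sylX sylXg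
  have := norm_sigma_Sylow sMp sylX (conjg_eq_conjg_iff.1 hm)
  simpa using M.mul_mem Mm this

/-- A solvable group of odd order and `p`-rank at most 2 is `O_{p'}(L) N_L(P)`. -/
theorem rank2_pcore_norm_Sylow {p : ℕ} (hp : p.Prime) {L P : Subgroup G} (solL : Group.IsSolvable L)
    (rL : pRank p L ≤ 2) (sylP : IsSylowOf p P L) : pPrimeCoreOf p L ⊔ (L ⊓ 𝒩(P)) = L := by
  obtain ⟨-, -, h3⟩ := rank2_der1_complement hp solL (mFT_odd L) rL
  have sPO : P ≤ pPrimePCoreOf p L :=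
    le_of_coprime_relIndex sylP.le (pcore2_norm _ _ L) (PiNat.coprime sylP.piGrp h3)
  have sylPO : IsSylowOf p P (pPrimePCoreOf p L) := sylP.of_le sPO (pcore2_le _ _ L)
  have h1 := frattini_arg hp (pcore2_normal _ _ L) sylPO
  rw [← pcore_sup_eq_pcore2 sylPO, sup_assoc,
    sup_eq_right.2 (le_inf sylP.le Subgroup.le_normalizer : P ≤ L ⊓ 𝒩(P))] at h1
  exact h1

theorem sigma_trans_aux {M : Subgroup G} {p : ℕ} (maxM : IsCoatom M) (sMp : p ∈ sigma M) (n : ℕ) :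
    ∀ X : Subgroup G, IsPGrp p X → Nat.card G - Nat.card X ≤ n →
      TransOn 𝒞(X) {H | (∃ g, H = M :^ g) ∧ X ≤ H} := by
  have hp : p.Prime := sMp.1
  induction n with
  | zero =>
    intro X pX hn
    exfalso
    apply mFT_pgroup_proper pX
    apply Subgroup.eq_top_of_card_eq
    have := Subgroup.card_le_card_group X
    omega
  | succ n ih =>
    intro X pX hn
    -- the induction hypothesis for larger `p`-subgroups
    have IH : ∀ Y : Subgroup G, IsPGrp p Y → X < Y → ∀ H₁ H₂ : Subgroup G, (∃ g, H₁ = M :^ g) →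
        (∃ g, H₂ = M :^ g) → Y ≤ H₁ → Y ≤ H₂ → ∃ c ∈ 𝒞(X), H₂ = H₁ :^ c := by
      intro Y pY ltXY H₁ H₂ h₁ h₂ s₁ s₂
      have := card_lt_of_lt ltXY
      have hY := Subgroup.card_le_card_group Y
      obtain ⟨c, hc, e⟩ := ih Y pY (by omega) H₁ ⟨h₁, s₁⟩ H₂ ⟨h₂, s₂⟩
      exact ⟨c, cent_anti ltXY.le hc, e⟩
    by_cases ntX : X = ⊥
    · rintro _ ⟨⟨g, rfl⟩, -⟩ _ ⟨⟨h, rfl⟩, -⟩
      refine ⟨h * g⁻¹, by rw [ntX, cent_bot]; trivial, ?_⟩
      rw [← conjg_mul]; simp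
    rintro M₁ ⟨jM₁, sXM₁⟩ M₂ ⟨jM₂, sXM₂⟩
    have sM : ∀ H : Subgroup G, (∃ g, H = M :^ g) → p ∈ sigma H := by
      rintro _ ⟨g, rfl⟩
      rwa [sigmaJ]
    by_cases sylX : IsSylowOf p X ⊤
    · refine ⟨1, one_mem _, ?_⟩
      obtain ⟨g, rfl⟩ := jM₁
      obtain ⟨h, rfl⟩ := jM₂
      have h1 : X :^ (g * h⁻¹) ≤ M :^ g := by
        rw [conjg_mul]
        exact conjg_mono g (le_conjg_iff.1 sXM₂)
      have h2 := sigma_Sylow_trans (sM _ ⟨g, rfl⟩) (sylX.of_le sXM₁ le_top) h1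
      rw [mem_conjg] at h2
      rw [conjg_one, eq_comm, conjg_eq_conjg_iff, norm_mmax maxM]
      simpa using h2
    -- `X` is proper in the normalizer in a Sylow subgroup of each `M_i`
    have big : ∀ H : Subgroup G, (∃ g, H = M :^ g) → X ≤ H →
        ∃ Y : Subgroup G, IsPGrp p Y ∧ X < Y ∧ Y ≤ H ∧ Y ≤ 𝒩(X) := by
      intro H jH sXH
      obtain ⟨P, sylP, sXP⟩ := sylow_superset hp pX sXH
      have ltXP : X < P := lt_of_le_of_ne sXP fun e => sylX (e ▸ sigma_Sylow_G (sM H jH) sylP)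
      exact ⟨P ⊓ 𝒩(X), sylP.piGrp.inf_left _, nilpotent_proper_norm sylP.pGrp.nil ltXP,
        inf_le_left.trans sylP.le, inf_le_right⟩
    obtain ⟨X₁, pX₁, ltX₁, sX₁M, nX₁⟩ := big M₁ jM₁ sXM₁
    obtain ⟨X₂, pX₂, ltX₂, sX₂M, nX₂⟩ := big M₂ jM₂ sXM₂
    obtain ⟨P, sylP, sX₁P⟩ := sylow_superset hp pX₁ nX₁
    obtain ⟨t, Lt, sX₂t⟩ := sylow_Jsub hp sylP pX₂ nX₂
    obtain ⟨S, sylS⟩ := sylow_exists hp M
    obtain ⟨g, -, sPS⟩ := sylow_subJ hp (sigma_Sylow_G sMp sylS) sylP.pGrp le_top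
    have sPM : P ≤ M :^ g := sPS.trans (conjg_mono g sylS.le)
    have ltXP : X < P := ltX₁.trans_le sX₁P
    have jJ : ∀ (H : Subgroup G) (t : G), (∃ g, H = M :^ g) → ∃ g, H :^ t = M :^ g := by
      rintro _ t ⟨g, rfl⟩
      exact ⟨t * g, (conjg_mul M g t).symm⟩
    obtain ⟨c₁, Cc₁, e₁⟩ := IH X₁ pX₁ ltX₁ M₁ (M :^ g) jM₁ ⟨g, rfl⟩ sX₁M (sX₁P.trans sPM)
    have ltX₂t : X < X₂ :^ t := by
      have := (conjg_lt_conjg (g := t)).2 ltX₂
      rwa [conjg_of_mem_norm Lt] at this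
    obtain ⟨c₂, Cc₂, e₂⟩ := IH (X₂ :^ t) (pX₂.conjg t) ltX₂t (M :^ g) (M₂ :^ t) ⟨g, rfl⟩ (jJ _ t jM₂)
      (sX₂t.trans sPM) (conjg_mono t sX₂M)
    -- it suffices to write `(M^g)^{t⁻¹}` as a `C(X)`-conjugate of `M^g`
    suffices h : ∃ c ∈ 𝒞(X), (M :^ g) :^ t⁻¹ = (M :^ g) :^ c by
      obtain ⟨c, Cc, e⟩ := h
      have Cc₂' : t⁻¹ * c₂ * t ∈ 𝒞(X) := conj_mem_of_le_norm' (norm_cent le_rfl) Lt Cc₂
      refine ⟨t⁻¹ * c₂ * t * c * c₁, mul_mem (mul_mem Cc₂' Cc) Cc₁, ?_⟩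
      rw [conjg_mul, ← e₁, conjg_mul, ← e, ← conjg_mul, conjg_eq_iff.1 e₂, ← conjg_mul]
      congr 1
      group
    have prL : 𝒩(X) ≠ ⊤ := mFT_norm_proper ntX (mFT_pgroup_proper pX)
    by_cases r3 : 3 ≤ rank P
    · have uP := def_uniq_mmax (rank3_Uniqueness (mFT_pgroup_proper sylP.pGrp) r3)
        (isCoatom_conjg.2 maxM) sPM
      refine ⟨1, one_mem _, ?_⟩
      rw [conjg_one, conjg_of_mem (inv_mem (sub_uniq_mmax uP sylP.le prL Lt))]
    · have rL : pRank p 𝒩(X) ≤ 2 := by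
        rw [← p_rank_Hall hp sylP rfl, ← rank_pgroup hp sylP.pGrp]; omega
      have defL := rank2_pcore_norm_Sylow hp (mFT_sol prL) rL sylP
      have Lt' : t⁻¹ ∈ pPrimeCoreOf p 𝒩(X) ⊔ (𝒩(X) ⊓ 𝒩(P)) := defL.symm ▸ inv_mem Lt
      obtain ⟨v, Ov, u, Nu, e⟩ :=
        (mem_sup_of_right_le_norm (inf_le_left.trans (pcore_norm _ _))).1 Lt'
      have Cv : v ∈ 𝒞(X) := by
        refine le_cent_of_norm_of_coprime ?_ (pcore_le _ _) ?_ Ov
        · exact Subgroup.le_normalizer.trans (pcore_norm _ _)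
        · exact PiNat.coprime' (pcore_piGrp _ _) pX
      have sPMu : P ≤ (M :^ g) :^ u := by
        rw [← conjg_of_mem_norm Nu.2]
        exact conjg_mono u sPM
      obtain ⟨c, Cc, e'⟩ := IH P sylP.pGrp ltXP (M :^ g) _ ⟨g, rfl⟩ (jJ _ u ⟨g, rfl⟩) sPM sPMu
      refine ⟨v * c, mul_mem Cv Cc, ?_⟩
      rw [← e, conjg_mul, conjg_mul, e']

theorem sigma_group_trans_b {M X : Subgroup G} {p : ℕ} (maxM : IsCoatom M) (sMp : p ∈ sigma M)
    (pX : IsPGrp p X) {g h : G} (sXMg : X ≤ M :^ g) (sXMh : X ≤ M :^ h) :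
    ∃ c ∈ 𝒞(X), M :^ h = (M :^ g) :^ c :=
  sigma_trans_aux maxM sMp _ X pX le_rfl _ ⟨⟨g, rfl⟩, sXMg⟩ _ ⟨⟨h, rfl⟩, sXMh⟩

theorem sigma_group_trans_a {M X : Subgroup G} {p : ℕ} (maxM : IsCoatom M) (sMp : p ∈ sigma M)
    (pX : IsPGrp p X) {g : G} (sXM : X ≤ M) (sXgM : X :^ g ≤ M) :
    ∃ m ∈ M, ∃ c ∈ 𝒞(X), g = m * c := by
  obtain ⟨c, Cc, e⟩ := sigma_group_trans_b maxM sMp pX (g := 1) (by rwa [conjg_one])
    (conjg_le_iff.1 sXgM)
  rw [conjg_one, eq_comm, conjg_eq_conjg_iff, norm_mmax maxM, inv_inv] at e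
  exact ⟨g * c, e, c⁻¹, inv_mem Cc, by group⟩

theorem sigma_group_trans_c {M X : Subgroup G} {p : ℕ} (maxM : IsCoatom M) (sMp : p ∈ sigma M)
    (pX : IsPGrp p X) (sXM : X ≤ M) : 𝒞(X) ⊔ (M ⊓ 𝒩(X)) = 𝒩(X) := by
  refine le_antisymm (sup_le (cent_le_norm X) inf_le_right) fun g hg => ?_
  obtain ⟨m, Mm, c, Cc, rfl⟩ := sigma_group_trans_a maxM sMp pX sXM
    (by rwa [conjg_of_mem_norm hg])
  have : m ∈ 𝒩(X) := (Subgroup.mul_mem_cancel_right _ (cent_le_norm X Cc)).1 hg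
  exact mul_mem (Subgroup.mem_sup_right ⟨Mm, this⟩) (Subgroup.mem_sup_left Cc)

theorem sigma_group_trans_e {M X : Subgroup G} {p : ℕ} (maxM : IsCoatom M) (sMp : p ∈ sigma M)
    (pX : IsPGrp p X) {g : G} (sXM : X ≤ M) (sCM : 𝒞(X) ≤ M) (sXgM : X :^ g ≤ M) : g ∈ M := by
  obtain ⟨m, Mm, c, Cc, rfl⟩ := sigma_group_trans_a maxM sMp pX sXM sXgM
  exact mul_mem Mm (sCM Cc)

/-! ### Theorem 10.2 -/

theorem focal_le {p : ℕ} {P H L : Subgroup G} (hp : p.Prime) (sylP : IsSylowOf p P H)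
    (h : ∀ x ∈ P, ∀ g ∈ H, g * x * g⁻¹ ∈ P → x⁻¹ * (g * x * g⁻¹) ∈ L) : P ⊓ ⁅H, H⁆ ≤ L := by
  rw [focal_subgroup_gen hp sylP, Subgroup.closure_le]
  rintro _ ⟨x, Px, u, Hu, h1, rfl⟩
  exact h x Px u Hu h1

theorem sigma_Sylow_der1 {M P : Subgroup G} {p : ℕ} (maxM : IsCoatom M) (sMp : p ∈ sigma M)
    (sylP : IsSylowOf p P M) : P ≤ ⁅M, M⁆ := by
  have h := focal_le (L := ⁅M, M⁆) sMp.1 (sigma_Sylow_G sMp sylP) (by
    intro x Px g _ Pxg
    have pX : IsPGrp p (Subgroup.zpowers x) :=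
      sylP.piGrp.of_le ((Subgroup.zpowers_le).2 Px)
    obtain ⟨m, Mm, c, Cc, rfl⟩ := sigma_group_trans_a (g := g) maxM sMp pX
      ((Subgroup.zpowers_le).2 (sylP.le Px))
      (by rw [conjg_zpowers]; exact (Subgroup.zpowers_le).2 (sylP.le Pxg))
    rw [cent_zpowers, Subgroup.mem_centralizer_singleton_iff] at Cc
    have : x⁻¹ * (m * c * x * (m * c)⁻¹) = ⁅x⁻¹, m⁆ := by
      rw [commutatorElement_def, mul_assoc m c x, Cc]; group
    rw [this]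
    exact Subgroup.commutator_mem_commutator (inv_mem (sylP.le Px)) Mm)
  rwa [mFT_der1, inf_top_eq] at h

theorem sigma_sub_der1 {M H : Subgroup G} (maxM : IsCoatom M) (sHM : H ≤ M) (sH : IsPiGrp (sigma M) H) :
    H ≤ ⁅M, M⁆ := by
  refine le_of_exists_sylow fun p hp hd => ?_
  obtain ⟨Q, sylQ⟩ := sylow_exists hp H
  obtain ⟨P, sylP, sQP⟩ := sylow_superset hp sylQ.pGrp (sylQ.le.trans sHM)
  exact ⟨Q, sylQ, sQP.trans (sigma_Sylow_der1 maxM (sH p hp hd) sylP)⟩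

theorem Msigma_der1 {M : Subgroup G} (maxM : IsCoatom M) : sigmaCore M ≤ ⁅M, M⁆ :=
  sigma_sub_der1 maxM (Msigma_normal M).1 (Msigma_pgroup M)

theorem Fitting_quo_alpha' (M : Subgroup G) : IsPiGrp (alpha M)ᶜ (fittingOf (M /ₛ alphaCore M)) := by
  have h := (nilpotent_pcore_Hall (alpha M) (fitting_nil (M /ₛ alphaCore M))).eq_bot_iff
  apply h.1
  exact eq_bot_of_pcore_eq_bot (pcore_quot_pcore (alpha M) M) ((fitting_normal _).pcore _)
    (pcore_piGrp _ _)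

theorem pRank_quo_alpha {M : Subgroup G} {q : ℕ} (hq : q.Prime) (a'q : q ∉ alpha M) :
    pRank q (M /ₛ alphaCore M) ≤ 2 := by
  rw [p_rank_p'quotient hq ((piGrp_compl_singleton_iff hq).2 (fun h => a'q (Malpha_pgroup M q hq h))) (Malpha_normal M).2]
  by_contra h
  exact a'q (mem_alpha_iff.2 ⟨hq, lt_of_not_ge h⟩)

theorem rank_le_two_of_alpha' {M : Subgroup G} {Y : Subgroup (Coset (alphaCore M))}
    (sY : Y ≤ M /ₛ alphaCore M) (a'Y : IsPiGrp (alpha M)ᶜ Y) : rank Y ≤ 2 := by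
  refine rank_le_iff.2 fun q hq => ?_
  by_cases h : q ∣ Nat.card Y
  · exact (pRank_mono hq sY).trans (pRank_quo_alpha hq (a'Y q hq h))
  · have := mt (pRank_pos_iff hq).1 h
    omega

theorem Malpha_quo_sub_Fitting {M : Subgroup G} (maxM : IsCoatom M) :
    ⁅M, M⁆ /ₛ alphaCore M ≤ fittingOf (M /ₛ alphaCore M) := by
  rw [quot_comm (Malpha_normal M).2 (Malpha_normal M).2]
  exact rank2_der1_sub_Fitting (mFT_quo_odd _ _) (sol_quot _ (mmax_sol maxM))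
    (rank_le_two_of_alpha' (fitting_le _) (Fitting_quo_alpha' M))

theorem Malpha_quo_nil {M : Subgroup G} (maxM : IsCoatom M) :
    Group.IsNilpotent (⁅M, M⁆ /ₛ alphaCore M) :=
  nil_of_le (fitting_nil _) (Malpha_quo_sub_Fitting maxM)

theorem Malpha_Hall {M : Subgroup G} (maxM : IsCoatom M) : IsPiHallOf (alpha M) (alphaCore M) M := by
  obtain ⟨H, hallH⟩ := Hall_exists (alpha M) (mmax_sol maxM)
  have sHM' := sigma_sub_der1 maxM hallH.le (hallH.piGrp.mono (alpha_sub_sigma maxM))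
  have h1 : H /ₛ alphaCore M = ⊥ :=
    IsPiGrp.eq_bot (hallH.piGrp.quot _)
      ((Fitting_quo_alpha' M).of_le ((quot_mono _ sHM').trans (Malpha_quo_sub_Fitting maxM)))
  have h2 := (quot_eq_bot_iff (hallH.le.trans (Malpha_normal M).2)).1 h1
  have h3 : H = alphaCore M := le_antisymm h2 hallH.pcore_le
  exact h3 ▸ hallH

theorem Msigma_Hall {M : Subgroup G} (maxM : IsCoatom M) : IsPiHallOf (sigma M) (sigmaCore M) M := by
  obtain ⟨H, hallH⟩ := Hall_exists (sigma M) (mmax_sol maxM)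
  have sHM' := sigma_sub_der1 maxM hallH.le hallH.piGrp
  have nMa := Malpha_normal M
  have sMaH : alphaCore M ≤ H := (Malpha_sub_Msigma maxM).trans hallH.pcore_le
  have h1 : IsPiHallOf (sigma M) (H /ₛ alphaCore M) (⁅M, M⁆ /ₛ alphaCore M) :=
    (hallH.of_le sHM' (der_normalIn M).1).quot ((der_normalIn M).1.trans nMa.2)
  have h2 : M /ₛ alphaCore M ≤ 𝒩(H /ₛ alphaCore M) := by
    rw [nilpotent_Hall_pcore (Malpha_quo_nil maxM) h1]
    exact norm_pcore _ (quot_norm _ (der_normalIn M).2)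
  have h3 : M ≤ 𝒩(H) := (quot_norm_iff nMa.2 ⟨sMaH, hallH.le.trans nMa.2⟩).1 h2
  exact pcore_pHall_of_normal hallH h3

theorem pi_Msigma {M : Subgroup G} (maxM : IsCoatom M) : primesOf (sigmaCore M) = sigma M := by
  ext p
  exact ⟨fun h => Msigma_pgroup M p h.1 h.2,
    fun h => ⟨h.1, ((Msigma_Hall maxM).dvd_card_iff h.1 h).2 h.2.1⟩⟩

theorem sigma'_index (M : Subgroup G) : PiNat (sigma M)ᶜ (M.relIndex ⊤) := by
  refine piNat_compl_iff.2 fun p hp sMp hd => ?_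
  obtain ⟨P, sylP⟩ := sylow_exists hp M
  apply (sigma_Sylow_G sMp sylP).not_dvd_index hp
  rw [← Subgroup.relIndex_mul_relIndex P M ⊤ sylP.le le_top]
  exact hd.mul_left _

theorem Msigma_Hall_G {M : Subgroup G} (maxM : IsCoatom M) : IsPiHallOf (sigma M) (sigmaCore M) ⊤ :=
  (Msigma_Hall maxM).trans_index le_top (sigma'_index M)

theorem Malpha_Hall_G {M : Subgroup G} (maxM : IsCoatom M) : IsPiHallOf (alpha M) (alphaCore M) ⊤ :=
  (Malpha_Hall maxM).trans_index le_top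
    ((sigma'_index M).mono (Set.compl_subset_compl.2 (alpha_sub_sigma maxM)))

theorem Malpha_quo_rank2 {M : Subgroup G} (maxM : IsCoatom M) : rank (M /ₛ alphaCore M) ≤ 2 :=
  rank_le_two_of_alpha' le_rfl ((Malpha_Hall maxM).quot_piGrp (Malpha_normal M).2)

/-- An `α(M)'`-subgroup of `M` has rank at most 2. -/
theorem alpha'_rank2 {M K : Subgroup G} (sKM : K ≤ M) (a'K : IsPiGrp (alpha M)ᶜ K) : rank K ≤ 2 := by
  refine rank_le_iff.2 fun q hq => ?_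
  by_cases h : q ∣ Nat.card K
  · refine (pRank_mono hq sKM).trans ?_
    by_contra h'
    exact a'K q hq h (mem_alpha_iff.2 ⟨hq, lt_of_not_ge h'⟩)
  · have := mt (pRank_pos_iff hq).1 h
    omega

theorem exists_max_prime_dvd {n : ℕ} (h0 : n ≠ 0) (h1 : n ≠ 1) :
    ∃ q, q.Prime ∧ q ∣ n ∧ ∀ r : ℕ, r.Prime → r ∣ n → r ≤ q := by
  have hne : n.primeFactors.Nonempty := Nat.nonempty_primeFactors.2 (by omega)
  refine ⟨n.primeFactors.max' hne, Nat.prime_of_mem_primeFactors (Finset.max'_mem _ _),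
    Nat.dvd_of_mem_primeFactors (Finset.max'_mem _ _), fun r hr hd => ?_⟩
  exact Finset.le_max' _ r (Nat.mem_primeFactors.2 ⟨hr, hd, h0⟩)

/-- A nontrivial solvable group of odd order and rank at most 2 has a nontrivial normal Sylow subgroup. -/
theorem rank2_normal_Sylow {E : Subgroup G} (solE : Group.IsSolvable E) (rE : rank E ≤ 2) (ntE : E ≠ ⊥) :
    ∃ q, q.Prime ∧ q ∣ Nat.card E ∧ IsSylowOf q (pCoreOf q E) E := by
  obtain ⟨q, hq, hd, hmax⟩ := exists_max_prime_dvd (Nat.card_pos (α := E)).ne' (one_lt_card ntE).ne'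
  exact ⟨q, hq, hd, rank2_max_pcore_Sylow hq hmax (mFT_odd E) solE
    ((rank_mono (fitting_le E)).trans rE)⟩

theorem Msigma_neq1 {M : Subgroup G} (maxM : IsCoatom M) : sigmaCore M ≠ ⊥ := by
  intro h
  have s'M := (Msigma_Hall maxM).eq_bot_iff.1 h
  have rM := alpha'_rank2 le_rfl (s'M.mono (Set.compl_subset_compl.2 (alpha_sub_sigma maxM)))
  obtain ⟨q, hq, hd, sylQ⟩ := rank2_normal_Sylow (mmax_sol maxM) rM (mmax_neq1 maxM)
  refine s'M q hq hd (mem_sigma_iff.2 ⟨hq, hd, _, sylQ, ?_⟩)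
  exact (mmax_normal maxM (pcore_normal _ M) (sylQ.ne_bot' hq hd)).le

end CA.BG.P10
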