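/-
B & G section 10, part b: 10.3 - 10.7.
-/
import Cfsg.Agent.BG.P10a
import Cfsg.Agent.BG.I03
import Cfsg.Agent.BG.P05a

set_option autoImplicit false
set_option linter.unusedSectionVars false

namespace CA.BG.P10

open Cfsg CA.FG
open scoped commutatorElement

universe u

variable {G : Type u} [Group G] [MinSimpleOdd G]

theorem pnElem_pGrp {p n : ℕ} (hp : p.Prime) {A H : Subgroup G} (h : IsPnElem p n A H) : IsPGrp p A :=
  pGrp_of_card_eq_pow hp h.2.2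

theorem pnElem_ne_bot {p n : ℕ} (hp : p.Prime) {A H : Subgroup G} (h : IsPnElem p (n + 1) A H) : A ≠ ⊥ :=
  ne_bot_of_prime_dvd_card hp (by rw [h.2.2]; exact dvd_pow_self p (Nat.succ_ne_zero n))

theorem pnElem_dvd {p n : ℕ} {A H : Subgroup G} (h : IsPnElem p (n + 1) A H) : p ∣ Nat.card H :=
  (by rw [h.2.2]; exact dvd_pow_self p (Nat.succ_ne_zero n) : p ∣ Nat.card A).trans
    (Subgroup.card_dvd_of_le h.1)

theorem pnElem_mono {p n : ℕ} {A H K : Subgroup G} (h : IsPnElem p n A H) (hK : A ≤ K) :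
    IsPnElem p n A K := ⟨hK, h.2⟩

theorem pmaxElem_of_le {p : ℕ} {A H K : Subgroup G} (h : IsPMaxElem p A H) (hA : A ≤ K) (hK : K ≤ H) :
    IsPMaxElem p A K := ⟨hA, h.2.1, fun B hB => h.2.2 B (hB.trans hK)⟩

theorem odd_rank1_Zgroup {H : Subgroup G} (h : rank H ≤ 1) : IsZGroup H := by
  refine ⟨fun p hp P => ?_⟩
  have sylP := sylow_map_subtype hp P
  have : IsCyclic ((P : Subgroup H).map H.subtype) :=
    (odd_pgroup_rank1_cyclic hp sylP.pGrp (mFT_odd _)).2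
      (((pRank_mono hp sylP.le).trans (p_rank_le_rank hp H)).trans h)
  exact (cyclic_map_iff_of_inj H.subtype_injective).1 this

/-- B & G, Lemma 10.3. -/
theorem cent_alpha'_uniq {M X : Subgroup G} (maxM : IsCoatom M) (sXM : X ≤ M)
    (a'X : IsPiGrp (alpha M)ᶜ X) (r2 : 2 ≤ rank (alphaCore M ⊓ 𝒞(X))) :
    InUniqueMaximal (M ⊓ 𝒞(X)) := by
  have prC : M ⊓ 𝒞(X) ≠ ⊤ := sub_mmax_proper maxM inf_le_left
  obtain ⟨p, hp, B, EpB⟩ := rank_geP.1 r2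
  have sBMa : B ≤ alphaCore M := EpB.1.trans inf_le_left
  have cXB : B ≤ 𝒞(X) := EpB.1.trans inf_le_right
  have sMaM := (Malpha_normal M).1
  by_cases maxB : IsPMaxElem p B ⊤
  swap
  · exact uniq_mmaxS (le_inf (sBMa.trans sMaM) cXB) prC
      (nonmaxElem2_Uniqueness hp (pnElem_mono EpB le_top) maxB)
  have pB := pnElem_pGrp hp EpB
  have aMp : p ∈ alpha M := Malpha_pgroup M p hp (pnElem_dvd (pnElem_mono EpB sBMa))
  have co : (Nat.card (alphaCore M)).Coprime (Nat.card X) := (Malpha_pgroup M).coprime a'X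
  obtain ⟨P, sylP, nPX, sBP⟩ := coprime_Hall_subset (π := {p}) (sXM.trans (Malpha_normal M).2) co
    (sol_of_le (mmax_sol maxM) sMaM) sBMa pB (norm_of_cent' cXB)
  have cPX : X ≤ 𝒞(P) := by
    refine coprime_odd_faithful_cent_abelem (p := p) sBP EpB.2.1 sylP.piGrp nPX
      (Nat.Coprime.coprime_dvd_left (Subgroup.card_dvd_of_le sylP.le) co) (mFT_odd _) ?_
    intro x hx hxp
    have : x ∈ B := P05.mem_of_pmaxElem maxB (Subgroup.mem_top x) hx.2 hxp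
    exact mem_cent_iff_le_cent_singleton.1 (cXB this)
  have sylPM : IsSylowOf p P M := IsSylowOf.trans_hall sylP (Malpha_Hall maxM) aMp
  exact uniq_mmaxS (le_inf sylPM.le (le_cent_symm cPX)) prC
    (inUniq_of_uniqMax (alpha_Sylow_uniq maxM aMp sylPM))

/-- B & G, Lemma 10.4(a). -/
theorem der1_quo_sigma' {M : Subgroup G} (maxM : IsCoatom M) {p : ℕ} (hp : p.Prime)
    (h : p ∣ (⁅M, M⁆ : Subgroup G).relIndex M) : p ∉ sigma M := by
  intro sMp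
  obtain ⟨P, sylP⟩ := sylow_exists hp M
  exact sylP.not_dvd_index hp
    (h.trans (Subgroup.relIndex_dvd_of_le_left M (sigma_Sylow_der1 maxM sMp sylP)))

theorem not_norm_le_of_sigma' {M P : Subgroup G} (maxM : IsCoatom M) {p : ℕ} (hp : p.Prime)
    (s'p : p ∉ sigma M) (sylP : IsSylowOf p P M) : ¬ 𝒩(P) ≤ M :=
  fun h => s'p (mem_sigma_of_norm_le hp (mmax_proper maxM) sylP h)

theorem norm_ohm1_center (p : ℕ) (P : Subgroup G) : 𝒩(P) ≤ 𝒩(ohm1 p 𝒵(P)) :=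
  P04.norm_ohm1 p (charIn_center P).norm_le

theorem ohm1_center_le (p : ℕ) (P : Subgroup G) : ohm1 p 𝒵(P) ≤ P :=
  (P04.ohm1_le p _).trans inf_le_left

theorem ohm1_center_cent (p : ℕ) (P : Subgroup G) : ohm1 p 𝒵(P) ≤ 𝒞(P) :=
  (P04.ohm1_le p _).trans inf_le_right

theorem ohm1_center_abelem (p : ℕ) (P : Subgroup G) : IsElementaryAbelian p (ohm1 p 𝒵(P)) :=
  P04.ohm1_abelem (abelian_inf_cent P)

theorem ohm1_center_ne_bot {p : ℕ} (hp : p.Prime) {P : Subgroup G} (pP : IsPGrp p P) (ntP : P ≠ ⊥) :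
    ohm1 p 𝒵(P) ≠ ⊥ :=
  P04.ohm1_ne_bot hp ((pP.of_le inf_le_left).isPGroup hp) (center_nil_ne_bot pP.nil ntP)

/-- B & G, Lemma 10.4(b). -/
theorem cent1_sigma'_Zgroup {M P : Subgroup G} (maxM : IsCoatom M) {p : ℕ} (hp : p.Prime)
    (s'p : p ∉ sigma M) (sylP : IsSylowOf p P M) (ntP : P ≠ ⊥) :
    ∃ x ∈ ohm1 p 𝒵(P), x ≠ 1 ∧ ¬ UniqMax 𝒞[x] M ∧ IsZGroup ↥(alphaCore M ⊓ 𝒞[x]) := by
  suffices h : ∃ x ∈ ohm1 p 𝒵(P), x ≠ 1 ∧ ¬ UniqMax 𝒞[x] M by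
    obtain ⟨x, Tx, ntx, nuCx⟩ := h
    refine ⟨x, Tx, ntx, nuCx, odd_rank1_Zgroup (le_of_not_gt fun r2 => nuCx ?_)⟩
    have sXP : Subgroup.zpowers x ≤ P := (Subgroup.zpowers_le).2 (ohm1_center_le p P Tx)
    have a'X : IsPiGrp (alpha M)ᶜ (Subgroup.zpowers x) :=
      IsPGrp.piGrp (sylP.pGrp.of_le sXP) (fun h => s'p (alpha_sub_sigma maxM h))
    have u := cent_alpha'_uniq maxM (sXP.trans sylP.le) a'X (by rw [cent_zpowers]; exact r2)
    rw [cent_zpowers] at u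
    exact def_uniq_mmaxS inf_le_right (mFT_cent1_proper ntx) (def_uniq_mmax u maxM inf_le_left)
  by_contra hn
  push Not at hn
  obtain ⟨x, Tx, ntx⟩ := exists_mem_ne_one (ohm1_center_ne_bot hp sylP.pGrp ntP)
  apply not_norm_le_of_sigma' maxM hp s'p sylP
  intro u Nu
  have h1 := def_uniq_mmaxJ u (hn x Tx ntx)
  rw [conjg_cent1] at h1
  have h2 := hn (u * x * u⁻¹) (conj_mem_of_mem_norm (norm_ohm1_center p P Nu) Tx)
    (by simpa using ntx)
  exact mem_of_conjg_mmax maxM (eq_uniq_mmax h2 h1.1 h1.2.1)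

/-- B & G, Lemma 10.4(c), part 1. -/
theorem sigma'_rank2_max {M : Subgroup G} (maxM : IsCoatom M) {p : ℕ} (hp : p.Prime)
    (s'p : p ∉ sigma M) (_r2 : pRank p M = 2) {A : Subgroup G} (EpA : IsPnElem p 2 A M) :
    IsPMaxElem p A ⊤ := by
  by_contra nmaxA
  obtain ⟨P, sylP, sAP⟩ := sylow_superset hp (pnElem_pGrp hp EpA) EpA.1
  apply not_norm_le_of_sigma' maxM hp s'p sylP
  exact uniq_mmax_norm_sub (def_uniq_mmaxS sAP (mFT_pgroup_proper sylP.pGrp)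
    (def_uniq_mmax (nonmaxElem2_Uniqueness hp (pnElem_mono EpA le_top) nmaxA) maxM EpA.1))

theorem not_ideal_of_pmax {p : ℕ} (hp : p.Prime) {A : Subgroup G} (EpA : IsPnElem p 2 A ⊤)
    (maxA : IsPMaxElem p A ⊤) : ¬ IsIdealPrime p G := by
  intro h
  obtain ⟨P, sylP, sAP⟩ := sylow_superset hp (pnElem_pGrp hp EpA) (le_top (a := A))
  exact (ideal_iff.1 h).2.2 P sylP fun _ => ⟨A, pnElem_mono EpA sAP, pmaxElem_of_le maxA sAP le_top⟩

/-- B & G, Lemma 10.4(c), part 2. -/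
theorem sigma'_rank2_beta' {M : Subgroup G} (maxM : IsCoatom M) {p : ℕ} (hp : p.Prime)
    (s'p : p ∉ sigma M) (r2 : pRank p M = 2) : ¬ IsIdealPrime p G := by
  obtain ⟨A, EpA⟩ := (p_rank_geP hp).1 r2.ge
  exact not_ideal_of_pmax hp (pnElem_mono EpA le_top) (sigma'_rank2_max maxM hp s'p r2 EpA)

/-- B & G, Lemma 10.5, part 1. -/
theorem sigma'_norm_mmax_rank2 {M X : Subgroup G} (maxM : IsCoatom M) {p : ℕ} (hp : p.Prime)
    (s'p : p ∉ sigma M) (pX : IsPGrp p X) (sNM : 𝒩(X) ≤ M) : pRank p M = 2 := by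
  have sXM : X ≤ M := Subgroup.le_normalizer.trans sNM
  obtain ⟨P, sylP, sXP⟩ := sylow_superset hp pX sXM
  rcases lt_trichotomy (pRank p M) 2 with h | h | h
  · exfalso
    apply not_norm_le_of_sigma' maxM hp s'p sylP
    have cP : IsCyclic P := (odd_pgroup_rank1_cyclic hp sylP.pGrp (mFT_odd _)).2
      (by rw [p_rank_Hall hp sylP rfl]; omega)
    exact (norm_le_norm_of_cyclic cP sXP).trans sNM
  · exact h
  · exact absurd (alpha_sub_sigma maxM (mem_alpha_iff.2 ⟨hp, h⟩)) s'p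

theorem card_le_of_pRank {p k : ℕ} (hp : p.Prime) {A H : Subgroup G} (sAH : A ≤ H)
    (abA : IsElementaryAbelian p A) (h : pRank p H ≤ k) : Nat.card A ≤ p ^ k :=
  (P04.pRank_le_iff hp).1 h A sAH abA

/-- An elementary abelian `p`-group properly containing a group of order `p ^ n`, in a group of `p`-rank
at most `n + 1`. -/
theorem pnElem_succ_of_lt {p n : ℕ} (hp : p.Prime) {X A H : Subgroup G} (sAH : A ≤ H)
    (abA : IsElementaryAbelian p A) (h : pRank p H ≤ n + 1) (oX : Nat.card X = p ^ n) (lt : X < A) :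
    IsPnElem p (n + 1) A H := by
  refine ⟨sAH, abA, le_antisymm (card_le_of_pRank hp sAH abA h) ?_⟩
  exact P04.pow_le_card_of_lt hp (P04.abelem_pgroup abA) (oX ▸ card_lt_of_lt lt)

/-- B & G, Lemma 10.5, part 2 (the subgroup `A` lies in `M`). -/
theorem sigma'1Elem_sub_p2Elem {M X : Subgroup G} (maxM : IsCoatom M) {p : ℕ} (hp : p.Prime)
    (s'p : p ∉ sigma M) (EpX : IsPnElem p 1 X ⊤) (sNM : 𝒩(X) ≤ M) :
    ∃ A : Subgroup G, IsPnElem p 2 A M ∧ X ≤ A := by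
  have pX := pnElem_pGrp hp EpX
  have rM := sigma'_norm_mmax_rank2 maxM hp s'p pX sNM
  have sXM : X ≤ M := Subgroup.le_normalizer.trans sNM
  obtain ⟨P, sylP, sXP⟩ := sylow_superset hp pX sXM
  have oX : Nat.card X = p := by rw [EpX.2.2, pow_one]
  have ntT := ohm1_center_ne_bot hp sylP.pGrp (ne_bot_mono sXP (pnElem_ne_bot hp EpX))
  have nsTX : ¬ ohm1 p 𝒵(P) ≤ X := by
    intro h
    rcases eq_bot_or_eq_of_le_card_prime (oX ▸ hp) h with h | h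
    · exact ntT h
    · exact not_norm_le_of_sigma' maxM hp s'p sylP ((norm_ohm1_center p P).trans (h ▸ sNM))
  refine ⟨X ⊔ ohm1 p 𝒵(P), pnElem_succ_of_lt hp (sup_le sXM ((ohm1_center_le p P).trans sylP.le))
    (P04.abelem_sup EpX.2.1 (ohm1_center_abelem p P)
      (le_cent_symm ((ohm1_center_cent p P).trans (cent_anti sXP)))) rM.le EpX.2.2
    (lt_of_le_of_ne le_sup_left fun h => nsTX (h ▸ le_sup_right)), le_sup_left⟩

/-- B & G, Theorem 10.6. -/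
theorem mFT_proper_plength1 {p : ℕ} (hp : p.Prime) {H : Subgroup G} (prH : H ≠ ⊤) :
    PLengthLE p 1 H := by
  obtain ⟨M, maxM, sHM⟩ := mmax_exists prH
  refine plength1S hp sHM ?_
  have solM := mmax_sol maxM
  by_cases rM : pRank p M ≤ 2
  · exact (plength1_pseries2_quo hp).2 (rank2_der1_complement hp solM (mFT_odd M) rM).2.2
  have aMp : p ∈ alpha M := mem_alpha_iff.2 ⟨hp, lt_of_not_ge rM⟩
  have hallMa := Malpha_Hall maxM
  obtain ⟨K, hallK⟩ := Hall_exists (alpha M)ᶜ solM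
  have defM : SDProd (alphaCore M) K M := hallMa.sdprod (Malpha_normal M).2 hallK
  refine plength1_of_normal_p'index hp (Malpha_normal M)
    (hallMa.index.mono (Set.compl_subset_compl.2 (Set.singleton_subset_iff.2 aMp))) ?_
  have co := (Malpha_pgroup M).coprime hallK.piGrp
  rw [← (coprime_der1_sdprod defM co (sol_of_le solM hallMa.le)
    ((Malpha_sub_Msigma maxM).trans (Msigma_der1 maxM))).1]
  have ltM' := der_lt_of_sol solM (mmax_neq1 maxM)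
  have : (⁅M, M⁆ : Subgroup G).relIndex M ≠ 1 := fun h =>
    ltM'.not_ge (Subgroup.relIndex_eq_one.1 h)
  obtain ⟨q, hq, qd⟩ := Nat.exists_prime_and_dvd this
  have s'q := der1_quo_sigma' maxM hq qd
  have a'q : q ∈ (alpha M)ᶜ := fun h => s'q (alpha_sub_sigma maxM h)
  obtain ⟨Q, sylQ⟩ := sylow_exists hq K
  have sylQM : IsSylowOf q Q M := sylQ.trans_hall hallK a'q
  obtain ⟨x, Tx, ntx, -, Zx⟩ := cent1_sigma'_Zgroup maxM hq s'q sylQM
    (sylQM.ne_bot' hq (qd.trans (Subgroup.relIndex_dvd_card _ _)))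
  have oX : Nat.card (Subgroup.zpowers x) = q :=
    P04.card_zpowers_of_pow hq ntx ((ohm1_center_abelem q Q).2 x Tx)
  refine odd_sdprod_Zgroup_cent_prime_plength1 hp solM (mFT_odd M) defM co
    (R₀ := Subgroup.zpowers x) ((Subgroup.zpowers_le).2 (sylQ.le (ohm1_center_le q Q Tx)))
    (oX ▸ hq) (by rw [cent_zpowers]; exact Zx)

/-! ### Corollary 10.7 -/

theorem exists_mmax_norm_Sylow {p : ℕ} (hp : p.Prime) {P : Subgroup G} (sylP : IsSylowOf p P ⊤)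
    (ntP : P ≠ ⊥) : ∃ M : Subgroup G, IsCoatom M ∧ 𝒩(P) ≤ M ∧ IsSylowOf p P M ∧ p ∈ sigma M := by
  obtain ⟨M, maxM, sNM⟩ := mmax_exists (mFT_norm_proper ntP (mFT_pgroup_proper sylP.pGrp))
  have sylPM : IsSylowOf p P M := sylP.of_le (Subgroup.le_normalizer.trans sNM) le_top
  exact ⟨M, maxM, sNM, sylPM, mem_sigma_of_norm_le hp (mmax_proper maxM) sylPM sNM⟩

theorem mFT_Sylow_der1 {p : ℕ} (hp : p.Prime) {P : Subgroup G} (sylP : IsSylowOf p P ⊤) :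
    P ≤ ⁅𝒩(P), 𝒩(P)⁆ := by
  by_cases ntP : P = ⊥
  · exact ntP.le.trans bot_le
  obtain ⟨M, maxM, sNM, sylPM, sMp⟩ := exists_mmax_norm_Sylow hp sylP ntP
  have := plength1_Sylow_sub_der1 hp sylPM (mFT_proper_plength1 hp (mmax_proper maxM))
    (sigma_Sylow_der1 maxM sMp sylPM)
  rwa [inf_eq_right.2 sNM] at this

theorem mFT_Sylow_sdprod_commg {p : ℕ} (hp : p.Prime) {P V : Subgroup G} (sylP : IsSylowOf p P ⊤)
    (defN : IsComplIn P V 𝒩(P)) : ⁅P, V⁆ = P := by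
  have sylPN : IsSylowOf p P 𝒩(P) := sylP.of_le Subgroup.le_normalizer le_top
  exact (coprime_der1_sdprod (defN.sdprod le_rfl) (defN.relIndex_left ▸ sylPN.coprime) sylP.pGrp.sol
    (mFT_Sylow_der1 hp sylP)).1

theorem mFT_rank2_Sylow_cprod {p : ℕ} (hp : p.Prime) {P : Subgroup G} (sylP : IsSylowOf p P ⊤)
    (rP : rank P ≤ 2) (nabP : ¬ IsMulCommutative P) :
    ∃ S C : Subgroup G, ¬ IsMulCommutative S ∧ Nat.card S = p ^ 3 ∧ (∀ x ∈ S, x ^ p = 1) ∧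
      IsCyclic C ∧ CProd S C P ∧ ohm1 p C = 𝒵(S) := by
  have sylPN : IsSylowOf p P 𝒩(P) := sylP.of_le Subgroup.le_normalizer le_top
  have ntP : P ≠ ⊥ := ne_bot_of_not_cyclic (not_cyclic_of_not_abelian nabP)
  obtain ⟨V, defN⟩ := sylPN.exists_sdprod le_rfl
  obtain ⟨-, h | ⟨S, C, nabS, oS, expS, defP, cC, defC⟩⟩ := rank2_coprime_comm_cprod hp sylP.pGrp
    (mFT_odd P) ntP rP (mFT_Sylow_sdprod_commg hp sylP defN.complIn)
    (defN.complIn.pHall_compl sylPN).piGrp (mFT_odd V)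
  · exact absurd h nabP
  refine ⟨S, C, nabS, oS, expS, cC, defP, defC.trans ?_⟩
  exact (p3group_extraspecial hp (pGrp_of_card_eq_pow hp oS) nabS oS.le).2.2.1

/-- Strong form of 10.7(c): `x ∈ N(P) C(Q)`. -/
theorem mFT_sub_Sylow_trans' {p : ℕ} (hp : p.Prime) {P Q : Subgroup G} (sylP : IsSylowOf p P ⊤) {x : G}
    (sQP : Q ≤ P) (sQxP : Q :^ x ≤ P) : ∃ y ∈ 𝒩(P), ∃ c ∈ 𝒞(Q), x = y * c := by
  by_cases ntP : P = ⊥
  · refine ⟨x, ?_, 1, one_mem _, (mul_one x).symm⟩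
    rw [ntP]; exact norm_bot ⊤ (Subgroup.mem_top x)
  obtain ⟨M, maxM, sNM, sylPM, sMp⟩ := exists_mmax_norm_Sylow hp sylP ntP
  obtain ⟨m, Mm, c, Cc, rfl⟩ := sigma_group_trans_a maxM sMp (sylP.pGrp.of_le sQP)
    (sQP.trans sylPM.le) (sQxP.trans sylPM.le)
  rw [conjg_mul, conjg_of_mem_cent Cc] at sQxP
  obtain ⟨u, hu, d, hd, rfl⟩ := plength1_Sylow_trans hp sylPM
    (mFT_proper_plength1 hp (mmax_proper maxM)) sQP Mm sQxP
  exact ⟨u, hu.2, d * c, mul_mem hd.2 Cc, mul_assoc _ _ _⟩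

theorem mFT_sub_Sylow_trans {p : ℕ} (hp : p.Prime) {P Q : Subgroup G} (sylP : IsSylowOf p P ⊤) {x : G}
    (sQP : Q ≤ P) (sQxP : Q :^ x ≤ P) : ∃ y ∈ 𝒩(P), Q :^ x = Q :^ y := by
  obtain ⟨y, Ny, c, Cc, rfl⟩ := mFT_sub_Sylow_trans' hp sylP sQP sQxP
  exact ⟨y, Ny, by rw [conjg_mul, conjg_of_mem_cent Cc]⟩

theorem mFT_subnorm_Sylow {p : ℕ} (hp : p.Prime) {P Q : Subgroup G} (sylP : IsSylowOf p P ⊤)
    (sQP : Q ≤ P) : IsSylowOf p (P ⊓ 𝒩(Q)) 𝒩(Q) := by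
  obtain ⟨S, sylS, sQS⟩ := sylow_superset hp (sylP.pGrp.of_le sQP) (Subgroup.le_normalizer (H := Q))
  obtain ⟨x, -, sSxP⟩ := sylow_Jsub hp sylP sylS.pGrp le_top
  obtain ⟨y, Ny, defQx⟩ := mFT_sub_Sylow_trans hp sylP sQP ((conjg_mono x sQS).trans sSxP)
  have nQ : y⁻¹ * x ∈ 𝒩(Q) := conjg_eq_conjg_iff.1 defQx
  have sylS' : IsSylowOf p (S :^ (y⁻¹ * x)) 𝒩(Q) := sylS.conjg_of_mem nQ
  have : S :^ (y⁻¹ * x) ≤ P := by
    rw [conjg_mul]; exact conjg_le_of_mem_norm sSxP (inv_mem Ny)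
  rw [sylS'.eq_of_le (sylP.pGrp.inf_left _) (le_inf this sylS'.le) inf_le_right]
  exact sylS'

theorem mFT_Sylow_normalI {p : ℕ} (hp : p.Prime) {P Q R : Subgroup G} (sylP : IsSylowOf p P ⊤)
    (pR : IsPGrp p R) (sQPR : Q ≤ P ⊓ R) (nQN : 𝒩(P) ≤ 𝒩(Q)) : 𝒩(R) ≤ 𝒩(Q) := by
  have sQP := sQPR.trans inf_le_left
  have sQR := sQPR.trans inf_le_right
  obtain ⟨x, -, sRxP⟩ := sylow_Jsub hp sylP pR le_top
  intro y Ny
  obtain ⟨t, Nt, e1⟩ := mFT_sub_Sylow_trans hp sylP sQP ((conjg_mono x sQR).trans sRxP)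
  obtain ⟨z, Nz, e2⟩ := mFT_sub_Sylow_trans (x := x * y) hp sylP sQP
    (by rw [conjg_mul]; exact (conjg_mono x (conjg_le_of_mem_norm sQR Ny)).trans sRxP)
  rw [conjg_of_mem_norm (nQN Nt)] at e1
  rw [conjg_of_mem_norm (nQN Nz)] at e2
  exact (Subgroup.mul_mem_cancel_left _ (conjg_eq_self_iff.1 e1)).1 (conjg_eq_self_iff.1 e2)

end CA.BG.P10
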