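/-
B & G section 10, part c: 10.8 - 10.12.
-/
import Cfsg.Agent.BG.P10b

set_option autoImplicit false
set_option linter.unusedSectionVars false

namespace CA.BG.P10

open Cfsg CA.FG
open scoped commutatorElement

universe u

section general

variable {G : Type u} [Group G] [Finite G]

theorem piNat_relIndex_inf {ρ : Set ℕ} {A B H : Subgroup G} (nA : H ≤ 𝒩(A)) (sB : B ≤ H)
    (hA : PiNat ρ (A.relIndex H)) (hB : PiNat ρ (B.relIndex H)) : PiNat ρ ((A ⊓ B).relIndex H) := by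
  rw [← Subgroup.relIndex_mul_relIndex (A ⊓ B) B H inf_le_right sB, Subgroup.inf_relIndex_right]
  exact (hA.of_dvd (relIndex_dvd_of_le_norm sB nA)).mul hB

/-- If `H` has a normal `p`-complement for each `p ∉ π`, then `O_π(H)` is a Hall subgroup. -/
theorem pcore_Hall_of_complements {π : Set ℕ} {H : Subgroup G}
    (h : ∀ p : ℕ, p.Prime → p ∉ π → IsPiHallOf {p}ᶜ (pPrimeCoreOf p H) H) :
    IsPiHallOf π (piCoreOf π H) H := by
  have key : ∀ S : Finset ℕ, ∃ N : Subgroup G, N ⊲ H ∧ PiNat πᶜ (N.relIndex H) ∧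
      ∀ p ∈ S, p.Prime → p ∉ π → ¬ p ∣ Nat.card N := by
    intro S
    classical
    induction S using Finset.induction_on with
    | empty => exact ⟨H, normalIn_refl H, by simpa using PiNat.one _, by simp⟩
    | insert p S _ ih =>
      obtain ⟨N, nsN, iN, hN⟩ := ih
      by_cases hp : p.Prime ∧ p ∉ π
      · refine ⟨N ⊓ pPrimeCoreOf p H, nsN.inf (pcore_normal _ _), piNat_relIndex_inf nsN.2 (pcore_le _ _)
          iN ((h p hp.1 hp.2).index.mono (by simpa using hp.2)), fun q hq q_pr q'π hd => ?_⟩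
        rcases Finset.mem_insert.1 hq with rfl | hq
        · exact pcore_piGrp {q}ᶜ H q q_pr (hd.trans (Subgroup.card_dvd_of_le inf_le_right)) rfl
        · exact hN q hq q_pr q'π (hd.trans (Subgroup.card_dvd_of_le inf_le_left))
      · refine ⟨N, nsN, iN, fun q hq q_pr q'π => ?_⟩
        rcases Finset.mem_insert.1 hq with rfl | hq
        · exact absurd ⟨q_pr, q'π⟩ hp
        · exact hN q hq q_pr q'π
  obtain ⟨N, nsN, iN, hN⟩ := key (Nat.card H).primeFactors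
  have piN : IsPiGrp π N := fun q hq hd => by
    by_contra q'π
    exact hN q (Nat.mem_primeFactors.2 ⟨hq, hd.trans (Subgroup.card_dvd_of_le nsN.1), Nat.card_pos.ne'⟩)
      hq q'π hd
  exact pHall_mk (pcore_le _ _) (pcore_piGrp _ _)
    (iN.of_dvd (Subgroup.relIndex_dvd_of_le_left H (pcore_max nsN piN)))

theorem nil_of_complements {H : Subgroup G}
    (h : ∀ p : ℕ, p.Prime → p ∣ Nat.card H → IsPiHallOf {p}ᶜ (pPrimeCoreOf p H) H) :
    Group.IsNilpotent H := by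
  refine nil_of_pcore_sylow fun p _ _ => pcore_Hall_of_complements fun q hq _ => ?_
  by_cases hd : q ∣ Nat.card H
  · exact h q hq hd
  · have : IsPiGrp {q}ᶜ H := (piGrp_compl_singleton_iff hq).2 hd
    rw [pPrimeCoreOf, pcore_of_piGrp this]; exact pHall_refl this

theorem nil_of_equiv {G' : Type*} [Group G'] {H : Subgroup G} {H' : Subgroup G'}
    (e : Nonempty (H ≃* H')) (h : Group.IsNilpotent H') : Group.IsNilpotent H :=
  Group.nilpotent_of_mulEquiv e.some.symm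

theorem der_cent_of_cyclic {Z M : Subgroup G} (cZ : IsCyclic Z) (nZM : M ≤ 𝒩(Z)) : ⁅M, M⁆ ≤ 𝒞(Z) := by
  obtain ⟨z, -, rfl⟩ := cyclic_iff_eq_zpowers.1 cZ
  rw [cent_zpowers, Subgroup.commutator_le]
  intro m Mm n Mn
  have hz := Subgroup.mem_zpowers z
  obtain ⟨a, ha⟩ := Subgroup.mem_zpowers_iff.1 (conj_mem_of_le_norm' nZM Mm hz)
  obtain ⟨b, hb⟩ := Subgroup.mem_zpowers_iff.1 (conj_mem_of_le_norm' nZM Mn hz)
  have e1 : n⁻¹ * (m⁻¹ * z * m) * n = z ^ (a * b) := by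
    rw [← ha, mul_comm a b, zpow_mul, hb]
    have := conj_zpow (a := n⁻¹) (b := z) (i := a)
    rw [inv_inv] at this; exact this.symm
  have e2 : m⁻¹ * (n⁻¹ * z * n) * m = z ^ (a * b) := by
    rw [← hb, zpow_mul, ha]
    have := conj_zpow (a := m⁻¹) (b := z) (i := b)
    rw [inv_inv] at this; exact this.symm
  rw [Subgroup.mem_centralizer_singleton_iff, commutatorElement_def]
  have e := e1.trans e2.symm
  calc m * n * m⁻¹ * n⁻¹ * z = m * n * (m⁻¹ * (n⁻¹ * z * n) * m) * m⁻¹ * n⁻¹ := by group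
    _ = m * n * (n⁻¹ * (m⁻¹ * z * m) * n) * m⁻¹ * n⁻¹ := by rw [e]
    _ = z * (m * n * m⁻¹ * n⁻¹) := by group

theorem invSub_conjg {π : Set ℕ} {A Q : Subgroup G} (x : G) (h : Q ∈ invSubgroups ⊤ A π) :
    Q :^ x ∈ invSubgroups ⊤ (A :^ x) π :=
  ⟨le_top, IsPiGrp.conjg (π := π) h.2.1 x, conjg_le_norm_iff.2 h.2.2⟩

theorem maxInv_conjg {π : Set ℕ} {A Q : Subgroup G} (x : G) (h : Q ∈ maxInvSubgroups ⊤ A π) :
    Q :^ x ∈ maxInvSubgroups ⊤ (A :^ x) π := by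
  refine ⟨invSub_conjg x h.1, fun R hR sQR => ?_⟩
  have h1 := invSub_conjg x⁻¹ hR
  rw [conjg_inv_cancel] at h1
  rw [← h.2 _ h1 (conjg_le_iff.1 sQR), conjg_cancel_inv]

theorem exists_maxInv (π : Set ℕ) (A : Subgroup G) : ∃ Q, Q ∈ maxInvSubgroups ⊤ A π := by
  obtain ⟨Q, -, h1, h2⟩ := exists_max_subgroup (P := fun Q => Q ∈ invSubgroups ⊤ A π) (H := ⊥)
    ⟨le_top, piGrp_bot π, norm_bot A⟩
  exact ⟨Q, h1, h2⟩

theorem primesOf_pGrp {p : ℕ} {A : Subgroup G} (pA : IsPGrp p A) (ntA : A ≠ ⊥) : primesOf A = {p} :=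
  Set.Subset.antisymm (piGrp_iff_primesOf_subset.1 pA)
    (Set.singleton_subset_iff.2 ⟨pA.prime ntA, pA.dvd_card ntA⟩)

end general

variable {G : Type u} [Group G] [MinSimpleOdd G]

/-! ### Lemma 10.8 -/

theorem beta'_narrow {M P : Subgroup G} (maxM : IsCoatom M) {p : ℕ} (hp : p.Prime) (b'p : p ∉ beta M)
    (sylP : IsSylowOf p P M) : Narrow p P := by
  by_contra nnP
  have rP : 2 < pRank p P := by
    by_contra h
    exact nnP fun h' => absurd h' h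
  have aMp : p ∈ alpha M := mem_alpha_iff.2 ⟨hp, rP.trans_le (pRank_mono hp sylP.le)⟩
  exact b'p ⟨aMp, not_narrow_ideal hp (sigma_Sylow_G (alpha_sub_sigma maxM aMp) sylP) nnP⟩

theorem beta_max_pdiv {M : Subgroup G} (maxM : IsCoatom M) {p : ℕ} (hp : p.Prime) (b'p : p ∉ beta M) :
    IsPiHallOf {p}ᶜ (pPrimeCoreOf p ⁅M, M⁆) ⁅M, M⁆ ∧
    IsPiHallOf {p}ᶜ (pPrimeCoreOf p (sigmaCore M)) (sigmaCore M) ∧
    ∀ q : ℕ, q.Prime → q ∣ (pPrimeCoreOf p M).relIndex M → q ≤ p := by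
  obtain ⟨P, sylP⟩ := sylow_exists hp M
  obtain ⟨h1, h2, -⟩ := narrow_der1_complement_max_pdiv hp (mFT_odd M) (mmax_sol maxM) sylP
    (beta'_narrow maxM hp b'p sylP) (fun _ => mFT_proper_plength1 hp (mmax_proper maxM))
  exact ⟨h1, pcore_pHall_of_le h1 (Msigma_der1 maxM), h2⟩

theorem Mbeta_Hall {M : Subgroup G} (maxM : IsCoatom M) : IsPiHallOf (beta M) (betaCore M) M := by
  have h : IsPiHallOf (beta M) (piCoreOf (beta M) (sigmaCore M)) (sigmaCore M) :=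
    pcore_Hall_of_complements fun p hp b'p => (beta_max_pdiv maxM hp b'p).2.1
  have e : piCoreOf (beta M) (sigmaCore M) = betaCore M := pcore_pcore_of_subset (beta_sub_sigma maxM) M
  rw [e] at h
  exact h.trans (Msigma_Hall maxM) (beta_sub_sigma maxM)

theorem Mbeta_Hall_G {M : Subgroup G} (maxM : IsCoatom M) : IsPiHallOf (beta M) (betaCore M) ⊤ :=
  (Mbeta_Hall maxM).trans_index le_top
    ((sigma'_index M).mono (Set.compl_subset_compl.2 (beta_sub_sigma maxM)))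

theorem Mbeta_der1 {M : Subgroup G} (maxM : IsCoatom M) : betaCore M ≤ ⁅M, M⁆ :=
  (Mbeta_sub_Msigma maxM).trans (Msigma_der1 maxM)

theorem Mbeta_quo_nil {M : Subgroup G} (maxM : IsCoatom M) :
    Group.IsNilpotent (⁅M, M⁆ /ₛ betaCore M) := by
  have nMb := (Mbeta_normal M).2
  have sM'M := (der_normalIn M).1
  refine nil_of_complements fun p hp hd => ?_
  have b'p : p ∉ beta M :=
    ((Mbeta_Hall maxM).quot_piGrp nMb).of_le (quot_mono _ sM'M) p hp hd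
  exact pcore_pHall_of_normal ((beta_max_pdiv maxM hp b'p).1.quot (sM'M.trans nMb))
    (quot_norm _ (pcore_norm _ _))

theorem beta'_der1_nil {M H : Subgroup G} (maxM : IsCoatom M) (b'H : IsPiGrp (beta M)ᶜ H)
    (sHM' : H ≤ ⁅M, M⁆) : Group.IsNilpotent H :=
  nil_of_equiv (quot_equiv (K := betaCore M) (sHM'.trans ((der_normalIn M).1.trans (Mbeta_normal M).2))
    ((Mbeta_pgroup M).inf_eq_bot b'H)) (nil_of_le (Mbeta_quo_nil maxM) (quot_mono _ sHM'))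

theorem Mbeta_Sylow_normal {M X : Subgroup G} (maxM : IsCoatom M) {q : ℕ}
    (sylX : IsSylowOf q X ⁅M, M⁆) : (betaCore M ⊔ X) ⊲ M := by
  have nsMb := Mbeta_normal M
  have sM'M := (der_normalIn M).1
  rw [← quotPre_quot (sylX.le.trans (sM'M.trans nsMb.2))]
  refine quotPre_normalIn_of nsMb ?_
  rw [nilpotent_Hall_pcore (Mbeta_quo_nil maxM) (sylX.quot (sM'M.trans nsMb.2))]
  exact (quot_normalIn _ (der_normalIn M)).pcore _

theorem Mbeta_Frattini {M X : Subgroup G} (maxM : IsCoatom M) {q : ℕ} (hq : q.Prime)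
    (sylX : IsSylowOf q X ⁅M, M⁆) : betaCore M ⊔ (M ⊓ 𝒩(X)) = M := by
  have h := frattini_arg hq (Mbeta_Sylow_normal maxM sylX)
    (sylX.of_le le_sup_right (sup_le (Mbeta_der1 maxM) sylX.le))
  rwa [sup_assoc, sup_eq_right.2 (le_inf (sylX.le.trans (der_normalIn M).1) Subgroup.le_normalizer)] at h

/-- The key step of Corollary 10.9(a): `X` centralizes a Sylow `p`-subgroup of `M'`. -/
theorem beta'_cent_Sylow_der1 {M X : Subgroup G} (maxM : IsCoatom M) {p q : ℕ} (hp : p.Prime)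
    (hq : q.Prime) (b'p : p ∉ beta M) (b'q : q ∉ beta M) (qX : IsPGrp q X)
    (h : (p ≠ q ∧ X ≤ ⁅M, M⁆) ∨ (p < q ∧ X ≤ M)) :
    ∃ P : Subgroup G, IsSylowOf p P ⁅M, M⁆ ∧ X ≤ 𝒞(P) := by
  have nsM' := der_normalIn M
  have ⟨neq, sXM⟩ : p ≠ q ∧ X ≤ M := by
    rcases h with h | h
    · exact ⟨h.1, h.2.trans nsM'.1⟩
    · exact ⟨h.1.ne, h.2⟩
  have sXM'M : X ⊔ ⁅M, M⁆ ≤ M := sup_le sXM nsM'.1
  obtain ⟨W, hallW, sXW⟩ := Hall_superset (π := {p, q}) (sol_of_le (mmax_sol maxM) sXM'M)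
    (le_sup_left (a := X)) (IsPGrp.piGrp qX (by simp))
  have sWM := hallW.le.trans sXM'M
  have b'W : IsPiGrp (beta M)ᶜ W := hallW.piGrp.mono (by
    rintro r (rfl | rfl)
    exacts [b'p, b'q])
  have nsM'X : ⁅M, M⁆ ⊲ X ⊔ ⁅M, M⁆ := nsM'.of_le le_sup_right sXM'M
  have hallWM' : IsPiHallOf {p, q} (W ⊓ ⁅M, M⁆) ⁅M, M⁆ := hallW.inf_normal nsM'X
  have nilWM' : Group.IsNilpotent ↥(W ⊓ ⁅M, M⁆) :=
    beta'_der1_nil maxM (b'W.inf_left _) inf_le_right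
  have sylP : IsSylowOf p (pCoreOf p (W ⊓ ⁅M, M⁆)) (W ⊓ ⁅M, M⁆) := nilpotent_pcore_Hall _ nilWM'
  refine ⟨_, sylP.trans_hall hallWM' (by simp), ?_⟩
  have co : (Nat.card X).Coprime (Nat.card (pCoreOf p (W ⊓ ⁅M, M⁆))) :=
    IsPGrp.coprime_of_ne qX sylP.pGrp neq.symm
  rcases h with h | h
  · exact sub_nilpotent_cent2 nilWM' (le_inf sXW h.2) sylP.le co
  -- `X` lies in the normal `q`-subgroup `W ⊓ O_{p'}(M)` of `W`
  have nPW : W ≤ 𝒩(pCoreOf p (W ⊓ ⁅M, M⁆)) :=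
    norm_pcore _ (norm_inf Subgroup.le_normalizer (sWM.trans nsM'.2))
  have sXO : X ≤ pPrimeCoreOf p M := by
    refine le_of_coprime_relIndex sXM (pcore_norm _ _) (IsPGrp.coprime_of_not_dvd qX fun hd => ?_)
    exact absurd ((beta_max_pdiv maxM hp b'p).2.2 q hq hd) (not_le.2 h.1)
  have sPW : pCoreOf p (W ⊓ ⁅M, M⁆) ≤ W := sylP.le.trans inf_le_left
  refine (le_inf sXW sXO).trans (le_cent_of_norm_of_inf_eq_bot
    (sPW.trans (norm_inf Subgroup.le_normalizer (sWM.trans (pcore_norm _ _))))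
    (inf_le_left.trans nPW) ?_)
  rw [inf_comm]
  exact IsPiGrp.inf_eq_bot sylP.pGrp ((pcore_piGrp {p}ᶜ M).inf_right W)

/-- B & G, Corollary 10.9(a). -/
theorem beta'_cent_Sylow {M X : Subgroup G} (maxM : IsCoatom M) {p q : ℕ} (hp : p.Prime) (hq : q.Prime)
    (b'p : p ∉ beta M) (b'q : q ∉ beta M) (qX : IsPGrp q X)
    (h : (p ≠ q ∧ X ≤ ⁅M, M⁆) ∨ (p < q ∧ X ≤ M)) :
    (∃ P : Subgroup G, IsSylowOf p P (sigmaCore M) ∧ X ≤ 𝒞(P)) ∧
    (p ∈ alpha M → InUniqueMaximal (M ⊓ 𝒞(X))) ∧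
    (IsSylowOf q X ⁅M, M⁆ →
      ∃ P : Subgroup G, IsSylowOf p P ⁅M, M⁆ ∧ P ≤ ⁅M ⊓ 𝒩(X), M ⊓ 𝒩(X)⁆) := by
  have nsM' := der_normalIn M
  obtain ⟨P, sylP, cPX⟩ := beta'_cent_Sylow_der1 maxM hp hq b'p b'q qX h
  have sylPs : IsSylowOf p (P ⊓ sigmaCore M) (sigmaCore M) :=
    sylP.inf_normal ((Msigma_normal M).of_le (Msigma_der1 maxM) nsM'.1)
  have cPsX : X ≤ 𝒞(P ⊓ sigmaCore M) := cPX.trans (cent_anti inf_le_left)
  refine ⟨⟨_, sylPs, cPsX⟩, fun aMp => ?_, fun sylX => ?_⟩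
  · have sylPM := sylPs.trans_hall (Msigma_Hall maxM) (alpha_sub_sigma maxM aMp)
    exact uniq_mmaxS (le_inf sylPM.le (le_cent_symm cPsX)) (sub_mmax_proper maxM inf_le_left)
      (inUniq_of_uniqMax (alpha_Sylow_uniq maxM aMp sylPM))
  · have defM := Mbeta_Frattini maxM hq sylX
    set N := M ⊓ 𝒩(X) with hN
    have nMbN : N ≤ 𝒩(betaCore M) := inf_le_left.trans (Mbeta_normal M).2
    have sN'M' : ⁅N, N⁆ ≤ ⁅M, M⁆ := Subgroup.commutator_mono inf_le_left inf_le_left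
    have defM' : betaCore M ⊔ ⁅N, N⁆ = ⁅M, M⁆ := by
      refine le_antisymm (sup_le (Mbeta_der1 maxM) sN'M') ?_
      conv_lhs => rw [← defM, comm_sup_self nMbN]
      exact sup_le_sup_right (sup_le (comm_le_of_le le_rfl le_rfl) (comm_le_left nMbN)) _
    obtain ⟨R, sylR⟩ := sylow_exists hp ⁅N, N⁆
    refine ⟨R, sylR.trans_index sN'M' ?_, sylR.le⟩
    rw [← defM', relIndex_sup_right' (Or.inr ((der_normalIn N).1.trans nMbN))]
    exact ((Mbeta_pgroup M).relIndex _).mono (fun r hr hrp => b'p (Set.mem_singleton_iff.1 hrp ▸ hr))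

/-- B & G, Corollary 10.9(b). -/
theorem nonuniq_norm_Sylow_pprod {M H S : Subgroup G} (maxM : IsCoatom M) {p : ℕ} (hp : p.Prime)
    (maxH : IsCoatom H) (neHM : H ≠ M) (sylS : IsSylowOf p S ⊤) (sNS : 𝒩(S) ≤ H ⊓ M) :
    betaCore M ⊔ (H ⊓ M) = M ∧ alpha M = beta M := by
  have sNH := sNS.trans inf_le_left
  have sNM := sNS.trans inf_le_right
  have sylSM : IsSylowOf p S M := sylS.of_le (Subgroup.le_normalizer.trans sNM) le_top
  have sMp := mem_sigma_of_norm_le hp (mmax_proper maxM) sylSM sNM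
  have a'p : p ∉ alpha M := fun h =>
    neHM (eq_uniq_mmax (alpha_Sylow_uniq maxM h sylSM) maxH (Subgroup.le_normalizer.trans sNH))
  have sSM' := sigma_Sylow_der1 maxM sMp sylSM
  constructor
  · refine le_antisymm (sup_le (Mbeta_normal M).1 inf_le_right) ?_
    conv_lhs => rw [← Mbeta_Frattini maxM hp (sylSM.of_le sSM' (der_normalIn M).1)]
    exact sup_le_sup_left (inf_le_right.trans sNS) _
  refine Set.Subset.antisymm (fun q aMq => ?_) fun _ h => h.1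
  by_contra b'q
  have u := (beta'_cent_Sylow maxM aMq.1 hp b'q (fun h => a'p h.1) sylS.pGrp
    (Or.inl ⟨fun h => a'p (h ▸ aMq), sSM'⟩)).2.1 aMq
  exact neHM (uniq_eq_of_le u maxM inf_le_left maxH (inf_le_right.trans ((cent_le_norm S).trans sNH)))

theorem le_rank_of_pnElem {p n : ℕ} (hp : p.Prime) {A H : Subgroup G} (h : IsPnElem p n A H) :
    n ≤ rank H := rank_geP.2 ⟨p, hp, A, h⟩

/-- B & G, Proposition 10.10. -/
theorem max_normed_2Elem_signaliser {p q : ℕ} (hp : p.Prime) (hq : q.Prime) (neqpq : p ≠ q)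
    {A Q : Subgroup G} (EpA : IsPnElem p 2 A ⊤) (maxA : IsPMaxElem p A ⊤)
    (maxQ : Q ∈ maxInvSubgroups ⊤ A {q}) (qC : q ∣ Nat.card 𝒞(A)) :
    ∃ P : Subgroup G, IsSylowOf p P ⊤ ∧ A ≤ P ∧
      pPrimeCoreOf p 𝒞(P) ⊔ (𝒩(P) ⊓ 𝒩(Q)) = 𝒩(P) ∧
      P ≤ ⁅𝒩(Q), 𝒩(Q)⁆ ∧ (Narrow q Q → P ≤ 𝒞(Q)) := by
  have pA := pnElem_pGrp hp EpA
  have ntA := pnElem_ne_bot hp EpA
  have piA := primesOf_pGrp pA ntA
  have q'A : q ∉ primesOf A := by rw [piA]; exact fun h => neqpq h.symm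
  have cstrA := plength_1_normed_constrained hp ntA maxA fun M => mFT_proper_plength1 hp
  have trA := normed_constrained_rank2_trans cstrA hq q'A qC
    (le_rank_of_pnElem hp (pnElem_mono EpA (le_inf le_rfl (abelian_iff_le_cent.1 EpA.2.1.1))))
  have sup : ∀ {P : Subgroup G}, IsSylowOf p P ⊤ → A ≤ P → _ := fun {P} sylP sAP =>
    normed_trans_superset cstrA hq q'A (mFT_pgroup_proper sylP.pGrp) sAP
      (isSubnormal_of_nil sylP.pGrp.nil sAP) (piA ▸ sylP.pGrp) trA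
  obtain ⟨S, sylS, sAS⟩ := sylow_superset hp pA (le_top (a := A))
  obtain ⟨Q₀, maxQ₀⟩ := exists_maxInv {q} S
  obtain ⟨x, Cx, rfl⟩ := trA Q₀ ((sup sylS sAS).2.2.1 maxQ₀) Q maxQ
  have sylP : IsSylowOf p (S :^ x) ⊤ := sylS.conjg_of_mem (Subgroup.mem_top x)
  have sAP : A ≤ S :^ x := by
    rw [← conjg_of_mem_cent (pcore_le _ _ Cx)]; exact conjg_mono x sAS
  obtain ⟨h1, h2⟩ := (sup sylP sAP).2.2.2 _ (maxInv_conjg x maxQ₀)
  rw [inf_eq_left.2 (mFT_Sylow_der1 hp sylP)] at h1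
  rw [piA] at h2
  refine ⟨_, sylP, sAP, h2.symm, h1, fun nnQ => ?_⟩
  set Q := Q₀ :^ x
  have qQ : IsPGrp q Q := maxQ.1.2.1
  by_cases ntQ : Q = ⊥
  · rw [ntQ, cent_bot]; exact le_top
  have h3 := (norm_narrow hq qQ (mFT_odd Q) nnQ le_rfl
    (mFT_sol (mFT_norm_proper ntQ (mFT_pgroup_proper qQ))) (mFT_odd _)).2.2.1
  exact le_of_coprime_relIndex h1 ((der_normalIn _).1.trans (norm_cent le_rfl))
    (PiNat.coprime_of_ne sylP.pGrp h3 neqpq)

/-! ### Proposition 10.11 -/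

theorem sigma'_alpha' {M K : Subgroup G} (maxM : IsCoatom M) (s'K : IsPiGrp (sigma M)ᶜ K) :
    IsPiGrp (alpha M)ᶜ K := s'K.mono (Set.compl_subset_compl.2 (alpha_sub_sigma maxM))

theorem sigma'_not_uniq {M K : Subgroup G} (maxM : IsCoatom M) (sKM : K ≤ M)
    (s'K : IsPiGrp (sigma M)ᶜ K) : ¬ InUniqueMaximal K := by
  intro uK
  obtain ⟨E, hallE, sKE⟩ := Hall_superset (mmax_sol maxM) sKM s'K
  obtain ⟨q, hq, qE, sylQ⟩ := rank2_normal_Sylow (sol_of_le (mmax_sol maxM) hallE.le)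
    (alpha'_rank2 hallE.le (sigma'_alpha' maxM hallE.piGrp)) (ne_bot_mono sKE (uniq_mmax_neq1 uK))
  have s'q := hallE.piGrp q hq qE
  apply not_norm_le_of_sigma' maxM hq s'q (sylQ.trans_hall hallE s'q)
  exact sub_uniq_mmax (def_uniq_mmax uK maxM sKM) (sKE.trans (pcore_norm _ _))
    (mFT_norm_proper (sylQ.ne_bot' hq qE) (mFT_pgroup_proper sylQ.pGrp))

theorem sub'cent_sigma_rank1 {M K : Subgroup G} (maxM : IsCoatom M) (sKM : K ≤ M)
    (s'K : IsPiGrp (sigma M)ᶜ K) : rank (K ⊓ 𝒞(sigmaCore M)) ≤ 1 := by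
  by_contra r2
  obtain ⟨p, hp, A, EpA⟩ := rank_geP.1 (Nat.succ_le_of_lt (lt_of_not_ge r2))
  have sAK := EpA.1.trans inf_le_left
  have sAM := sAK.trans sKM
  have cAMs : sigmaCore M ≤ 𝒞(A) := le_cent_symm (EpA.1.trans inf_le_right)
  have s'p : p ∉ sigma M := s'K p hp (pnElem_dvd (pnElem_mono EpA sAK))
  have nuA := sigma'_not_uniq maxM sAM (s'K.of_le sAK)
  have rCA : rank 𝒞(A) ≤ 2 := le_of_not_gt fun h =>
    nuA (cent_rank3_Uniqueness (le_rank_of_pnElem hp (pnElem_mono EpA le_rfl)) h)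
  have maxA : IsPMaxElem p A ⊤ := by
    by_contra h
    exact nuA (nonmaxElem2_Uniqueness hp (pnElem_mono EpA le_top) h)
  have a'M : IsPiGrp (alpha M)ᶜ M := fun r hr _ aMr => by
    have h1 := (mem_alpha_iff.1 aMr).2
    rw [← p_rank_Hall hr (Msigma_Hall maxM) (alpha_sub_sigma maxM aMr)] at h1
    exact absurd (((p_rank_le_rank hr _).trans (rank_mono cAMs)).trans rCA) (not_le.2 h1)
  have nilM' : Group.IsNilpotent ↥⁅M, M⁆ :=
    nil_of_le (fitting_nil M) (rank2_der1_sub_Fitting (mFT_odd M) (mmax_sol maxM)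
      (alpha'_rank2 (fitting_le M) (a'M.of_le (fitting_le M))))
  have normN : ∀ {r : ℕ} {R : Subgroup G}, IsSylowOf r R M → R ≤ ⁅M, M⁆ → R ≠ ⊥ → 𝒩(R) = M := by
    intro r R sylR sRM' ntR
    refine mmax_normal maxM ?_ ntR
    rw [nilpotent_Hall_pcore nilM' (sylR.of_le sRM' (der_normalIn M).1)]
    exact (der_normalIn M).pcore _
  obtain ⟨q, hq, qMs⟩ := exists_prime_dvd_card (Msigma_neq1 maxM)
  have sMq := Msigma_pgroup M q hq qMs
  obtain ⟨Q, sylQ⟩ := sylow_exists hq M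
  have defM := normN sylQ (sigma_Sylow_der1 maxM sMq sylQ) (sigma_Sylow_neq1 sMq sylQ)
  obtain ⟨P, sylP, sAP, -, sPM', -⟩ := max_normed_2Elem_signaliser (Q := Q) hp hq
    (fun h => s'p (h ▸ sMq)) (pnElem_mono EpA le_top) maxA
    ⟨⟨le_top, sylQ.pGrp, defM ▸ sAM⟩, fun R hR sQR =>
      (sigma_Sylow_G sMq sylQ).eq_of_le hR.2.1 sQR le_top⟩
    (qMs.trans (Subgroup.card_dvd_of_le cAMs))
  rw [defM] at sPM'
  have sylPM : IsSylowOf p P M := sylP.of_le (sPM'.trans (der_normalIn M).1) le_top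
  exact not_norm_le_of_sigma' maxM hp s'p sylPM
    (normN sylPM sPM' (ne_bot_mono sAP (pnElem_ne_bot hp EpA))).le

theorem sigma'_Fitting_cyclic {M : Subgroup G} (maxM : IsCoatom M) :
    IsCyclic (piCoreOf (sigma M)ᶜ (fittingOf M)) := by
  have nsZ : piCoreOf (sigma M)ᶜ (fittingOf M) ⊲ M := (fitting_normal M).pcore _
  refine nil_Zgroup_cyclic (odd_rank1_Zgroup ((rank_mono (le_inf le_rfl ?_)).trans
    (sub'cent_sigma_rank1 maxM nsZ.1 (pcore_piGrp _ _)))) (nil_of_le (fitting_nil M) (pcore_le _ _))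
  exact le_cent_of_norm_of_coprime ((Msigma_normal M).1.trans nsZ.2) (nsZ.1.trans (Msigma_normal M).2)
    ((Msigma_pgroup M).coprime (pcore_piGrp _ _)).symm

theorem sub'cent_sigma_cyclic {M K : Subgroup G} (maxM : IsCoatom M) (_sKM : K ≤ M)
    (s'K : IsPiGrp (sigma M)ᶜ K) :
    IsCyclic ↥(K ⊓ 𝒞(sigmaCore M) ⊓ ⁅M, M⁆) ∧ K ⊓ 𝒞(sigmaCore M) ⊓ ⁅M, M⁆ ⊲ M := by
  have nsZ : piCoreOf (sigma M)ᶜ (fittingOf M) ⊲ M := (fitting_normal M).pcore _
  have cycZ := sigma'_Fitting_cyclic maxM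
  have cZM' := der_cent_of_cyclic cycZ nsZ.2
  have sYF : K ⊓ 𝒞(sigmaCore M) ⊓ ⁅M, M⁆ ≤ fittingOf M := by
    refine le_trans (le_inf (inf_le_right.trans (der_normalIn M).1) ?_) (cent_sub_Fitting (mmax_sol maxM))
    rw [← (nilpotent_pcoreC (sigma M) (fitting_nil M)).sup_eq]
    exact le_cent_sup ((inf_le_left.trans inf_le_right).trans
      (cent_anti ((fitting_normal M).pcore_le _))) (inf_le_right.trans cZM')
  have sYZ := nilpotent_le_pcore (fitting_nil M) sYF ((s'K.inf_left _).inf_left _)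
  exact ⟨cyclic_of_le cycZ sYZ, (charIn_of_cyclic cycZ sYZ).trans_normal nsZ⟩

theorem commG_sigma'_1Elem_cyclic {M K : Subgroup G} (maxM : IsCoatom M) (sKM : K ≤ M)
    (s'K : IsPiGrp (sigma M)ᶜ K) {p : ℕ} (hp : p.Prime) {P : Subgroup G} (p'K : IsPiGrp {p}ᶜ K)
    (s'p : p ∉ sigma M) (EpP : IsPnElem p 1 P (M ⊓ 𝒩(K))) (regP : sigmaCore M ⊓ 𝒞(P) = ⊥)
    (cKK : IsMulCommutative K) :
    ⁅K, P⁆ ≤ 𝒞(sigmaCore M) ∧ IsCyclic ↥⁅K, P⁆ ∧ ⁅K, P⁆ ⊲ M := by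
  have pP := pnElem_pGrp hp EpP
  have sPM := EpP.1.trans inf_le_left
  have nKP := EpP.1.trans inf_le_right
  have oP : Nat.card P = p := by rw [EpP.2.2, pow_one]
  have nsMs := Msigma_normal M
  have sK0K : ⁅K, P⁆ ≤ K := comm_le_left nKP
  have sK0M := sK0K.trans sKM
  have nK0P : P ≤ 𝒩(⁅K, P⁆) := norm_comm nKP Subgroup.le_normalizer
  have solM := mmax_sol maxM
  have regK0 := coprime_abel_cent_TI nKP (IsPiGrp.coprime pP p'K).symm cKK
  have nil : Group.IsNilpotent ↥(sigmaCore M ⊔ ⁅K, P⁆) := by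
    refine prime_regular_sol_nil (norm_sup (sPM.trans nsMs.2) nK0P)
      (sol_of_le solM (sup_le nsMs.1 sK0M)) (oP ▸ hp) ?_
    rw [coprime_cent_mulG nK0P (sPM.trans nsMs.2) (sK0M.trans nsMs.2)
      ((Msigma_pgroup M).coprime (IsPGrp.piGrp pP s'p)) (Or.inr pP.sol), regP, regK0, bot_sup_eq]
  have cK0 : ⁅K, P⁆ ≤ 𝒞(sigmaCore M) := sub_nilpotent_cent2 nil le_sup_right le_sup_left
    ((Msigma_pgroup M).coprime (s'K.of_le sK0K)).symm
  have h := sub'cent_sigma_cyclic maxM sK0M (s'K.of_le sK0K)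
  rw [inf_eq_left.2 cK0, inf_eq_left.2 (Subgroup.commutator_mono sKM sPM)] at h
  exact ⟨cK0, h⟩

theorem sigma_disjoint_aux {M H : Subgroup G} (maxM : IsCoatom M) (maxH : IsCoatom H)
    (notjMH : ∀ g, H ≠ M :^ g) {p : ℕ} (sMp : p ∈ sigma M) (sHp : p ∈ sigma H) :
    p ∉ alpha M ∧ ¬ Group.IsNilpotent (sigmaCore M) := by
  have hp := sMp.1
  obtain ⟨S, sylS⟩ := sylow_exists hp M
  obtain ⟨T, sylT⟩ := sylow_exists hp H
  obtain ⟨x, -, rfl⟩ := sylow_trans hp (sigma_Sylow_G sHp sylT) (sigma_Sylow_G sMp sylS)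
  have ne : H :^ x ≠ M := fun h => notjMH x⁻¹ (conjg_eq_iff.1 h)
  have maxH' : IsCoatom (H :^ x) := isCoatom_conjg.2 maxH
  refine ⟨fun aMp => ne (eq_uniq_mmax (alpha_Sylow_uniq maxM aMp sylS) maxH' (conjg_mono x sylT.le)),
    fun nilMs => ne (eq_mmax maxM maxH' ?_).symm⟩
  have sNH : 𝒩(T :^ x) ≤ H :^ x := by
    rw [← conjg_norm]; exact conjg_mono x (norm_sigma_Sylow sHp sylT)
  refine le_trans ?_ sNH
  have sSMs := (Msigma_Hall maxM).le_of_normal (Msigma_normal M).2 (IsPGrp.piGrp sylS.pGrp sMp) sylS.le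
  rw [nilpotent_Hall_pcore nilMs (sylS.of_le sSMs (Msigma_normal M).1)]
  exact ((Msigma_normal M).pcore _).2

/-- B & G, Lemma 10.12. -/
theorem sigma_disjoint {M H : Subgroup G} (maxM : IsCoatom M) (maxH : IsCoatom H)
    (notjMH : ∀ g, H ≠ M :^ g) :
    alphaCore M ⊓ sigmaCore H = ⊥ ∧ Disjoint (alpha M) (sigma H) ∧
    (Group.IsNilpotent (sigmaCore M) →
      sigmaCore M ⊓ sigmaCore H = ⊥ ∧ Disjoint (sigma M) (sigma H)) := by
  have h1 : Disjoint (alpha M) (sigma H) := Set.disjoint_left.2 fun p aMp sHp =>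
    (sigma_disjoint_aux maxM maxH notjMH (alpha_sub_sigma maxM aMp) sHp).1 aMp
  refine ⟨inf_eq_bot_of_cop (PiNat.coprime_of_disjoint (Malpha_pgroup M) (Msigma_pgroup H)
    (Set.disjoint_left.1 h1)), h1, fun nilMs => ?_⟩
  have h2 : Disjoint (sigma M) (sigma H) := Set.disjoint_left.2 fun p sMp sHp =>
    (sigma_disjoint_aux maxM maxH notjMH sMp sHp).2 nilMs
  exact ⟨inf_eq_bot_of_cop (PiNat.coprime_of_disjoint (Msigma_pgroup M) (Msigma_pgroup H)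
    (Set.disjoint_left.1 h2)), h2⟩

end CA.BG.P10
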