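/-
B & G section 10, part d: 10.13, 10.14.
-/
import Cfsg.Agent.BG.P10c

set_option autoImplicit false
set_option linter.unusedSectionVars false

namespace CA.BG.P10

open Cfsg CA.FG
open scoped commutatorElement

universe u

variable {G : Type u} [Group G] [MinSimpleOdd G]

theorem le_of_pmaxElem {p : ℕ} {A B : Subgroup G} (maxA : IsPMaxElem p A ⊤) (cAB : B ≤ 𝒞(A))
    (hB : ∀ x ∈ B, x ^ p = 1) : B ≤ A := fun x hx =>
  P05.mem_of_pmaxElem maxA (Subgroup.mem_top x) (cAB hx) (hB x hx)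

theorem ohm1_center_le_of_pmax {p : ℕ} {A P : Subgroup G} (maxA : IsPMaxElem p A ⊤) (sAP : A ≤ P) :
    ohm1 p 𝒵(P) ≤ A :=
  le_of_pmaxElem maxA ((ohm1_center_cent p P).trans (cent_anti sAP)) (ohm1_center_abelem p P).2

/-- Two distinct subgroups of order `p` of a group `A` of order `p ^ 2`. -/
theorem dprod_of_pnElem2 {p : ℕ} (hp : p.Prime) {A X Y H : Subgroup G} (EpA : IsPnElem p 2 A H)
    (sX : X ≤ A) (sY : Y ≤ A) (oX : Nat.card X = p) (oY : Nat.card Y = p) (ne : X ≠ Y) :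
    DProd X Y A := by
  have ti : X ⊓ Y = ⊥ := by
    rcases inf_eq_bot_or_le_of_card_prime (oX ▸ hp) Y with h | h
    · exact h
    · exact absurd (P04.eq_of_le_of_card_le h (by rw [oX, oY])) ne
  exact ⟨complIn_of_card sX sY ti (by rw [oX, oY, EpA.2.2, sq]),
    sY.trans ((abelian_iff_le_cent.1 EpA.2.1.1).trans (cent_anti sX))⟩

theorem eq_of_lt_pnElem2 {p : ℕ} (hp : p.Prime) {A X Y H : Subgroup G} (EpA : IsPnElem p 2 A H)
    (oX : Nat.card X = p) (sXY : X ≤ Y) (lt : Y < A) : Y = X := by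
  have pA := (pnElem_pGrp hp EpA).isPGroup hp
  have := P04.card_le_pow_of_lt (k := 1) hp (pA.to_le lt.le) (EpA.2.2 ▸ card_lt_of_lt lt)
  exact (P04.eq_of_le_of_card_le sXY (by rwa [pow_one, ← oX] at this)).symm

/-- The case of a Sylow subgroup in Lemma 10.13. -/
theorem Sylow_p2maxElem_structure {p : ℕ} (hp : p.Prime) {A S : Subgroup G} (EpA : IsPnElem p 2 A ⊤)
    (maxA : IsPMaxElem p A ⊤) (sylS : IsSylowOf p S ⊤) (sAS : A ≤ S) (nabS : ¬ IsMulCommutative S) :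
    Nat.card (ohm1 p 𝒵(S)) = p ∧ ∀ A₀ : Subgroup G, A₀ ≤ A → Nat.card A₀ = p → A₀ ≠ ohm1 p 𝒵(S) →
      ∃ Y : Subgroup G, IsCyclic Y ∧ ohm1 p 𝒵(S) ≤ Y ∧ DProd A₀ Y (S ⊓ 𝒞(A)) := by
  have pS := sylS.pGrp
  have sZA := ohm1_center_le_of_pmax maxA sAS
  have cAA := abelian_iff_le_cent.1 EpA.2.1.1
  by_cases rS : 2 < pRank p S
  · have EpAS := pnElem_mono EpA sAS
    have maxAS := pmaxElem_of_le maxA sAS le_top
    have oZ := (Ohm1_ucn_p2maxElem hp pS (mFT_odd S) rS EpAS maxAS).2.1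
    refine ⟨oZ, fun A₀ sA₀ oA₀ ne => ?_⟩
    have defA := dprod_of_pnElem2 hp EpA sA₀ sZA oA₀ oZ ne
    have defC : S ⊓ 𝒞(A₀) = S ⊓ 𝒞(A) := by
      rw [← defA.sup_eq, cent_sup, ← inf_assoc,
        inf_eq_left.2 (inf_le_left.trans (le_cent_symm (ohm1_center_cent p S)))]
    have rC : pRank p (S ⊓ 𝒞(A₀)) ≤ 2 := by
      rw [defC]
      refine (P04.pRank_le_iff hp).2 fun B sB abB => ?_
      rw [← EpA.2.2]
      exact Subgroup.card_le_of_le (le_of_pmaxElem maxA (sB.trans inf_le_right) abB.2)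
    obtain ⟨h1, -, -, h2⟩ := narrow_cent_dprod hp pS (mFT_odd S) rS (fun _ => ⟨A, EpAS, maxAS⟩) oA₀
      (sA₀.trans sAS) rC
    refine ⟨_, h1, le_inf (le_inf (ohm1_center_le p S) ((ohm1_center_cent p S).trans
      (cent_anti ((P04.ohm1_le _ _).trans (ucn_le _ _))))) ((ohm1_center_cent p S).trans
      (cent_anti (sA₀.trans sAS))), defC ▸ h2⟩
  obtain ⟨S₁, C, nabS₁, oS₁, expS₁, cycC, defS, defZ₁⟩ := mFT_rank2_Sylow_cprod hp sylS
    (by rw [rank_pgroup hp pS]; omega) nabS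
  have pS₁ := pGrp_of_card_eq_pow hp oS₁
  have oZ₁ := (p3group_extraspecial hp pS₁ nabS₁ oS₁.le).2.1
  have sS₁ : S₁ ≤ S := defS.left_normal.1
  have sC : C ≤ S := defS.right_normal.1
  have cSC : C ≤ 𝒞(S) := by
    rw [← defS.1]; exact le_cent_sup defS.2 (abelian_iff_le_cent.1 (abelian_of_cyclic cycC))
  have ohmS : ∀ x ∈ S, x ^ p = 1 → x ∈ S₁ := by
    intro x Sx xp
    rw [← defS.1, mem_sup_of_right_le_norm (norm_of_cent defS.2)] at Sx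
    obtain ⟨s, hs, c, hc, rfl⟩ := Sx
    have : Commute s c := (comm_of_le_cent defS.2 hc hs).symm
    rw [this.mul_pow, expS₁ s hs, one_mul] at xp
    exact mul_mem hs ((defZ₁ ▸ P04.mem_ohm1 hc xp : c ∈ 𝒵(S₁)).1)
  have defZ : ohm1 p 𝒵(S) = 𝒵(S₁) := by
    refine le_antisymm (P04.ohm1_le_iff.2 fun x hx xp => ⟨ohmS x hx.1 xp, cent_anti sS₁ hx.2⟩) ?_
    rw [← defZ₁]; exact P04.ohm1_mono p (le_inf sC cSC)
  have sAS₁ : A ≤ S₁ := fun x hx => ohmS x (sAS hx) (EpA.2.1.2 x hx)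
  have defA : S₁ ⊓ 𝒞(A) = A :=
    le_antisymm (le_of_pmaxElem maxA inf_le_right fun x hx => expS₁ x hx.1) (le_inf sAS₁ cAA)
  have defC : S ⊓ 𝒞(A) = A ⊔ C := by
    rw [inf_comm, ← defS.1, inf_sup_of_right_le (Or.inr (norm_of_cent defS.2))
      (cSC.trans (cent_anti sAS)), inf_comm, defA]
  refine ⟨defZ ▸ oZ₁, fun A₀ sA₀ oA₀ ne => ⟨C, cycC, ?_, ?_⟩⟩
  · rw [defZ, ← defZ₁]; exact P04.ohm1_le _ _
  have defA := dprod_of_pnElem2 hp EpA sA₀ sZA oA₀ (defZ ▸ oZ₁) ne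
  have sZC : ohm1 p 𝒵(S) ≤ C := by rw [defZ, ← defZ₁]; exact P04.ohm1_le _ _
  refine dprod_mk (cSC.trans (cent_anti (sA₀.trans sAS))) ?_ ?_
  · rw [defC, ← defA.sup_eq, sup_assoc, sup_eq_right.2 sZC]
  · rw [eq_bot_iff, ← defA.inf_eq]
    refine le_inf inf_le_left fun x hx => ?_
    rw [defZ, ← defZ₁]
    exact P04.mem_ohm1 hx.2 (EpA.2.1.2 x (sA₀ hx.1))

theorem conj_pow_of_conj {x a w : G} (h : x * a * x⁻¹ = a * w) (hw : x * w * x⁻¹ = w) (j : ℕ) :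
    x ^ j * a * (x ^ j)⁻¹ = a * w ^ j := by
  induction j with
  | zero => simp
  | succ j ih =>
    have hwj : x * w ^ j * x⁻¹ = w ^ j := by rw [← conj_pow, hw]
    calc x ^ (j + 1) * a * (x ^ (j + 1))⁻¹ = x * (x ^ j * a * (x ^ j)⁻¹) * x⁻¹ := by
          rw [pow_succ']; group
      _ = (x * a * x⁻¹) * (x * w ^ j * x⁻¹) := by rw [ih]; group
      _ = a * w ^ (j + 1) := by rw [h, hwj, pow_succ', mul_assoc]

/-- B & G, Lemma 10.13, with `Z₀ = Ω₁(Z(P))`. -/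
theorem basic_p2maxElem_structure {p : ℕ} (hp : p.Prime) {A P : Subgroup G} (EpA : IsPnElem p 2 A ⊤)
    (maxA : IsPMaxElem p A ⊤) (pP : IsPGrp p P) (sAP : A ≤ P) (nabP : ¬ IsMulCommutative P) :
    IsPnElem p 1 (ohm1 p 𝒵(P)) A ∧
    ∀ A₀ : Subgroup G, IsPnElem p 1 A₀ A → A₀ ≠ ohm1 p 𝒵(P) →
      DProd A₀ (ohm1 p 𝒵(P)) A ∧
      (∃ Y : Subgroup G, IsCyclic Y ∧ ohm1 p 𝒵(P) ≤ Y ∧ DProd A₀ Y (P ⊓ 𝒞(A))) ∧
      TransOn (P ⊓ 𝒩(A)) {X | IsPnElem p 1 X A ∧ X ≠ ohm1 p 𝒵(P)} := by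
  obtain ⟨S, sylS, sPS⟩ := sylow_superset hp pP (le_top (a := P))
  have sAS := sAP.trans sPS
  have cAA := abelian_iff_le_cent.1 EpA.2.1.1
  obtain ⟨oZ₁, hS⟩ := Sylow_p2maxElem_structure hp EpA maxA sylS sAS fun h => nabP (abelian_of_le h sPS)
  have sZ₁A := ohm1_center_le_of_pmax maxA sAS
  have sZA := ohm1_center_le_of_pmax maxA sAP
  have ncAP : ¬ P ≤ 𝒞(A) := by
    intro cAP
    have lt : ohm1 p 𝒵(S) < A := lt_of_le_of_card_lt sZ₁A (by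
      rw [oZ₁, EpA.2.2]; exact lt_self_pow₀ hp.one_lt one_lt_two)
    obtain ⟨a, Aa, Za⟩ := SetLike.exists_of_lt lt
    have oa := P04.card_zpowers_of_pow hp (fun h : a = 1 => Za (h ▸ one_mem _)) (EpA.2.1.2 a Aa)
    obtain ⟨Y, cycY, -, defC⟩ := hS (Subgroup.zpowers a) ((Subgroup.zpowers_le).2 Aa) oa
      (fun h => Za (h ▸ Subgroup.mem_zpowers a))
    refine nabP (abelian_of_le ?_ (le_inf sPS cAP))
    rw [← defC.sup_eq]
    exact abelian_sup (abelian_zpowers a) (abelian_of_cyclic cycY) (le_cent_symm defC.cent)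
  have defZ : ohm1 p 𝒵(P) = ohm1 p 𝒵(S) := by
    refine eq_of_lt_pnElem2 hp EpA oZ₁ (fun x hx => P04.mem_ohm1 ⟨sAP (sZ₁A hx),
      cent_anti sPS (ohm1_center_cent p S hx)⟩ ((ohm1_center_abelem p S).2 x hx))
      (lt_of_le_of_ne sZA fun h => ncAP (le_cent_symm (h ▸ ohm1_center_cent p P)))
  have oZ : Nat.card (ohm1 p 𝒵(P)) = p := defZ ▸ oZ₁
  refine ⟨⟨sZA, ohm1_center_abelem p P, by rw [oZ, pow_one]⟩, fun A₀ EpA₀ ne => ?_⟩
  have oA₀ : Nat.card A₀ = p := by rw [EpA₀.2.2, pow_one]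
  refine ⟨dprod_of_pnElem2 hp EpA EpA₀.1 sZA oA₀ oZ ne, ?_, ?_⟩
  · obtain ⟨Y, cycY, sZY, defC⟩ := hS A₀ EpA₀.1 oA₀ (defZ ▸ ne)
    refine ⟨P ⊓ 𝒞(A) ⊓ Y, cyclic_of_le cycY inf_le_right,
      le_inf (sZA.trans (le_inf sAP cAA)) (defZ ▸ sZY),
      defC.complIn.restrict_left (EpA₀.1.trans (le_inf sAP cAA)) (inf_le_inf_right _ sPS),
      inf_le_right.trans defC.cent⟩
  -- transitivity
  obtain ⟨x, ⟨Px, nCx⟩, Cx⟩ := SetLike.exists_of_lt (nilpotent_proper_norm pP.nil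
    (lt_of_le_of_ne (inf_le_left : P ⊓ 𝒞(A) ≤ P) fun h => ncAP (h ▸ inf_le_right)))
  have ohmC : ohm1 p (P ⊓ 𝒞(A)) = A :=
    le_antisymm (P04.ohm1_le_iff.2 fun y hy yp => P05.mem_of_pmaxElem maxA (Subgroup.mem_top y) hy.2 yp)
      fun y hy => P04.mem_ohm1 ⟨sAP hy, cAA hy⟩ (EpA.2.1.2 y hy)
  have nAx : x ∈ 𝒩(A) := ohmC ▸ P04.norm_ohm1 p le_rfl nCx
  set N := P ⊓ 𝒩(A) with hN
  have pN : IsPGrp p N := pP.inf_left _
  have sAN : A ≤ N := le_inf sAP Subgroup.le_normalizer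
  have cZN : ohm1 p 𝒵(P) ≤ 𝒞(N) := (ohm1_center_cent p P).trans (cent_anti inf_le_left)
  have defF : A ⊓ 𝒞(N) = ohm1 p 𝒵(P) :=
    eq_of_lt_pnElem2 hp EpA oZ (le_inf sZA cZN) (lt_of_le_of_ne inf_le_left fun h =>
      Cx ⟨Px, le_cent_symm (h ▸ inf_le_right : A ≤ 𝒞(N)) ⟨Px, nAx⟩⟩)
  have sDZ : ⁅A, N⁆ ≤ ohm1 p 𝒵(P) := by
    have sDA : ⁅A, N⁆ ≤ A := comm_le_left inf_le_right
    rw [← defF]
    refine le_inf sDA (le_cent_symm (P04.cent_of_card_le hp (pN.isPGroup hp) (sDA.trans sAN)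
      (norm_comm inf_le_right Subgroup.le_normalizer) ?_))
    simpa using P04.card_comm_le (k := 1) hp (pN.isPGroup hp) sAN inf_le_right EpA.2.2.le
  rintro X ⟨EpX, neX⟩ X' ⟨EpX', neX'⟩
  have oX : Nat.card X = p := by rw [EpX.2.2, pow_one]
  have oX' : Nat.card X' = p := by rw [EpX'.2.2, pow_one]
  have defA := dprod_of_pnElem2 hp EpA EpX.1 sZA oX oZ neX
  have defA' := dprod_of_pnElem2 hp EpA EpX'.1 sZA oX' oZ neX'
  obtain ⟨a, Xa, nta⟩ := exists_mem_ne_one (pnElem_ne_bot hp EpX)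
  have defX := eq_zpowers_of_card_prime (oX ▸ hp) Xa nta
  have Aa := EpX.1 Xa
  set w := a⁻¹ * (x * a * x⁻¹) with hw
  have Zw : w ∈ ohm1 p 𝒵(P) := by
    have : w = ⁅a⁻¹, x⁆ := by rw [commutatorElement_def, hw]; group
    rw [this]; exact sDZ (Subgroup.commutator_mem_commutator (inv_mem Aa) ⟨Px, nAx⟩)
  have e1 : x * a * x⁻¹ = a * w := by rw [hw]; group
  have ntw : w ≠ 1 := by
    intro h
    refine Cx ⟨Px, ?_⟩
    rw [← defA.sup_eq, cent_sup, defX, cent_zpowers]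
    refine ⟨?_, le_cent_symm (ohm1_center_cent p P) Px⟩
    rw [h, mul_one, mul_inv_eq_iff_eq_mul] at e1
    exact Subgroup.mem_centralizer_singleton_iff.2 e1
  have e2 : x * w * x⁻¹ = w := by
    rw [mul_inv_eq_iff_eq_mul]; exact (comm_of_le_cent (ohm1_center_cent p P) Zw Px).symm
  have Aa' := Aa
  rw [← defA'.sup_eq, mem_sup_of_right_le_norm (norm_of_cent defA'.cent)] at Aa'
  obtain ⟨b, Xb, z, Zz, ebz⟩ := Aa'
  have hz : z⁻¹ ∈ Subgroup.zpowers w := eq_zpowers_of_card_prime (by rw [oZ]; exact hp) Zw ntw ▸ inv_mem Zz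
  obtain ⟨j, hj⟩ := P04.exists_nat_of_mem_zpowers hz
  have ntb : b ≠ 1 := by
    rintro rfl
    rw [one_mul] at ebz
    exact nta ((Subgroup.eq_bot_iff_forall _).1 defA.inf_eq a ⟨Xa, ebz ▸ Zz⟩)
  refine ⟨x ^ j, pow_mem (show x ∈ N from ⟨Px, nAx⟩) j, ?_⟩
  rw [defX, conjg_zpowers, conj_pow_of_conj e1 e2, ← hj, ← ebz, mul_inv_cancel_right]
  exact eq_zpowers_of_card_prime (oX' ▸ hp) Xb ntb

/-! ### Proposition 10.14 -/

theorem beta_not_narrow {p : ℕ} (bp : IsIdealPrime p G) :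
    (∀ A : Subgroup G, IsPnElem p 2 A ⊤ → ¬ IsPMaxElem p A ⊤) ∧
    ∀ P : Subgroup G, IsSylowOf p P ⊤ → ∀ A : Subgroup G, IsPnElem p 2 A P → ¬ IsPMaxElem p A P :=
  ⟨fun _ EpA maxA => not_ideal_of_pmax bp.1 EpA maxA bp,
    fun P sylP A EpA maxA => (ideal_iff.1 bp).2.2 P sylP fun _ => ⟨A, EpA, maxA⟩⟩

theorem beta_noncyclic_uniq {p : ℕ} (bp : IsIdealPrime p G) {R : Subgroup G} (pR : IsPGrp p R)
    (r2 : 1 < rank R) : InUniqueMaximal R := by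
  rw [rank_pgroup bp.1 pR] at r2
  obtain ⟨A, EpA⟩ := (p_rank_geP bp.1).1 (Nat.succ_le_of_lt r2)
  exact uniq_mmaxS EpA.1 (mFT_pgroup_proper pR) (nonmaxElem2_Uniqueness bp.1 (pnElem_mono EpA le_top)
    ((beta_not_narrow bp).1 A (pnElem_mono EpA le_top)))

theorem beta_subnorm_uniq {p : ℕ} (bp : IsIdealPrime p G) {P X : Subgroup G} (sylP : IsSylowOf p P ⊤)
    (sXP : X ≤ P) : InUniqueMaximal (P ⊓ 𝒩(X)) := by
  have hp := bp.1
  have pQ : IsPGrp p (P ⊓ 𝒩(X)) := sylP.pGrp.inf_left _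
  by_cases r2 : 1 < rank (P ⊓ 𝒩(X))
  · exact beta_noncyclic_uniq bp pQ r2
  rw [rank_pgroup hp pQ, not_lt] at r2
  have cycQ := (odd_pgroup_rank1_cyclic hp pQ (mFT_odd _)).2 r2
  have defQ : P ⊓ 𝒩(X) = P := nilpotent_sub_norm sylP.pGrp.nil inf_le_left
    (inf_le_inf_left _ (norm_le_norm_of_cyclic cycQ (le_inf sXP Subgroup.le_normalizer)))
  rw [defQ, p_rank_Hall hp sylP rfl] at r2
  exact absurd (ideal_iff.1 bp).2.1 (by omega)

theorem beta_norm_sub_mmax {M Y : Subgroup G} (maxM : IsCoatom M) (sYM : Y ≤ M)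
    (bY : IsPiGrp (beta M) Y) (ntY : Y ≠ ⊥) : 𝒩(Y) ≤ M := by
  obtain ⟨q, hq, ntX⟩ := exists_pcore_ne_bot (sol_of_le (mmax_sol maxM) sYM) ntY
  have qX := pcore_pGrp q Y
  have bMq : q ∈ beta M := qX.mem_of_piGrp ntX (bY.of_le (pcore_le _ _))
  obtain ⟨P, sylP, sXP⟩ := sylow_superset hq qX ((pcore_le _ _).trans sYM)
  have u := beta_subnorm_uniq bMq.2 (sigma_Sylow_G (beta_sub_sigma maxM bMq) sylP) sXP
  exact (norm_pcore _ le_rfl).trans (sub_uniq_mmax (def_uniq_mmax u maxM (inf_le_left.trans sylP.le))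
    inf_le_right (mFT_norm_proper ntX (mFT_pgroup_proper qX)))

end CA.BG.P10
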