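/-
Interface: B & G section 10 (the subgroups `M_α`, `M_σ`, `M_β`).  Owner: lead.
`π.-Hall(G) H` is `IsPiHallOf π H ⊤`; "`H` is not conjugate to `M`" is `∀ g, H ≠ M :^ g`.
-/
import Cfsg.Agent.BG.I09
import Cfsg.Agent.BG.P10d

set_option autoImplicit false
set_option linter.unusedSectionVars false

namespace CA.BG

open Cfsg CA.FG

universe u

variable {G : Type u} [Group G] [MinSimpleOdd G]

/-! ### elementary facts -/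

theorem sigma_prime {M : Subgroup G} {p : ℕ} (h : p ∈ sigma M) : p.Prime := h.1
theorem alpha_prime {M : Subgroup G} {p : ℕ} (h : p ∈ alpha M) : p.Prime := h.1
theorem beta_prime {M : Subgroup G} {p : ℕ} (h : p ∈ beta M) : p.Prime := h.1.1
theorem sigma_dvd {M : Subgroup G} {p : ℕ} (h : p ∈ sigma M) : p ∣ Nat.card M := h.2.1
theorem beta_sub_alpha (M : Subgroup G) : beta M ⊆ alpha M := fun _ h => h.1
theorem sigmaCore_eq (M : Subgroup G) : sigmaCore M = piCoreOf (sigma M) M := rfl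
theorem alphaCore_eq (M : Subgroup G) : alphaCore M = piCoreOf (alpha M) M := rfl
theorem betaCore_eq (M : Subgroup G) : betaCore M = piCoreOf (beta M) M := rfl

theorem mem_alpha_iff {M : Subgroup G} {p : ℕ} : p ∈ alpha M ↔ p.Prime ∧ 2 < pRank p M :=
  P10.mem_alpha_iff

theorem mem_sigma_iff {M : Subgroup G} {p : ℕ} :
    p ∈ sigma M ↔ p.Prime ∧ p ∣ Nat.card M ∧ ∃ P : Subgroup G, IsSylowOf p P M ∧ 𝒩(P) ≤ M :=
  P10.mem_sigma_iff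

theorem ideal_iff {p : ℕ} :
    IsIdealPrime p G ↔ p.Prime ∧ 2 < pRank p (⊤ : Subgroup G) ∧
      ∀ P : Subgroup G, IsSylowOf p P ⊤ → ¬ Narrow p P :=
  P10.ideal_iff

theorem not_narrow_ideal {p : ℕ} (hp : p.Prime) {P : Subgroup G} (sylP : IsSylowOf p P ⊤)
    (nnP : ¬ Narrow p P) : IsIdealPrime p G :=
  P10.not_narrow_ideal hp sylP nnP

theorem alphaJ (M : Subgroup G) (g : G) : alpha (M :^ g) = alpha M :=
  P10.alphaJ M g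
theorem betaJ (M : Subgroup G) (g : G) : beta (M :^ g) = beta M :=
  P10.betaJ M g
theorem sigmaJ (M : Subgroup G) (g : G) : sigma (M :^ g) = sigma M :=
  P10.sigmaJ M g
theorem MalphaJ (M : Subgroup G) (g : G) : alphaCore (M :^ g) = alphaCore M :^ g :=
  P10.MalphaJ M g
theorem MbetaJ (M : Subgroup G) (g : G) : betaCore (M :^ g) = betaCore M :^ g :=
  P10.MbetaJ M g
theorem MsigmaJ (M : Subgroup G) (g : G) : sigmaCore (M :^ g) = sigmaCore M :^ g :=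
  P10.MsigmaJ M g

theorem Malpha_normal (M : Subgroup G) : alphaCore M ⊲ M :=
  P10.Malpha_normal M
theorem Mbeta_normal (M : Subgroup G) : betaCore M ⊲ M :=
  P10.Mbeta_normal M
theorem Msigma_normal (M : Subgroup G) : sigmaCore M ⊲ M :=
  P10.Msigma_normal M
theorem Malpha_pgroup (M : Subgroup G) : IsPiGrp (alpha M) (alphaCore M) :=
  P10.Malpha_pgroup M
theorem Mbeta_pgroup (M : Subgroup G) : IsPiGrp (beta M) (betaCore M) :=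
  P10.Mbeta_pgroup M
theorem Msigma_pgroup (M : Subgroup G) : IsPiGrp (sigma M) (sigmaCore M) :=
  P10.Msigma_pgroup M

theorem mmax_sigma_Sylow {p : ℕ} (hp : p.Prime) {M P : Subgroup G} (sylP : IsSylowOf p P M)
    (sNM : 𝒩(P) ≤ M) : IsSylowOf p P ⊤ :=
  P10.mmax_sigma_Sylow hp sylP sNM

theorem mmax_Fitting_neq1 {M : Subgroup G} (maxM : IsCoatom M) : fittingOf M ≠ ⊥ :=
  P10.mmax_Fitting_neq1 maxM

theorem alpha_sub_sigma {M : Subgroup G} (maxM : IsCoatom M) : alpha M ⊆ sigma M :=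
  P10.alpha_sub_sigma maxM
theorem beta_sub_sigma {M : Subgroup G} (maxM : IsCoatom M) : beta M ⊆ sigma M :=
  P10.beta_sub_sigma maxM
theorem Mbeta_sub_Malpha (M : Subgroup G) : betaCore M ≤ alphaCore M :=
  P10.Mbeta_sub_Malpha M
theorem Malpha_sub_Msigma {M : Subgroup G} (maxM : IsCoatom M) : alphaCore M ≤ sigmaCore M :=
  P10.Malpha_sub_Msigma maxM
theorem Mbeta_sub_Msigma {M : Subgroup G} (maxM : IsCoatom M) : betaCore M ≤ sigmaCore M :=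
  P10.Mbeta_sub_Msigma maxM

theorem norm_sigma_Sylow {M P : Subgroup G} {p : ℕ} (sMp : p ∈ sigma M) (sylP : IsSylowOf p P M) :
    𝒩(P) ≤ M :=
  P10.norm_sigma_Sylow sMp sylP

theorem sigma_Sylow_G {M P : Subgroup G} {p : ℕ} (sMp : p ∈ sigma M) (sylP : IsSylowOf p P M) :
    IsSylowOf p P ⊤ :=
  P10.sigma_Sylow_G sMp sylP

theorem sigma_Sylow_neq1 {M P : Subgroup G} {p : ℕ} (sMp : p ∈ sigma M) (sylP : IsSylowOf p P M) :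
    P ≠ ⊥ :=
  P10.sigma_Sylow_neq1 sMp sylP

theorem predI_sigma_beta {M : Subgroup G} (maxM : IsCoatom M) {p : ℕ} :
    p ∈ beta M ↔ p ∈ sigma M ∧ IsIdealPrime p G :=
  P10.predI_sigma_beta maxM

/-! ### Theorem 10.1 -/

/-- B & G, Theorem 10.1(d). -/
theorem sigma_Sylow_trans {M X : Subgroup G} {p : ℕ} {g : G} (sMp : p ∈ sigma M)
    (sylX : IsSylowOf p X M) (sXgM : X :^ g ≤ M) : g ∈ M :=
  P10.sigma_Sylow_trans sMp sylX sXgM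

/-- B & G, Theorem 10.1(a). -/
theorem sigma_group_trans_a {M X : Subgroup G} {p : ℕ} (maxM : IsCoatom M) (sMp : p ∈ sigma M)
    (pX : IsPGrp p X) {g : G} (sXM : X ≤ M) (sXgM : X :^ g ≤ M) :
    ∃ m ∈ M, ∃ c ∈ 𝒞(X), g = m * c :=
  P10.sigma_group_trans_a maxM sMp pX sXM sXgM

/-- B & G, Theorem 10.1(b). -/
theorem sigma_group_trans_b {M X : Subgroup G} {p : ℕ} (maxM : IsCoatom M) (sMp : p ∈ sigma M)
    (pX : IsPGrp p X) {g h : G} (sXMg : X ≤ M :^ g) (sXMh : X ≤ M :^ h) :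
    ∃ c ∈ 𝒞(X), M :^ h = (M :^ g) :^ c :=
  P10.sigma_group_trans_b maxM sMp pX sXMg sXMh

/-- B & G, Theorem 10.1(c). -/
theorem sigma_group_trans_c {M X : Subgroup G} {p : ℕ} (maxM : IsCoatom M) (sMp : p ∈ sigma M)
    (pX : IsPGrp p X) (sXM : X ≤ M) : 𝒞(X) ⊔ (M ⊓ 𝒩(X)) = 𝒩(X) :=
  P10.sigma_group_trans_c maxM sMp pX sXM

/-- B & G, Theorem 10.1(e). -/
theorem sigma_group_trans_e {M X : Subgroup G} {p : ℕ} (maxM : IsCoatom M) (sMp : p ∈ sigma M)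
    (pX : IsPGrp p X) {g : G} (sXM : X ≤ M) (sCM : 𝒞(X) ≤ M) (sXgM : X :^ g ≤ M) : g ∈ M :=
  P10.sigma_group_trans_e maxM sMp pX sXM sCM sXgM

/-! ### Theorem 10.2 -/

theorem Malpha_Hall {M : Subgroup G} (maxM : IsCoatom M) : IsPiHallOf (alpha M) (alphaCore M) M :=
  P10.Malpha_Hall maxM
theorem Msigma_Hall {M : Subgroup G} (maxM : IsCoatom M) : IsPiHallOf (sigma M) (sigmaCore M) M :=
  P10.Msigma_Hall maxM
theorem pi_Msigma {M : Subgroup G} (maxM : IsCoatom M) : primesOf (sigmaCore M) = sigma M :=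
  P10.pi_Msigma maxM
theorem Msigma_Hall_G {M : Subgroup G} (maxM : IsCoatom M) : IsPiHallOf (sigma M) (sigmaCore M) ⊤ :=
  P10.Msigma_Hall_G maxM
theorem Malpha_Hall_G {M : Subgroup G} (maxM : IsCoatom M) : IsPiHallOf (alpha M) (alphaCore M) ⊤ :=
  P10.Malpha_Hall_G maxM
theorem Msigma_der1 {M : Subgroup G} (maxM : IsCoatom M) : sigmaCore M ≤ ⁅M, M⁆ :=
  P10.Msigma_der1 maxM
theorem Malpha_quo_rank2 {M : Subgroup G} (maxM : IsCoatom M) : rank (M /ₛ alphaCore M) ≤ 2 :=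
  P10.Malpha_quo_rank2 maxM
theorem Malpha_quo_sub_Fitting {M : Subgroup G} (maxM : IsCoatom M) :
    ⁅M, M⁆ /ₛ alphaCore M ≤ fittingOf (M /ₛ alphaCore M) :=
  P10.Malpha_quo_sub_Fitting maxM
theorem Malpha_quo_nil {M : Subgroup G} (maxM : IsCoatom M) :
    Group.IsNilpotent (⁅M, M⁆ /ₛ alphaCore M) :=
  P10.Malpha_quo_nil maxM
theorem Msigma_neq1 {M : Subgroup G} (maxM : IsCoatom M) : sigmaCore M ≠ ⊥ :=
  P10.Msigma_neq1 maxM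

/-- B & G, Lemma 10.3. -/
theorem cent_alpha'_uniq {M X : Subgroup G} (maxM : IsCoatom M) (sXM : X ≤ M)
    (a'X : IsPiGrp (alpha M)ᶜ X) (r2 : 2 ≤ rank (alphaCore M ⊓ 𝒞(X))) :
    InUniqueMaximal (M ⊓ 𝒞(X)) :=
  P10.cent_alpha'_uniq maxM sXM a'X r2

/-- B & G, Lemma 10.4(a). -/
theorem der1_quo_sigma' {M : Subgroup G} (maxM : IsCoatom M) {p : ℕ} (hp : p.Prime)
    (h : p ∣ (⁅M, M⁆ : Subgroup G).relIndex M) : p ∉ sigma M :=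
  P10.der1_quo_sigma' maxM hp h

/-- B & G, Lemma 10.4(b). -/
theorem cent1_sigma'_Zgroup {M P : Subgroup G} (maxM : IsCoatom M) {p : ℕ} (hp : p.Prime)
    (s'p : p ∉ sigma M) (sylP : IsSylowOf p P M) (ntP : P ≠ ⊥) :
    ∃ x ∈ ohm1 p 𝒵(P), x ≠ 1 ∧ ¬ UniqMax 𝒞[x] M ∧ IsZGroup ↥(alphaCore M ⊓ 𝒞[x]) :=
  P10.cent1_sigma'_Zgroup maxM hp s'p sylP ntP

/-- B & G, Lemma 10.4(c), part 1. -/
theorem sigma'_rank2_max {M : Subgroup G} (maxM : IsCoatom M) {p : ℕ} (hp : p.Prime)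
    (s'p : p ∉ sigma M) (r2 : pRank p M = 2) {A : Subgroup G} (EpA : IsPnElem p 2 A M) :
    IsPMaxElem p A ⊤ :=
  P10.sigma'_rank2_max maxM hp s'p r2 EpA

/-- B & G, Lemma 10.4(c), part 2. -/
theorem sigma'_rank2_beta' {M : Subgroup G} (maxM : IsCoatom M) {p : ℕ} (hp : p.Prime)
    (s'p : p ∉ sigma M) (r2 : pRank p M = 2) : ¬ IsIdealPrime p G :=
  P10.sigma'_rank2_beta' maxM hp s'p r2

/-- B & G, Lemma 10.5, part 1. -/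
theorem sigma'_norm_mmax_rank2 {M X : Subgroup G} (maxM : IsCoatom M) {p : ℕ} (hp : p.Prime)
    (s'p : p ∉ sigma M) (pX : IsPGrp p X) (sNM : 𝒩(X) ≤ M) : pRank p M = 2 :=
  P10.sigma'_norm_mmax_rank2 maxM hp s'p pX sNM

/-- B & G, Lemma 10.5, part 2 (the subgroup `A` lies in `M`). -/
theorem sigma'1Elem_sub_p2Elem {M X : Subgroup G} (maxM : IsCoatom M) {p : ℕ} (hp : p.Prime)
    (s'p : p ∉ sigma M) (EpX : IsPnElem p 1 X ⊤) (sNM : 𝒩(X) ≤ M) :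
    ∃ A : Subgroup G, IsPnElem p 2 A M ∧ X ≤ A :=
  P10.sigma'1Elem_sub_p2Elem maxM hp s'p EpX sNM

/-- B & G, Theorem 10.6. -/
theorem mFT_proper_plength1 {p : ℕ} (hp : p.Prime) {H : Subgroup G} (prH : H ≠ ⊤) :
    PLengthLE p 1 H :=
  P10.mFT_proper_plength1 hp prH

/-! ### Corollary 10.7 -/

theorem mFT_Sylow_der1 {p : ℕ} (hp : p.Prime) {P : Subgroup G} (sylP : IsSylowOf p P ⊤) :
    P ≤ ⁅𝒩(P), 𝒩(P)⁆ :=
  P10.mFT_Sylow_der1 hp sylP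

theorem mFT_Sylow_sdprod_commg {p : ℕ} (hp : p.Prime) {P V : Subgroup G} (sylP : IsSylowOf p P ⊤)
    (defN : IsComplIn P V 𝒩(P)) : ⁅P, V⁆ = P :=
  P10.mFT_Sylow_sdprod_commg hp sylP defN

theorem mFT_rank2_Sylow_cprod {p : ℕ} (hp : p.Prime) {P : Subgroup G} (sylP : IsSylowOf p P ⊤)
    (rP : rank P ≤ 2) (nabP : ¬ IsMulCommutative P) :
    ∃ S C : Subgroup G, ¬ IsMulCommutative S ∧ Nat.card S = p ^ 3 ∧ (∀ x ∈ S, x ^ p = 1) ∧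
      IsCyclic C ∧ CProd S C P ∧ ohm1 p C = 𝒵(S) :=
  P10.mFT_rank2_Sylow_cprod hp sylP rP nabP

theorem mFT_sub_Sylow_trans {p : ℕ} (hp : p.Prime) {P Q : Subgroup G} (sylP : IsSylowOf p P ⊤) {x : G}
    (sQP : Q ≤ P) (sQxP : Q :^ x ≤ P) : ∃ y ∈ 𝒩(P), Q :^ x = Q :^ y :=
  P10.mFT_sub_Sylow_trans hp sylP sQP sQxP

/-- Strong form of 10.7(c): `x ∈ N(P) C(Q)`. -/
theorem mFT_sub_Sylow_trans' {p : ℕ} (hp : p.Prime) {P Q : Subgroup G} (sylP : IsSylowOf p P ⊤) {x : G}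
    (sQP : Q ≤ P) (sQxP : Q :^ x ≤ P) : ∃ y ∈ 𝒩(P), ∃ c ∈ 𝒞(Q), x = y * c :=
  P10.mFT_sub_Sylow_trans' hp sylP sQP sQxP

theorem mFT_subnorm_Sylow {p : ℕ} (hp : p.Prime) {P Q : Subgroup G} (sylP : IsSylowOf p P ⊤)
    (sQP : Q ≤ P) : IsSylowOf p (P ⊓ 𝒩(Q)) 𝒩(Q) :=
  P10.mFT_subnorm_Sylow hp sylP sQP

theorem mFT_Sylow_normalI {p : ℕ} (hp : p.Prime) {P Q R : Subgroup G} (sylP : IsSylowOf p P ⊤)
    (pR : IsPGrp p R) (sQPR : Q ≤ P ⊓ R) (nQN : 𝒩(P) ≤ 𝒩(Q)) : 𝒩(R) ≤ 𝒩(Q) :=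
  P10.mFT_Sylow_normalI hp sylP pR sQPR nQN

/-! ### Lemma 10.8 -/

theorem Mbeta_Hall {M : Subgroup G} (maxM : IsCoatom M) : IsPiHallOf (beta M) (betaCore M) M :=
  P10.Mbeta_Hall maxM
theorem Mbeta_Hall_G {M : Subgroup G} (maxM : IsCoatom M) : IsPiHallOf (beta M) (betaCore M) ⊤ :=
  P10.Mbeta_Hall_G maxM
theorem Mbeta_der1 {M : Subgroup G} (maxM : IsCoatom M) : betaCore M ≤ ⁅M, M⁆ :=
  P10.Mbeta_der1 maxM

theorem beta_max_pdiv {M : Subgroup G} (maxM : IsCoatom M) {p : ℕ} (hp : p.Prime) (b'p : p ∉ beta M) :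
    IsPiHallOf {p}ᶜ (pPrimeCoreOf p ⁅M, M⁆) ⁅M, M⁆ ∧
    IsPiHallOf {p}ᶜ (pPrimeCoreOf p (sigmaCore M)) (sigmaCore M) ∧
    ∀ q : ℕ, q.Prime → q ∣ (pPrimeCoreOf p M).relIndex M → q ≤ p :=
  P10.beta_max_pdiv maxM hp b'p

theorem Mbeta_quo_nil {M : Subgroup G} (maxM : IsCoatom M) :
    Group.IsNilpotent (⁅M, M⁆ /ₛ betaCore M) :=
  P10.Mbeta_quo_nil maxM

theorem beta'_der1_nil {M H : Subgroup G} (maxM : IsCoatom M) (b'H : IsPiGrp (beta M)ᶜ H)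
    (sHM' : H ≤ ⁅M, M⁆) : Group.IsNilpotent H :=
  P10.beta'_der1_nil maxM b'H sHM'

/-- B & G, Corollary 10.9(a). -/
theorem beta'_cent_Sylow {M X : Subgroup G} (maxM : IsCoatom M) {p q : ℕ} (hp : p.Prime) (hq : q.Prime)
    (b'p : p ∉ beta M) (b'q : q ∉ beta M) (qX : IsPGrp q X)
    (h : (p ≠ q ∧ X ≤ ⁅M, M⁆) ∨ (p < q ∧ X ≤ M)) :
    (∃ P : Subgroup G, IsSylowOf p P (sigmaCore M) ∧ X ≤ 𝒞(P)) ∧
    (p ∈ alpha M → InUniqueMaximal (M ⊓ 𝒞(X))) ∧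
    (IsSylowOf q X ⁅M, M⁆ →
      ∃ P : Subgroup G, IsSylowOf p P ⁅M, M⁆ ∧ P ≤ ⁅M ⊓ 𝒩(X), M ⊓ 𝒩(X)⁆) :=
  P10.beta'_cent_Sylow maxM hp hq b'p b'q qX h

/-- B & G, Corollary 10.9(b). -/
theorem nonuniq_norm_Sylow_pprod {M H S : Subgroup G} (maxM : IsCoatom M) {p : ℕ} (hp : p.Prime)
    (maxH : IsCoatom H) (neHM : H ≠ M) (sylS : IsSylowOf p S ⊤) (sNS : 𝒩(S) ≤ H ⊓ M) :
    betaCore M ⊔ (H ⊓ M) = M ∧ alpha M = beta M :=
  P10.nonuniq_norm_Sylow_pprod maxM hp maxH neHM sylS sNS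

/-- B & G, Proposition 10.10. -/
theorem max_normed_2Elem_signaliser {p q : ℕ} (hp : p.Prime) (hq : q.Prime) (neqpq : p ≠ q)
    {A Q : Subgroup G} (EpA : IsPnElem p 2 A ⊤) (maxA : IsPMaxElem p A ⊤)
    (maxQ : Q ∈ maxInvSubgroups ⊤ A {q}) (qC : q ∣ Nat.card 𝒞(A)) :
    ∃ P : Subgroup G, IsSylowOf p P ⊤ ∧ A ≤ P ∧
      pPrimeCoreOf p 𝒞(P) ⊔ (𝒩(P) ⊓ 𝒩(Q)) = 𝒩(P) ∧
      P ≤ ⁅𝒩(Q), 𝒩(Q)⁆ ∧ (Narrow q Q → P ≤ 𝒞(Q)) :=
  P10.max_normed_2Elem_signaliser hp hq neqpq EpA maxA maxQ qC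

/-! ### Proposition 10.11 -/

theorem sigma'_not_uniq {M K : Subgroup G} (maxM : IsCoatom M) (sKM : K ≤ M)
    (s'K : IsPiGrp (sigma M)ᶜ K) : ¬ InUniqueMaximal K :=
  P10.sigma'_not_uniq maxM sKM s'K

theorem sub'cent_sigma_rank1 {M K : Subgroup G} (maxM : IsCoatom M) (sKM : K ≤ M)
    (s'K : IsPiGrp (sigma M)ᶜ K) : rank (K ⊓ 𝒞(sigmaCore M)) ≤ 1 :=
  P10.sub'cent_sigma_rank1 maxM sKM s'K

theorem sub'cent_sigma_cyclic {M K : Subgroup G} (maxM : IsCoatom M) (sKM : K ≤ M)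
    (s'K : IsPiGrp (sigma M)ᶜ K) :
    IsCyclic ↥(K ⊓ 𝒞(sigmaCore M) ⊓ ⁅M, M⁆) ∧ K ⊓ 𝒞(sigmaCore M) ⊓ ⁅M, M⁆ ⊲ M :=
  P10.sub'cent_sigma_cyclic maxM sKM s'K

theorem commG_sigma'_1Elem_cyclic {M K : Subgroup G} (maxM : IsCoatom M) (sKM : K ≤ M)
    (s'K : IsPiGrp (sigma M)ᶜ K) {p : ℕ} (hp : p.Prime) {P : Subgroup G} (p'K : IsPiGrp {p}ᶜ K)
    (s'p : p ∉ sigma M) (EpP : IsPnElem p 1 P (M ⊓ 𝒩(K))) (regP : sigmaCore M ⊓ 𝒞(P) = ⊥)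
    (cKK : IsMulCommutative K) :
    ⁅K, P⁆ ≤ 𝒞(sigmaCore M) ∧ IsCyclic ↥⁅K, P⁆ ∧ ⁅K, P⁆ ⊲ M :=
  P10.commG_sigma'_1Elem_cyclic maxM sKM s'K hp p'K s'p EpP regP cKK

/-- B & G, Lemma 10.12. -/
theorem sigma_disjoint {M H : Subgroup G} (maxM : IsCoatom M) (maxH : IsCoatom H)
    (notjMH : ∀ g, H ≠ M :^ g) :
    alphaCore M ⊓ sigmaCore H = ⊥ ∧ Disjoint (alpha M) (sigma H) ∧
    (Group.IsNilpotent (sigmaCore M) →
      sigmaCore M ⊓ sigmaCore H = ⊥ ∧ Disjoint (sigma M) (sigma H)) :=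
  P10.sigma_disjoint maxM maxH notjMH

/-- B & G, Lemma 10.13, with `Z₀ = Ω₁(Z(P))`. -/
theorem basic_p2maxElem_structure {p : ℕ} (hp : p.Prime) {A P : Subgroup G} (EpA : IsPnElem p 2 A ⊤)
    (maxA : IsPMaxElem p A ⊤) (pP : IsPGrp p P) (sAP : A ≤ P) (nabP : ¬ IsMulCommutative P) :
    IsPnElem p 1 (ohm1 p 𝒵(P)) A ∧
    ∀ A₀ : Subgroup G, IsPnElem p 1 A₀ A → A₀ ≠ ohm1 p 𝒵(P) →
      DProd A₀ (ohm1 p 𝒵(P)) A ∧
      (∃ Y : Subgroup G, IsCyclic Y ∧ ohm1 p 𝒵(P) ≤ Y ∧ DProd A₀ Y (P ⊓ 𝒞(A))) ∧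
      TransOn (P ⊓ 𝒩(A)) {X | IsPnElem p 1 X A ∧ X ≠ ohm1 p 𝒵(P)} :=
  P10.basic_p2maxElem_structure hp EpA maxA pP sAP nabP

/-! ### Proposition 10.14 -/

theorem beta_not_narrow {p : ℕ} (bp : IsIdealPrime p G) :
    (∀ A : Subgroup G, IsPnElem p 2 A ⊤ → ¬ IsPMaxElem p A ⊤) ∧
    ∀ P : Subgroup G, IsSylowOf p P ⊤ → ∀ A : Subgroup G, IsPnElem p 2 A P → ¬ IsPMaxElem p A P :=
  P10.beta_not_narrow bp

theorem beta_noncyclic_uniq {p : ℕ} (bp : IsIdealPrime p G) {R : Subgroup G} (pR : IsPGrp p R)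
    (r2 : 1 < rank R) : InUniqueMaximal R :=
  P10.beta_noncyclic_uniq bp pR r2

theorem beta_subnorm_uniq {p : ℕ} (bp : IsIdealPrime p G) {P X : Subgroup G} (sylP : IsSylowOf p P ⊤)
    (sXP : X ≤ P) : InUniqueMaximal (P ⊓ 𝒩(X)) :=
  P10.beta_subnorm_uniq bp sylP sXP

theorem beta_norm_sub_mmax {M Y : Subgroup G} (maxM : IsCoatom M) (sYM : Y ≤ M)
    (bY : IsPiGrp (beta M) Y) (ntY : Y ≠ ⊥) : 𝒩(Y) ≤ M :=
  P10.beta_norm_sub_mmax maxM sYM bY ntY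

end CA.BG
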