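/-
B & G section 11: exceptional maximal subgroups (proofs).
-/
import Cfsg.Agent.BG.I10
import Cfsg.Agent.BG.I03
import Cfsg.Agent.BG.I04
import Cfsg.Agent.BG.I05
import Cfsg.Agent.BG.I06
import Cfsg.Agent.FG.Frattini

set_option autoImplicit false
set_option linter.unusedSectionVars false
set_option linter.unusedVariables false

namespace CA.BG.P11

open Cfsg CA.FG

universe u

section General

variable {G : Type u} [Group G] [Finite G]

theorem cop_left {H K : Subgroup G} {n : ℕ} (h : (Nat.card K).Coprime n) (hH : H ≤ K) :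
    (Nat.card H).Coprime n :=
  Nat.Coprime.coprime_dvd_left (Subgroup.card_dvd_of_le hH) h

theorem cop_right {H K : Subgroup G} {n : ℕ} (h : n.Coprime (Nat.card K)) (hH : H ≤ K) :
    n.Coprime (Nat.card H) :=
  Nat.Coprime.coprime_dvd_right (Subgroup.card_dvd_of_le hH) h

theorem dvd_of_le {H K : Subgroup G} {n : ℕ} (h : n ∣ Nat.card H) (hH : H ≤ K) : n ∣ Nat.card K :=
  h.trans (Subgroup.card_dvd_of_le hH)

theorem eq_bot_of_le {H K : Subgroup G} (h : H ≤ K) (hK : K = ⊥) : H = ⊥ :=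
  le_bot_iff.1 (hK ▸ h)

theorem max_normed_exists {A Q : Subgroup G} {π : Set ℕ} (piQ : IsPiGrp π Q) (nQA : A ≤ 𝒩(Q)) :
    ∃ R ∈ maxInvSubgroups ⊤ A π, Q ≤ R := by
  obtain ⟨R, sQR, hR, hmax⟩ := exists_max_subgroup
    (P := fun R : Subgroup G => R ∈ invSubgroups ⊤ A π) (H := Q) ⟨le_top, piQ, nQA⟩
  exact ⟨R, ⟨hR, fun S hS h => hmax S hS h⟩, sQR⟩

theorem sylow_max_normed {A Q : Subgroup G} {q : ℕ} (sylQ : IsSylowOf q Q ⊤) (nQA : A ≤ 𝒩(Q)) :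
    Q ∈ maxInvSubgroups ⊤ A {q} :=
  ⟨⟨le_top, sylQ.piGrp, nQA⟩, fun R hR h => sylQ.eq_of_le hR.2.1 h le_top⟩

theorem primesOf_pGrp {p : ℕ} {A : Subgroup G} (pA : IsPGrp p A) {q : ℕ} (h : q ∈ primesOf A) :
    q = p := pA q h.1 h.2

/-- `H` is generated by the centralizers of the subgroups of order `p` of `A ∈ 𝓔_p²`. -/
theorem p2Elem_gen_cent_le {p : ℕ} (hp : p.Prime) {A H X D : Subgroup G} (EpA : IsPnElem p 2 A D)
    (nHA : A ≤ 𝒩(H)) (coHA : (Nat.card H).Coprime (Nat.card A))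
    (h : ∀ Y : Subgroup G, IsPnElem p 1 Y A → H ⊓ 𝒞(Y) ≤ X) : H ≤ X := by
  refine coprime_abelian_gen_cent1_le EpA.abelian (EpA.not_cyclic hp le_rfl) nHA coHA ?_
  intro a ha ha1
  have := h _ (pnElem_one_zpowers hp ha (EpA.abelem.2 a ha) ha1)
  rwa [cent_zpowers] at this

theorem exists_p1Elem_cent_ne_bot {p : ℕ} (hp : p.Prime) {A H D : Subgroup G} (EpA : IsPnElem p 2 A D)
    (ntH : H ≠ ⊥) (nHA : A ≤ 𝒩(H)) (coHA : (Nat.card H).Coprime (Nat.card A)) :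
    ∃ Y : Subgroup G, IsPnElem p 1 Y A ∧ H ⊓ 𝒞(Y) ≠ ⊥ := by
  by_contra hc
  push Not at hc
  exact ntH (le_bot_iff.1 (p2Elem_gen_cent_le hp EpA nHA coHA fun Y hY => (hc Y hY).le))

theorem inf_cent_conjg_eq_bot {H X : Subgroup G} {g : G} :
    H :^ g ⊓ 𝒞(X :^ g) = ⊥ ↔ H ⊓ 𝒞(X) = ⊥ := by
  rw [← conjg_cent, ← conjg_inf, conjg_eq_bot]

/-- An element of odd order whose square lies in a subgroup lies in the subgroup. -/
theorem mem_of_sq_mem {H : Subgroup G} {g : G} (hodd : Odd (Nat.card G)) (h : g * g ∈ H) : g ∈ H := by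
  obtain ⟨k, hk⟩ := hodd
  have h1 : g ^ (2 * k + 1) = 1 := by rw [← hk]; exact pow_card_eq_one'
  have h2 : g = ((g * g) ^ k)⁻¹ := by
    rw [← sq, ← pow_mul]
    rw [pow_succ] at h1
    exact eq_inv_of_mul_eq_one_right h1
  rw [h2]
  exact H.inv_mem (H.pow_mem h k)

/-- A `p`-group containing a maximal elementary abelian subgroup of rank 2 of `G` is narrow. -/
theorem narrow_of_pmaxElem {q : ℕ} {B Q D : Subgroup G} (EqB : IsPnElem q 2 B D)
    (maxB : IsPMaxElem q B ⊤) (sBQ : B ≤ Q) : Narrow q Q :=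
  fun _ => ⟨B, EqB.of_le sBQ, maxB.of_le sBQ le_top⟩

end General

variable {G : Type u} [Group G] [MinSimpleOdd G]

theorem not_norm_le_of_sigma' {p : ℕ} (hp : p.Prime) {M P : Subgroup G} (s'p : p ∉ sigma M)
    (sylP : IsSylowOf p P M) (ntP : P ≠ ⊥) : ¬ 𝒩(P) ≤ M := fun h =>
  s'p (mem_sigma_iff.2 ⟨hp, dvd_of_le (IsPGrp.dvd_card sylP.pGrp ntP) sylP.le, P, sylP, h⟩)

theorem Msigma_le (M : Subgroup G) : sigmaCore M ≤ M := (Msigma_normal M).1
theorem Msigma_norm (M : Subgroup G) : M ≤ 𝒩(sigmaCore M) := (Msigma_normal M).2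
theorem Malpha_le (M : Subgroup G) : alphaCore M ≤ M := (Malpha_normal M).1
theorem Malpha_norm (M : Subgroup G) : M ≤ 𝒩(alphaCore M) := (Malpha_normal M).2
theorem Mbeta_le (M : Subgroup G) : betaCore M ≤ M := (Mbeta_normal M).1
theorem Mbeta_norm (M : Subgroup G) : M ≤ 𝒩(betaCore M) := (Mbeta_normal M).2

/-- `σ(M)`-subgroups of `M` lie in `M_σ`. -/
theorem sub_Msigma {M X : Subgroup G} (maxM : IsCoatom M) (sXM : X ≤ M) (sX : IsPiGrp (sigma M) X) :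
    X ≤ sigmaCore M :=
  (Msigma_Hall maxM).le_of_normal (Msigma_norm M) sX sXM

theorem cop_Msigma {M X : Subgroup G} (s'X : IsPiGrp (sigma M)ᶜ X) :
    (Nat.card (sigmaCore M)).Coprime (Nat.card X) := (Msigma_pgroup M).coprime s'X

theorem cop_Msigma_pGrp {p : ℕ} {M X : Subgroup G} (s'p : p ∉ sigma M) (pX : IsPGrp p X) :
    (Nat.card (sigmaCore M)).Coprime (Nat.card X) := cop_Msigma (pX.piGrp s'p)

theorem pgroup_proper {p : ℕ} {P : Subgroup G} (pP : IsPGrp p P) : P ≠ ⊤ :=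
  mFT_nil_proper (IsPGrp.nil pP)

theorem cyclic_iff {p : ℕ} (hp : p.Prime) {P : Subgroup G} (pP : IsPGrp p P) :
    IsCyclic P ↔ pRank p P ≤ 1 := odd_pgroup_rank1_cyclic hp pP (mFT_odd P)

theorem exists_p2Elem {p : ℕ} (hp : p.Prime) {P : Subgroup G} (pP : IsPGrp p P) (ncP : ¬ IsCyclic P) :
    ∃ A : Subgroup G, IsPnElem p 2 A P := by
  rw [cyclic_iff hp pP] at ncP
  exact (p_rank_geP hp).1 (by omega)

/-- The `p`-rank of `M` is at most two for `p ∉ σ(M)`. -/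
theorem sigma'_rank_le {p : ℕ} (hp : p.Prime) {M : Subgroup G} (maxM : IsCoatom M) (s'p : p ∉ sigma M) :
    pRank p M ≤ 2 := by
  by_contra h
  exact s'p (alpha_sub_sigma maxM (mem_alpha_iff.2 ⟨hp, by omega⟩))

theorem sigma'_grp_rank_le {M E : Subgroup G} (maxM : IsCoatom M) (sEM : E ≤ M)
    (s'E : IsPiGrp (sigma M)ᶜ E) : rank E ≤ 2 := by
  rw [rank_le_iff]
  intro q hq
  by_cases hd : q ∣ Nat.card E
  · exact (pRank_mono hq sEM).trans (sigma'_rank_le hq maxM (s'E q hq hd))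
  · rw [(pRank_eq_zero_iff hq).2 hd]; omega

section Exc

variable {p : ℕ} {M A₀ A : Subgroup G}

theorem exc_pA (excM : Exceptional p M A₀ A) : IsPGrp p A := excM.A_elem.pGrp excM.prime

theorem exc_rank (maxM : IsCoatom M) (excM : Exceptional p M A₀ A) : pRank p M = 2 :=
  sigma'_norm_mmax_rank2 maxM excM.prime excM.sigma' (excM.A₀_elem.pGrp excM.prime) excM.norm_le

theorem exc_maxA (maxM : IsCoatom M) (excM : Exceptional p M A₀ A) : IsPMaxElem p A ⊤ :=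
  sigma'_rank2_max maxM excM.prime excM.sigma' (exc_rank maxM excM) excM.A_elem

theorem exc_ntA (excM : Exceptional p M A₀ A) : A ≠ ⊥ :=
  excM.A_elem.ne_bot excM.prime (by omega)

theorem exc_centA (excM : Exceptional p M A₀ A) : 𝒞(A) ≤ M :=
  (cent_anti excM.A₀_le).trans ((cent_le_norm _).trans excM.norm_le)

/-- B & G, Lemma 11.1. -/
theorem exceptional_TIsigmaJ (maxM : IsCoatom M)
    (excM : Exceptional p M A₀ A) {q : ℕ} (hq : q.Prime) {Q₁ Q₂ : Subgroup G} {g : G}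
    (notMg : g ∉ M) (sAMg : A ≤ M :^ g)
    (sylQ₁ : IsSylowOf q Q₁ (sigmaCore M)) (nQ₁A : A ≤ 𝒩(Q₁))
    (sylQ₂ : IsSylowOf q Q₂ (sigmaCore M :^ g)) (nQ₂A : A ≤ 𝒩(Q₂)) :
    Q₁ ⊓ Q₂ = ⊥ ∧ ∀ X : Subgroup G, IsPnElem p 1 X A → Q₁ ⊓ 𝒞(X) = ⊥ ∨ Q₂ ⊓ 𝒞(X) = ⊥ := by
  have hp := excM.prime
  by_cases ntQ₁ : Q₁ = ⊥
  · subst ntQ₁
    exact ⟨bot_inf_eq _, fun X _ => Or.inl (bot_inf_eq _)⟩
  have sMq : q ∈ sigma M :=
    IsPGrp.mem_of_piGrp sylQ₁.pGrp ntQ₁ ((Msigma_pgroup M).of_le sylQ₁.le)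
  have sylQ₁M : IsSylowOf q Q₁ M := sylQ₁.trans_hall (Msigma_Hall maxM) sMq
  have sylQ₂' : IsSylowOf q (Q₂ :^ g⁻¹) M := by
    have := IsPiHallOf.conjg sylQ₂ g⁻¹
    rw [conjg_inv_cancel] at this
    exact IsSylowOf.trans_hall this (Msigma_Hall maxM) sMq
  have sylQ₂G : IsSylowOf q Q₂ ⊤ := by
    have := IsPiHallOf.conjg (sigma_Sylow_G sMq sylQ₂') g
    rwa [conjg_cancel_inv, conjg_top] at this
  have notJ : ∀ k ∈ piCoreOf (primesOf A)ᶜ 𝒞(A), Q₂ ≠ Q₁ :^ k := by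
    intro k hk e
    have kM : k ∈ M := exc_centA excM (pcore_le _ _ hk)
    have sQ₂M : Q₂ ≤ M := e ▸ conjg_le_of_mem sylQ₁M.le kM
    exact notMg (sigma_Sylow_trans sMq sylQ₂' (by rwa [conjg_cancel_inv]))
  have cstrA : NormedConstrained A :=
    plength_1_normed_constrained hp (exc_ntA excM) (exc_maxA maxM excM)
      fun L hL => mFT_proper_plength1 hp hL
  have q'A : q ∉ primesOf A := fun h => excM.sigma' (primesOf_pGrp (exc_pA excM) h ▸ sMq)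
  have maxQ₁ := sylow_max_normed (sigma_Sylow_G sMq sylQ₁M) nQ₁A
  have maxQ₂ := sylow_max_normed sylQ₂G nQ₂A
  constructor
  · by_contra nt
    obtain ⟨k, hk, e⟩ := normed_constrained_meet_trans cstrA hq q'A excM.A_elem.le maxM.1 maxQ₁ maxQ₂
      (by rwa [inf_eq_left.2 sylQ₁M.le])
      (ne_bot_mono (le_inf inf_le_right (inf_le_left.trans sylQ₁M.le)) nt)
    exact notJ k hk e
  · intro X EpX
    by_contra hc
    push Not at hc
    obtain ⟨k, hk, e⟩ := normed_constrained_meet_trans cstrA hq q'A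
      ((abelian_iff_le_cent.1 excM.A_elem.abelian).trans (cent_anti EpX.le))
      (mFT_cent_proper (EpX.ne_bot hp one_pos)) maxQ₁ maxQ₂ hc.1 hc.2
    exact notJ k hk e

/-- B & G, Corollary 11.2. -/
theorem exceptional_TI_MsigmaJ (maxM : IsCoatom M)
    (excM : Exceptional p M A₀ A) {g : G} (notMg : g ∉ M) (sAMg : A ≤ M :^ g) :
    sigmaCore M ⊓ M :^ g = ⊥ ∧ sigmaCore M ⊓ 𝒞(A₀ :^ g) = ⊥ := by
  suffices h : sigmaCore M ⊓ M :^ g = ⊥ by
    refine ⟨h, eq_bot_of_le (inf_le_inf_left _ ?_) h⟩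
    rw [← conjg_cent]
    exact conjg_mono g ((cent_le_norm _).trans excM.norm_le)
  by_contra ntH
  obtain ⟨q, hq, hqH⟩ := exists_prime_dvd_card ntH
  have nMsA : A ≤ 𝒩(sigmaCore M) := excM.A_elem.le.trans (Msigma_norm M)
  have sHMsg : sigmaCore M ⊓ M :^ g ≤ sigmaCore M :^ g := by
    rw [← MsigmaJ]
    refine sub_Msigma (isCoatom_conjg.2 maxM) inf_le_right ?_
    rw [sigmaJ]
    exact (Msigma_pgroup M).inf_left _
  have nHA : A ≤ 𝒩(sigmaCore M ⊓ M :^ g) := norm_inf nMsA (norm_of_le sAMg)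
  have nMsgA : A ≤ 𝒩(sigmaCore M :^ g) :=
    sAMg.trans (conjg_le_norm_iff.2 (Msigma_norm M))
  have coMsA := cop_Msigma_pGrp excM.sigma' (exc_pA excM)
  have solA : Group.IsSolvable A := sol_of_abelian excM.A_elem.abelian
  obtain ⟨Q₀, sylQ₀, nQ₀A⟩ := sol_coprime_Sylow_exists hq (Or.inr solA) nHA (cop_left coMsA inf_le_left)
  obtain ⟨Q₁, sylQ₁, nQ₁A, s01⟩ := sol_coprime_Sylow_subset hq (Or.inr solA) nMsA coMsA
    (sylQ₀.le.trans inf_le_left) sylQ₀.pGrp nQ₀A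
  obtain ⟨Q₂, sylQ₂, nQ₂A, s02⟩ := sol_coprime_Sylow_subset hq (Or.inr solA) nMsgA
    (by rwa [card_conjg]) (sylQ₀.le.trans sHMsg) sylQ₀.pGrp nQ₀A
  have ti := (exceptional_TIsigmaJ maxM excM hq notMg sAMg sylQ₁ nQ₁A sylQ₂ nQ₂A).1
  exact sylQ₀.ne_bot' hq hqH (eq_bot_of_le (le_inf s01 s02) ti)

theorem exc_exists_norm (excM : Exceptional p M A₀ A) {P : Subgroup G} (sylP : IsSylowOf p P M)
    (sAP : A ≤ P) : ∃ g ∈ 𝒩(P), g ∉ M := by
  have := not_norm_le_of_sigma' excM.prime excM.sigma' sylP (ne_bot_mono sAP (exc_ntA excM))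
  by_contra hc
  push Not at hc
  exact this hc

theorem le_conjg_of_norm {P : Subgroup G} (sAP : A ≤ P) (sPM : P ≤ M) {g : G} (hg : g ∈ 𝒩(P)) :
    A ≤ M :^ g := by
  refine sAP.trans ?_
  have := conjg_mono g sPM
  rwa [conjg_of_mem_norm hg] at this

/-- B & G, Theorem 11.3. -/
theorem exceptional_sigma_nil (maxM : IsCoatom M)
    (excM : Exceptional p M A₀ A) : Group.IsNilpotent (sigmaCore M) := by
  obtain ⟨P, sylP, sAP⟩ := sylow_superset excM.prime (exc_pA excM) excM.A_elem.le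
  obtain ⟨g, nPg, notMg⟩ := exc_exists_norm excM sylP sAP
  have sA₀g : A₀ :^ g ≤ M := (conjg_le_of_mem_norm (excM.A₀_le.trans sAP) nPg).trans sylP.le
  have reg := (exceptional_TI_MsigmaJ maxM excM notMg (le_conjg_of_norm sAP sylP.le nPg)).2
  refine prime_regular_sol_nil (sA₀g.trans (Msigma_norm M)) (sol_of_le (mmax_sol maxM) (Msigma_le M))
    ?_ reg
  rw [card_conjg]
  exact excM.A₀_elem.card_prime excM.prime

/-- B & G, Corollary 11.4. -/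
theorem exceptional_sigma_uniq (maxM : IsCoatom M)
    (excM : Exceptional p M A₀ A) {H : Subgroup G} (maxH : IsCoatom H) (sAH : A ≤ H)
    (ntHM : sigmaCore H ⊓ sigmaCore M ≠ ⊥) : H = M := by
  by_cases hJ : ∀ g, H ≠ M :^ g
  · have := ((sigma_disjoint maxM maxH hJ).2.2 (exceptional_sigma_nil maxM excM)).1
    rw [inf_comm] at this
    exact absurd this ntHM
  push Not at hJ
  obtain ⟨g, rfl⟩ := hJ
  by_cases hg : g ∈ M
  · exact conjg_of_mem hg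
  have := (exceptional_TI_MsigmaJ maxM excM hg sAH).1
  exact absurd (eq_bot_of_le (le_inf inf_le_right (inf_le_left.trans (Msigma_le _))) this) ntHM

/-- B & G, Theorem 11.5. -/
theorem exceptional_Sylow_abelian (maxM : IsCoatom M)
    (excM : Exceptional p M A₀ A) {P : Subgroup G} (sylP : IsSylowOf p P M) :
    IsMulCommutative P := by
  have hp := excM.prime
  suffices h : ∀ P : Subgroup G, IsSylowOf p P M → A ≤ P → IsMulCommutative P by
    obtain ⟨P₁, sylP₁, sAP₁⟩ := sylow_superset hp (exc_pA excM) excM.A_elem.le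
    obtain ⟨x, -, rfl⟩ := sylow_trans hp sylP₁ sylP
    exact abelian_conjg.2 (h P₁ sylP₁ sAP₁)
  clear sylP P
  intro P sylP sAP
  by_contra nabP
  obtain ⟨g, nPg, notMg⟩ := exc_exists_norm excM sylP sAP
  obtain ⟨q, hq, hqMs⟩ := exists_prime_dvd_card (Msigma_neq1 maxM)
  have nMsP : P ≤ 𝒩(sigmaCore M) := sylP.le.trans (Msigma_norm M)
  have coMsP := cop_Msigma_pGrp excM.sigma' sylP.pGrp
  obtain ⟨Q₁, sylQ₁, nQ₁P⟩ := sol_coprime_Sylow_exists hq (Or.inr (IsPGrp.sol sylP.pGrp)) nMsP coMsP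
  have ntQ₁ : Q₁ ≠ ⊥ := sylQ₁.ne_bot' hq hqMs
  have coQ₁A : (Nat.card Q₁).Coprime (Nat.card A) := cop_right (cop_left coMsP sylQ₁.le) sAP
  have nQ₂P : P ≤ 𝒩(Q₁ :^ g) := by
    have := conjg_le_norm_iff (g := g).2 nQ₁P
    rwa [conjg_of_mem_norm nPg] at this
  obtain ⟨X₁, EpX₁, nreg₁⟩ := exists_p1Elem_cent_ne_bot hp excM.A_elem ntQ₁ (sAP.trans nQ₁P) coQ₁A
  obtain ⟨X₂, EpX₂, nreg₂⟩ := exists_p1Elem_cent_ne_bot hp excM.A_elem
    (fun h => ntQ₁ (conjg_eq_bot.1 h)) (sAP.trans nQ₂P) (by rwa [card_conjg])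
  have regA := (exceptional_TIsigmaJ maxM excM hq notMg (le_conjg_of_norm sAP sylP.le nPg) sylQ₁
    (sAP.trans nQ₁P) (IsPiHallOf.conjg sylQ₁ g) (sAP.trans nQ₂P)).2
  obtain ⟨EpZ, hstr⟩ := basic_p2maxElem_structure hp (excM.A_elem.mono le_top) (exc_maxA maxM excM)
    sylP.pGrp sAP nabP
  have nZg : ohm1 p 𝒵(P) :^ g = ohm1 p 𝒵(P) :=
    conjg_of_mem_norm (((charIn_ohm1 p _).trans (charIn_center P)).norm_le nPg)
  have hZ : Q₁ :^ g ⊓ 𝒞(ohm1 p 𝒵(P)) = ⊥ ↔ Q₁ ⊓ 𝒞(ohm1 p 𝒵(P)) = ⊥ := by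
    rw [← inf_cent_conjg_eq_bot (H := Q₁) (g := g), nZg]
  have reg₁ : Q₁ ⊓ 𝒞(ohm1 p 𝒵(P)) = ⊥ := (regA _ EpZ).elim id hZ.1
  have ne₁ : X₁ ≠ ohm1 p 𝒵(P) := fun e => nreg₁ (e ▸ reg₁)
  have ne₂ : X₂ ≠ ohm1 p 𝒵(P) := fun e => nreg₂ (e ▸ hZ.2 reg₁)
  obtain ⟨k, hk, e⟩ := (hstr X₁ EpX₁ ne₁).2.2 X₁ ⟨EpX₁, ne₁⟩ X₂ ⟨EpX₂, ne₂⟩
  rcases regA X₂ EpX₂ with h | h
  · apply nreg₁
    rw [← inf_cent_conjg_eq_bot (g := k), conjg_of_mem_norm (nQ₁P hk.1), ← e]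
    exact h
  · exact nreg₂ h

/-- B & G, Corollary 11.6. -/
theorem exceptional_structure (maxM : IsCoatom M)
    (excM : Exceptional p M A₀ A) {P : Subgroup G} (sylP : IsSylowOf p P M) (sAP : A ≤ P) :
    A = ohm1 p P ∧ sigmaCore M ⊓ 𝒞(A) = ⊥ ∧
    ∃ A₁ A₂ : Subgroup G, IsPnElem p 1 A₁ A ∧ IsPnElem p 1 A₂ A ∧ A₁ ≠ A₂ ∧
      sigmaCore M ⊓ 𝒞(A₁) = ⊥ ∧ sigmaCore M ⊓ 𝒞(A₂) = ⊥ := by
  have hp := excM.prime
  have defA : ohm1 p P = A :=
    (excM.A_elem.of_le sAP).eq_ohm1_of_abelian hp (exceptional_Sylow_abelian maxM excM sylP)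
      (by rw [p_rank_Sylow hp sylP, exc_rank maxM excM])
  obtain ⟨g, nPg, notMg⟩ := exc_exists_norm excM sylP sAP
  have nAg : g ∈ 𝒩(A) := defA ▸ (charIn_ohm1 p P).norm_le nPg
  have EpA₀ : IsPnElem p 1 A₀ A := excM.A₀_elem.of_le excM.A₀_le
  have key : ∀ h ∈ 𝒩(P), h ∉ M → IsPnElem p 1 (A₀ :^ h) A ∧ sigmaCore M ⊓ 𝒞(A₀ :^ h) = ⊥ := by
    intro h nPh notMh
    have nAh : h ∈ 𝒩(A) := defA ▸ (charIn_ohm1 p P).norm_le nPh
    exact ⟨EpA₀.conjg_of_le (conjg_le_of_mem_norm excM.A₀_le nAh),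
      (exceptional_TI_MsigmaJ maxM excM notMh (le_conjg_of_norm sAP sylP.le nPh)).2⟩
  obtain ⟨E1, r1⟩ := key g nPg notMg
  obtain ⟨E2, r2⟩ := key g⁻¹ (Subgroup.inv_mem _ nPg) (fun h => notMg (by simpa using h))
  refine ⟨defA.symm, eq_bot_of_le (inf_le_inf_left _ (cent_anti E1.le)) r1, _, _, E1, E2, ?_, r1, r2⟩
  intro e
  rw [conjg_eq_conjg_iff, inv_inv] at e
  exact notMg (mem_of_sq_mem mFT_odd_top (excM.norm_le e))

/-- B & G, Theorem 11.7. -/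
theorem exceptional_mul_sigma_normal (maxM : IsCoatom M)
    (excM : Exceptional p M A₀ A) : sigmaCore M ⊔ A ⊲ M := by
  have hp := excM.prime
  have pA := exc_pA excM
  have solM := mmax_sol maxM
  obtain ⟨P, sylP, sAP⟩ := sylow_superset hp pA excM.A_elem.le
  obtain ⟨E, hallE, sPE⟩ := Hall_superset (π := (sigma M)ᶜ) solM sylP.le (sylP.pGrp.piGrp excM.sigma')
  have sAE := sAP.trans sPE
  have solE := sol_of_le solM hallE.le
  have rFE : rank (fittingOf E) ≤ 2 :=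
    (rank_mono (fitting_le E)).trans (sigma'_grp_rank_le maxM hallE.le hallE.piGrp)
  obtain ⟨defA, regA, A₁, A₂, EpA₁, EpA₂, neA, regA₁, regA₂⟩ := exceptional_structure maxM excM sylP sAP
  set K := piCoreOf {q | p + 1 ≤ q} E with hK
  have hallK : IsPiHallOf {q | p + 1 ≤ q} K E := rank2_ge_pcore_Hall (p + 1) (mFT_odd E) solE rFE
  have nKE : E ≤ 𝒩(K) := pcore_norm _ _
  have p'K : IsPiGrp {p}ᶜ K := hallK.piGrp.mono fun q hq e => by
    simp only [Set.mem_setOf_eq] at hq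
    rw [Set.mem_singleton_iff] at e
    omega
  have coKA : (Nat.card K).Coprime (Nat.card A) := PiNat.coprime' p'K pA
  have sylPE : IsSylowOf p P E := IsPiHallOf.of_le sylP sPE hallE.le
  suffices cKA : A ≤ 𝒞(K) by
    have hallKP : IsPiHallOf {q | p ≤ q} (K ⊔ P) E := by
      have := hallK.sup sylPE (Or.inr (sPE.trans nKE))
      refine (pHall_congr fun q _ _ => ?_).1 this
      simp only [Set.mem_union, Set.mem_setOf_eq, Set.mem_singleton_iff]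
      omega
    have nKPE : E ≤ 𝒩(K ⊔ P) := by
      rw [hallKP.eq_pcore (rank2_ge_pcore_Hall p (mFT_odd E) solE rFE)]
      exact pcore_norm _ _
    have nAKP : K ⊔ P ≤ 𝒩(A) := sup_le (norm_of_cent' cKA) (defA ▸ (ohm1_normal p P).2)
    have defA' : ohm1 p (pCoreOf p (K ⊔ P)) = A := by
      apply le_antisymm
      · rw [defA]
        exact ohm1_mono p (IsPiHallOf.pcore_le (IsPiHallOf.of_le sylPE le_sup_right hallKP.le))
      · exact abelem_le_ohm1 excM.A_elem.abelem (pcore_max ⟨sAP.trans le_sup_right, nAKP⟩ pA)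
    have nAE : E ≤ 𝒩(A) := defA' ▸ norm_ohm1 p (norm_pcore _ nKPE)
    refine ⟨sup_le (Msigma_le M) excM.A_elem.le, ?_⟩
    conv_lhs => rw [← (Msigma_Hall maxM).sup_compl hallE]
    exact sup_le (norm_of_le le_sup_left) (norm_sup (hallE.le.trans (Msigma_norm M)) nAE)
  by_contra ncKA
  have hlt : ¬ K ≤ 𝒞(A) := fun h => ncKA (le_cent_symm h)
  have hne : (𝒞(A)).relIndex K ≠ 1 := fun h => hlt (Subgroup.relIndex_eq_one.1 h)
  obtain ⟨q, hq, hqK⟩ := Nat.exists_prime_and_dvd hne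
  obtain ⟨Q, sylQ, nQA⟩ := sol_coprime_Sylow_exists hq (Or.inr (IsPGrp.sol pA)) (sAE.trans nKE) coKA
  have ncQA : ¬ A ≤ 𝒞(Q) := by
    intro h
    apply sylQ.not_dvd_index hq
    have h1 : Q ≤ 𝒞(A) ⊓ K := le_inf (le_cent_symm h) sylQ.le
    rw [← Subgroup.inf_relIndex_right] at hqK
    exact hqK.trans (Subgroup.relIndex_dvd_of_le_left K h1)
  have ntQ : Q ≠ ⊥ := by
    rintro rfl
    exact ncQA (by rw [cent_bot]; exact le_top)
  have qK : q ∣ Nat.card K := dvd_of_le (IsPGrp.dvd_card sylQ.pGrp ntQ) sylQ.le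
  have s'q : q ∉ sigma M := hallE.piGrp q hq (dvd_of_le qK hallK.le)
  have tq : q ∈ {q | p + 1 ≤ q} := hallK.piGrp q hq qK
  have sylQM : IsSylowOf q Q M := (sylQ.trans_hall hallK tq).trans_hall hallE s'q
  have neqp : p ≠ q := by
    simp only [Set.mem_setOf_eq] at tq
    omega
  have coQA : (Nat.card Q).Coprime (Nat.card A) := cop_left coKA sylQ.le
  have nZA : A ≤ 𝒩(𝒵(Q)) := (charIn_center Q).norm nQA
  by_cases regZ : 𝒵(Q) ⊓ 𝒞(A) = ⊥
  · -- `Z(Q) = [Z(Q), A₁] [Z(Q), A₂]` is normal in `M`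
    have cZ : IsMulCommutative ↥𝒵(Q) := abelian_inf_cent Q
    have sZM : 𝒵(Q) ≤ M := inf_le_left.trans sylQM.le
    have qZ : IsPGrp q 𝒵(Q) := sylQ.pGrp.inf_left _
    have ns : ∀ X : Subgroup G, IsPnElem p 1 X A → sigmaCore M ⊓ 𝒞(X) = ⊥ → ⁅𝒵(Q), X⁆ ⊲ M :=
      fun X EpX regX => (commG_sigma'_1Elem_cyclic maxM sZM (qZ.piGrp s'q) hp
        (qZ.piGrp (fun e => neqp (Set.mem_singleton_iff.1 e).symm)) excM.sigma'
        (EpX.of_le (le_inf (EpX.le.trans excM.A_elem.le) (EpX.le.trans nZA))) regX cZ).2.2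
    have defZ : ⁅𝒵(Q), A⁆ = 𝒵(Q) := by
      have := (coprime_abelian_cent_dprod nZA (cop_left coQA inf_le_left) cZ).sup_eq
      rwa [regZ, sup_bot_eq] at this
    have nsX := (ns A₁ EpA₁ regA₁).sup (ns A₂ EpA₂ regA₂)
    have defZ' : 𝒵(Q) = ⁅𝒵(Q), A₁⁆ ⊔ ⁅𝒵(Q), A₂⁆ := by
      apply le_antisymm
      · conv_lhs => rw [← defZ, ← (p2Elem_dprod hp excM.A_elem EpA₁ EpA₂ neA).sup_eq]
        exact comm_sup_right_le ((EpA₁.le.trans excM.A_elem.le).trans nsX.2)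
          ((EpA₂.le.trans excM.A_elem.le).trans nsX.2) le_sup_left le_sup_right
      · exact sup_le (comm_le_left (EpA₁.le.trans nZA)) (comm_le_left (EpA₂.le.trans nZA))
    rw [← defZ'] at nsX
    have := mmax_normal maxM nsX (center_nil_ne_bot (IsPGrp.nil sylQ.pGrp) ntQ)
    exact not_norm_le_of_sigma' hq s'q sylQM ntQ (this ▸ (charIn_center Q).norm_le)
  · have ncQ : ¬ IsCyclic Q := by
      intro cycQ
      apply ncQA
      refine coprime_odd_faithful_Ohm1 sylQ.pGrp nQA coQA (mFT_odd Q) (le_cent_symm ?_)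
      exact (ohm1_le_of_cyclic sylQ.pGrp cycQ (inf_le_left.trans inf_le_left) regZ).trans inf_le_right
    obtain ⟨B, EqB⟩ := exists_p2Elem hq sylQ.pGrp ncQ
    have rq : pRank q M = 2 :=
      le_antisymm (sigma'_rank_le hq maxM s'q) ((EqB.mono sylQM.le).le_pRank hq)
    have maxB := sigma'_rank2_max maxM hq s'q rq (EqB.mono sylQM.le)
    have qC : q ∣ Nat.card 𝒞(A) :=
      dvd_of_le (IsPGrp.dvd_card ((sylQ.pGrp.inf_left _).inf_left _) regZ) inf_le_right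
    obtain ⟨Qs, maxQs, sQQs⟩ := max_normed_exists sylQ.pGrp nQA
    obtain ⟨Pm, -, sAPm, -, -, cQs⟩ := max_normed_2Elem_signaliser hp hq neqp
      (excM.A_elem.mono le_top) (exc_maxA maxM excM) maxQs qC
    exact ncQA (sAPm.trans ((cQs (narrow_of_pmaxElem EqB maxB (EqB.le.trans sQQs))).trans
      (cent_anti sQQs)))

end Exc

end CA.BG.P11
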