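/-
Interface: B & G section 11 (exceptional maximal subgroups).
-/
import Cfsg.Agent.BG.P11

set_option autoImplicit false

namespace CA.BG

open Cfsg CA.FG

universe u

variable {G : Type u} [Group G] [MinSimpleOdd G]

/-- B & G, Lemma 11.1. -/
theorem exceptional_TIsigmaJ {p : ℕ} {M A₀ A : Subgroup G} (maxM : IsCoatom M)
    (excM : Exceptional p M A₀ A) {q : ℕ} (hq : q.Prime) {Q₁ Q₂ : Subgroup G} {g : G}
    (notMg : g ∉ M) (sAMg : A ≤ M :^ g)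
    (sylQ₁ : IsSylowOf q Q₁ (sigmaCore M)) (nQ₁A : A ≤ 𝒩(Q₁))
    (sylQ₂ : IsSylowOf q Q₂ (sigmaCore M :^ g)) (nQ₂A : A ≤ 𝒩(Q₂)) :
    Q₁ ⊓ Q₂ = ⊥ ∧ ∀ X : Subgroup G, IsPnElem p 1 X A → Q₁ ⊓ 𝒞(X) = ⊥ ∨ Q₂ ⊓ 𝒞(X) = ⊥ :=
  P11.exceptional_TIsigmaJ maxM excM hq notMg sAMg sylQ₁ nQ₁A sylQ₂ nQ₂A

/-- B & G, Corollary 11.2. -/
theorem exceptional_TI_MsigmaJ {p : ℕ} {M A₀ A : Subgroup G} (maxM : IsCoatom M)
    (excM : Exceptional p M A₀ A) {g : G} (notMg : g ∉ M) (sAMg : A ≤ M :^ g) :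
    sigmaCore M ⊓ M :^ g = ⊥ ∧ sigmaCore M ⊓ 𝒞(A₀ :^ g) = ⊥ :=
  P11.exceptional_TI_MsigmaJ maxM excM notMg sAMg

/-- B & G, Theorem 11.3. -/
theorem exceptional_sigma_nil {p : ℕ} {M A₀ A : Subgroup G} (maxM : IsCoatom M)
    (excM : Exceptional p M A₀ A) : Group.IsNilpotent (sigmaCore M) :=
  P11.exceptional_sigma_nil maxM excM

/-- B & G, Corollary 11.4. -/
theorem exceptional_sigma_uniq {p : ℕ} {M A₀ A : Subgroup G} (maxM : IsCoatom M)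
    (excM : Exceptional p M A₀ A) {H : Subgroup G} (maxH : IsCoatom H) (sAH : A ≤ H)
    (ntHM : sigmaCore H ⊓ sigmaCore M ≠ ⊥) : H = M :=
  P11.exceptional_sigma_uniq maxM excM maxH sAH ntHM

/-- B & G, Theorem 11.5. -/
theorem exceptional_Sylow_abelian {p : ℕ} {M A₀ A : Subgroup G} (maxM : IsCoatom M)
    (excM : Exceptional p M A₀ A) {P : Subgroup G} (sylP : IsSylowOf p P M) :
    IsMulCommutative P :=
  P11.exceptional_Sylow_abelian maxM excM sylP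

/-- B & G, Corollary 11.6. -/
theorem exceptional_structure {p : ℕ} {M A₀ A : Subgroup G} (maxM : IsCoatom M)
    (excM : Exceptional p M A₀ A) {P : Subgroup G} (sylP : IsSylowOf p P M) (sAP : A ≤ P) :
    A = ohm1 p P ∧ sigmaCore M ⊓ 𝒞(A) = ⊥ ∧
    ∃ A₁ A₂ : Subgroup G, IsPnElem p 1 A₁ A ∧ IsPnElem p 1 A₂ A ∧ A₁ ≠ A₂ ∧
      sigmaCore M ⊓ 𝒞(A₁) = ⊥ ∧ sigmaCore M ⊓ 𝒞(A₂) = ⊥ :=
  P11.exceptional_structure maxM excM sylP sAP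

/-- B & G, Theorem 11.7. -/
theorem exceptional_mul_sigma_normal {p : ℕ} {M A₀ A : Subgroup G} (maxM : IsCoatom M)
    (excM : Exceptional p M A₀ A) : sigmaCore M ⊔ A ⊲ M :=
  P11.exceptional_mul_sigma_normal maxM excM

end CA.BG
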