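/-
B & G section 12, part a: the sets `τᵢ(M)`, complements, Lemmas 12.1 - 12.3, Proposition 12.4.
-/
import Cfsg.Agent.BG.I11

set_option autoImplicit false
set_option linter.unusedSectionVars false
set_option linter.unusedVariables false

namespace CA.BG.P12

open Cfsg CA.FG CA.BG.P11

universe u

variable {G : Type u} [Group G] [MinSimpleOdd G]

theorem p'_of_not_mem {π : Set ℕ} {p n : ℕ} (h : PiNat π n) (hp : p ∉ π) : PiNat {p}ᶜ n :=
  h.mono fun q hq (e : q = p) => hp (e ▸ hq)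

theorem p'_of_ne {p q n : ℕ} (h : PiNat {q} n) (hne : p ≠ q) : PiNat {p}ᶜ n :=
  p'_of_not_mem h hne

theorem mem_tau1_iff {M : Subgroup G} {p : ℕ} :
    p ∈ tau1 M ↔ p.Prime ∧ p ∉ sigma M ∧ pRank p M = 1 ∧ ¬ p ∣ Nat.card ↥⁅M, M⁆ := by
  constructor
  · rintro ⟨hp, s'p, hd, hd', hr⟩
    have h1 := (pRank_le_iff_PRankLE hp).2 hr
    have h2 := (pRank_pos_iff hp).2 hd
    exact ⟨hp, s'p, by omega, hd'⟩
  · rintro ⟨hp, s'p, hr, hd'⟩
    exact ⟨hp, s'p, (pRank_pos_iff hp).1 (by omega), hd', (pRank_le_iff_PRankLE hp).1 hr.le⟩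

theorem mem_tau2_iff {M : Subgroup G} {p : ℕ} :
    p ∈ tau2 M ↔ p.Prime ∧ p ∉ sigma M ∧ pRank p M = 2 := by
  constructor
  · rintro ⟨hp, s'p, h2, h1⟩
    have h3 := (pRank_le_iff_PRankLE hp).2 h2
    have h4 := (not_PRankLE_iff hp).1 h1
    exact ⟨hp, s'p, by omega⟩
  · rintro ⟨hp, s'p, hr⟩
    exact ⟨hp, s'p, (pRank_le_iff_PRankLE hp).1 hr.le, (not_PRankLE_iff hp).2 (by omega)⟩

theorem mem_tau3_iff {M : Subgroup G} {p : ℕ} :
    p ∈ tau3 M ↔ p.Prime ∧ p ∉ sigma M ∧ pRank p M = 1 ∧ p ∣ Nat.card ↥⁅M, M⁆ := by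
  constructor
  · rintro ⟨hp, s'p, hd, hr⟩
    have h1 := (pRank_le_iff_PRankLE hp).2 hr
    have h2 := (pRank_pos_iff hp).2 (dvd_of_le hd (der_le M))
    exact ⟨hp, s'p, by omega, hd⟩
  · rintro ⟨hp, s'p, hr, hd'⟩
    exact ⟨hp, s'p, hd', (pRank_le_iff_PRankLE hp).1 hr.le⟩

theorem tau1J (M : Subgroup G) (g : G) : tau1 (M :^ g) = tau1 M := by
  ext p
  rw [mem_tau1_iff, mem_tau1_iff, sigmaJ, pRank_conjg, ← conjg_comm, card_conjg]

theorem tau2J (M : Subgroup G) (g : G) : tau2 (M :^ g) = tau2 M := by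
  ext p
  rw [mem_tau2_iff, mem_tau2_iff, sigmaJ, pRank_conjg]

theorem tau3J (M : Subgroup G) (g : G) : tau3 (M :^ g) = tau3 M := by
  ext p
  rw [mem_tau3_iff, mem_tau3_iff, sigmaJ, pRank_conjg, ← conjg_comm, card_conjg]

theorem tau2'1 {M : Subgroup G} {p : ℕ} (h : p ∈ tau1 M) : p ∉ tau2 M := fun h' => by
  have := (mem_tau1_iff.1 h).2.2.1
  have := (mem_tau2_iff.1 h').2.2
  omega

theorem tau3'1 {M : Subgroup G} {p : ℕ} (h : p ∈ tau1 M) : p ∉ tau3 M := fun h' =>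
  (mem_tau1_iff.1 h).2.2.2 (mem_tau3_iff.1 h').2.2.2

theorem tau3'2 {M : Subgroup G} {p : ℕ} (h : p ∈ tau2 M) : p ∉ tau3 M := fun h' => by
  have := (mem_tau3_iff.1 h').2.2.1
  have := (mem_tau2_iff.1 h).2.2
  omega

theorem partition_pi_mmax {M : Subgroup G} (maxM : IsCoatom M) {p : ℕ} :
    p ∈ primesOf M ↔ p ∈ tau1 M ∨ p ∈ tau2 M ∨ p ∈ tau3 M ∨ p ∈ sigma M := by
  constructor
  · rintro ⟨hp, hd⟩
    by_cases sp : p ∈ sigma M
    · exact Or.inr (Or.inr (Or.inr sp))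
    have h1 := (pRank_pos_iff hp).2 hd
    have h2 := sigma'_rank_le hp maxM sp
    by_cases h3 : pRank p M = 2
    · exact Or.inr (Or.inl (mem_tau2_iff.2 ⟨hp, sp, h3⟩))
    by_cases h4 : p ∣ Nat.card ↥⁅M, M⁆
    · exact Or.inr (Or.inr (Or.inl (mem_tau3_iff.2 ⟨hp, sp, by omega, h4⟩)))
    · exact Or.inl (mem_tau1_iff.2 ⟨hp, sp, by omega, h4⟩)
  · rintro (h | h | h | h)
    · exact ⟨h.1, h.2.2.1⟩
    · obtain ⟨hp, -, hr⟩ := mem_tau2_iff.1 h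
      exact ⟨hp, (pRank_pos_iff hp).1 (by omega)⟩
    · exact ⟨h.1, dvd_of_le h.2.2.1 (der_le M)⟩
    · exact ⟨sigma_prime h, sigma_dvd h⟩

theorem partition_pi_sigma_compl {M E : Subgroup G} (maxM : IsCoatom M)
    (hallE : IsPiHallOf (sigma M)ᶜ E M) {p : ℕ} :
    p ∈ primesOf E ↔ p ∈ tau1 M ∨ p ∈ tau2 M ∨ p ∈ tau3 M := by
  constructor
  · rintro ⟨hp, hd⟩
    have s'p : p ∉ sigma M := hallE.piGrp p hp hd
    rcases (partition_pi_mmax maxM).1 ⟨hp, dvd_of_le hd hallE.le⟩ with h | h | h | h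
    · exact Or.inl h
    · exact Or.inr (Or.inl h)
    · exact Or.inr (Or.inr h)
    · exact absurd h s'p
  · intro h
    have s'p : p ∉ sigma M := by
      rcases h with h | h | h
      exacts [h.2.1, h.2.1, h.2.1]
    obtain ⟨hp, hd⟩ : p ∈ primesOf M := (partition_pi_mmax maxM).2 (by tauto)
    exact ⟨hp, (hallE.dvd_card_iff hp s'p).2 hd⟩

/-- A `σ(M)'`-subgroup of `M` is a `τ₁ ∪ τ₂ ∪ τ₃`-group. -/
theorem tau123 {M E : Subgroup G} (maxM : IsCoatom M) (sEM : E ≤ M) (s'E : IsPiGrp (sigma M)ᶜ E)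
    {p : ℕ} (hp : p.Prime) (hd : p ∣ Nat.card E) : p ∈ tau1 M ∨ p ∈ tau2 M ∨ p ∈ tau3 M := by
  rcases (partition_pi_mmax maxM).1 ⟨hp, dvd_of_le hd sEM⟩ with h | h | h | h
  · exact Or.inl h
  · exact Or.inr (Or.inl h)
  · exact Or.inr (Or.inr h)
  · exact absurd h (s'E p hp hd)

theorem ex_sigma_compl {M F : Subgroup G} (maxM : IsCoatom M) (sFM : F ≤ M)
    (s'F : IsPiGrp (sigma M)ᶜ F) : ∃ E : Subgroup G, IsPiHallOf (sigma M)ᶜ E M ∧ F ≤ E :=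
  Hall_superset (mmax_sol maxM) sFM s'F

theorem sdprod_sigma {M E : Subgroup G} (maxM : IsCoatom M) (hallE : IsPiHallOf (sigma M)ᶜ E M) :
    SDProd (sigmaCore M) E M := (Msigma_Hall maxM).sdprod (Msigma_norm M) hallE

theorem sigma_compl_hall_iff {M E : Subgroup G} (maxM : IsCoatom M) :
    IsComplIn E (sigmaCore M) M ↔ IsPiHallOf (sigma M)ᶜ E M :=
  ⟨fun h => h.symm.pHall_compl (Msigma_Hall maxM), fun h => ((Msigma_Hall maxM).complIn h).symm⟩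

theorem coprime_sigma_compl {M E : Subgroup G} (hallE : IsPiHallOf (sigma M)ᶜ E M) :
    (Nat.card (sigmaCore M)).Coprime (Nat.card E) := cop_Msigma hallE.piGrp

theorem der_mmax_lt {M : Subgroup G} (maxM : IsCoatom M) : ⁅M, M⁆ < M :=
  der_lt_of_sol (mmax_sol maxM) (mmax_neq1 maxM)

theorem sigma_compl_neq1 {M E : Subgroup G} (maxM : IsCoatom M) (hallE : IsPiHallOf (sigma M)ᶜ E M) :
    E ≠ ⊥ := by
  rintro rfl
  have := (sdprod_sigma maxM hallE).sup_eq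
  rw [sup_bot_eq] at this
  exact (der_mmax_lt maxM).not_ge (this.ge.trans (Msigma_der1 maxM))

theorem der1_sdprod_sigma {M E : Subgroup G} (maxM : IsCoatom M) (hallE : IsPiHallOf (sigma M)ᶜ E M) :
    SDProd (sigmaCore M) ⁅E, E⁆ ⁅M, M⁆ := by
  have defM := sdprod_sigma maxM hallE
  refine sdprod_mk ((der_le E).trans defM.norm) ?_
    (eq_bot_of_le (inf_le_inf_left _ (der_le E)) defM.inf_eq)
  apply le_antisymm (sup_le (Msigma_der1 maxM) (der_mono hallE.le))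
  conv_lhs => rw [← defM.sup_eq, comm_sup_self defM.norm]
  exact sup_le (sup_le ((der_le _).trans le_sup_left) ((comm_le_left defM.norm).trans le_sup_left))
    le_sup_right

theorem dvd_der_iff {M E : Subgroup G} (maxM : IsCoatom M) (hallE : IsPiHallOf (sigma M)ᶜ E M) {p : ℕ}
    (hp : p.Prime) (s'p : p ∉ sigma M) : p ∣ Nat.card ↥⁅M, M⁆ ↔ p ∣ Nat.card ↥⁅E, E⁆ := by
  rw [← (der1_sdprod_sigma maxM hallE).card_mul, hp.dvd_mul]
  exact ⟨fun h => h.elim (fun h => absurd (Msigma_pgroup M p hp h) s'p) id, Or.inr⟩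

theorem sigma'_of_rank {M E : Subgroup G} (hallE : IsPiHallOf (sigma M)ᶜ E M) {p : ℕ} (hp : p.Prime)
    (h : 0 < pRank p E) : p ∉ sigma M := hallE.piGrp p hp ((pRank_pos_iff hp).1 h)

theorem tau1E {M E : Subgroup G} (maxM : IsCoatom M) (hallE : IsPiHallOf (sigma M)ᶜ E M) {p : ℕ} :
    p ∈ tau1 M ↔ p.Prime ∧ pRank p E = 1 ∧ ¬ p ∣ Nat.card ↥⁅E, E⁆ := by
  rw [mem_tau1_iff]
  constructor
  · rintro ⟨hp, s'p, hr, hd⟩
    exact ⟨hp, by rwa [p_rank_Hall hp hallE s'p], by rwa [← dvd_der_iff maxM hallE hp s'p]⟩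
  · rintro ⟨hp, hr, hd⟩
    have s'p := sigma'_of_rank hallE hp (by omega)
    exact ⟨hp, s'p, by rwa [← p_rank_Hall hp hallE s'p], by rwa [dvd_der_iff maxM hallE hp s'p]⟩

theorem tau2E {M E : Subgroup G} (hallE : IsPiHallOf (sigma M)ᶜ E M) {p : ℕ} :
    p ∈ tau2 M ↔ p.Prime ∧ pRank p E = 2 := by
  rw [mem_tau2_iff]
  constructor
  · rintro ⟨hp, s'p, hr⟩
    exact ⟨hp, by rwa [p_rank_Hall hp hallE s'p]⟩
  · rintro ⟨hp, hr⟩
    have s'p := sigma'_of_rank hallE hp (by omega)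
    exact ⟨hp, s'p, by rwa [← p_rank_Hall hp hallE s'p]⟩

theorem tau3E {M E : Subgroup G} (maxM : IsCoatom M) (hallE : IsPiHallOf (sigma M)ᶜ E M) {p : ℕ} :
    p ∈ tau3 M ↔ p.Prime ∧ pRank p E = 1 ∧ p ∣ Nat.card ↥⁅E, E⁆ := by
  rw [mem_tau3_iff]
  constructor
  · rintro ⟨hp, s'p, hr, hd⟩
    exact ⟨hp, by rwa [p_rank_Hall hp hallE s'p], by rwa [← dvd_der_iff maxM hallE hp s'p]⟩
  · rintro ⟨hp, hr, hd⟩
    have s'p := sigma'_of_rank hallE hp (by omega)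
    exact ⟨hp, s'p, by rwa [← p_rank_Hall hp hallE s'p], by rwa [dvd_der_iff maxM hallE hp s'p]⟩

theorem tau13_pgroup_cyclic {M P : Subgroup G} {p : ℕ} (t13p : p ∈ tau1 M ∨ p ∈ tau3 M) (sPM : P ≤ M)
    (pP : IsPGrp p P) : IsCyclic P := by
  obtain ⟨hp, hr⟩ : p.Prime ∧ pRank p M = 1 := by
    rcases t13p with h | h
    · exact ⟨h.1, (mem_tau1_iff.1 h).2.2.1⟩
    · exact ⟨h.1, (mem_tau3_iff.1 h).2.2.1⟩
  exact (cyclic_iff hp pP).2 (hr ▸ pRank_mono hp sPM)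

/-- If `M` has an elementary abelian `σ(M)'`-subgroup of order `p²` then `p ∈ τ₂(M)`. -/
theorem sigma'2Elem_tau2 {M A : Subgroup G} {p : ℕ} (hp : p.Prime) (maxM : IsCoatom M)
    (s'p : p ∉ sigma M) (EpA : IsPnElem p 2 A M) : p ∈ tau2 M :=
  mem_tau2_iff.2 ⟨hp, s'p, le_antisymm (sigma'_rank_le hp maxM s'p) (EpA.le_pRank hp)⟩

theorem tau13_Zgroup {M K : Subgroup G} (sKM : K ≤ M) (t13K : IsPiGrp (tau1 M ∪ tau3 M) K) :
    IsZGroup K :=
  zgroup_of_exists_sylow fun p hp hd => by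
    obtain ⟨P, sylP⟩ := sylow_exists hp K
    exact ⟨P, sylP, tau13_pgroup_cyclic (t13K p hp hd) (sylP.le.trans sKM) sylP.pGrp⟩

/-- 12.1(a). -/
theorem der1_sigma_compl_nil {M E : Subgroup G} (maxM : IsCoatom M) (hallE : IsPiHallOf (sigma M)ᶜ E M) :
    Group.IsNilpotent ↥⁅E, E⁆ :=
  beta'_der1_nil maxM ((hallE.piGrp.of_le (der_le E)).mono fun p h hb => h (beta_sub_sigma maxM hb))
    (der_mono hallE.le)

/-- 12.1(g). -/
theorem tau2_not_beta {M : Subgroup G} (maxM : IsCoatom M) {p : ℕ} (t2p : p ∈ tau2 M) :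
    ¬ IsIdealPrime p G ∧ ∀ A : Subgroup G, IsPnElem p 2 A M → IsPMaxElem p A ⊤ := by
  obtain ⟨hp, s'p, hr⟩ := mem_tau2_iff.1 t2p
  exact ⟨sigma'_rank2_beta' maxM hp s'p hr, fun A EpA => sigma'_rank2_max maxM hp s'p hr EpA⟩

theorem tau1_inf_der {M E K : Subgroup G} (maxM : IsCoatom M) (hallE : IsPiHallOf (sigma M)ᶜ E M)
    (t1K : IsPiGrp (tau1 M) K) : ⁅E, E⁆ ⊓ K = ⊥ := by
  rw [inf_comm]
  refine t1K.inf_eq_bot fun p hp hd h => ((tau1E maxM hallE).1 h).2.2 hd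

theorem tau1_cyclic {M E E₁ : Subgroup G} (maxM : IsCoatom M) (hallE : IsPiHallOf (sigma M)ᶜ E M)
    (hallE₁ : IsPiHallOf (tau1 M) E₁ E) : IsCyclic E₁ := by
  refine nil_Zgroup_cyclic (tau13_Zgroup (hallE₁.le.trans hallE.le)
    (hallE₁.piGrp.mono Set.subset_union_left)) (nil_of_abelian (der_eq_bot_iff.1 ?_))
  exact eq_bot_of_le (le_inf (der_mono hallE₁.le) (der_le _)) (tau1_inf_der maxM hallE hallE₁.piGrp)

theorem tau3_cyclic_normal {M E E₃ : Subgroup G} (maxM : IsCoatom M) (hallE : IsPiHallOf (sigma M)ᶜ E M)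
    (hallE₃ : IsPiHallOf (tau3 M) E₃ E) : IsCyclic E₃ ∧ E₃ ≤ ⁅E, E⁆ ∧ E₃ ⊲ E := by
  have nilE' := der1_sigma_compl_nil maxM hallE
  have sE₃E' : E₃ ≤ ⁅E, E⁆ := by
    refine le_of_exists_sylow fun p hp hd => ?_
    obtain ⟨P, sylP⟩ := sylow_exists hp E₃
    have t3p := hallE₃.piGrp p hp hd
    have sylPE := sylP.trans_hall hallE₃ t3p
    refine ⟨P, sylP, ?_⟩
    rcases cyclic_Sylow_tiVsub_der1 hp sylPE
      (tau13_pgroup_cyclic (Or.inr t3p) (sylPE.le.trans hallE.le) sylP.pGrp) with h | h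
    · exact absurd h ((IsPiHallOf.inf_normal sylPE (der_normalIn E)).ne_bot hp rfl
        ((tau3E maxM hallE).1 t3p).2.2)
    · exact h
  refine ⟨nil_Zgroup_cyclic (tau13_Zgroup (hallE₃.le.trans hallE.le)
    (hallE₃.piGrp.mono Set.subset_union_right)) (nil_of_le nilE' sE₃E'), sE₃E', ?_⟩
  rw [nilpotent_Hall_pcore nilE' (hallE₃.of_le sE₃E' (der_le E))]
  exact (der_normalIn E).pcore _

theorem ex_tau13_compl {M E : Subgroup G} (maxM : IsCoatom M) (hallE : IsPiHallOf (sigma M)ᶜ E M) :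
    (∃ E₁ : Subgroup G, IsPiHallOf (tau1 M) E₁ E) ∧ ∃ E₃ : Subgroup G, IsPiHallOf (tau3 M) E₃ E :=
  ⟨Hall_exists _ (sol_of_le (mmax_sol maxM) hallE.le), Hall_exists _ (sol_of_le (mmax_sol maxM) hallE.le)⟩

theorem complIn_of_halls {π ρ : Set ℕ} {A B L : Subgroup G} (hA : IsPiHallOf π A L)
    (hB : IsPiHallOf ρ B L) (hL : IsPiGrp (π ∪ ρ) L) (hd : ∀ p ∈ π, p ∉ ρ) : IsComplIn A B L := by
  refine hA.complIn ((pHall_congr fun p hp hpd => ?_).1 hB)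
  have := hL p hp hpd
  constructor
  · exact fun h h' => hd p h' h
  · exact fun h => this.elim (fun h' => absurd h' h) id

theorem ex_tau2_compl {M E E₁ E₃ : Subgroup G} (maxM : IsCoatom M) (hallE : IsPiHallOf (sigma M)ᶜ E M)
    (hallE₁ : IsPiHallOf (tau1 M) E₁ E) (hallE₃ : IsPiHallOf (tau3 M) E₃ E) :
    ∃ E₂ : Subgroup G, SigmaCompl M E E₁ E₂ E₃ := by
  have solE := sol_of_le (mmax_sol maxM) hallE.le
  obtain ⟨L, hallL, sE₁L⟩ := Hall_superset (π := tau2 M ∪ tau1 M) solE hallE₁.le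
    (hallE₁.piGrp.mono Set.subset_union_right)
  obtain ⟨E₂, hallE₂⟩ := Hall_exists (tau2 M) (sol_of_le solE hallL.le)
  have hc := complIn_of_halls hallE₂ (hallE₁.of_le sE₁L hallL.le) hallL.piGrp
    fun p h h' => tau2'1 h' h
  refine ⟨E₂, hallE, hallE₁, hallE₂.trans hallL Set.subset_union_left, hallE₃, ?_⟩
  rw [hc.sup_eq]
  exact hc.2.2.2

theorem ex_sigma_compl_tau13 {M E K : Subgroup G} (maxM : IsCoatom M) (hallE : IsPiHallOf (sigma M)ᶜ E M)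
    (sKE : K ≤ E) (t13K : IsPiGrp (tau1 M ∪ tau3 M) K) :
    ∃ E₁ E₂ E₃ : Subgroup G, SigmaCompl M E E₁ E₂ E₃ ∧ K ≤ E₃ ⊔ E₁ := by
  have solE := sol_of_le (mmax_sol maxM) hallE.le
  obtain ⟨L, hallL, sKL⟩ := Hall_superset solE sKE t13K
  obtain ⟨E₁, hallE₁⟩ := Hall_exists (tau1 M) (sol_of_le solE hallL.le)
  obtain ⟨E₃, hallE₃⟩ := Hall_exists (tau3 M) (sol_of_le solE hallL.le)
  obtain ⟨E₂, complE⟩ := ex_tau2_compl maxM hallE (hallE₁.trans hallL Set.subset_union_left)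
    (hallE₃.trans hallL Set.subset_union_right)
  refine ⟨E₁, E₂, E₃, complE, ?_⟩
  rw [(complIn_of_halls hallE₁ hallE₃ hallL.piGrp fun p h => tau3'1 h).symm.sup_eq]
  exact sKL

/-- Complement data with a prescribed `τ₁`-subgroup inside `E₁`. -/
theorem ex_sigma_compl_tau1 {M E K : Subgroup G} (maxM : IsCoatom M) (hallE : IsPiHallOf (sigma M)ᶜ E M)
    (sKE : K ≤ E) (t1K : IsPiGrp (tau1 M) K) :
    ∃ E₁ E₂ E₃ : Subgroup G, SigmaCompl M E E₁ E₂ E₃ ∧ K ≤ E₁ := by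
  have solE := sol_of_le (mmax_sol maxM) hallE.le
  obtain ⟨E₁, hallE₁, sK⟩ := Hall_superset solE sKE t1K
  obtain ⟨E₃, hallE₃⟩ := Hall_exists (tau3 M) solE
  obtain ⟨E₂, complE⟩ := ex_tau2_compl maxM hallE hallE₁ hallE₃
  exact ⟨E₁, E₂, E₃, complE, sK⟩

theorem ex_tau2Elem {M E E₂ : Subgroup G} (hallE : IsPiHallOf (sigma M)ᶜ E M)
    (hallE₂ : IsPiHallOf (tau2 M) E₂ E) (ntE₂ : E₂ ≠ ⊥) :
    ∃ p ∈ tau2 M, ∃ A : Subgroup G, IsPnElem p 2 A E ∧ A ≤ E₂ ∧ IsPnElem p 2 A M := by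
  obtain ⟨p, hp, hd⟩ := exists_prime_dvd_card ntE₂
  have t2p := hallE₂.piGrp p hp hd
  have hr : pRank p E₂ = 2 := by rw [p_rank_Hall hp hallE₂ t2p, ((tau2E hallE).1 t2p).2]
  obtain ⟨A, EpA⟩ := (p_rank_geP hp).1 hr.ge
  exact ⟨p, t2p, A, EpA.mono hallE₂.le, EpA.le, EpA.mono (hallE₂.le.trans hallE.le)⟩

theorem ex_tau2Elem' {M E : Subgroup G} (hallE : IsPiHallOf (sigma M)ᶜ E M) {p : ℕ} (t2p : p ∈ tau2 M) :
    ∃ A : Subgroup G, IsPnElem p 2 A E :=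
  (p_rank_geP t2p.1).1 ((tau2E hallE).1 t2p).2.ge

/-- 12.1(b-f). -/
theorem sigma_compl_context {M E E₁ E₂ E₃ : Subgroup G} (maxM : IsCoatom M)
    (complE : SigmaCompl M E E₁ E₂ E₃) :
    (E₃ ≤ ⁅E, E⁆ ∧ E₃ ⊲ E) ∧ (E₂ = ⊥ → E₁ ≠ ⊥) ∧ (IsCyclic E₁ ∧ IsCyclic E₃) ∧
    (SDProd E₂ E₁ (E₂ ⊔ E₁) ∧ SDProd E₃ (E₂ ⊔ E₁) E ∧
      SDProd E₃ E₂ (E₃ ⊔ E₂) ∧ SDProd (E₃ ⊔ E₂) E₁ E) ∧
    E₃ ⊓ 𝒞(E) = ⊥ := by
  obtain ⟨hallE, hallE₁, hallE₂, hallE₃, mulE⟩ := complE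
  obtain ⟨cycE₃, sE₃E', nsE₃⟩ := tau3_cyclic_normal maxM hallE hallE₃
  have solE := sol_of_le (mmax_sol maxM) hallE.le
  have co21 : (Nat.card E₂).Coprime (Nat.card E₁) :=
    hallE₂.piGrp.coprime_of_disjoint hallE₁.piGrp fun p h h' => tau2'1 h' h
  have c21 : IsComplIn E₂ E₁ (E₂ ⊔ E₁) := ⟨le_sup_left, le_sup_right, inf_eq_bot_of_cop co21, mulE⟩
  have sLE : E₂ ⊔ E₁ ≤ E := sup_le hallE₂.le hallE₁.le
  have piL : IsPiGrp (tau2 M ∪ tau1 M) (E₂ ⊔ E₁) := by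
    rw [IsPiGrp, ← c21.card_mul]
    exact (hallE₂.piGrp.mono Set.subset_union_left).mul (hallE₁.piGrp.mono Set.subset_union_right)
  have hallL : IsPiHallOf (tau3 M)ᶜ (E₂ ⊔ E₁) E := by
    refine pHall_mk sLE (piL.mono fun p h => h.elim tau3'2 tau3'1) ?_
    rw [piNat_compl_compl]
    intro p hp hd
    have h1 := hallE₁.index p hp (hd.trans (Subgroup.relIndex_dvd_of_le_left E le_sup_right))
    have h2 := hallE₂.index p hp (hd.trans (Subgroup.relIndex_dvd_of_le_left E le_sup_left))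
    have h3 : p ∣ Nat.card E := hd.trans (Dvd.intro_left _ (card_mul_relIndex sLE))
    rcases tau123 maxM hallE.le hallE.piGrp hp h3 with h | h | h
    · exact absurd h h1
    · exact absurd h h2
    · exact h
  have nE₂L : E₂ ⊔ E₁ ≤ 𝒩(E₂) := by
    refine norm_of_comm_le le_sup_left ?_
    refine (hallE₂.of_le le_sup_left sLE).le_of_norm_le ?_ (der_le _)
      (le_sup_left.trans (der_normalIn _).2)
    intro p hp hd
    rcases piL p hp (dvd_of_le hd (der_le _)) with h | h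
    · exact h
    · exact absurd (dvd_of_le hd (der_mono sLE)) ((tau1E maxM hallE).1 h).2.2
  have d21 : SDProd E₂ E₁ (E₂ ⊔ E₁) := c21.sdprod nE₂L
  have d3 : SDProd E₃ (E₂ ⊔ E₁) E := hallE₃.sdprod nsE₃.2 hallL
  have co32 : (Nat.card E₃).Coprime (Nat.card E₂) :=
    hallE₃.piGrp.coprime_of_disjoint hallE₂.piGrp fun p h h' => tau3'2 h' h
  have d32 : SDProd E₃ E₂ (E₃ ⊔ E₂) :=
    sdprod_mk (hallE₂.le.trans nsE₃.2) rfl (inf_eq_bot_of_cop co32)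
  have d321 : SDProd (E₃ ⊔ E₂) E₁ E := by
    refine sdprod_mk (norm_sup (hallE₁.le.trans nsE₃.2) d21.norm) (by rw [sup_assoc, d3.sup_eq]) ?_
    refine IsPiGrp.inf_eq_bot (π := (tau1 M)ᶜ) ?_ (piNat_compl_compl.2 hallE₁.piGrp)
    exact IsPiGrp.sup (hallE₃.piGrp.mono fun p h h' => tau3'1 h' h)
      (hallE₂.piGrp.mono fun p h h' => tau2'1 h' h) (Or.inr d32.norm)
  refine ⟨⟨sE₃E', nsE₃⟩, ?_, ⟨tau1_cyclic maxM hallE hallE₁, cycE₃⟩, ⟨d21, d3, d32, d321⟩, ?_⟩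
  · rintro rfl rfl
    have := d3.sup_eq
    rw [sup_bot_eq, sup_bot_eq] at this
    exact (der_lt_of_sol solE (sigma_compl_neq1 maxM hallE)).not_ge (this.ge.trans sE₃E')
  · have := (coprime_der1_sdprod d3 (hallE₃.piGrp.coprime hallL.piGrp) (sol_of_le solE nsE₃.1) sE₃E').2
    rw [der_eq_bot_iff.2 (abelian_of_cyclic cycE₃)] at this
    exact le_bot_iff.1 ((inf_le_inf_left _ (cent_anti sLE)).trans this)

/-- B & G, Lemma 12.2(a). -/
theorem prime_class_mmax_norm {M X : Subgroup G} {p : ℕ} (hp : p.Prime) (maxM : IsCoatom M)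
    (pX : IsPGrp p X) (sNM : 𝒩(X) ≤ M) : p ∈ sigma M ∨ p ∈ tau2 M := by
  by_cases sp : p ∈ sigma M
  · exact Or.inl sp
  · exact Or.inr (mem_tau2_iff.2 ⟨hp, sp, sigma'_norm_mmax_rank2 maxM hp sp pX sNM⟩)

/-- B & G, Lemma 12.2(b). -/
theorem mmax_norm_notJ {M Mstar X : Subgroup G} {p : ℕ} (maxM : IsCoatom M) (maxMs : IsCoatom Mstar)
    (pX : IsPGrp p X) (sXM : X ≤ M) (sNMs : 𝒩(X) ≤ Mstar)
    (h : (p ∈ sigma M ∧ M ≠ Mstar) ∨ p ∈ tau1 M ∨ p ∈ tau3 M) : ∀ g, Mstar ≠ M :^ g := by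
  rintro g rfl
  rcases h with ⟨sp, ne⟩ | h
  · obtain ⟨c, hc, e⟩ := sigma_group_trans_b maxM sp pX (g := g) (h := 1)
      (Subgroup.le_normalizer.trans sNMs) (by rwa [conjg_one])
    rw [conjg_one, conjg_of_mem (sNMs (cent_le_norm X hc))] at e
    exact ne e
  · have hp : p.Prime := h.elim (fun h => h.1) (fun h => h.1)
    rcases prime_class_mmax_norm hp maxMs pX sNMs with h' | h'
    · rw [sigmaJ] at h'
      exact h.elim (fun h => h.2.1 h') (fun h => h.2.1 h')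
    · rw [tau2J] at h'
      exact h.elim (fun h => tau2'1 h h') (fun h => tau3'2 h' h)

theorem notJ_symm {M H : Subgroup G} (h : ∀ g, H ≠ M :^ g) : ∀ g, M ≠ H :^ g := by
  intro g e
  exact h g⁻¹ (by rw [e, conjg_inv_cancel])

theorem notJ_of_sigma {M H : Subgroup G} {p : ℕ} (h : p ∈ sigma H) (h' : p ∉ sigma M) :
    ∀ g, H ≠ M :^ g := by
  rintro g rfl
  rw [sigmaJ] at h
  exact h' h

/-- Coprime subgroups of `M'` commute modulo `M_α`. -/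
theorem comm_le_Malpha {M K L : Subgroup G} (maxM : IsCoatom M) (sK : K ≤ ⁅M, M⁆) (sL : L ≤ ⁅M, M⁆)
    (co : (Nat.card K).Coprime (Nat.card L)) : ⁅K, L⁆ ≤ alphaCore M := by
  have nM' : ⁅M, M⁆ ≤ 𝒩(alphaCore M) := (der_le M).trans (Malpha_norm M)
  exact (quot_cent_iff (sK.trans nM') (sL.trans nM')).1
    (sub_nilpotent_cent2 (Malpha_quo_nil maxM) (quot_mono _ sK) (quot_mono _ sL) (coprime_quot _ co))

/-- B & G, Lemma 12.3. -/
theorem nonuniq_p2Elem_cent_sigma {M Mstar A A₀ : Subgroup G} {p : ℕ} (hp : p.Prime) (maxM : IsCoatom M)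
    (maxMs : IsCoatom Mstar) (neMs : Mstar ≠ M) (EpA : IsPnElem p 2 A M) (sAMs : A ≤ Mstar)
    (EpA₀ : IsPnElem p 1 A₀ A) (sNMs : 𝒩(A₀) ≤ Mstar) :
    (p ∉ sigma M → A ≤ 𝒞(sigmaCore M ⊓ Mstar)) ∧ (p ∉ alpha M → A ≤ 𝒞(alphaCore M ⊓ Mstar)) := by
  have pA := EpA.pGrp hp
  have nMsA : A ≤ 𝒩(sigmaCore M ⊓ Mstar) := norm_inf (EpA.le.trans (Msigma_norm M)) (norm_of_le sAMs)
  have nMaA : A ≤ 𝒩(alphaCore M ⊓ Mstar) := norm_inf (EpA.le.trans (Malpha_norm M)) (norm_of_le sAMs)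
  by_cases sHp : p ∈ sigma Mstar
  · have sAHs : A ≤ sigmaCore Mstar := sub_Msigma maxMs sAMs (pA.piGrp sHp)
    have cHs : ∀ K : Subgroup G, K ≤ Mstar → ⁅K, A⁆ ≤ sigmaCore Mstar := fun K sK =>
      (Subgroup.commutator_mono le_rfl sAHs).trans (comm_le_right (sK.trans (Msigma_norm _)))
    constructor
    · intro s'p
      have ti := (sigma_disjoint maxMs maxM (notJ_symm (notJ_of_sigma sHp s'p))).1
      have co : (Nat.card ↥(sigmaCore M ⊓ Mstar)).Coprime (Nat.card A) :=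
        cop_left (cop_Msigma_pGrp s'p pA) inf_le_left
      refine coprime_commGG1P nMsA co (Or.inr (IsPGrp.sol pA)) (eq_bot_of_le (le_inf ?_ ?_) ti)
      · exact comm_le_Malpha maxMs ((cHs _ inf_le_right).trans (Msigma_der1 maxMs))
          (sAHs.trans (Msigma_der1 maxMs)) (cop_left co (comm_le_left nMsA))
      · exact ((comm_le_left (norm_comm nMsA Subgroup.le_normalizer)).trans
          (comm_le_left nMsA)).trans inf_le_left
    · intro a'p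
      have notJ : ∀ g, Mstar ≠ M :^ g := by
        by_cases sp : p ∈ sigma M
        · exact mmax_norm_notJ maxM maxMs (EpA₀.pGrp hp) (EpA₀.le.trans EpA.le) sNMs
            (Or.inl ⟨sp, neMs.symm⟩)
        · exact notJ_of_sigma sHp sp
      have ti := (sigma_disjoint maxM maxMs notJ).1
      exact comm_eq_bot_iff'.1 (eq_bot_of_le
        (le_inf ((comm_le_left nMaA).trans inf_le_left) (cHs _ inf_le_right)) ti)
  · have excH : Exceptional p Mstar A₀ A :=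
      ⟨hp, sHp, EpA₀.mono sAMs, sNMs, EpA.of_le sAMs, EpA₀.le⟩
    have nsHA := exceptional_mul_sigma_normal maxMs excH
    have ti : sigmaCore M ⊓ sigmaCore Mstar = ⊥ := by
      by_contra h
      exact neMs (exceptional_sigma_uniq maxMs excH maxM EpA.le h).symm
    have nHsA : A ≤ 𝒩(sigmaCore Mstar) := sAMs.trans (Msigma_norm _)
    have hallHs : IsPiHallOf {p}ᶜ (sigmaCore Mstar) (sigmaCore Mstar ⊔ A) :=
      pHall_left_of_sup (Or.inr nHsA) rfl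
        (p'_of_not_mem (Msigma_pgroup Mstar) sHp)
        (piNat_compl_compl.2 pA)
    have key : ∀ K : Subgroup G, K ≤ sigmaCore M → K ≤ Mstar → A ≤ 𝒩(K) → IsPiGrp {p}ᶜ K →
        A ≤ 𝒞(K) := by
      intro K sKMs sKH nKA p'K
      refine comm_eq_bot_iff'.1 (eq_bot_of_le (le_inf ((comm_le_left nKA).trans sKMs) ?_) ti)
      refine hallHs.le_of_normal (sup_le Subgroup.le_normalizer nHsA) (p'K.of_le (comm_le_left nKA)) ?_
      exact (Subgroup.commutator_mono le_rfl le_sup_right).trans (comm_le_right (sKH.trans nsHA.2))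
    constructor
    · intro s'p
      exact key _ inf_le_left inf_le_right nMsA (IsPiGrp.inf_left
        (p'_of_not_mem (Msigma_pgroup M) s'p) _)
    · intro a'p
      exact key _ (inf_le_left.trans (Malpha_sub_Msigma maxM)) inf_le_right nMaA (IsPiGrp.inf_left
        (p'_of_not_mem (Malpha_pgroup M) a'p) _)

theorem exists_ne_of_not_uniq {X M : Subgroup G} (maxM : IsCoatom M) (prX : X ≠ ⊤)
    (h : ¬ UniqMax X M) : ∃ L : Subgroup G, IsCoatom L ∧ X ≤ L ∧ L ≠ M := by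
  by_cases sXM : X ≤ M
  · exact exists_ne_of_not_uniqMax maxM sXM h
  · obtain ⟨L, maxL, sXL⟩ := mmax_exists prX
    exact ⟨L, maxL, sXL, fun e => sXM (e ▸ sXL)⟩

theorem norm_pgroup_proper {p : ℕ} {X : Subgroup G} (pX : IsPGrp p X) (ntX : X ≠ ⊥) : 𝒩(X) ≠ ⊤ :=
  mFT_norm_proper ntX (pgroup_proper pX)

/-- If `M_α = 1` then `M'` is nilpotent. -/
theorem der_nil_of_Malpha {M : Subgroup G} (maxM : IsCoatom M) (h : alphaCore M = ⊥) :
    Group.IsNilpotent ↥⁅M, M⁆ := by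
  refine nil_of_quot_of_cent (K := alphaCore M) ?_ (Malpha_quo_nil maxM)
  rw [h, cent_bot]
  exact le_top

theorem three_le_rank_Malpha {M : Subgroup G} (maxM : IsCoatom M) (h : alphaCore M ≠ ⊥) :
    3 ≤ rank (alphaCore M) := by
  obtain ⟨q, hq, hd⟩ := exists_prime_dvd_card h
  have aq := Malpha_pgroup M q hq hd
  have h1 := (mem_alpha_iff.1 aq).2
  rw [← p_rank_Hall hq (Malpha_Hall maxM) aq] at h1
  exact h1.trans_le (p_rank_le_rank hq _)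

/-- B & G, Proposition 12.4. -/
theorem p2Elem_mmax {M A : Subgroup G} {p : ℕ} (hp : p.Prime) (maxM : IsCoatom M)
    (EpA : IsPnElem p 2 A M) :
    𝒞(A) ≤ M ∧
    ((∀ A₀ : Subgroup G, IsPnElem p 1 A₀ A → ¬ UniqMax 𝒩(A₀) M) →
      p ∈ sigma M ∧ alphaCore M = ⊥ ∧ Group.IsNilpotent (sigmaCore M)) := by
  have pA := EpA.pGrp hp
  by_cases nonuniq : ∀ A₀ : Subgroup G, IsPnElem p 1 A₀ A → ¬ UniqMax 𝒩(A₀) M
  swap
  · refine ⟨?_, fun h => absurd h nonuniq⟩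
    push Not at nonuniq
    obtain ⟨A₀, EpA₀, u⟩ := nonuniq
    exact (cent_anti EpA₀.le).trans ((cent_le_norm _).trans u.2.1)
  have key : ∀ Y : Subgroup G, IsPnElem p 1 Y A → rank (M ⊓ 𝒞(Y)) ≤ 2 ∧
      (p ∉ sigma M → sigmaCore M ⊓ 𝒞(Y) ≤ 𝒞(A)) ∧ (p ∉ alpha M → alphaCore M ⊓ 𝒞(Y) ≤ 𝒞(A)) := by
    intro Y EpY
    obtain ⟨H, maxH, sNH, neH⟩ := exists_ne_of_not_uniq maxM
      (norm_pgroup_proper (EpY.pGrp hp) (EpY.ne_bot hp one_pos)) (nonuniq Y EpY)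
    have sCH : 𝒞(Y) ≤ H := (cent_le_norm Y).trans sNH
    have sAH : A ≤ H := ((abelian_iff_le_cent.1 EpA.abelian).trans (cent_anti EpY.le)).trans sCH
    obtain ⟨c1, c2⟩ := nonuniq_p2Elem_cent_sigma hp maxM maxH neH EpA sAH EpY sNH
    refine ⟨?_, fun h => (inf_le_inf_left _ sCH).trans (le_cent_symm (c1 h)),
      fun h => (inf_le_inf_left _ sCH).trans (le_cent_symm (c2 h))⟩
    by_contra hr
    exact neH (uniq_eq_of_le (rank3_Uniqueness (sub_mmax_proper maxM inf_le_left) (by omega)) maxM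
      inf_le_left maxH (inf_le_right.trans sCH))
  obtain ⟨Y₀, sY₀, EpY₀⟩ := EpA.self.exists_le hp (m := 1) (by omega)
  have rCA : rank (M ⊓ 𝒞(A)) ≤ 2 :=
    (rank_mono (inf_le_inf_left _ (cent_anti sY₀))).trans (key Y₀ EpY₀).1
  have sp : p ∈ sigma M := by
    by_contra s'p
    have cMsA : sigmaCore M ≤ 𝒞(A) := p2Elem_gen_cent_le hp EpA (EpA.le.trans (Msigma_norm M))
      (cop_Msigma_pGrp s'p pA) fun Y EpY => (key Y EpY).2.1 s'p
    have := sub'cent_sigma_rank1 maxM EpA.le (pA.piGrp s'p)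
    rw [inf_eq_left.2 (le_cent_symm cMsA), EpA.rank_eq hp] at this
    omega
  obtain ⟨P, sylP, sAP⟩ := sylow_superset hp pA EpA.le
  have sZA : ohm1 p 𝒵(P) ≤ A := by
    have maxA : IsPMaxElem p A (M ⊓ 𝒞(A)) :=
      (EpA.of_le (le_inf EpA.le (abelian_iff_le_cent.1 EpA.abelian))).pmaxElem_of_pRank hp
        ((p_rank_le_rank hp _).trans rCA)
    have h1 : ohm1 p 𝒵(P) ≤ 𝒞(A) := (ohm1_le _ _).trans (inf_le_right.trans (cent_anti sAP))
    exact maxA.le_of_cent (le_inf (((ohm1_le _ _).trans inf_le_left).trans sylP.le) h1)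
      (ohm1_center_abelem p P) h1
  have ntP : P ≠ ⊥ := ne_bot_mono sAP (EpA.ne_bot hp (by omega))
  have ntZ : ohm1 p 𝒵(P) ≠ ⊥ :=
    ohm1_ne_bot (sylP.pGrp.inf_left _) (center_nil_ne_bot (IsPGrp.nil sylP.pGrp) ntP)
  have a'p : p ∉ alpha M := by
    intro ap
    obtain ⟨Y, EpY⟩ := p1Elem_exists hp (IsPGrp.dvd_card (pA.of_le sZA) ntZ)
    have h1 := (key Y (EpY.mono sZA)).1
    have h2 : P ≤ M ⊓ 𝒞(Y) :=
      le_inf sylP.le (le_cent_symm (EpY.le.trans ((ohm1_le _ _).trans inf_le_right)))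
    have h3 := rank_mono h2
    rw [rank_Sylow hp sylP] at h3
    have h4 := (mem_alpha_iff.1 ap).2
    omega
  have cMaA : alphaCore M ≤ 𝒞(A) := p2Elem_gen_cent_le hp EpA (EpA.le.trans (Malpha_norm M))
    ((Malpha_pgroup M).coprime (pA.piGrp a'p)) fun Y EpY => (key Y EpY).2.2 a'p
  have Ma1 : alphaCore M = ⊥ := by
    by_contra h
    have h1 := three_le_rank_Malpha maxM h
    have h2 := rank_mono (le_inf (Malpha_le M) cMaA)
    omega
  have nilMs : Group.IsNilpotent (sigmaCore M) :=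
    nil_of_le (der_nil_of_Malpha maxM Ma1) (Msigma_der1 maxM)
  refine ⟨?_, fun _ => ⟨sp, Ma1, nilMs⟩⟩
  have sylPMs : IsSylowOf p P (sigmaCore M) :=
    IsPiHallOf.of_le sylP (sub_Msigma maxM sylP.le (sylP.pGrp.piGrp sp)) (Msigma_le M)
  have nsP : P ⊲ M := by
    rw [nilpotent_Hall_pcore nilMs sylPMs]
    exact (Msigma_normal M).pcore _
  rw [← mmax_normal maxM (((charIn_ohm1 p _).trans (charIn_center P)).trans_normal nsP) ntZ]
  exact (cent_anti sZA).trans (cent_le_norm _)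

end CA.BG.P12
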