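/-
B & G section 12, part b: Theorems 12.5 - 12.7.
-/
import Cfsg.Agent.BG.P12a

set_option autoImplicit false
set_option linter.unusedSectionVars false
set_option linter.unusedVariables false

namespace CA.BG.P12

open Cfsg CA.FG CA.BG.P11

universe u

variable {G : Type u} [Group G] [MinSimpleOdd G]

theorem tau2_exceptional {M A : Subgroup G} {p : ℕ} (maxM : IsCoatom M) (t2p : p ∈ tau2 M)
    (EpA : IsPnElem p 2 A M) : ∃ A₀ : Subgroup G, Exceptional p M A₀ A := by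
  have hp := t2p.1
  by_contra hc
  push Not at hc
  refine t2p.2.1 ((p2Elem_mmax hp maxM EpA).2 fun A₀ EpA₀ u => hc A₀ ?_).1
  exact ⟨hp, t2p.2.1, EpA₀.mono EpA.le, u.2.1, EpA, EpA₀.le⟩

/-- B & G, Theorem 12.5(a). -/
theorem tau2_Msigma_nil {M : Subgroup G} {p : ℕ} (maxM : IsCoatom M) (t2p : p ∈ tau2 M) :
    Group.IsNilpotent (sigmaCore M) := by
  obtain ⟨A, EpA⟩ := (p_rank_geP t2p.1).1 (mem_tau2_iff.1 t2p).2.2.ge
  obtain ⟨A₀, excM⟩ := tau2_exceptional maxM t2p EpA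
  exact exceptional_sigma_nil maxM excM

/-- B & G, Theorem 12.5(b-f). -/
theorem tau2_context {M A : Subgroup G} {p : ℕ} (maxM : IsCoatom M) (t2p : p ∈ tau2 M)
    (EpA : IsPnElem p 2 A M) :
    (∀ P : Subgroup G, IsSylowOf p P M →
      IsMulCommutative P ∧ (A ≤ P → ohm1 p P = A ∧ ¬ 𝒩(P) ≤ M)) ∧
    sigmaCore M ⊔ A ⊲ M ∧
    sigmaCore M ⊓ 𝒞(A) = ⊥ ∧
    (∀ Mstar : Subgroup G, IsCoatom Mstar → A ≤ Mstar → Mstar ≠ M → sigmaCore M ⊓ Mstar = ⊥) ∧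
    ∃ A₁ : Subgroup G, IsPnElem p 1 A₁ A ∧ sigmaCore M ⊓ 𝒞(A₁) = ⊥ := by
  have hp := t2p.1
  have s'p := t2p.2.1
  have pA := EpA.pGrp hp
  obtain ⟨A₀, excM⟩ := tau2_exceptional maxM t2p EpA
  obtain ⟨P, sylP, sAP⟩ := sylow_superset hp pA EpA.le
  obtain ⟨-, regA, A₁, -, EpA₁, -, -, regA₁, -⟩ := exceptional_structure maxM excM sylP sAP
  refine ⟨fun P₁ sylP₁ => ⟨exceptional_Sylow_abelian maxM excM sylP₁, fun sAP₁ =>
    ⟨(exceptional_structure maxM excM sylP₁ sAP₁).1.symm,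
      not_norm_le_of_sigma' hp s'p sylP₁ (ne_bot_mono sAP₁ (EpA.ne_bot hp (by omega)))⟩⟩,
    exceptional_mul_sigma_normal maxM excM, regA, ?_, A₁, EpA₁, regA₁⟩
  intro H maxH sAH neH
  refine eq_bot_of_le (le_inf inf_le_left (le_cent_symm ?_)) regA
  by_cases nonuniq : ∀ A₀ : Subgroup G, IsPnElem p 1 A₀ A → ¬ UniqMax 𝒩(A₀) H
  · obtain ⟨sHp, -, nilHs⟩ := (p2Elem_mmax hp maxH (EpA.of_le sAH)).2 nonuniq
    have ti := ((sigma_disjoint maxH maxM (notJ_symm (notJ_of_sigma sHp s'p))).2.2 nilHs).1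
    have sAHs : A ≤ sigmaCore H := sub_Msigma maxH sAH (pA.piGrp sHp)
    refine comm_eq_bot_iff'.1 (eq_bot_of_le (le_inf ?_ ?_) ti)
    · exact (Subgroup.commutator_mono le_rfl sAHs).trans
        (comm_le_right (inf_le_right.trans (Msigma_norm _)))
    · exact (comm_le_left (norm_inf (EpA.le.trans (Msigma_norm M)) (norm_of_le sAH))).trans inf_le_left
  · push Not at nonuniq
    obtain ⟨A₂, EpA₂, u⟩ := nonuniq
    exact (nonuniq_p2Elem_cent_sigma hp maxM maxH neH EpA sAH EpA₂ u.2.1).1 s'p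

/-- `p`-subgroups of `M` are abelian for `p ∈ τ₂(M)`. -/
theorem tau2_pgroup_abelian {M P : Subgroup G} {p : ℕ} (maxM : IsCoatom M) (t2p : p ∈ tau2 M)
    (sPM : P ≤ M) (pP : IsPGrp p P) : IsMulCommutative P := by
  obtain ⟨A, EpA⟩ := (p_rank_geP t2p.1).1 (mem_tau2_iff.1 t2p).2.2.ge
  obtain ⟨S, sylS, sPS⟩ := sylow_superset t2p.1 pP sPM
  exact abelian_of_le ((tau2_context maxM t2p EpA).1 S sylS).1 sPS

theorem uniqMax_of_forall {X M : Subgroup G} (maxM : IsCoatom M) (prX : X ≠ ⊤)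
    (h : ∀ H : Subgroup G, IsCoatom H → X ≤ H → H = M) : UniqMax X M := by
  obtain ⟨L, maxL, sXL⟩ := mmax_exists prX
  exact ⟨maxM, h L maxL sXL ▸ sXL, h⟩

/-- B & G, Corollary 12.6(a, b, c, f). -/
theorem tau2_compl_context {M E A : Subgroup G} {p : ℕ} (maxM : IsCoatom M)
    (hallE : IsPiHallOf (sigma M)ᶜ E M) (t2p : p ∈ tau2 M) (EpA : IsPnElem p 2 A E) :
    (A ⊲ E ∧ ∀ X : Subgroup G, IsPnElem p 1 X E → X ≤ A) ∧
    (𝒞(A) ≤ E ∧ M ⊓ 𝒩(A) = E ∧ ¬ 𝒩(A) ≤ M) ∧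
    (∀ X : Subgroup G, IsPnElem p 1 X E → sigmaCore M ⊓ 𝒞(X) ≠ ⊥ → UniqMax 𝒞(X) M) ∧
    ∀ Mstar : Subgroup G, IsCoatom Mstar → (∀ g, Mstar ≠ M :^ g) →
      sigmaCore M ⊓ sigmaCore Mstar = ⊥ ∧ Disjoint (sigma M) (sigma Mstar) := by
  have hp := t2p.1
  have pA := EpA.pGrp hp
  have EpAM := EpA.mono hallE.le
  obtain ⟨sylM, nsMsA, regA, tiMs, -⟩ := tau2_context maxM t2p EpAM
  have defM := sdprod_sigma maxM hallE
  have nMsA : A ≤ 𝒩(sigmaCore M) := EpAM.le.trans (Msigma_norm M)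
  have nAE : E ≤ 𝒩(A) := by
    have h1 : E ⊓ (sigmaCore M ⊔ A) = A := by
      rw [inf_sup_of_right_le (Or.inr nMsA) EpA.le, inf_comm, defM.inf_eq, bot_sup_eq]
    rw [← h1]
    exact norm_inf Subgroup.le_normalizer (hallE.le.trans nsMsA.2)
  have sXA : ∀ X : Subgroup G, IsPnElem p 1 X E → X ≤ A := by
    intro X EpX
    obtain ⟨P, sylP, sP⟩ := sylow_superset hp (IsPiGrp.sup (EpX.pGrp hp) pA (Or.inl (EpX.le.trans nAE)))
      (sup_le (EpX.le.trans hallE.le) EpAM.le)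
    rw [← ((sylM P sylP).2 (le_sup_right.trans sP)).1]
    exact abelem_le_ohm1 EpX.abelem (le_sup_left.trans sP)
  have defN : M ⊓ 𝒩(A) = E := by
    conv_lhs => rw [← defM.sup_eq, inf_comm]
    rw [inf_sup_of_right_le (Or.inr defM.norm) nAE, inf_comm,
      coprime_norm_cent nMsA (cop_Msigma_pGrp t2p.2.1 pA), regA, bot_sup_eq]
  refine ⟨⟨⟨EpA.le, nAE⟩, sXA⟩, ⟨?_, defN, ?_⟩, ?_, fun H maxH notJ =>
    (sigma_disjoint maxM maxH notJ).2.2 (tau2_Msigma_nil maxM t2p)⟩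
  · rw [← defN]
    exact le_inf (p2Elem_mmax hp maxM EpAM).1 (cent_le_norm A)
  · obtain ⟨P, sylP, sAP⟩ := sylow_superset hp pA EpAM.le
    obtain ⟨h1, h2⟩ := (sylM P sylP).2 sAP
    exact fun h => h2 ((h1 ▸ (charIn_ohm1 p P).norm_le).trans h)
  · intro X EpX nreg
    refine uniqMax_of_forall maxM (mFT_cent_proper (EpX.ne_bot hp one_pos)) fun H maxH sCH => ?_
    by_contra neH
    have sAH : A ≤ H := ((abelian_iff_le_cent.1 EpA.abelian).trans (cent_anti (sXA X EpX))).trans sCH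
    exact nreg (eq_bot_of_le (inf_le_inf_left _ sCH) (tiMs H maxH sAH neH))

theorem semiregular_of_prime_order {K H : Subgroup G}
    (h : ∀ x ∈ H, (orderOf x).Prime → K ⊓ 𝒞[x] = ⊥) : Semiregular K H := by
  intro x hx ntx
  obtain ⟨y, hy, prY⟩ := exists_prime_orderOf_mem_zpowers ntx
  exact eq_bot_of_le (inf_le_inf_left _ (cent_singleton_le_of_mem_zpowers hy))
    (h y ((Subgroup.zpowers_le.2 hx) hy) prY)

theorem ne_one_of_prime_order {x : G} (h : (orderOf x).Prime) : x ≠ 1 := by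
  rintro rfl
  rw [orderOf_one] at h
  exact Nat.not_prime_one h

theorem zpowers_ne_bot_of_prime {x : G} (h : (orderOf x).Prime) : Subgroup.zpowers x ≠ ⊥ :=
  ne_bot_of_mem (Subgroup.mem_zpowers x) (ne_one_of_prime_order h)

theorem zpowers_p1Elem {x : G} {H : Subgroup G} (h : (orderOf x).Prime) (hx : x ∈ H) :
    IsPnElem (orderOf x) 1 (Subgroup.zpowers x) H :=
  pnElem_one_zpowers h hx (pow_orderOf_eq_one x) (ne_one_of_prime_order h)

theorem tau13_regular {M A U : Subgroup G} {p : ℕ} (maxM : IsCoatom M) (t2p : p ∈ tau2 M)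
    (EpA : IsPnElem p 2 A M) (sUM : U ≤ M) (t13U : IsPiGrp (tau1 M ∪ tau3 M) U) (cAU : U ≤ 𝒞(A)) :
    Semiregular (sigmaCore M) U := by
  obtain ⟨-, -, -, tiMs, -⟩ := tau2_context maxM t2p EpA
  refine semiregular_of_prime_order fun x hx prx => ?_
  have EX := zpowers_p1Elem prx hx
  obtain ⟨H, maxH, sNH⟩ := mmax_exists (norm_pgroup_proper (EX.pGrp prx) (zpowers_ne_bot_of_prime prx))
  have notJ := mmax_norm_notJ maxM maxH (EX.pGrp prx) (EX.le.trans sUM) sNH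
    (Or.inr (t13U _ prx (orderOf_dvd_card_of_mem hx)))
  have sCH : 𝒞[x] ≤ H := by rw [← cent_zpowers]; exact (cent_le_norm _).trans sNH
  refine eq_bot_of_le (inf_le_inf_left _ sCH) (tiMs H maxH ?_ fun e => notJ 1 (by rw [conjg_one, e]))
  exact ((le_cent_symm cAU).trans (cent_le_cent_singleton hx)).trans sCH

/-- Normal subgroups of coprime orders commute. -/
theorem normal_cop_cent {A B E : Subgroup G} (nsA : A ⊲ E) (nsB : B ⊲ E)
    (co : (Nat.card A).Coprime (Nat.card B)) : A ≤ 𝒞(B) :=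
  le_cent_of_norm_of_coprime (nsB.1.trans nsA.2) (nsA.1.trans nsB.2) co

theorem tau3_cent_tau2Elem {M E E₃ A : Subgroup G} {p : ℕ} (maxM : IsCoatom M)
    (hallE : IsPiHallOf (sigma M)ᶜ E M) (hallE₃ : IsPiHallOf (tau3 M) E₃ E) (t2p : p ∈ tau2 M)
    (EpA : IsPnElem p 2 A E) : E₃ ≤ 𝒞(A) :=
  normal_cop_cent (tau3_cyclic_normal maxM hallE hallE₃).2.2
    (tau2_compl_context maxM hallE t2p EpA).1.1
    (hallE₃.piGrp.coprime ((EpA.pGrp t2p.1).piGrp (tau3'2 t2p)))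

/-- B & G, Corollary 12.6(d, e). -/
theorem tau2_regular {M E E₁ E₂ E₃ A : Subgroup G} {p : ℕ} (maxM : IsCoatom M)
    (complE : SigmaCompl M E E₁ E₂ E₃) (t2p : p ∈ tau2 M) (EpA : IsPnElem p 2 A E) :
    Semiregular (sigmaCore M) E₃ ∧ Semiregular (sigmaCore M) (E₁ ⊓ 𝒞(A)) ∧
    ∀ U : Subgroup G, U ≤ M → IsPiGrp (tau1 M ∪ tau3 M) U → U ≤ 𝒞(A) →
      Semiregular (sigmaCore M) U := by
  have EpAM := EpA.mono complE.hallE.le
  refine ⟨tau13_regular maxM t2p EpAM (complE.hallE₃.le.trans complE.hallE.le)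
    (complE.hallE₃.piGrp.mono Set.subset_union_right)
    (tau3_cent_tau2Elem maxM complE.hallE complE.hallE₃ t2p EpA),
    tau13_regular maxM t2p EpAM (inf_le_left.trans (complE.hallE₁.le.trans complE.hallE.le))
    (IsPiGrp.inf_left (complE.hallE₁.piGrp.mono Set.subset_union_left) _) inf_le_right,
    fun U => tau13_regular maxM t2p EpAM⟩

theorem ex_sigmaCompl {M E : Subgroup G} (maxM : IsCoatom M) (hallE : IsPiHallOf (sigma M)ᶜ E M) :
    ∃ E₁ E₂ E₃ : Subgroup G, SigmaCompl M E E₁ E₂ E₃ := by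
  obtain ⟨E₁, E₂, E₃, h, -⟩ := ex_sigma_compl_tau1 maxM hallE bot_le (piGrp_bot _)
  exact ⟨E₁, E₂, E₃, h⟩

theorem sylow_nonabelian {p : ℕ} (hp : p.Prime) {P₀ S : Subgroup G} (pP₀ : IsPGrp p P₀)
    (nabP₀ : ¬ IsMulCommutative P₀) (sylS : IsSylowOf p S ⊤) : ¬ IsMulCommutative S := by
  intro cS
  obtain ⟨x, -, h⟩ := sylow_subJ hp sylS pP₀ le_top
  exact nabP₀ (abelian_of_le (abelian_conjg.2 cS) h)

/-- 12.7(a). -/
theorem nonabelian_tau2_eq {M E A P₀ : Subgroup G} {p : ℕ} (maxM : IsCoatom M)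
    (hallE : IsPiHallOf (sigma M)ᶜ E M) (t2p : p ∈ tau2 M) (EpA : IsPnElem p 2 A E)
    (pP₀ : IsPGrp p P₀) (nabP₀ : ¬ IsMulCommutative P₀) : tau2 M = {p} := by
  have hp := t2p.1
  refine Set.eq_singleton_iff_unique_mem.2 ⟨t2p, fun q t2q => ?_⟩
  by_contra neq
  have hq := t2q.1
  obtain ⟨B, EqB⟩ := ex_tau2Elem' hallE t2q
  obtain ⟨⟨nsB, -⟩, ⟨sCB, -⟩, -⟩ := tau2_compl_context maxM hallE t2q EqB
  have nsA := (tau2_compl_context maxM hallE t2p EpA).1.1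
  have cAB : B ≤ 𝒞(A) := normal_cop_cent nsB nsA ((EqB.pGrp hq).coprime_of_ne (EpA.pGrp hp) neq)
  obtain ⟨Q, maxQ, sBQ⟩ := max_normed_exists (EqB.pGrp hq) (nsA.1.trans nsB.2)
  obtain ⟨P₁, sylP₁, -, -, -, cQ⟩ := max_normed_2Elem_signaliser hp hq (Ne.symm neq) (EpA.mono le_top)
    ((tau2_not_beta maxM t2p).2 A (EpA.mono hallE.le)) maxQ
    (dvd_of_le (EqB.self.prime_dvd_card (by omega)) cAB)
  have h1 := cQ (narrow_of_pmaxElem EqB ((tau2_not_beta maxM t2q).2 B (EqB.mono hallE.le)) sBQ)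
  exact sylow_nonabelian hp pP₀ nabP₀ sylP₁ (tau2_pgroup_abelian maxM t2p
    (((h1.trans (cent_anti sBQ)).trans sCB).trans hallE.le) sylP₁.pGrp)

/-- B & G, Theorem 12.7, with `A₀ = C_A(M_σ)`. -/
theorem nonabelian_tau2 {M E A P₀ : Subgroup G} {p : ℕ} (maxM : IsCoatom M)
    (hallE : IsPiHallOf (sigma M)ᶜ E M) (t2p : p ∈ tau2 M) (EpA : IsPnElem p 2 A E)
    (pP₀ : IsPGrp p P₀) (nabP₀ : ¬ IsMulCommutative P₀) :
    tau2 M = {p} ∧
    (Nat.card ↥(A ⊓ 𝒞(sigmaCore M)) = p ∧ DProd (sigmaCore M) (A ⊓ 𝒞(sigmaCore M)) (fittingOf M)) ∧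
    (∀ X : Subgroup G, IsPnElem p 1 X E → X ≠ A ⊓ 𝒞(sigmaCore M) →
      sigmaCore M ⊓ 𝒞(X) = ⊥ ∧ ¬ 𝒞(X) ≤ M) ∧
    ∃ E₀ : Subgroup G, SDProd (A ⊓ 𝒞(sigmaCore M)) E₀ E ∧
      ∀ x ∈ sigmaCore M, x ≠ 1 → IsPiGrp (tau1 M) (E₀ ⊓ 𝒞[x]) := by
  have hp := t2p.1
  have s'p := t2p.2.1
  have pA := EpA.pGrp hp
  have EpAM := EpA.mono hallE.le
  have deft2 := nonabelian_tau2_eq maxM hallE t2p EpA pP₀ nabP₀
  obtain ⟨E₁, P, E₃, complE⟩ := ex_sigmaCompl maxM hallE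
  obtain ⟨⟨-, nsE₃⟩, -, -, ⟨d21, d3, -, -⟩, -⟩ := sigma_compl_context maxM complE
  obtain ⟨sylM, -, regA, -, -⟩ := tau2_context maxM t2p EpAM
  obtain ⟨⟨nsA, sXA⟩, ⟨sCAE, -, -⟩, uniqX, -⟩ := tau2_compl_context maxM hallE t2p EpA
  obtain ⟨regE₃, -, reg13⟩ := tau2_regular maxM complE t2p EpA
  have sylPE : IsSylowOf p P E := by
    have := complE.hallE₂
    rwa [deft2] at this
  have sylP : IsSylowOf p P M := sylPE.trans_hall hallE s'p
  have sAP : A ≤ P := sylPE.le_of_norm_le pA nsA.1 (sylPE.le.trans nsA.2)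
  have cP := (sylM P sylP).1
  obtain ⟨S, sylS, sPS⟩ := sylow_superset hp sylP.pGrp le_top
  have nabS := sylow_nonabelian hp pP₀ nabP₀ sylS
  have defSM : S ⊓ M = P :=
    IsPiHallOf.eq_of_le sylP (sylS.pGrp.inf_left _) (le_inf sPS sylP.le) inf_le_right
  have nSM : ¬ S ≤ M := fun h => nabS (tau2_pgroup_abelian maxM t2p h sylS.pGrp)
  have nMsA : A ≤ 𝒩(sigmaCore M) := EpAM.le.trans (Msigma_norm M)
  have coMsA := cop_Msigma_pGrp s'p pA
  obtain ⟨EpZ, hstr⟩ := basic_p2maxElem_structure hp (EpA.mono le_top)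
    ((tau2_not_beta maxM t2p).2 A EpAM) sylS.pGrp (sAP.trans sPS) nabS
  set Z := ohm1 p 𝒵(S) with hZ
  have nCZ : ¬ 𝒞(Z) ≤ M := fun h =>
    nSM ((le_cent_symm ((ohm1_le _ _).trans inf_le_right)).trans h)
  obtain ⟨A₀, EpA₀, nregA₀⟩ := exists_p1Elem_cent_ne_bot hp EpA (Msigma_neq1 maxM) nMsA coMsA
  have uA₀ := uniqX A₀ (EpA₀.mono EpA.le) nregA₀
  have neA₀Z : A₀ ≠ Z := fun e => nCZ (e ▸ uA₀.2.1)
  obtain ⟨-, ⟨Y, cycY, sZY, defCS⟩, trA⟩ := hstr A₀ EpA₀ neA₀Z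
  have nCX : ∀ X : Subgroup G, IsPnElem p 1 X A → X ≠ A₀ → ¬ 𝒞(X) ≤ M := by
    intro X EpX neX
    by_cases eXZ : X = Z
    · exact eXZ ▸ nCZ
    obtain ⟨s, hs, e⟩ := trA A₀ ⟨EpA₀, neA₀Z⟩ X ⟨EpX, eXZ⟩
    intro sCM
    have u := def_uniq_mmaxJ s uA₀
    rw [conjg_cent, ← e] at u
    have sM : s ∈ M := mem_of_conjg_mmax maxM (eq_uniq_mmax u maxM sCM).symm
    have sP : s ∈ P := defSM ▸ Subgroup.mem_inf.2 ⟨hs.1, sM⟩
    exact neX (e.trans (conjg_of_mem_norm (norm_of_le_abelian cP (EpA₀.le.trans sAP) sP)))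
  have regX : ∀ X : Subgroup G, IsPnElem p 1 X A → X ≠ A₀ → sigmaCore M ⊓ 𝒞(X) = ⊥ := by
    intro X EpX neX
    by_contra h
    exact nCX X EpX neX (uniqX X (EpX.mono EpA.le) h).2.1
  have cMsA₀ : sigmaCore M ≤ 𝒞(A₀) := by
    refine p2Elem_gen_cent_le hp EpA nMsA coMsA fun X EpX => ?_
    by_cases e : X = A₀
    · exact e ▸ inf_le_right
    · rw [regX X EpX e]; exact bot_le
  have ncMsZ : ¬ Z ≤ 𝒞(sigmaCore M) := fun h =>
    Msigma_neq1 maxM (eq_bot_of_le (le_inf le_rfl (le_cent_symm h)) (regX Z EpZ neA₀Z.symm))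
  have defP : DProd A₀ Y P := by
    have : S ⊓ 𝒞(A) = P := by
      apply le_antisymm
      · rw [← defSM]
        exact inf_le_inf_left _ (sCAE.trans hallE.le)
      · exact le_inf sPS ((abelian_iff_le_cent.1 cP).trans (cent_anti sAP))
    rwa [this] at defCS
  have defCP : P ⊓ 𝒞(sigmaCore M) = A₀ := by
    have h1 : 𝒞(sigmaCore M) ⊓ Y = ⊥ := by
      by_contra h
      exact ncMsZ ((ohm1_eq_of_cyclic hp cycY sZY EpZ.card_one).symm.le.trans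
        ((ohm1_le_of_cyclic (sylP.pGrp.of_le defP.right_le) cycY inf_le_right h).trans inf_le_left))
    rw [inf_comm, ← defP.sup_eq, inf_sup_of_left_le (Or.inr (norm_of_cent defP.cent))
      (le_cent_symm cMsA₀), h1, sup_bot_eq]
  have defA₀ : A ⊓ 𝒞(sigmaCore M) = A₀ :=
    le_antisymm (defCP ▸ inf_le_inf_right _ sAP) (le_inf EpA₀.le (le_cent_symm cMsA₀))
  rw [defA₀]
  have nA₀E : E ≤ 𝒩(A₀) := defA₀ ▸ norm_inf nsA.2 (norm_cent (hallE.le.trans (Msigma_norm M)))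
  have defM := sdprod_sigma maxM hallE
  have nsA₀M : A₀ ⊲ M := ⟨EpA₀.le.trans EpAM.le, defM.sup_eq ▸ sup_le (norm_of_cent cMsA₀) nA₀E⟩
  refine ⟨deft2, ⟨EpA₀.card_one, dprod_mk (le_cent_symm cMsA₀) ?_
    (inf_eq_bot_of_cop (cop_right coMsA EpA₀.le))⟩,
    fun X EpX neX => ⟨regX X (EpX.of_le (sXA X EpX)) neX, nCX X (EpX.of_le (sXA X EpX)) neX⟩, ?_⟩
  · -- the Fitting subgroup
    have nilMs := tau2_Msigma_nil maxM t2p
    have sMsF : sigmaCore M ≤ fittingOf M := fitting_max (Msigma_normal M) nilMs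
    apply le_antisymm (sup_le sMsF (fitting_max nsA₀M (IsPGrp.nil (EpA₀.pGrp hp))))
    refine fitting_le_of_forall_pcore fun q hq => ?_
    by_cases ntQ : pCoreOf q M = ⊥
    · rw [ntQ]; exact bot_le
    have qQ := pcore_pGrp q M
    by_cases sq : q ∈ sigma M
    · exact (sub_Msigma maxM (pcore_le _ _) (qQ.piGrp sq)).trans le_sup_left
    have cQMs : pCoreOf q M ≤ 𝒞(sigmaCore M) :=
      normal_cop_cent (pcore_normal _ _) (Msigma_normal M) (cop_Msigma_pGrp sq qQ).symm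
    have sQE : pCoreOf q M ≤ E := hallE.le_of_norm_le (qQ.piGrp sq) (pcore_le _ _)
      (hallE.le.trans (pcore_norm _ _))
    by_cases eq : q = p
    · subst eq
      exact (le_inf (IsPiHallOf.pcore_le sylP) cQMs).trans (defCP.le.trans le_sup_right)
    exfalso
    have t13 : q ∈ tau1 M ∪ tau3 M := by
      rcases tau123 maxM (pcore_le _ _) (qQ.piGrp sq) hq (qQ.dvd_card ntQ) with h | h | h
      · exact Or.inl h
      · exact absurd (deft2 ▸ h : q ∈ ({p} : Set ℕ)) eq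
      · exact Or.inr h
    have reg := reg13 _ (pcore_le _ _) (qQ.piGrp t13)
      (normal_cop_cent ((pcore_normal _ _).of_le sQE hallE.le) nsA (qQ.coprime_of_ne pA eq))
    exact Msigma_neq1 maxM (eq_bot_of_le (le_inf le_rfl (le_cent_symm cQMs))
      (cent_semiregular reg le_rfl ntQ))
  · -- the complement `E₀`
    have p'E₁ : IsPiGrp {p}ᶜ E₁ := p'_of_not_mem complE.hallE₁.piGrp fun h => tau2'1 h t2p
    have p'E₃ : IsPiGrp {p}ᶜ E₃ := p'_of_not_mem complE.hallE₃.piGrp (tau3'2 t2p)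
    obtain ⟨W, defW, nWE₁⟩ := exists_norm_dprod_of_coprime cP defP
      (PiNat.coprime (EpA₀.pGrp hp) (p'E₁.relIndex _)) d21.norm (complE.hallE₁.le.trans nA₀E)
    have sWE : W ≤ E := defW.right_le.trans sylPE.le
    have sWE₁ : W ⊔ E₁ ≤ E := sup_le sWE complE.hallE₁.le
    have sE₀ : E₃ ⊔ (W ⊔ E₁) ≤ E := sup_le nsE₃.1 sWE₁
    have sylW : IsSylowOf p W (E₃ ⊔ (W ⊔ E₁)) := by
      have pW : IsPGrp p W := sylP.pGrp.of_le defW.right_le
      refine IsPiHallOf.trans_index (pHall_left_of_sup (Or.inr nWE₁) rfl pW p'E₁) le_sup_right ?_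
      rw [relIndex_sup_right' (Or.inr (sWE₁.trans nsE₃.2))]
      exact p'E₃.relIndex _
    have ti : A₀ ⊓ (E₃ ⊔ (W ⊔ E₁)) = ⊥ := by
      rcases inf_eq_bot_or_le_of_card_prime (EpA₀.card_prime hp) (E₃ ⊔ (W ⊔ E₁)) with h | h
      · exact h
      · exact absurd (eq_bot_of_le (le_inf le_rfl (sylW.le_of_norm_le (EpA₀.pGrp hp) h
          (sWE.trans nA₀E))) defW.inf_eq) (EpA₀.ne_bot hp one_pos)
    refine ⟨E₃ ⊔ (W ⊔ E₁), sdprod_mk (sE₀.trans nA₀E) ?_ ti, fun x hx ntx q hq hd => ?_⟩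
    · rw [← d3.sup_eq, ← defW.sup_eq]
      ac_rfl
    obtain ⟨y, hy, oy⟩ := exists_mem_orderOf_eq hq hd
    have nreg : sigmaCore M ⊓ 𝒞[y] ≠ ⊥ :=
      ne_bot_of_mem (Subgroup.mem_inf.2 ⟨hx, mem_cent_singleton_comm.1 hy.2⟩) ntx
    have pry : (orderOf y).Prime := oy ▸ hq
    rcases tau123 maxM hallE.le hallE.piGrp hq (dvd_of_le hd (inf_le_left.trans sE₀)) with h | h | h
    · exact h
    · have eq : q = p := (deft2 ▸ h : q ∈ ({p} : Set ℕ))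
      subst eq
      have EY := zpowers_p1Elem pry (sE₀ hy.1)
      rw [oy] at EY
      refine absurd ?_ nreg
      rw [← cent_zpowers]
      refine regX _ (EY.of_le (sXA _ EY)) fun e => EpA₀.ne_bot hp one_pos ?_
      rw [← ti, ← e, inf_eq_left.2 (Subgroup.zpowers_le.2 hy.1)]
    · refine absurd (regE₃ y (complE.hallE₃.mem_of_normal nsE₃.2 ?_ (sE₀ hy.1))
        (ne_one_of_prime_order pry)) nreg
      rw [IsPiElt, oy]
      exact (piNat_prime_iff hq).2 h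

end CA.BG.P12
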