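/-
B & G section 12, part c: Lemma 12.8 - Lemma 12.11.
-/
import Cfsg.Agent.BG.P12b

set_option autoImplicit false
set_option linter.unusedSectionVars false
set_option linter.unusedVariables false

namespace CA.BG.P12

open Cfsg CA.FG CA.BG.P11

universe u

section General

variable {G : Type u} [Group G] [Finite G]

/-- A nilpotent group whose `p`-cores are abelian is abelian. -/
theorem nil_abelian_of_pcore {H : Subgroup G} (nilH : Group.IsNilpotent H)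
    (h : ∀ p : ℕ, p.Prime → IsMulCommutative (pCoreOf p H)) : IsMulCommutative H := by
  rw [abelian_iff_le_cent]
  refine nil_le_of_forall_pcore nilH fun p hp => le_cent_symm ?_
  refine nil_le_of_forall_pcore nilH fun q hq => ?_
  by_cases e : q = p
  · subst e
    exact abelian_iff_le_cent.1 (h q hq)
  · exact pcore_cent_of_disjoint (fun r (h1 : r = q) (h2 : r = p) => e (h1.symm.trans h2)) H

/-- An abelian Hall subgroup of a nilpotent group is central. -/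
theorem nil_cent_of_abelian_hall {π : Set ℕ} {H K : Subgroup G} (nilH : Group.IsNilpotent H)
    (hallK : IsPiHallOf π K H) (cK : IsMulCommutative K) : H ≤ 𝒞(K) := by
  have d := nilpotent_pcoreC π nilH
  rw [← nilpotent_Hall_pcore nilH hallK] at d
  exact d.sup_eq.ge.trans (sup_le (abelian_iff_le_cent.1 cK) d.cent)

/-- If `N / C_N(K)` is abelian then `C_K(X)` and `[K, X]` are `N`-invariant for every `X ≤ N`. -/
theorem norm_cent_comm_of_der {N K X : Subgroup G} (nKN : N ≤ 𝒩(K)) (sXN : X ≤ N)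
    (h : ⁅N, N⁆ ≤ 𝒞(K)) : N ≤ 𝒩(K ⊓ 𝒞(X)) ∧ N ≤ 𝒩(⁅K, X⁆) := by
  have nY : N ≤ 𝒩(X ⊔ (N ⊓ 𝒞(K))) :=
    norm_of_comm_le (sup_le sXN inf_le_left) ((le_inf (der_le N) h).trans le_sup_right)
  constructor
  · have e : K ⊓ 𝒞(X) = K ⊓ 𝒞(X ⊔ (N ⊓ 𝒞(K))) := by
      rw [cent_sup]
      exact le_antisymm (le_inf inf_le_left (le_inf inf_le_right
        (inf_le_left.trans (le_cent_symm inf_le_right)))) (inf_le_inf_left _ inf_le_left)
    rw [e]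
    exact norm_inf nKN (norm_cent nY)
  · have e : ⁅X ⊔ (N ⊓ 𝒞(K)), K⁆ = ⁅X, K⁆ :=
      comm_sup_left_of_cent' (sXN.trans (inf_cent_normalIn_of_norm nKN).2) inf_le_right
    rw [Subgroup.commutator_comm, ← e]
    exact norm_comm nY nKN

theorem pgroup_abelian_of_sylow {p : ℕ} (hp : p.Prime) {S P : Subgroup G} (sylS : IsSylowOf p S ⊤)
    (cS : IsMulCommutative S) (pP : IsPGrp p P) : IsMulCommutative P := by
  obtain ⟨x, -, h⟩ := sylow_subJ hp sylS pP le_top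
  exact abelian_of_le (abelian_conjg.2 cS) h

theorem fitting_eq_fitting_cent {p : ℕ} (hp : p.Prime) {S A H : Subgroup G} (sylS : IsSylowOf p S ⊤)
    (cS : IsMulCommutative S) (pA : IsPGrp p A) (nsA : A ⊲ H) (sCH : 𝒞(A) ≤ H) :
    fittingOf H = fittingOf 𝒞(A) := by
  apply le_antisymm
  · refine fitting_le_of_le sCH (fitting_le_of_forall_pcore fun q hq => ?_)
    by_cases e : q = p
    · subst e
      exact (abelian_iff_le_cent.1 (pgroup_abelian_of_sylow hq sylS cS (pcore_pGrp q H))).trans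
        (cent_anti (pcore_max nsA pA))
    · exact le_cent_of_norm_of_coprime (nsA.1.trans (pcore_norm _ _)) ((pcore_le _ _).trans nsA.2)
        ((pcore_pGrp q H).coprime_of_ne pA e)
  · exact NormalIn.fitting_le ⟨sCH, norm_cent nsA.2⟩

theorem dvd_relIndex_of_le_left {H K L : Subgroup G} {n : ℕ} (h : n ∣ K.relIndex L) (hHK : H ≤ K) :
    n ∣ H.relIndex L := h.trans (Subgroup.relIndex_dvd_of_le_left L hHK)

end General

variable {G : Type u} [Group G] [MinSimpleOdd G]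

/-- B & G, Corollary 12.10(a). -/
theorem sigma'_nil_abelian {M N : Subgroup G} (maxM : IsCoatom M) (sNM : N ≤ M)
    (s'N : IsPiGrp (sigma M)ᶜ N) (nilN : Group.IsNilpotent N) : IsMulCommutative N := by
  refine nil_abelian_of_pcore nilN fun p hp => ?_
  by_cases nt : pCoreOf p N = ⊥
  · rw [nt]; exact abelian_of_cyclic cyclic_bot
  have sPM := (pcore_le {p} N).trans sNM
  rcases tau123 maxM sPM (s'N.of_le (pcore_le _ _)) hp ((pcore_pGrp p N).dvd_card nt) with h | h | h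
  · exact abelian_of_cyclic (tau13_pgroup_cyclic (Or.inl h) sPM (pcore_pGrp p N))
  · exact tau2_pgroup_abelian maxM h sPM (pcore_pGrp p N)
  · exact abelian_of_cyclic (tau13_pgroup_cyclic (Or.inr h) sPM (pcore_pGrp p N))

/-- B & G, Corollary 12.10(b), first assertion. -/
theorem der_mmax_compl_abelian {M E : Subgroup G} (maxM : IsCoatom M)
    (hallE : IsPiHallOf (sigma M)ᶜ E M) : IsMulCommutative ↥⁅E, E⁆ :=
  sigma'_nil_abelian maxM ((der_le E).trans hallE.le) (hallE.piGrp.of_le (der_le E))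
    (der1_sigma_compl_nil maxM hallE)

theorem abelian_tau2_ohm1 {M E A S : Subgroup G} {p : ℕ} (maxM : IsCoatom M)
    (hallE : IsPiHallOf (sigma M)ᶜ E M) (t2p : p ∈ tau2 M) (EpA : IsPnElem p 2 A E)
    (sylS : IsSylowOf p S ⊤) (sAS : A ≤ S) (cSS : IsMulCommutative S) : S ≤ E ∧ ohm1 p S = A := by
  have sSE : S ≤ E := ((abelian_iff_le_cent.1 cSS).trans (cent_anti sAS)).trans
    (tau2_compl_context maxM hallE t2p EpA).2.1.1
  exact ⟨sSE, (((tau2_context maxM t2p (EpA.mono hallE.le)).1 S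
    (IsPiHallOf.of_le sylS (sSE.trans hallE.le) le_top)).2 sAS).1⟩

/-- B & G, Lemma 12.8(c). -/
theorem abelian_tau2_sub_Fitting {M E A S : Subgroup G} {p : ℕ} (maxM : IsCoatom M)
    (hallE : IsPiHallOf (sigma M)ᶜ E M) (t2p : p ∈ tau2 M) (EpA : IsPnElem p 2 A E)
    (sylS : IsSylowOf p S ⊤) (sAS : A ≤ S) (cSS : IsMulCommutative S) :
    S ≤ ⁅𝒩(S), 𝒩(S)⁆ ∧ ⁅𝒩(S), 𝒩(S)⁆ ≤ fittingOf E ∧ fittingOf E ≤ 𝒞(S) ∧ 𝒞(S) ≤ E := by
  have hp := t2p.1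
  have pA := EpA.pGrp hp
  obtain ⟨⟨nsA, -⟩, ⟨sCAE, -, -⟩, -⟩ := tau2_compl_context maxM hallE t2p EpA
  obtain ⟨sSE, defA⟩ := abelian_tau2_ohm1 maxM hallE t2p EpA sylS sAS cSS
  have eF : fittingOf E = fittingOf 𝒩(A) := by
    rw [fitting_eq_fitting_cent hp sylS cSS pA nsA sCAE,
      fitting_eq_fitting_cent hp sylS cSS pA ⟨Subgroup.le_normalizer, le_rfl⟩ (cent_le_norm A)]
  have sNSA : 𝒩(S) ≤ 𝒩(A) := defA ▸ (charIn_ohm1 p S).norm_le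
  have h2 : ⁅𝒩(S), 𝒩(S)⁆ ≤ fittingOf E := by
    rw [eF]
    refine (der_mono sNSA).trans (rank2_der1_sub_Fitting (mFT_odd _)
      (mFT_sol (norm_pgroup_proper pA (EpA.ne_bot hp (by omega)))) ?_)
    rw [← eF]
    exact (rank_mono (fitting_le E)).trans (sigma'_grp_rank_le maxM hallE.le hallE.piGrp)
  have h1 := mFT_Sylow_der1 hp sylS
  exact ⟨h1, h2, nil_cent_of_abelian_hall (fitting_nil E) (IsPiHallOf.of_le sylS (h1.trans h2) le_top) cSS,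
    (cent_anti sAS).trans sCAE⟩

/-- If the Sylow `p`-subgroups are abelian for one `p ∈ τ₂(M)`, they are for all `q ∈ τ₂(M)`. -/
theorem abelian_tau2_all {M E S Q : Subgroup G} {p q : ℕ} (maxM : IsCoatom M)
    (hallE : IsPiHallOf (sigma M)ᶜ E M) (t2p : p ∈ tau2 M) (sylS : IsSylowOf p S ⊤)
    (cSS : IsMulCommutative S) (t2q : q ∈ tau2 M) (qQ : IsPGrp q Q) : IsMulCommutative Q := by
  by_contra nabQ
  obtain ⟨B, EqB⟩ := ex_tau2Elem' hallE t2q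
  have e : p = q := (nonabelian_tau2_eq maxM hallE t2q EqB qQ nabQ ▸ t2p : p ∈ ({q} : Set ℕ))
  subst e
  exact nabQ (pgroup_abelian_of_sylow t2p.1 sylS cSS qQ)

/-- B & G, Lemma 12.8(a, b, d, e). -/
theorem abelian_tau2 {M E E₁ E₂ E₃ A S : Subgroup G} {p : ℕ} (maxM : IsCoatom M)
    (complE : SigmaCompl M E E₁ E₂ E₃) (t2p : p ∈ tau2 M) (EpA : IsPnElem p 2 A E)
    (sylS : IsSylowOf p S ⊤) (sAS : A ≤ S) (cSS : IsMulCommutative S) :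
    (E₂ ⊲ E ∧ IsMulCommutative E₂) ∧ IsPiHallOf (tau2 M) E₂ ⊤ ∧
    (𝒩(A) = 𝒩(S) ∧ 𝒩(S) = 𝒩(E₂) ∧ 𝒩(E₂) = 𝒩(E₃ ⊔ E₂) ∧ 𝒩(E₃ ⊔ E₂) = 𝒩(fittingOf E)) ∧
    ∀ X : Subgroup G, X ≤ E₁ → (Nat.card X).Prime → sigmaCore M ⊓ 𝒞(X) = ⊥ → X ≤ 𝒵(E) := by
  have hp := t2p.1
  have pA := EpA.pGrp hp
  have hallE := complE.hallE
  obtain ⟨⟨-, nsE₃⟩, -, ⟨cycE₁, cycE₃⟩, ⟨-, -, d32, d321⟩, -⟩ := sigma_compl_context maxM complE
  obtain ⟨⟨nsA, -⟩, ⟨sCAE, -, nNAM⟩, -⟩ := tau2_compl_context maxM hallE t2p EpA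
  obtain ⟨sSN', sN'F, -, -⟩ := abelian_tau2_sub_Fitting maxM hallE t2p EpA sylS sAS cSS
  obtain ⟨sSE, defA⟩ := abelian_tau2_ohm1 maxM hallE t2p EpA sylS sAS cSS
  have nilF := fitting_nil E
  have hallO : IsPiHallOf (tau2 M) (piCoreOf (tau2 M) (fittingOf E)) ⊤ := by
    refine pHall_mk le_top (pcore_piGrp _ _) (piNat_compl_iff.2 fun q hq t2q hd => ?_)
    obtain ⟨B, EqB⟩ := ex_tau2Elem' hallE t2q
    obtain ⟨Q, sylQ, sBQ⟩ := sylow_superset hq (EqB.pGrp hq) le_top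
    obtain ⟨h1, h2, -⟩ := abelian_tau2_sub_Fitting maxM hallE t2q EqB sylQ sBQ
      (abelian_tau2_all maxM hallE t2p sylS cSS t2q sylQ.pGrp)
    exact sylQ.not_dvd_index hq (dvd_relIndex_of_le_left hd
      (nilpotent_le_pcore nilF (h1.trans h2) (sylQ.pGrp.piGrp t2q)))
  have nsO := (fitting_normal E).pcore (tau2 M)
  have defE₂ : E₂ = piCoreOf (tau2 M) (fittingOf E) :=
    (hallO.of_le nsO.1 le_top).eq_of_normal nsO.2 complE.hallE₂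
  rw [← defE₂] at hallO nsO
  have sE₂F : E₂ ≤ fittingOf E := defE₂ ▸ pcore_le _ _
  have cE₂ : IsMulCommutative E₂ := sigma'_nil_abelian maxM (nsO.1.trans hallE.le)
    (hallE.piGrp.of_le nsO.1) (nil_of_le nilF sE₂F)
  have sKF : E₃ ⊔ E₂ ≤ fittingOf E := sup_le (fitting_max nsE₃ (nil_of_cyclic cycE₃)) sE₂F
  have hallK : IsPiHallOf (tau3 M ∪ tau2 M) (E₃ ⊔ E₂) (fittingOf E) :=
    (complE.hallE₃.sup complE.hallE₂ (Or.inr d32.norm)).of_le sKF (fitting_le E)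
  have sSE₂ : S ≤ E₂ := complE.hallE₂.le_of_normal nsO.2 (sylS.pGrp.piGrp t2p) sSE
  have h1 : 𝒩(S) ≤ 𝒩(A) := defA ▸ (charIn_ohm1 p S).norm_le
  have h2 : 𝒩(A) ≤ 𝒩(fittingOf E) := by
    rw [fitting_eq_fitting_cent hp sylS cSS pA nsA sCAE]
    exact norm_fitting (norm_cent le_rfl)
  have h3 : 𝒩(fittingOf E) ≤ 𝒩(E₃ ⊔ E₂) :=
    hallK.norm_le_norm ((fitting_le E).trans (nsE₃.sup nsO).2)
  have h4 : 𝒩(E₃ ⊔ E₂) ≤ 𝒩(E₂) :=
    (complE.hallE₂.of_le le_sup_right d321.left_le).norm_le_norm (d321.left_le.trans nsO.2)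
  have h5 : 𝒩(E₂) ≤ 𝒩(S) :=
    (IsPiHallOf.of_le sylS sSE₂ le_top).norm_le_norm (norm_of_le_abelian cE₂ sSE₂)
  refine ⟨⟨nsO, cE₂⟩, hallO, ⟨le_antisymm (h2.trans (h3.trans (h4.trans h5))) h1,
    le_antisymm (h1.trans (h2.trans (h3.trans h4))) h5,
    le_antisymm (h5.trans (h1.trans (h2.trans h3))) h4,
    le_antisymm (h4.trans (h5.trans (h1.trans h2))) h3⟩, fun X sXE₁ prX regX => ?_⟩
  have sXE := sXE₁.trans complE.hallE₁.le
  have cK : IsMulCommutative ↥(E₃ ⊔ E₂) := sigma'_nil_abelian maxM (d321.left_le.trans hallE.le)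
    (hallE.piGrp.of_le d321.left_le) (nil_of_le nilF sKF)
  have t1r : Nat.card X ∈ tau1 M := complE.hallE₁.piGrp _ prX (Subgroup.card_dvd_of_le sXE₁)
  have nsKX := (commG_sigma'_1Elem_cyclic maxM (d321.left_le.trans hallE.le)
    (hallE.piGrp.of_le d321.left_le) prX
    (p'_of_not_mem hallK.piGrp fun h => h.elim (tau3'1 t1r) (tau2'1 t1r)) t1r.2.1
    ((pnElem_one_iff prX).2 ⟨le_inf (sXE.trans hallE.le) (sXE₁.trans d321.norm), rfl⟩) regX cK).2.2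
  have cKX : ⁅E₃ ⊔ E₂, X⁆ = ⊥ := by
    by_contra nt
    apply nNAM
    rw [← mmax_normal maxM nsKX nt]
    exact (norm_cent_comm_of_der (h2.trans h3) (sXE.trans nsA.2)
      ((der_mono (h2.trans (h3.trans (h4.trans h5)))).trans
        (sN'F.trans (nil_cent_of_abelian_hall nilF hallK cK)))).2
  refine le_inf sXE ?_
  rw [← d321.sup_eq]
  exact le_cent_sup (comm_eq_bot_iff'.1 cKX)
    (sXE₁.trans (abelian_iff_le_cent.1 (abelian_of_cyclic cycE₁)))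

/-- B & G, Lemma 12.8(f). -/
theorem abelian_tau2_norm_Sylow {M E A S : Subgroup G} {p : ℕ} (maxM : IsCoatom M)
    (hallE : IsPiHallOf (sigma M)ᶜ E M) (t2p : p ∈ tau2 M) (EpA : IsPnElem p 2 A E)
    (sylS : IsSylowOf p S ⊤) (sAS : A ≤ S) (cSS : IsMulCommutative S) {X : Subgroup G}
    (nSX : X ≤ 𝒩(S)) : S ⊓ 𝒞(X) ⊲ 𝒩(S) ∧ ⁅S, X⁆ ⊲ 𝒩(S) := by
  obtain ⟨-, h1, h2, -⟩ := abelian_tau2_sub_Fitting maxM hallE t2p EpA sylS sAS cSS
  obtain ⟨h3, h4⟩ := norm_cent_comm_of_der le_rfl nSX (h1.trans h2)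
  exact ⟨⟨inf_le_left.trans Subgroup.le_normalizer, h3⟩,
    ⟨(comm_le_left nSX).trans Subgroup.le_normalizer, h4⟩⟩

/-- Subgroups of order `q` of `M` are conjugate in `M` when the Sylow `q`-subgroups are cyclic. -/
theorem tau13_p1Elem_conj {M X Y : Subgroup G} {q : ℕ} (t13q : q ∈ tau1 M ∨ q ∈ tau3 M)
    (EqX : IsPnElem q 1 X M) (EqY : IsPnElem q 1 Y M) : ∃ m ∈ M, Y = X :^ m := by
  have hq : q.Prime := t13q.elim (fun h => h.1) (fun h => h.1)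
  obtain ⟨T, sylT, sYT⟩ := sylow_superset hq (EqY.pGrp hq) EqY.le
  obtain ⟨m, hm, sXT⟩ := sylow_Jsub hq sylT (EqX.pGrp hq) EqX.le
  exact ⟨m, hm, eq_of_cyclic_of_card_eq (tau13_pgroup_cyclic t13q sylT.le sylT.pGrp) sYT sXT
    (by rw [card_conjg, EqX.card, EqY.card])⟩

/-- B & G, Corollary 12.9, with `A₀ = [A, Q]`, `A₁ = C_A(Q)`. -/
theorem tau1_act_tau2 {M E A Q : Subgroup G} {p q : ℕ} (maxM : IsCoatom M)
    (hallE : IsPiHallOf (sigma M)ᶜ E M) (t2p : p ∈ tau2 M) (EpA : IsPnElem p 2 A E)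
    (t1q : q ∈ tau1 M) (EqQ : IsPnElem q 1 Q E) (regQ : sigmaCore M ⊓ 𝒞(Q) = ⊥) (ntAQ : ⁅A, Q⁆ ≠ ⊥) :
    (IsPnElem p 1 ⁅A, Q⁆ A ∧ A ⊓ 𝒞(sigmaCore M) = ⁅A, Q⁆ ∧ ⁅A, Q⁆ ⊲ M) ∧
    (∀ g, ⁅A, Q⁆ ≠ (A ⊓ 𝒞(Q)) :^ g) ∧
    (IsPnElem p 1 (A ⊓ 𝒞(Q)) A ∧ ¬ 𝒞(A ⊓ 𝒞(Q)) ≤ M) := by
  have hp := t2p.1
  have hq := t1q.1
  have pA := EpA.pGrp hp
  have qQ := EqQ.pGrp hq
  have neq : q ≠ p := fun e => tau2'1 t1q (e ▸ t2p)
  obtain ⟨⟨nsA, -⟩, -⟩ := tau2_compl_context maxM hallE t2p EpA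
  have nAQ : Q ≤ 𝒩(A) := EqQ.le.trans nsA.2
  have defA := coprime_abelian_cent_dprod nAQ (pA.coprime_of_ne qQ neq.symm) EpA.abelian
  obtain ⟨cMs, cyc₀, ns₀⟩ := commG_sigma'_1Elem_cyclic maxM (EpA.le.trans hallE.le) (pA.piGrp t2p.2.1)
    hq (p'_of_ne pA neq) t1q.2.1 (EqQ.of_le (le_inf (EqQ.le.trans hallE.le) nAQ)) regQ EpA.abelian
  have Ep₀ : IsPnElem p 1 ⁅A, Q⁆ A := (pnElem_one_iff hp).2 ⟨defA.left_le,
    card_eq_of_abelem_of_cyclic hp (abelem_of_le EpA.abelem defA.left_le) cyc₀ ntAQ⟩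
  have Ep₁ : IsPnElem p 1 (A ⊓ 𝒞(Q)) A := by
    refine (pnElem_one_iff hp).2 ⟨inf_le_left, ?_⟩
    have := defA.card_mul
    rw [Ep₀.card_one, EpA.card, sq] at this
    exact Nat.eq_of_mul_eq_mul_left hp.pos this
  obtain ⟨S, sylS, sAS⟩ := sylow_superset hp pA le_top
  have nabS : ¬ IsMulCommutative S := by
    intro cS
    obtain ⟨E₁, E₂, E₃, complE, sQE₁⟩ := ex_sigma_compl_tau1 maxM hallE EqQ.le (qQ.piGrp t1q)
    have := (abelian_tau2 maxM complE t2p EpA sylS sAS cS).2.2.2 Q sQE₁ (EqQ.card_prime hq) regQ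
    exact ntAQ (comm_eq_bot_iff'.2 (this.trans (inf_le_right.trans (cent_anti EpA.le))))
  obtain ⟨-, ⟨oA₀, -⟩, regX, -⟩ := nonabelian_tau2 maxM hallE t2p EpA sylS.pGrp nabS
  have defA₀ : A ⊓ 𝒞(sigmaCore M) = ⁅A, Q⁆ :=
    (Ep₀.eq_of_le ((pnElem_one_iff hp).2 ⟨(inf_le_left : _ ≤ A), oA₀⟩) (le_inf defA.left_le cMs)).symm
  have ne01 : A ⊓ 𝒞(Q) ≠ ⁅A, Q⁆ := fun e => ntAQ (by
    have := defA.inf_eq
    rwa [e, inf_idem] at this)
  refine ⟨⟨Ep₀, defA₀, ns₀⟩, fun g e => ?_, Ep₁, (regX _ (Ep₁.mono EpA.le) (defA₀ ▸ ne01)).2⟩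
  have h1 : Q :^ g ≤ 𝒞(⁅A, Q⁆) := by
    rw [e]
    exact conjg_le_cent_iff.2 (le_cent_symm inf_le_right)
  have h2 : Q :^ g ≤ M := by
    rw [← mmax_normal maxM ns₀ ntAQ]
    exact h1.trans (cent_le_norm _)
  obtain ⟨m, hm, e'⟩ := tau13_p1Elem_conj (Or.inl t1q) (EqQ.mono hallE.le) (EqQ.conjg_of_le h2)
  rw [e', ← conjg_of_mem_norm (ns₀.2 hm), conjg_le_cent_iff] at h1
  exact ntAQ (eq_bot_of_le (le_inf le_rfl (le_inf defA.left_le (le_cent_symm h1))) defA.inf_eq)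

/-- B & G, Corollary 12.10(b), second assertion. -/
theorem tau2_compl_abelian {M E E₂ : Subgroup G} (maxM : IsCoatom M)
    (hallE : IsPiHallOf (sigma M)ᶜ E M) (hallE₂ : IsPiHallOf (tau2 M) E₂ E) :
    IsMulCommutative E₂ := by
  by_cases nt : E₂ = ⊥
  · rw [nt]; exact abelian_of_cyclic cyclic_bot
  obtain ⟨p, t2p, A, EpA, sAE₂, -⟩ := ex_tau2Elem hallE hallE₂ nt
  obtain ⟨S, sylS, sAS⟩ := sylow_superset t2p.1 (EpA.pGrp t2p.1) le_top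
  by_cases cS : IsMulCommutative S
  · obtain ⟨E₁, E₂', E₃, complE⟩ := ex_sigmaCompl maxM hallE
    obtain ⟨⟨ns, c⟩, -⟩ := abelian_tau2 maxM complE t2p EpA sylS sAS cS
    rwa [complE.hallE₂.eq_of_normal ns.2 hallE₂]
  · refine tau2_pgroup_abelian maxM t2p (hallE₂.le.trans hallE.le) ?_
    have := hallE₂.piGrp
    rwa [nonabelian_tau2_eq maxM hallE t2p EpA sylS.pGrp cS] at this

/-- B & G, Corollary 12.10(c). -/
theorem tau1_cent_tau2Elem_factor {M E A : Subgroup G} {p : ℕ} (maxM : IsCoatom M)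
    (hallE : IsPiHallOf (sigma M)ᶜ E M) (t2p : p ∈ tau2 M) (EpA : IsPnElem p 2 A E) :
    (∀ E₁ E₂ E₃ : Subgroup G, SigmaCompl M E E₁ E₂ E₃ → E₃ ⊔ E₂ ≤ E ⊓ 𝒞(A)) ∧
    E ⊓ 𝒞(A) ⊲ E ∧ PiNat (tau1 M) ((𝒞(A)).relIndex E) := by
  obtain ⟨⟨nsA, -⟩, -⟩ := tau2_compl_context maxM hallE t2p EpA
  have h1 : ∀ E₁ E₂ E₃ : Subgroup G, SigmaCompl M E E₁ E₂ E₃ → E₃ ⊔ E₂ ≤ E ⊓ 𝒞(A) := by
    intro E₁ E₂ E₃ complE
    refine le_inf (sup_le complE.hallE₃.le complE.hallE₂.le)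
      (sup_le (tau3_cent_tau2Elem maxM hallE complE.hallE₃ t2p EpA) ?_)
    exact (abelian_iff_le_cent.1 (tau2_compl_abelian maxM hallE complE.hallE₂)).trans
      (cent_anti (complE.hallE₂.le_of_norm_le ((EpA.pGrp t2p.1).piGrp t2p) EpA.le
        (complE.hallE₂.le.trans nsA.2)))
  refine ⟨h1, inf_cent_normalIn_of_norm nsA.2, ?_⟩
  obtain ⟨E₁, E₂, E₃, complE⟩ := ex_sigmaCompl maxM hallE
  refine piNat_relIndex_of_le_left ((h1 _ _ _ complE).trans inf_le_right) ?_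
  rw [(sigma_compl_context maxM complE).2.2.2.1.2.2.2.complIn.relIndex_left]
  exact complE.hallE₁.piGrp

/-- B & G, Corollary 12.10(d). -/
theorem norm_noncyclic_sigma {M P : Subgroup G} {p : ℕ} (maxM : IsCoatom M) (sMp : p ∈ sigma M)
    (pP : IsPGrp p P) (sPM : P ≤ M) (ncP : ¬ IsCyclic P) : 𝒩(P) ≤ M := by
  have hp := sigma_prime sMp
  obtain ⟨A, EpA⟩ := exists_p2Elem hp pP ncP
  rw [← sigma_group_trans_c maxM sMp pP sPM]
  exact sup_le ((cent_anti EpA.le).trans (p2Elem_mmax hp maxM (EpA.mono sPM)).1) inf_le_left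

/-- B & G, Corollary 12.10(e). -/
theorem cent1_nreg_sigma_uniq {M : Subgroup G} {x : G} (maxM : IsCoatom M) (Mx : x ∈ M) (ntx : x ≠ 1)
    (t2x : IsPiElt (tau2 M) x) (ntC : sigmaCore M ⊓ 𝒞[x] ≠ ⊥) : UniqMax 𝒞[x] M := by
  have t2X : IsPiGrp (tau2 M) (Subgroup.zpowers x) := piGrp_zpowers_iff.2 t2x
  obtain ⟨E, hallE, sXE⟩ := ex_sigma_compl maxM (Subgroup.zpowers_le.2 Mx) (t2X.mono fun p h => h.2.1)
  obtain ⟨E₂, hallE₂, sXE₂⟩ := Hall_superset (sol_of_le (mmax_sol maxM) hallE.le) sXE t2X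
  have hx : x ∈ E₂ := sXE₂ (Subgroup.mem_zpowers x)
  obtain ⟨p, t2p, A, -, sAE₂, EpA⟩ := ex_tau2Elem hallE hallE₂ (ne_bot_of_mem hx ntx)
  refine uniqMax_of_forall maxM (mFT_cent1_proper ntx) fun H maxH sCH => ?_
  by_contra neH
  refine ntC (eq_bot_of_le (inf_le_inf_left _ sCH) ((tau2_context maxM t2p EpA).2.2.2.1 H maxH ?_ neH))
  exact ((sAE₂.trans (abelian_iff_le_cent.1 (tau2_compl_abelian maxM hallE hallE₂))).trans
    (cent_le_cent_singleton hx)).trans sCH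

theorem not_beta_of_not_ideal {M : Subgroup G} {p : ℕ} (h : ¬ IsIdealPrime p G) : p ∉ beta M :=
  fun hb => h hb.2

/-- 12.11(a). -/
theorem primes_norm_tau2Elem_a {M E A H : Subgroup G} {p : ℕ} (maxM : IsCoatom M)
    (hallE : IsPiHallOf (sigma M)ᶜ E M) (t2p : p ∈ tau2 M) (EpA : IsPnElem p 2 A E)
    (maxH : IsCoatom H) (sNH : 𝒩(A) ≤ H) : ∀ q ∈ tau2 M, q ∈ sigma H ∧ q ∉ beta H := by
  intro q t2q
  refine ⟨?_, not_beta_of_not_ideal (tau2_not_beta maxM t2q).1⟩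
  have hq := t2q.1
  obtain ⟨B, EqB, sNBH⟩ : ∃ B : Subgroup G, IsPnElem q 2 B E ∧ 𝒩(B) ≤ H := by
    by_cases e : q = p
    · exact ⟨A, e ▸ EpA, sNH⟩
    obtain ⟨B, EqB⟩ := ex_tau2Elem' hallE t2q
    obtain ⟨S, sylS, sAS⟩ := sylow_superset t2p.1 (EpA.pGrp t2p.1) le_top
    obtain ⟨Q, sylQ, sBQ⟩ := sylow_superset hq (EqB.pGrp hq) le_top
    have cS : IsMulCommutative S := by
      by_contra nab
      exact e (nonabelian_tau2_eq maxM hallE t2p EpA sylS.pGrp nab ▸ t2q : q ∈ ({p} : Set ℕ))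
    obtain ⟨E₁, E₂, E₃, complE⟩ := ex_sigmaCompl maxM hallE
    obtain ⟨-, -, ⟨h1, h2, -⟩, -⟩ := abelian_tau2 maxM complE t2p EpA sylS sAS cS
    obtain ⟨-, -, ⟨h3, h4, -⟩, -⟩ := abelian_tau2 maxM complE t2q EqB sylQ sBQ
      (abelian_tau2_all maxM hallE t2p sylS cS t2q sylQ.pGrp)
    exact ⟨B, EqB, by rwa [h3, h4, ← h2, ← h1]⟩
  by_contra s'q
  have sBH : B ≤ H := Subgroup.le_normalizer.trans sNBH
  obtain ⟨F, hallF, sBF⟩ := ex_sigma_compl maxH sBH ((EqB.pGrp hq).piGrp s'q)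
  exact (tau2_compl_context maxH hallF (sigma'2Elem_tau2 hq maxH s'q (EqB.of_le sBH))
    (EqB.of_le sBF)).2.1.2.2 sNBH

/-- Primes dividing `|M : M'|` lie in `τ₁(M) ∪ τ₂(M)`. -/
theorem tau12_of_dvd_der {M : Subgroup G} (maxM : IsCoatom M) {q : ℕ} (hq : q.Prime)
    (hd : q ∣ (⁅M, M⁆ : Subgroup G).relIndex M) : q ∈ tau1 M ∪ tau2 M := by
  have s'q := der1_quo_sigma' maxM hq hd
  rcases (partition_pi_mmax maxM).1
    ⟨hq, hd.trans (Dvd.intro_left _ (card_mul_relIndex (der_le M)))⟩ with h | h | h | h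
  · exact Or.inl h
  · exact Or.inr h
  · exfalso
    obtain ⟨Q, sylQ⟩ := sylow_exists hq M
    rcases cyclic_Sylow_tiVsub_der1 hq sylQ (tau13_pgroup_cyclic (Or.inr h) sylQ.le sylQ.pGrp)
      with h' | h'
    · exact (IsPiHallOf.inf_normal sylQ (der_normalIn M)).ne_bot hq rfl h.2.2.1 h'
    · exact sylQ.not_dvd_index hq (dvd_relIndex_of_le_left hd h')
  · exact absurd h s'q

/-- 12.11(b). -/
theorem primes_norm_tau2Elem_b {M E A H : Subgroup G} {p : ℕ} (maxM : IsCoatom M)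
    (hallE : IsPiHallOf (sigma M)ᶜ E M) (t2p : p ∈ tau2 M) (EpA : IsPnElem p 2 A E)
    (maxH : IsCoatom H) (sNH : 𝒩(A) ≤ H) : PiNat (tau1 H ∪ tau2 H) ((𝒞(A)).relIndex E) := by
  have hp := t2p.1
  have pA := EpA.pGrp hp
  obtain ⟨⟨nsA, -⟩, -⟩ := tau2_compl_context maxM hallE t2p EpA
  obtain ⟨-, -, t1C⟩ := tau1_cent_tau2Elem_factor maxM hallE t2p EpA
  obtain ⟨sHp, b'p⟩ := primes_norm_tau2Elem_a maxM hallE t2p EpA maxH sNH p t2p
  have sEH : E ≤ H := nsA.2.trans sNH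
  have sAH' : A ≤ ⁅H, H⁆ :=
    (sub_Msigma maxH (nsA.1.trans sEH) (pA.piGrp sHp)).trans (Msigma_der1 maxH)
  have hallK := (beta_max_pdiv maxH hp b'p).1
  set K := pPrimeCoreOf p ⁅H, H⁆ with hK
  have nKH' : ⁅H, H⁆ ≤ 𝒩(K) := pcore_norm _ _
  have cAD : E ⊓ ⁅H, H⁆ ≤ 𝒞(A) := by
    have nAD : E ⊓ ⁅H, H⁆ ≤ 𝒩(A) := inf_le_left.trans nsA.2
    have h1 : PiNat {p}ᶜ ((𝒞(A)).relIndex (E ⊓ ⁅H, H⁆)) :=
      piNat_relIndex_of_le_right inf_le_left (norm_cent nsA.2)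
        (p'_of_not_mem t1C fun h => tau2'1 h t2p)
    have h2 : PiNat {p} ((𝒞(A)).relIndex (E ⊓ ⁅H, H⁆)) := by
      have h3 : PiNat {p} (K.relIndex (E ⊓ ⁅H, H⁆)) :=
        piNat_relIndex_of_le_right inf_le_right nKH' (piNat_compl_compl.1 hallK.index)
      rw [← Subgroup.inf_relIndex_right] at h3
      refine piNat_relIndex_of_le_left ?_ h3
      refine le_cent_of_norm_of_coprime (norm_inf (sAH'.trans nKH') (norm_of_le (le_inf nsA.1 sAH')))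
        (inf_le_right.trans nAD) ?_
      exact PiNat.coprime' (hallK.piGrp.inf_left _) pA
    exact Subgroup.relIndex_eq_one.1 (h2.eq_one h1)
  intro q hq hd
  refine tau12_of_dvd_der maxH hq ?_
  have h1 := dvd_relIndex_of_le_left hd cAD
  rw [inf_comm, Subgroup.inf_relIndex_right] at h1
  exact h1.trans (relIndex_dvd_of_le_norm sEH (der_normalIn H).2)

/-- B & G, Lemma 12.11. -/
theorem primes_norm_tau2Elem {M E A Mstar : Subgroup G} {p : ℕ} (maxM : IsCoatom M)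
    (hallE : IsPiHallOf (sigma M)ᶜ E M) (t2p : p ∈ tau2 M) (EpA : IsPnElem p 2 A E)
    (maxMs : IsCoatom Mstar) (sNMs : 𝒩(A) ≤ Mstar) :
    (∀ q ∈ tau2 M, q ∈ sigma Mstar ∧ q ∉ beta Mstar) ∧
    PiNat (tau1 Mstar ∪ tau2 Mstar) ((𝒞(A)).relIndex E) ∧
    ∀ q : ℕ, q.Prime → q ∣ (𝒞(A)).relIndex E → q ∣ Nat.card ↥(E ⊓ 𝒞(A)) →
      q ∈ tau2 Mstar ∧ (∃ P : Subgroup G, IsSylowOf p P ⊤ ∧ P ⊲ Mstar) ∧
      ∃ Q : Subgroup G, IsSylowOf q Q ⊤ ∧ Q ≤ Mstar ∧ IsMulCommutative Q := by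
  have hp := t2p.1
  have pA := EpA.pGrp hp
  have ha := primes_norm_tau2Elem_a maxM hallE t2p EpA maxMs sNMs
  refine ⟨ha, primes_norm_tau2Elem_b maxM hallE t2p EpA maxMs sNMs, fun q hq hd hdC => ?_⟩
  obtain ⟨⟨nsA, -⟩, ⟨sCAE, -⟩, -⟩ := tau2_compl_context maxM hallE t2p EpA
  obtain ⟨-, nsC, t1C⟩ := tau1_cent_tau2Elem_factor maxM hallE t2p EpA
  rw [inf_eq_right.2 sCAE] at nsC hdC
  have t1q := t1C q hq hd
  obtain ⟨Q, sylQ⟩ := sylow_exists hq E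
  have cycQ := tau13_pgroup_cyclic (Or.inl t1q) (sylQ.le.trans hallE.le) sylQ.pGrp
  have sylQ₀ : IsSylowOf q (Q ⊓ 𝒞(A)) 𝒞(A) := IsPiHallOf.inf_normal sylQ nsC
  have ntQ₀ : Q ⊓ 𝒞(A) ≠ ⊥ := sylQ₀.ne_bot' hq hdC
  have ncQA : ¬ Q ≤ 𝒞(A) := fun h => sylQ.not_dvd_index hq (dvd_relIndex_of_le_left hd h)
  obtain ⟨L, maxL, sNL⟩ := mmax_exists (norm_pgroup_proper sylQ₀.pGrp ntQ₀)
  have sAL : A ≤ L := (norm_of_cent' inf_le_right).trans sNL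
  have sNAL : 𝒩(A) ≤ L := by
    rw [← frattini_arg hq ⟨cent_le_norm A, norm_cent le_rfl⟩ sylQ₀]
    exact sup_le (p2Elem_mmax hp maxL (EpA.of_le sAL)).1 (inf_le_right.trans sNL)
  have t2Lq : q ∈ tau2 L := by
    rcases prime_class_mmax_norm hq maxL sylQ₀.pGrp sNL with h | h
    · exact absurd h ((primes_norm_tau2Elem_b maxM hallE t2p EpA maxL sNAL q hq hd).elim
        (fun h => h.2.1) (fun h => h.2.1))
    · exact h
  have sLp := (primes_norm_tau2Elem_a maxM hallE t2p EpA maxL sNAL p t2p).1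
  have nilLs := tau2_Msigma_nil maxL t2Lq
  have sylPL : IsSylowOf p (pCoreOf p (sigmaCore L)) L :=
    IsSylowOf.trans_hall (nilpotent_pcore_Hall _ nilLs) (Msigma_Hall maxL) sLp
  have nsP : pCoreOf p (sigmaCore L) ⊲ L := (Msigma_normal L).pcore _
  have sylP := sigma_Sylow_G sLp sylPL
  set P := pCoreOf p (sigmaCore L) with hP
  have eqL : L = Mstar := by
    have sAMs : A ≤ Mstar := Subgroup.le_normalizer.trans sNMs
    obtain ⟨T, sylT, sAT⟩ := sylow_superset hp pA (le_inf sAMs sAL)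
    have ncT : ¬ IsCyclic T := (EpA.of_le sAT).not_cyclic_of_le hp le_rfl
    have nT1 := norm_noncyclic_sigma maxMs (ha p t2p).1 sylT.pGrp (sylT.le.trans inf_le_left) ncT
    have nT2 := norm_noncyclic_sigma maxL sLp sylT.pGrp (sylT.le.trans inf_le_right) ncT
    have sylTG : IsSylowOf p T ⊤ := sylT.of_norm_le hp le_top (inf_le_right.trans (le_inf nT1 nT2))
    have e : P = T := IsPiHallOf.eq_of_le sylTG sylP.pGrp
      (IsPiHallOf.le_of_normal sylPL nsP.2 sylT.pGrp (sylT.le.trans inf_le_right)) le_top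
    exact eq_mmax maxL maxMs (nsP.2.trans (e ▸ nT1))
  subst eqL
  refine ⟨t2Lq, ⟨P, sylP, nsP⟩, ?_⟩
  have sQL : Q ≤ L := (sylQ.le.trans nsA.2).trans sNMs
  obtain ⟨F, hallF, sQF⟩ := ex_sigma_compl maxL sQL (sylQ.pGrp.piGrp t2Lq.2.1)
  obtain ⟨B, EqB⟩ := ex_tau2Elem' hallF t2Lq
  obtain ⟨T, sylT, sBT⟩ := sylow_superset hq (EqB.pGrp hq) le_top
  by_cases cT : IsMulCommutative T
  · exact ⟨T, sylT, (abelian_tau2_ohm1 maxL hallF t2Lq EqB sylT sBT cT).1.trans hallF.le, cT⟩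
  exfalso
  obtain ⟨-, ⟨oB₀, -⟩, regX, F₀, defF, -⟩ := nonabelian_tau2 maxL hallF t2Lq EqB sylT.pGrp cT
  have ntQ : Q ≠ ⊥ := ne_bot_mono inf_le_left ntQ₀
  have sQ₁ : ohm1 q Q ≤ Q ⊓ 𝒞(A) := ohm1_le_of_cyclic sylQ.pGrp cycQ inf_le_left ntQ₀
  have EqQ₁ : IsPnElem q 1 (ohm1 q Q) F := (pnElem_one_iff hq).2
    ⟨(ohm1_le _ _).trans sQF, card_ohm1_of_cyclic hq cycQ (IsPGrp.dvd_card sylQ.pGrp ntQ)⟩
  have e₁ : ohm1 q Q = B ⊓ 𝒞(sigmaCore L) := by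
    by_contra ne
    refine EpA.ne_bot hp (by omega) (eq_bot_of_le (le_inf (sub_Msigma maxL sAL (pA.piGrp sLp))
      (le_cent_symm (sQ₁.trans inf_le_right))) (regX _ EqQ₁ ne).1)
  rw [← e₁] at defF
  have defQ := defF.restrict_left (ohm1_le q Q) sQF
  have ti : Q ⊓ F₀ = ⊥ := by
    by_contra h
    exact EqQ₁.ne_bot hq one_pos (eq_bot_of_le (le_inf le_rfl
      (ohm1_le_of_cyclic sylQ.pGrp cycQ inf_le_left h)) defQ.inf_eq)
  have := defQ.sup_eq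
  rw [ti, sup_bot_eq] at this
  exact ncQA (this.ge.trans (sQ₁.trans inf_le_right))

end CA.BG.P12
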