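/-
B & G section 12, part d: Theorem 12.12.
-/
import Cfsg.Agent.BG.P12c

set_option autoImplicit false
set_option linter.unusedSectionVars false
set_option linter.unusedVariables false

namespace CA.BG.P12

open Cfsg CA.FG CA.BG.P11

universe u

section General

variable {G : Type u} [Group G] [Finite G]

theorem pow_eq_one_of_forall_pElt {U : Subgroup G} {n : ℕ}
    (h : ∀ r : ℕ, r.Prime → ∀ x ∈ U, IsPiElt {r} x → x ^ n = 1) : ∀ x ∈ U, x ^ n = 1 := by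
  intro x hx
  have : Subgroup.zpowers x ≤ ohm1 n (Subgroup.zpowers x) := le_of_forall_pElt fun r hr y hy ry =>
    mem_ohm1 hy (h r hr y (Subgroup.zpowers_le.2 hx hy) ry)
  exact pow_eq_one_of_mem_ohm1 (abelian_zpowers x) (this (Subgroup.mem_zpowers x))

theorem exponent_eq_of_forall {V U : Subgroup G} (sVU : V ≤ U)
    (h : ∀ n : ℕ, (∀ x ∈ V, x ^ n = 1) → ∀ x ∈ U, x ^ n = 1) :
    Monoid.exponent V = Monoid.exponent U := by
  refine Nat.dvd_antisymm (exponent_dvd_of_le sVU) (Monoid.exponent_dvd_of_forall_pow_eq_one fun x => ?_)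
  refine Subtype.ext (h _ (fun y hy => ?_) x x.2)
  exact congrArg Subtype.val (Monoid.pow_exponent_eq_one (⟨y, hy⟩ : V))

theorem ne_bot_of_forall_pow {V U : Subgroup G} (ntU : U ≠ ⊥)
    (h : ∀ n : ℕ, (∀ x ∈ V, x ^ n = 1) → ∀ x ∈ U, x ^ n = 1) : V ≠ ⊥ := by
  rintro rfl
  obtain ⟨x, hx, ntx⟩ := exists_mem_ne_one ntU
  exact ntx (by simpa using h 1 (fun y hy => by simpa using hy) x hx)

theorem exists_exp_pow {p : ℕ} (hp : p.Prime) {S : Subgroup G} (pS : IsPGrp p S) (ntS : S ≠ ⊥) :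
    ∃ m : ℕ, (∀ s ∈ S, s ^ p ^ (m + 1) = 1) ∧ ∃ s ∈ S, s ^ p ^ m ≠ 1 := by
  classical
  have ex : ∃ n : ℕ, ∀ s ∈ S, s ^ p ^ n = 1 := by
    obtain ⟨k, hk⟩ := (pGrp_iff_card hp).1 pS
    exact ⟨k, fun s hs => hk ▸ pow_card_eq_one_of_mem hs⟩
  have h1 := Nat.find_spec ex
  cases hn : Nat.find ex with
  | zero =>
    rw [hn] at h1
    obtain ⟨x, hx, ntx⟩ := exists_mem_ne_one ntS
    exact absurd (by simpa using h1 x hx) ntx
  | succ m =>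
    rw [hn] at h1
    have h2 := Nat.find_min ex (m := m) (by omega)
    push Not at h2
    exact ⟨m, h1, h2⟩

theorem pow_eq_one_of_max_order {p m n : ℕ} (hp : p.Prime) {S : Subgroup G}
    (h : ∀ s ∈ S, s ^ p ^ (m + 1) = 1) {z : G} (hz : z ∈ S) (nz : z ^ p ^ m ≠ 1) (hn : z ^ n = 1) :
    ∀ s ∈ S, s ^ n = 1 := by
  haveI := Fact.mk hp
  intro s hs
  obtain ⟨k, rfl⟩ : p ^ (m + 1) ∣ n := by
    rw [← orderOf_eq_prime_pow nz (h z hz)]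
    exact orderOf_dvd_of_pow_eq_one hn
  rw [pow_mul, h s hs, one_pow]

theorem semiregular_of_cyclic {p : ℕ} {K Z : Subgroup G} (pZ : IsPGrp p Z) (cycZ : IsCyclic Z)
    (h : K ⊓ 𝒞(ohm1 p Z) = ⊥) : Semiregular K Z := by
  intro x hx ntx
  refine eq_bot_of_le (inf_le_inf_left _ ?_) h
  rw [← cent_zpowers]
  exact cent_anti (ohm1_le_of_cyclic pZ cycZ (Subgroup.zpowers_le.2 hx)
    (ne_bot_of_mem (Subgroup.mem_zpowers x) ntx))

theorem pow_eq_one_of_conj {V : Subgroup G} {n : ℕ} (h : ∀ x ∈ V, x ^ n = 1) {g y : G}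
    (hy : y ∈ V :^ g) : y ^ n = 1 := by
  obtain ⟨x, hx, rfl⟩ := mem_conjg'.1 hy
  rw [conj_pow, h x hx, mul_one, mul_inv_cancel]

end General

variable {G : Type u} [Group G] [MinSimpleOdd G]

theorem abelian_tau2_reg_of_norm {M E A S X : Subgroup G} {p : ℕ} (maxM : IsCoatom M)
    (hallE : IsPiHallOf (sigma M)ᶜ E M) (t2p : p ∈ tau2 M) (EpA : IsPnElem p 2 A E)
    (sylS : IsSylowOf p S ⊤) (sAS : A ≤ S) (cSS : IsMulCommutative S) (EpX : IsPnElem p 1 X S)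
    (nX : 𝒩(S) ≤ 𝒩(X)) : sigmaCore M ⊓ 𝒞(X) = ⊥ := by
  have hp := t2p.1
  obtain ⟨sSE, -⟩ := abelian_tau2_ohm1 maxM hallE t2p EpA sylS sAS cSS
  by_contra h
  have u := (tau2_compl_context maxM hallE t2p EpA).2.2.1 X (EpX.mono sSE) h
  exact (((tau2_context maxM t2p (EpA.mono hallE.le)).1 S
    (IsPiHallOf.of_le sylS (sSE.trans hallE.le) le_top)).2 sAS).2 (nX.trans
      (sub_uniq_mmax u (cent_le_norm X) (norm_pgroup_proper (EpX.pGrp hp) (EpX.ne_bot hp one_pos))))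

/-- The case where `U` centralizes `S`. -/
theorem abelian_tau2_cyclic_reg_cent {M E A S : Subgroup G} {p : ℕ} (maxM : IsCoatom M)
    (hallE : IsPiHallOf (sigma M)ᶜ E M) (t2p : p ∈ tau2 M) (EpA : IsPnElem p 2 A E)
    (sylS : IsSylowOf p S ⊤) (sAS : A ≤ S) (cSS : IsMulCommutative S) :
    ∃ Z : Subgroup G, Z ≤ S ∧ Semiregular (sigmaCore M) Z ∧
      ∀ n : ℕ, (∀ z ∈ Z, z ^ n = 1) → ∀ s ∈ S, s ^ n = 1 := by
  have hp := t2p.1
  obtain ⟨sSE, defA⟩ := abelian_tau2_ohm1 maxM hallE t2p EpA sylS sAS cSS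
  obtain ⟨m, hm, s₀, hs₀, ns₀⟩ := exists_exp_pow hp sylS.pGrp (ne_bot_mono sAS (EpA.ne_bot hp (by omega)))
  have sTA : mho p m S ≤ A := by
    rw [← defA]
    refine mho_le_iff.2 fun x hx => mem_ohm1 (S.pow_mem hx _) ?_
    rw [← pow_mul, ← pow_succ]
    exact hm x hx
  have ntT : mho p m S ≠ ⊥ := ne_bot_of_mem (pow_mem_mho p m hs₀) ns₀
  obtain ⟨X, EpX, regX⟩ : ∃ X : Subgroup G, IsPnElem p 1 X (mho p m S) ∧ sigmaCore M ⊓ 𝒞(X) = ⊥ := by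
    by_cases e : mho p m S = A
    · rw [e]
      exact (tau2_context maxM t2p (EpA.mono hallE.le)).2.2.2.2
    · obtain ⟨k, Ek⟩ := abelem_pnElem hp (abelem_of_le EpA.abelem sTA) (le_refl _)
      have h1 : k < 2 := by
        have := card_lt_of_lt (lt_of_le_of_ne sTA e)
        rw [Ek.card, EpA.card] at this
        exact (Nat.pow_lt_pow_iff_right hp.one_lt).1 this
      have h2 : k ≠ 0 := by
        rintro rfl
        exact ntT (Subgroup.card_eq_one.1 (by simpa using Ek.card))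
      obtain rfl : k = 1 := by omega
      exact ⟨_, Ek, abelian_tau2_reg_of_norm maxM hallE t2p EpA sylS sAS cSS (Ek.of_le (mho_le _ _ _))
        (charIn_mho p m S).norm_le⟩
  obtain ⟨y, hy, nty⟩ := exists_mem_ne_one (EpX.ne_bot hp one_pos)
  obtain ⟨z, hz, rfl⟩ := (mem_mho_iff_of_abelian cSS).1 (EpX.le hy)
  have sZS : Subgroup.zpowers z ≤ S := Subgroup.zpowers_le.2 hz
  refine ⟨Subgroup.zpowers z, sZS, semiregular_of_cyclic (sylS.pGrp.of_le sZS) (cyclic_zpowers z) ?_,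
    fun n hn => pow_eq_one_of_max_order hp hm hz nty (hn z (Subgroup.mem_zpowers z))⟩
  rwa [ohm1_eq_of_cyclic hp (cyclic_zpowers z) _ EpX.card_one]
  rw [eq_zpowers_of_card_prime (EpX.card_prime hp) hy nty]
  exact Subgroup.zpowers_le.2 (Subgroup.npow_mem_zpowers z _)

/-- The case where some `p'`-subgroup of `N(S)` splits `S`. -/
theorem abelian_tau2_cyclic_reg_split {M E A S X : Subgroup G} {p : ℕ} (maxM : IsCoatom M)
    (hallE : IsPiHallOf (sigma M)ᶜ E M) (t2p : p ∈ tau2 M) (EpA : IsPnElem p 2 A E)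
    (sylS : IsSylowOf p S ⊤) (sAS : A ≤ S) (cSS : IsMulCommutative S) (nSX : X ≤ 𝒩(S))
    (p'X : IsPiGrp {p}ᶜ X) (nt₀ : S ⊓ 𝒞(X) ≠ ⊥) (nt₁ : ⁅S, X⁆ ≠ ⊥) :
    ∃ Z : Subgroup G, Z ≤ S ∧ 𝒩(S) ≤ 𝒩(Z) ∧ Semiregular (sigmaCore M) Z ∧
      ∀ n : ℕ, (∀ z ∈ Z, z ^ n = 1) → ∀ s ∈ S, s ^ n = 1 := by
  have hp := t2p.1
  have pS := sylS.pGrp
  obtain ⟨sSE, defA⟩ := abelian_tau2_ohm1 maxM hallE t2p EpA sylS sAS cSS
  obtain ⟨ns₀, ns₁⟩ := abelian_tau2_norm_Sylow maxM hallE t2p EpA sylS sAS cSS nSX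
  have defS := coprime_abelian_cent_dprod nSX (pS.coprime p'X) cSS
  have rS : pRank p S ≤ 2 := (pRank_mono hp sSE).trans ((tau2E hallE).1 t2p).2.le
  rw [defS.pRank hp] at rS
  have p₀ : IsPGrp p (S ⊓ 𝒞(X)) := pS.of_le defS.right_le
  have p₁ : IsPGrp p ⁅S, X⁆ := pS.of_le defS.left_le
  have r₀ := (pRank_pos_iff hp).2 (p₀.dvd_card nt₀)
  have r₁ := (pRank_pos_iff hp).2 (p₁.dvd_card nt₁)
  obtain ⟨m, hm, s₀, hs₀, ns₀'⟩ := exists_exp_pow hp pS (ne_bot_mono inf_le_left nt₀)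
  have key : ∀ Z : Subgroup G, Z ≤ S → Z ⊲ 𝒩(S) → pRank p Z ≤ 1 → (∃ z ∈ Z, z ^ p ^ m ≠ 1) →
      ∃ Z : Subgroup G, Z ≤ S ∧ 𝒩(S) ≤ 𝒩(Z) ∧ Semiregular (sigmaCore M) Z ∧
      ∀ n : ℕ, (∀ z ∈ Z, z ^ n = 1) → ∀ s ∈ S, s ^ n = 1 := by
    rintro Z sZS nsZ rZ ⟨z, hz, nz⟩
    have pZ : IsPGrp p Z := pS.of_le sZS
    have cycZ := (cyclic_iff hp pZ).2 rZ
    have ntZ : Z ≠ ⊥ := ne_bot_of_mem hz (by rintro rfl; exact nz (one_pow _))
    refine ⟨Z, sZS, nsZ.2, semiregular_of_cyclic pZ cycZ ?_,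
      fun n hn => pow_eq_one_of_max_order hp hm (sZS hz) nz (hn z hz)⟩
    exact abelian_tau2_reg_of_norm maxM hallE t2p EpA sylS sAS cSS ((pnElem_one_iff hp).2
      ⟨(ohm1_le _ _).trans sZS, card_ohm1_of_cyclic hp cycZ (pZ.dvd_card ntZ)⟩) (norm_ohm1 p nsZ.2)
  by_cases h₀ : ∃ z ∈ S ⊓ 𝒞(X), z ^ p ^ m ≠ 1
  · exact key _ inf_le_left ns₀ (by omega) h₀
  by_cases h₁ : ∃ z ∈ ⁅S, X⁆, z ^ p ^ m ≠ 1
  · exact key _ defS.left_le ns₁ (by omega) h₁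
  push Not at h₀ h₁
  exfalso
  apply ns₀'
  refine pow_eq_one_of_mem_ohm1 cSS (?_ : s₀ ∈ ohm1 (p ^ m) S)
  exact (defS.sup_eq.ge.trans (sup_le (le_ohm1 defS.left_le h₁) (le_ohm1 defS.right_le h₀))) hs₀

theorem abelian_tau2_cyclic_reg {M E U A S : Subgroup G} {p : ℕ} (maxM : IsCoatom M)
    (hallE : IsPiHallOf (sigma M)ᶜ E M) (sUE : U ≤ E) (hallU : IsHallOf U M)
    (regU : ∀ e ∈ U, e ≠ 1 → IsPiElt (tau1 M ∪ tau3 M) e → sigmaCore M ⊓ 𝒞[e] = ⊥)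
    (t2p : p ∈ tau2 M) (EpA : IsPnElem p 2 A E)
    (sylS : IsSylowOf p S ⊤) (sAS : A ≤ S) (cSS : IsMulCommutative S) :
    ∃ Z : Subgroup G, Z ≤ S ∧ U ≤ 𝒩(Z) ∧ Semiregular (sigmaCore M) Z ∧
      ∀ n : ℕ, (∀ z ∈ Z, z ^ n = 1) → ∀ s ∈ S, s ^ n = 1 := by
  have hp := t2p.1
  have pS := sylS.pGrp
  by_cases cSU : U ≤ 𝒞(S)
  · obtain ⟨Z, sZS, h⟩ := abelian_tau2_cyclic_reg_cent maxM hallE t2p EpA sylS sAS cSS
    exact ⟨Z, sZS, norm_of_cent (cSU.trans (cent_anti sZS)), h⟩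
  obtain ⟨sSE, defA⟩ := abelian_tau2_ohm1 maxM hallE t2p EpA sylS sAS cSS
  obtain ⟨⟨nsA, -⟩, ⟨sCAE, -⟩, -⟩ := tau2_compl_context maxM hallE t2p EpA
  obtain ⟨q, Q, hq, sylQ, ncQS⟩ : ∃ (q : ℕ) (Q : Subgroup G), q.Prime ∧ IsSylowOf q Q U ∧ ¬ Q ≤ 𝒞(S) := by
    by_contra hc
    push Not at hc
    exact cSU (le_of_forall_sylow fun q Q hq sylQ => hc q Q hq sylQ)
  have qQ := sylQ.pGrp
  have sQE := sylQ.le.trans sUE
  have ntQ : Q ≠ ⊥ := by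
    rintro rfl
    exact ncQS bot_le
  have eNA : 𝒩(A) = 𝒩(S) := by
    obtain ⟨E₁, E₂, E₃, complE⟩ := ex_sigmaCompl maxM hallE
    exact (abelian_tau2 maxM complE t2p EpA sylS sAS cSS).2.2.1.1
  have nSE : E ≤ 𝒩(S) := eNA ▸ nsA.2
  have neq : q ≠ p := by
    rintro rfl
    exact ncQS ((IsPiHallOf.le_of_le_norm sylS qQ le_top (sQE.trans nSE)).trans
      (abelian_iff_le_cent.1 cSS))
  have hd : q ∣ (𝒞(A)).relIndex E := by
    by_contra h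
    refine ncQS (coprime_odd_faithful_Ohm1 pS (sQE.trans nSE) (pS.coprime_of_ne qQ neq.symm) (mFT_odd S) ?_)
    rw [defA]
    exact le_of_piGrp_of_relIndex sQE (norm_cent nsA.2) qQ ((piNat_compl_singleton_iff hq).2 h)
  have t1q : q ∈ tau1 M := (tau1_cent_tau2Elem_factor maxM hallE t2p EpA).2.2 q hq hd
  have cycQ := tau13_pgroup_cyclic (Or.inl t1q) (sQE.trans hallE.le) qQ
  have sylQE : IsSylowOf q Q E := IsPiHallOf.of_le
    (sylQ.trans_isHall hallU hq (dvd_of_le (qQ.dvd_card ntQ) sylQ.le)) sQE hallE.le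
  have oQ₁ := card_ohm1_of_cyclic hq cycQ (qQ.dvd_card ntQ)
  have prQ₁ : (Nat.card (ohm1 q Q)).Prime := by rw [oQ₁]; exact hq
  have cQ₁ : ohm1 q Q ≤ 𝒵(E) := by
    obtain ⟨E₁, E₂, E₃, complE, sQE₁⟩ := ex_sigma_compl_tau1 maxM hallE sQE (qQ.piGrp t1q)
    refine (abelian_tau2 maxM complE t2p EpA sylS sAS cSS).2.2.2 _ ((ohm1_le _ _).trans sQE₁) prQ₁ ?_
    obtain ⟨y, hy, nty⟩ := exists_mem_ne_one (ne_bot_of_card_prime prQ₁)
    rw [cent_eq_cent_singleton_of_prime prQ₁ hy nty]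
    exact regU y (sylQ.le (ohm1_le _ _ hy)) nty
      ((qQ.piGrp (π := tau1 M ∪ tau3 M) (Or.inl t1q)).piElt (ohm1_le _ _ hy))
  obtain ⟨H, maxH, sNH⟩ := mmax_exists (norm_pgroup_proper (EpA.pGrp hp) (EpA.ne_bot hp (by omega)))
  obtain ⟨ha, -, hc⟩ := primes_norm_tau2Elem maxM hallE t2p EpA maxH sNH
  obtain ⟨t2q, ⟨P, sylP, nsP⟩, -⟩ := hc q hq hd
    (dvd_of_le oQ₁.symm.dvd (cQ₁.trans (inf_le_inf_left _ (cent_anti EpA.le))))
  have sEH : E ≤ H := nsA.2.trans sNH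
  have eP : S = P := (IsPiHallOf.of_le sylP nsP.1 le_top).eq_of_normal nsP.2
    (IsPiHallOf.of_le sylS (sSE.trans sEH) le_top)
  subst eP
  obtain ⟨T, sylT, sQT⟩ := sylow_superset hq qQ (sQE.trans sEH)
  have cT := tau2_pgroup_abelian maxH t2q sylT.le sylT.pGrp
  have nST : T ≤ 𝒩(S) := sylT.le.trans nsP.2
  have EqB : IsPnElem q 2 (ohm1 q T) T := by
    have := ohm1_pnElem_of_abelian hq cT
    rwa [p_rank_Sylow hq sylT, (mem_tau2_iff.1 t2q).2.2] at this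
  have sT₀Q : T ⊓ 𝒞(S) ≤ Q := by
    have : T ⊓ E = Q := IsPiHallOf.eq_of_le sylQE (sylT.pGrp.inf_left _) (le_inf sQT sQE) inf_le_right
    rw [← this]
    exact inf_le_inf_left _ ((cent_anti sAS).trans sCAE)
  have ntS : S ≠ ⊥ := ne_bot_mono sAS (EpA.ne_bot hp (by omega))
  obtain ⟨a, ha, nca, nta⟩ : ∃ a ∈ T, a ∉ T ⊓ 𝒞(S) ∧ S ⊓ 𝒞[a] ≠ ⊥ := by
    by_contra hc
    push Not at hc
    have cyc := cyclic_quot_of_regular cT (inf_le_left : T ⊓ 𝒞(S) ≤ T) T.subtype cSS ntS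
      (fun a => nST a.2) (pS.coprime_of_ne sylT.pGrp neq.symm) (fun a h => h.2)
      (fun a h => hc a a.2 h)
    have nT₀ : T ≤ 𝒩(T ⊓ 𝒞(S)) := norm_of_le_abelian cT inf_le_left
    have h1 := (ohm1_quot_le q nT₀).trans (ohm1_le_of_cyclic (sylT.pGrp.quot _) cyc (quot_mono _ sQT)
      (fun h => ncQS (((quot_eq_bot_iff (sQT.trans nT₀)).1 h).trans inf_le_right)))
    exact EqB.not_cyclic hq le_rfl
      (cyclic_of_le cycQ ((quot_le_quot_iff' (EqB.le.trans nT₀) sT₀Q).1 h1))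
  have sXT : Subgroup.zpowers a ≤ T := Subgroup.zpowers_le.2 ha
  obtain ⟨Z, sZS, nZ, h⟩ := abelian_tau2_cyclic_reg_split maxM hallE t2p EpA sylS sAS cSS (sXT.trans nST)
    (p'_of_ne (sylT.pGrp.of_le sXT) neq.symm) (by rwa [cent_zpowers])
    (fun h => nca ⟨ha, comm_eq_bot_iff'.1 h (Subgroup.mem_zpowers a)⟩)
  exact ⟨Z, sZS, (sUE.trans nSE).trans nZ, h⟩

theorem cent1_tau2_of_reg {M U : Subgroup G} {x : G} (maxM : IsCoatom M) (sUM : U ≤ M)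
    (s'U : IsPiGrp (sigma M)ᶜ U)
    (regU : ∀ e ∈ U, e ≠ 1 → IsPiElt (tau1 M ∪ tau3 M) e → sigmaCore M ⊓ 𝒞[e] = ⊥)
    (hx : x ∈ sigmaCore M) (ntx : x ≠ 1) : IsPiGrp (tau2 M) (U ⊓ 𝒞[x]) := by
  intro r hr hd
  by_contra t2'r
  obtain ⟨y, hy, oy⟩ := exists_mem_orderOf_eq hr hd
  have t13 : r ∈ tau1 M ∪ tau3 M := by
    rcases tau123 maxM sUM s'U hr (dvd_of_le hd inf_le_left) with h | h | h
    · exact Or.inl h
    · exact absurd h t2'r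
    · exact Or.inr h
  refine ne_bot_of_mem (Subgroup.mem_inf.2 ⟨hx, mem_cent_singleton_comm.1 hy.2⟩) ntx
    (regU y hy.1 (ne_one_of_prime_order (oy ▸ hr)) ?_)
  rw [IsPiElt, oy]
  exact (piNat_prime_iff hr).2 t13

theorem FTtypeF_complement_abelian {M U E : Subgroup G} (maxM : IsCoatom M) (hallU : IsHallOf U M)
    (hallE : IsPiHallOf (sigma M)ᶜ E M) (sUE : U ≤ E) (t2U : PiNat (tau2 M)ᶜ (U.relIndex M))
    (regU : ∀ e ∈ U, e ≠ 1 → IsPiElt (tau1 M ∪ tau3 M) e → sigmaCore M ⊓ 𝒞[e] = ⊥)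
    (cS : ∀ p ∈ tau2 M, ∀ S : Subgroup G, IsPGrp p S → IsMulCommutative S) :
    (∃ A₀ : Subgroup G, A₀ ⊲ U ∧ IsMulCommutative A₀ ∧
      ∀ x ∈ sigmaCore M, x ≠ 1 → U ⊓ 𝒞[x] ≤ A₀) ∧
    ∃ E₀ : Subgroup G, E₀ ≤ U ∧ Semiregular (sigmaCore M) E₀ ∧
      ∀ n : ℕ, (∀ x ∈ E₀, x ^ n = 1) → ∀ x ∈ U, x ^ n = 1 := by
  classical
  have s'U := hallE.piGrp.of_le sUE
  obtain ⟨E₁, E₂, E₃, complE⟩ := ex_sigmaCompl maxM hallE
  have hallE₂ := complE.hallE₂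
  have cE₂ := tau2_compl_abelian maxM hallE hallE₂
  have nsE₂ : E₂ ⊲ E := by
    by_cases nt : E₂ = ⊥
    · rw [nt]; exact bot_normalIn E
    obtain ⟨p, t2p, A, EpA, -⟩ := ex_tau2Elem hallE hallE₂ nt
    obtain ⟨S, sylS, sAS⟩ := sylow_superset t2p.1 (EpA.pGrp t2p.1) le_top
    exact (abelian_tau2 maxM complE t2p EpA sylS sAS (cS p t2p S sylS.pGrp)).1.1
  have sE₂U : E₂ ≤ U := by
    have h1 := ((hallE₂.inf_of_normal nsE₂.2 sUE).trans_index hallU.1 t2U).of_le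
      (inf_le_left.trans nsE₂.1) hallE.le
    exact (hallE₂.eq_of_normal nsE₂.2 h1).ge.trans inf_le_right
  refine ⟨⟨E₂, nsE₂.of_le sE₂U sUE, cE₂, fun x hx ntx => hallE₂.le_of_normal nsE₂.2
    (cent1_tau2_of_reg maxM hallU.1 s'U regU hx ntx) (inf_le_left.trans sUE)⟩, ?_⟩
  have key : ∀ s : Finset ℕ, (∀ p ∈ s, p ∈ tau2 M) → ∃ Z : Subgroup G, Z ≤ E₂ ∧ U ≤ 𝒩(Z) ∧
      IsPiGrp (s : Set ℕ) Z ∧ Semiregular (sigmaCore M) Z ∧
      ∀ n : ℕ, (∀ z ∈ Z, z ^ n = 1) → ∀ p ∈ s, ∀ x ∈ E₂, IsPiElt {p} x → x ^ n = 1 := by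
    intro s
    induction s using Finset.induction_on with
    | empty =>
      intro _
      exact ⟨⊥, bot_le, norm_bot _, piGrp_bot _, fun x hx ntx => absurd (Subgroup.mem_bot.1 hx) ntx,
        fun n _ p hp => absurd hp (Finset.notMem_empty p)⟩
    | insert p s nps ih =>
      intro hs
      obtain ⟨Z, sZ, nZ, piZ, regZ, expZ⟩ := ih fun q hq => hs q (Finset.mem_insert_of_mem hq)
      have t2p := hs p (Finset.mem_insert_self p s)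
      obtain ⟨A, EpA⟩ := ex_tau2Elem' hallE t2p
      obtain ⟨S, sylS, sAS⟩ := sylow_superset t2p.1 (EpA.pGrp t2p.1) le_top
      have cSS := cS p t2p S sylS.pGrp
      obtain ⟨Y, sYS, nY, regY, expY⟩ :=
        abelian_tau2_cyclic_reg maxM hallE sUE hallU regU t2p EpA sylS sAS cSS
      have sSE₂ : S ≤ E₂ := hallE₂.le_of_normal nsE₂.2 (sylS.pGrp.piGrp t2p)
        (abelian_tau2_ohm1 maxM hallE t2p EpA sylS sAS cSS).1
      have pY : IsPGrp p Y := sylS.pGrp.of_le sYS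
      have p'Z : IsPiGrp {p}ᶜ Z := p'_of_not_mem piZ (by simpa using nps)
      have sZY : Z ⊔ Y ≤ U := (sup_le sZ (sYS.trans sSE₂)).trans sE₂U
      have nZY : Y ≤ 𝒩(Z) := (le_sup_right.trans sZY).trans nZ
      refine ⟨Z ⊔ Y, sup_le sZ (sYS.trans sSE₂), norm_sup nZ nY, ?_, ?_, fun n hn q hq x hx qx => ?_⟩
      · exact IsPiGrp.sup (piZ.mono (by simp)) (pY.piGrp (by simp)) (Or.inr nZY)
      · refine semiregular_of_prime_order fun x hx prx => ?_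
        by_cases e : orderOf x = p
        · exact regY x ((pHall_right_of_sup (Or.inr nZY) rfl p'Z pY).mem_of_normal (sZY.trans nY)
            ((piNat_prime_iff prx).2 e) hx) (ne_one_of_prime_order prx)
        · exact regZ x ((pHall_left_of_sup (Or.inr nZY) rfl p'Z (piNat_compl_compl.2 pY)).mem_of_normal
            (sZY.trans nZ) ((piNat_prime_iff prx).2 e) hx) (ne_one_of_prime_order prx)
      · rcases Finset.mem_insert.1 hq with rfl | hq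
        · exact expY n (fun z hz => hn z (Subgroup.mem_sup_right hz)) x
            ((IsPiHallOf.of_le sylS sSE₂ le_top).mem_of_normal (norm_of_le_abelian cE₂ sSE₂) qx hx)
        · exact expZ n (fun z hz => hn z (Subgroup.mem_sup_left hz)) q hq x hx qx
  obtain ⟨Z, sZ, nZ, piZ, regZ, expZ⟩ := key (Nat.card E₂).primeFactors fun p hp =>
    hallE₂.piGrp p (Nat.prime_of_mem_primeFactors hp) (Nat.dvd_of_mem_primeFactors hp)
  have solU := sol_of_le (mmax_sol maxM) hallU.1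
  obtain ⟨V, hallV⟩ := Hall_exists (tau2 M)ᶜ solU
  have sZV : Z ⊔ V ≤ U := sup_le (sZ.trans sE₂U) hallV.le
  refine ⟨Z ⊔ V, sZV, semiregular_of_prime_order fun x hx prx => ?_, fun n hn => ?_⟩
  · by_cases t2 : orderOf x ∈ tau2 M
    · exact regZ x ((pHall_left_of_sup (Or.inr (hallV.le.trans nZ)) rfl (hallE₂.piGrp.of_le sZ)
        hallV.piGrp).mem_of_normal (sZV.trans nZ) ((piNat_prime_iff prx).2 t2) hx)
        (ne_one_of_prime_order prx)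
    · refine regU x (sZV hx) (ne_one_of_prime_order prx) ((piNat_prime_iff prx).2 ?_)
      rcases tau123 maxM hallU.1 s'U prx (orderOf_dvd_card_of_mem (sZV hx)) with h | h | h
      · exact Or.inl h
      · exact absurd h t2
      · exact Or.inr h
  · refine pow_eq_one_of_forall_pElt fun r hr x hx rx => ?_
    have rX : IsPGrp r (Subgroup.zpowers x) := piGrp_zpowers_iff.2 rx
    by_cases t2 : r ∈ tau2 M
    · by_cases ntx : x = 1
      · rw [ntx, one_pow]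
      have hxE₂ : x ∈ E₂ := hallE₂.mem_of_normal nsE₂.2 (piGrp_zpowers_iff.1 (rX.piGrp t2)) (sUE hx)
      refine expZ n (fun z hz => hn z (Subgroup.mem_sup_left hz)) r ?_ x hxE₂ rx
      exact Nat.mem_primeFactors.2 ⟨hr, dvd_of_le (rX.dvd_card (ne_bot_of_mem (Subgroup.mem_zpowers x) ntx))
        (Subgroup.zpowers_le.2 hxE₂), Nat.card_pos.ne'⟩
    · obtain ⟨g, -, h⟩ := Hall_subJ solU hallV (Subgroup.zpowers_le.2 hx) (rX.piGrp t2)
      exact pow_eq_one_of_conj (fun z hz => hn z (Subgroup.mem_sup_right hz)) (h (Subgroup.mem_zpowers x))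

theorem FTtypeF_complement_nonabelian {M U E P₀ : Subgroup G} {p : ℕ} (maxM : IsCoatom M)
    (sUM : U ≤ M)
    (hallE : IsPiHallOf (sigma M)ᶜ E M) (sUE : U ≤ E) (t2U : PiNat (tau2 M)ᶜ (U.relIndex M))
    (regU : ∀ e ∈ U, e ≠ 1 → IsPiElt (tau1 M ∪ tau3 M) e → sigmaCore M ⊓ 𝒞[e] = ⊥)
    (t2p : p ∈ tau2 M) (pP₀ : IsPGrp p P₀) (nabP₀ : ¬ IsMulCommutative P₀) :
    (∃ A₀ : Subgroup G, A₀ ⊲ U ∧ IsMulCommutative A₀ ∧
      ∀ x ∈ sigmaCore M, x ≠ 1 → U ⊓ 𝒞[x] ≤ A₀) ∧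
    ∃ E₀ : Subgroup G, E₀ ≤ U ∧ Semiregular (sigmaCore M) E₀ ∧
      ∀ n : ℕ, (∀ x ∈ E₀, x ^ n = 1) → ∀ x ∈ U, x ^ n = 1 := by
  have hp := t2p.1
  have s'U := hallE.piGrp.of_le sUE
  obtain ⟨A, EpA⟩ := ex_tau2Elem' hallE t2p
  have pA := EpA.pGrp hp
  obtain ⟨-, ⟨oA₀, -⟩, -, E₀, defE, t1C⟩ := nonabelian_tau2 maxM hallE t2p EpA pP₀ nabP₀
  obtain ⟨⟨nsA, -⟩, -⟩ := tau2_compl_context maxM hallE t2p EpA
  set A₀ := A ⊓ 𝒞(sigmaCore M) with hA₀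
  have sAP : ∀ P : Subgroup G, IsSylowOf p P U → A ≤ P := fun P sylP =>
    ((IsPiHallOf.trans_index sylP sUM (t2U.mono fun q h (e : q = p) => h (e ▸ t2p))).of_le
      (sylP.le.trans sUE) hallE.le).le_of_norm_le pA nsA.1 ((sylP.le.trans sUE).trans nsA.2)
  have sAU : A ≤ U := by
    obtain ⟨P, sylP⟩ := sylow_exists hp U
    exact (sAP P sylP).trans sylP.le
  have sA₀U : A₀ ≤ U := inf_le_left.trans sAU
  have reg : ∀ x ∈ sigmaCore M, x ≠ 1 → U ⊓ 𝒞[x] ⊓ E₀ = ⊥ := fun x hx ntx =>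
    IsPiGrp.eq_bot ((cent1_tau2_of_reg maxM sUM s'U regU hx ntx).inf_left _)
      (((t1C x hx ntx).of_le (le_inf inf_le_right (inf_le_left.trans inf_le_right))).mono
        fun q h => tau2'1 h)
  refine ⟨⟨A₀, defE.normal.of_le sA₀U sUE, abelian_of_le EpA.abelian inf_le_left, fun x hx ntx => ?_⟩,
    U ⊓ E₀, inf_le_left, semiregular_sym fun x hx ntx => ?_, fun n hn => ?_⟩
  · have := (defE.restrict_left (L := U ⊓ 𝒞[x])
      (le_inf sA₀U (inf_le_right.trans (cent_le_cent_singleton hx))) (inf_le_left.trans sUE)).sup_eq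
    rw [reg x hx ntx, sup_bot_eq] at this
    exact this.ge
  · rw [← reg x hx ntx]
    ac_rfl
  have hpn : p ∣ n := by
    have defA := defE.restrict_left (inf_le_left : A₀ ≤ A) EpA.le
    have oB : Nat.card ↥(A ⊓ E₀) = p := by
      have := defA.card_mul
      rw [oA₀, EpA.card, sq] at this
      exact Nat.eq_of_mul_eq_mul_left hp.pos this
    obtain ⟨y, hy, oy⟩ := exists_mem_orderOf_eq hp oB.symm.dvd
    rw [← oy]
    exact orderOf_dvd_of_pow_eq_one (hn y ⟨sAU hy.1, hy.2⟩)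
  refine pow_eq_one_of_forall_pElt fun r hr x hx rx => ?_
  have rX : IsPGrp r (Subgroup.zpowers x) := piGrp_zpowers_iff.2 rx
  by_cases e : r = p
  · subst e
    obtain ⟨P, sylP, sXP⟩ := sylow_superset hr rX (Subgroup.zpowers_le.2 hx)
    have cP := tau2_pgroup_abelian maxM t2p (sylP.le.trans sUM) sylP.pGrp
    have sA₀P : A₀ ≤ P := inf_le_left.trans (sAP P sylP)
    have defP := (defE.restrict_left sA₀P (sylP.le.trans sUE)).sup_eq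
    refine pow_eq_one_of_mem_ohm1 cP ((defP.ge.trans (sup_le (le_ohm1 sA₀P fun y hy => ?_)
      (le_ohm1 inf_le_left fun y hy => hn y ⟨sylP.le hy.1, hy.2⟩))) (sXP (Subgroup.mem_zpowers x)))
    obtain ⟨k, rfl⟩ := hpn
    rw [pow_mul, EpA.abelem.2 y hy.1, one_pow]
  · obtain ⟨R, sylR⟩ := sylow_exists hr (U ⊓ E₀)
    have sylRU : IsSylowOf r R U := by
      refine IsPiHallOf.trans_index sylR inf_le_left ?_
      rw [(defE.restrict_left sA₀U sUE).complIn.relIndex_right, oA₀]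
      exact p'_of_ne (piNat_singleton_self hp) e
    obtain ⟨g, -, h⟩ := sylow_subJ hr sylRU rX (Subgroup.zpowers_le.2 hx)
    exact pow_eq_one_of_conj (fun z hz => hn z (sylR.le hz)) (h (Subgroup.mem_zpowers x))

/-- B & G, Theorem 12.12 (generalized). -/
theorem FTtypeF_complement {M U : Subgroup G} (maxM : IsCoatom M) (hallU : IsHallOf U M)
    (s'U : IsPiGrp (sigma M)ᶜ U) (t2U : PiNat (tau2 M)ᶜ (U.relIndex M)) (ntU : U ≠ ⊥)
    (regU : ∀ e ∈ U, e ≠ 1 → IsPiElt (tau1 M ∪ tau3 M) e → sigmaCore M ⊓ 𝒞[e] = ⊥) :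
    (∃ A₀ : Subgroup G, A₀ ⊲ U ∧ IsMulCommutative A₀ ∧
      ∀ x ∈ sigmaCore M, x ≠ 1 → U ⊓ 𝒞[x] ≤ A₀) ∧
    ∃ E₀ : Subgroup G, E₀ ≤ U ∧ Monoid.exponent E₀ = Monoid.exponent U ∧
      IsFrob (sigmaCore M ⊔ E₀) (sigmaCore M) E₀ := by
  obtain ⟨E, hallE, sUE⟩ := ex_sigma_compl maxM hallU.1 s'U
  obtain ⟨h, E₀, sE₀, reg, hexp⟩ : (∃ A₀ : Subgroup G, A₀ ⊲ U ∧ IsMulCommutative A₀ ∧
      ∀ x ∈ sigmaCore M, x ≠ 1 → U ⊓ 𝒞[x] ≤ A₀) ∧
      ∃ E₀ : Subgroup G, E₀ ≤ U ∧ Semiregular (sigmaCore M) E₀ ∧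
      ∀ n : ℕ, (∀ x ∈ E₀, x ^ n = 1) → ∀ x ∈ U, x ^ n = 1 := by
    by_cases cS : ∀ p ∈ tau2 M, ∀ S : Subgroup G, IsPGrp p S → IsMulCommutative S
    · exact FTtypeF_complement_abelian maxM hallU hallE sUE t2U regU cS
    · push Not at cS
      obtain ⟨p, t2p, S, pS, nabS⟩ := cS
      exact FTtypeF_complement_nonabelian maxM hallU.1 hallE sUE t2U regU t2p pS nabS
  exact ⟨h, E₀, sE₀, exponent_eq_of_forall sE₀ hexp, isFrob_sup ((sE₀.trans hallU.1).trans (Msigma_norm M))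
    reg (Msigma_neq1 maxM) (ne_bot_of_forall_pow ntU hexp)⟩

end CA.BG.P12
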