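/-
B & G section 12, part e: Theorem 12.13 - Lemma 12.19.
-/
import Cfsg.Agent.BG.P12c

set_option autoImplicit false
set_option linter.unusedSectionVars false
set_option linter.unusedVariables false

namespace CA.BG.P12

open Cfsg CA.FG CA.BG.P11

universe u

section General

variable {G : Type u} [Group G] [Finite G]

/-- If `S / Z` is abelian noncyclic and `K ∩ Z = 1`, then `K` is generated by the centralizers of
the elements of `S` outside `Z`. -/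
theorem gen_cent1_quot_le {S Z K H : Subgroup G} (sZS : Z ≤ S) (nZS : S ≤ 𝒩(Z)) (nZK : K ≤ 𝒩(Z))
    (sS'Z : ⁅S, S⁆ ≤ Z) (ncS : ¬ IsCyclic (S /ₛ Z)) (nKS : S ≤ 𝒩(K))
    (co : (Nat.card K).Coprime (Nat.card S)) (sZH : Z ≤ H)
    (h : ∀ x ∈ S, x ∉ Z → K ⊓ 𝒞[x] ≤ H) : K ≤ H := by
  refine (quot_le_quot_iff' nZK sZH).1 ?_
  refine coprime_abelian_gen_cent1_le ((quot_abelian_iff nZS).2 sS'Z) ncS (quot_norm Z nKS)
    (coprime_quot Z co) fun a ha nta => ?_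
  obtain ⟨x, hx, rfl⟩ := mem_quot.1 ha
  have nxZ : (x : G) ∉ Z := fun h => nta (coset_eq_one_iff.2 h)
  have sX : Subgroup.zpowers (x : G) ≤ S := Subgroup.zpowers_le.2 hx
  rw [← cent_zpowers, ← quot_zpowers, ← quotient_TI_subcent (sX.trans nKS) (sX.trans nZS)
    (inf_eq_bot_of_cop (cop_right co sZS)), cent_zpowers]
  exact quot_mono Z (h x hx nxZ)

/-- If `K D = L` with `K` a normal `π'`-subgroup, the index of `D` in `L` is a `π'`-number. -/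
theorem piNat_relIndex_of_sup {π : Set ℕ} {K D L : Subgroup G} (defL : K ⊔ D = L) (nKD : D ≤ 𝒩(K))
    (piK : IsPiGrp π K) : PiNat π (D.relIndex L) := by
  rw [← defL, relIndex_sup_right' (Or.inr nKD)]
  exact piK.relIndex _

theorem der_le_sup_der {K D L : Subgroup G} (defL : K ⊔ D = L) (nKD : D ≤ 𝒩(K)) :
    ⁅L, L⁆ ≤ K ⊔ ⁅D, D⁆ := by
  rw [← defL, comm_sup_self nKD]
  exact sup_le (sup_le ((der_le _).trans le_sup_left) ((comm_le_left nKD).trans le_sup_left))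
    le_sup_right

theorem not_dvd_der_of_sup {p : ℕ} (hp : p.Prime) {K D L : Subgroup G} (defL : K ⊔ D = L)
    (nKD : D ≤ 𝒩(K)) (p'K : IsPiGrp {p}ᶜ K) (h : ¬ p ∣ Nat.card ↥⁅D, D⁆) : ¬ p ∣ Nat.card ↥⁅L, L⁆ :=
  (piGrp_compl_singleton_iff hp).1 ((p'K.sup ((piGrp_compl_singleton_iff hp).2 h)
    (Or.inr ((der_le D).trans nKD))).of_le (der_le_sup_der defL nKD))

end General

variable {G : Type u} [Group G] [MinSimpleOdd G]

theorem nonabelian_Uniqueness_aux {p : ℕ} (hp : p.Prime) {M H S : Subgroup G} (maxM : IsCoatom M)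
    (maxH : IsCoatom H) (neH : H ≠ M) (sSM : S ≤ M) (sSH : S ≤ H) (nabS : ¬ IsMulCommutative S)
    (oS : Nat.card S = p ^ 3) (expS : ∀ x ∈ S, x ^ p = 1) (rG : pRank p (⊤ : Subgroup G) ≤ 2)
    (defM : betaCore M ⊔ (H ⊓ M) = M) (defH : betaCore H ⊔ (M ⊓ H) = H)
    (nuZ : ¬ UniqMax 𝒩(𝒵(S)) H) : False := by
  have pS : IsPGrp p S := pGrp_of_card_eq_pow hp oS
  obtain ⟨-, oZ, defS', -⟩ := p3group_extraspecial hp pS nabS oS.le
  have EpZ : IsPnElem p 1 𝒵(S) S := (pnElem_one_iff hp).2 ⟨inf_le_left, oZ⟩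
  have defZ : ohm1 p 𝒵(S) = 𝒵(S) := ohm1_of_abelem EpZ.abelem
  have ntHa : alphaCore H ≠ ⊥ := by
    intro h
    rw [eq_bot_of_le (Mbeta_sub_Malpha H) h, bot_sup_eq] at defH
    exact neH (eq_mmax maxH maxM (defH.ge.trans inf_le_left))
  have E2 : ∀ x ∈ S, x ∉ 𝒵(S) → IsPnElem p 1 (Subgroup.zpowers x) S ∧
      IsPnElem p 2 (𝒵(S) ⊔ Subgroup.zpowers x) S := by
    intro x hx nx
    have EX := pnElem_one_zpowers hp hx (expS x hx) (fun e => nx (e ▸ Subgroup.one_mem _))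
    exact ⟨EX, EpZ.sup_succ hp EX (EX.le.trans (le_cent_symm inf_le_right))
      fun h => nx (h (Subgroup.mem_zpowers x))⟩
  have sCH : ∀ x ∈ S, x ∉ 𝒵(S) → 𝒞[x] ≤ H := by
    intro x hx nx
    obtain ⟨EX, EA⟩ := E2 x hx nx
    obtain ⟨A₀, EA₀, u⟩ : ∃ A₀ : Subgroup G, IsPnElem p 1 A₀ (𝒵(S) ⊔ Subgroup.zpowers x) ∧
        UniqMax 𝒩(A₀) H := by
      by_contra hc
      push Not at hc
      exact ntHa ((p2Elem_mmax hp maxH (EA.mono sSH)).2 hc).2.1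
    have ne₀ : A₀ ≠ ohm1 p 𝒵(S) := fun e => nuZ (by rwa [e, defZ] at u)
    have neX : Subgroup.zpowers x ≠ ohm1 p 𝒵(S) := fun e =>
      nx (defZ.le (e.le (Subgroup.mem_zpowers x)))
    obtain ⟨s, hs, e⟩ := ((basic_p2maxElem_structure hp (EA.mono le_top)
      ((EA.mono le_top).pmaxElem_of_pRank hp rG) pS EA.le nabS).2 A₀ EA₀ ne₀).2.2
      A₀ ⟨EA₀, ne₀⟩ _ ⟨EX.of_le le_sup_right, neX⟩
    have h1 := conjg_mono s u.2.1
    rw [conjg_norm, ← e, conjg_of_mem (sSH hs.1)] at h1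
    rw [← cent_zpowers]
    exact (cent_le_norm _).trans h1
  have p'K : IsPiGrp {p}ᶜ (betaCore M) := p'_of_not_mem (Mbeta_pgroup M) fun h => by
    have h1 := (mem_alpha_iff.1 (beta_sub_alpha M h)).2
    have h2 := pRank_mono hp (le_top : M ≤ ⊤)
    omega
  have coKS : (Nat.card (betaCore M)).Coprime (Nat.card S) := PiNat.coprime' p'K pS
  have nKS : S ≤ 𝒩(betaCore M) := sSM.trans (Mbeta_norm M)
  obtain ⟨x, hx, nx⟩ : ∃ x ∈ S, x ∉ 𝒵(S) := by
    by_contra hc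
    push Not at hc
    exact nabS (abelian_iff_le_cent.2 fun y hy => (hc y hy).2)
  have EA := (E2 x hx nx).2
  have sKH : betaCore M ≤ H := by
    refine p2Elem_gen_cent_le hp EA (EA.le.trans nKS) (cop_right coKS EA.le) fun Y EY => ?_
    by_cases e : Y ≤ 𝒵(S)
    · rw [EY.eq_of_le EpZ e]
      exact gen_cent1_quot_le inf_le_left (center_normalIn S).2 (norm_of_cent inf_le_right) defS'.le
        (fun h => nabS (abelian_of_cyclic_quot inf_le_left (le_cent_symm inf_le_right) h))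
        (norm_inf nKS (norm_cent (center_normalIn S).2)) (cop_left coKS inf_le_left)
        (inf_le_left.trans sSH) fun y hy ny => inf_le_right.trans (sCH y hy ny)
    · obtain ⟨y, hy, ny⟩ := SetLike.not_le_iff_exists.1 e
      exact inf_le_right.trans ((cent_le_cent_singleton hy).trans (sCH y (EA.le (EY.le hy)) ny))
  exact neH (eq_mmax maxM maxH (defM.ge.trans (sup_le sKH inf_le_left))).symm

/-- B & G, Theorem 12.13. -/
theorem nonabelian_Uniqueness {p : ℕ} (hp : p.Prime) {P : Subgroup G} (pP : IsPGrp p P)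
    (nabP : ¬ IsMulCommutative P) : InUniqueMaximal P := by
  obtain ⟨M, maxM, sPM⟩ := mmax_exists (pgroup_proper pP)
  refine inUniq_of_uniqMax ⟨maxM, sPM, fun H maxH sPH => ?_⟩
  by_contra neH
  have sig : ∀ L : Subgroup G, IsCoatom L → P ≤ L → p ∈ sigma L := fun L maxL sPL => by
    by_contra h
    exact nabP (sigma'_nil_abelian maxL sPL (pP.piGrp h) (IsPGrp.nil pP))
  obtain ⟨T, sylT, sPT⟩ := sylow_superset hp pP (le_inf sPH sPM)
  have nabT : ¬ IsMulCommutative T := fun h => nabP (abelian_of_le h sPT)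
  have sTH := sylT.le.trans inf_le_left
  have sTM := sylT.le.trans inf_le_right
  have nTH := norm_noncyclic_sigma maxH (sig H maxH sPH) sylT.pGrp sTH (not_cyclic_of_not_abelian nabT)
  have nTM := norm_noncyclic_sigma maxM (sig M maxM sPM) sylT.pGrp sTM (not_cyclic_of_not_abelian nabT)
  have sylTG : IsSylowOf p T ⊤ := sylT.of_norm_le hp le_top (inf_le_right.trans (le_inf nTH nTM))
  have rT : rank T ≤ 2 := by
    by_contra h
    exact neH (uniq_eq_of_le (rank3_Uniqueness (pgroup_proper sylT.pGrp) (by omega)) maxM sTM maxH sTH)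
  obtain ⟨S, C, nabS, oS, expS, -, defT, -⟩ := mFT_rank2_Sylow_cprod hp sylTG rT nabT
  have sST : S ≤ T := defT.left_normal.1
  have defM := (nonuniq_norm_Sylow_pprod maxM hp maxH neH sylTG (le_inf nTH nTM)).1
  have defH := (nonuniq_norm_Sylow_pprod maxH hp maxM (Ne.symm neH) sylTG (le_inf nTM nTH)).1
  rw [rank_Sylow hp sylTG] at rT
  by_cases u : UniqMax 𝒩(𝒵(S)) H
  · exact nonabelian_Uniqueness_aux hp maxH maxM (Ne.symm neH) (sST.trans sTH) (sST.trans sTM) nabS oS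
      expS rT defH defM fun u' => neH (eq_uniq_mmax u' maxH u.2.1)
  · exact nonabelian_Uniqueness_aux hp maxM maxH neH (sST.trans sTM) (sST.trans sTH) nabS oS
      expS rT defM defH u

theorem cent_der_sigma_uniq_aux {M X P : Subgroup G} {p : ℕ} (hp : p.Prime) (maxM : IsCoatom M)
    (EpX : IsPnElem p 1 X P) (sylP : IsSylowOf p P (sigmaCore M))
    (h : p ∈ beta M ∨ X ≤ ⁅sigmaCore M, sigmaCore M⁆) : UniqMax 𝒞(X) M ∧ UniqMax P M := by
  have ntX := EpX.ne_bot hp one_pos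
  have pP := sylP.pGrp
  have sPM := sylP.le.trans (Msigma_le M)
  have sMp : p ∈ sigma M := Msigma_pgroup M p hp ((EpX.mono sylP.le).prime_dvd_card one_pos)
  have sylPG := sigma_Sylow_G sMp (sylP.trans_hall (Msigma_Hall maxM) sMp)
  by_cases rC : 2 < pRank p (P ⊓ 𝒞(X))
  · have u := def_uniq_mmax (rank3_Uniqueness (K := P ⊓ 𝒞(X)) (pgroup_proper (pP.inf_left _))
      (rC.trans_le (p_rank_le_rank hp _))) maxM (inf_le_left.trans sPM)
    exact ⟨def_uniq_mmaxS inf_le_right (mFT_cent_proper ntX) u,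
      def_uniq_mmaxS inf_le_left (pgroup_proper pP) u⟩
  have nnP : Narrow p P := by
    intro rP
    exact (narrow_centP hp pP (mFT_odd P) rP).2 ⟨X, EpX.le, EpX.card_one, by omega⟩ rP
  have b'p : p ∉ beta M := fun hb => (ideal_iff.1 hb.2).2.2 P sylPG nnP
  have sXMs' := h.resolve_left b'p
  have hallK := (beta_max_pdiv maxM hp b'p).2.1
  have sXP' : X ≤ ⁅P, P⁆ := by
    have := pprod_focal_coprime (hallK.sup_compl (by rwa [compl_compl])) (pcore_normal _ _) EpX.le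
      (PiNat.coprime' hallK.piGrp (EpX.pGrp hp))
    rw [inf_eq_left.2 sXMs'] at this
    exact this.le.trans inf_le_right
  by_cases rP : 2 < pRank p P
  · exact absurd (eq_bot_of_le (le_inf le_rfl sXP') (narrow_cent_dprod hp pP (mFT_odd P) rP nnP
      EpX.card_one EpX.le (by omega)).2.1) ntX
  have nabP : ¬ IsMulCommutative P := fun h => ntX (eq_bot_of_le sXP' (der_eq_bot_iff.2 h))
  obtain ⟨S, C, nabS, oS, -, cycC, defP, -⟩ := mFT_rank2_Sylow_cprod hp sylPG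
    (by rw [rank_pgroup hp pP]; omega) nabP
  have cPX : P ≤ 𝒞(X) := by
    obtain ⟨-, -, defS', -⟩ := p3group_extraspecial hp (pGrp_of_card_eq_pow hp oS) nabS oS.le
    rw [← defP.1, comm_sup_self_of_cent defP.2, der_eq_bot_iff.2 (abelian_of_cyclic cycC), sup_bot_eq,
      defS'] at sXP'
    rw [← defP.1]
    exact sup_le (le_cent_symm (sXP'.trans inf_le_right))
      (defP.2.trans (cent_anti (sXP'.trans inf_le_left)))
  have u := def_uniq_mmax (nonabelian_Uniqueness hp pP nabP) maxM sPM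
  exact ⟨def_uniq_mmaxS cPX (mFT_cent_proper ntX) u, u⟩

/-- B & G, Corollary 12.14. -/
theorem cent_der_sigma_uniq {M X P : Subgroup G} {p : ℕ} (hp : p.Prime) (maxM : IsCoatom M)
    (EpX : IsPnElem p 1 X M) (sylP : IsSylowOf p P (sigmaCore M))
    (h : p ∈ beta M ∨ X ≤ ⁅sigmaCore M, sigmaCore M⁆) : UniqMax 𝒞(X) M ∧ UniqMax P M := by
  have sXMs : X ≤ sigmaCore M := by
    rcases h with h | h
    · exact sub_Msigma maxM EpX.le ((EpX.pGrp hp).piGrp (beta_sub_sigma maxM h))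
    · exact h.trans (der_le _)
  obtain ⟨P₁, sylP₁, sXP₁⟩ := sylow_superset hp (EpX.pGrp hp) sXMs
  obtain ⟨u1, u2⟩ := cent_der_sigma_uniq_aux hp maxM (EpX.of_le sXP₁) sylP₁ h
  obtain ⟨x, hx, rfl⟩ := sylow_trans hp sylP₁ sylP
  have := def_uniq_mmaxJ x u2
  rw [conjg_of_mem (Msigma_le M hx)] at this
  exact ⟨u1, this⟩

theorem eq_Mbeta_Malpha {M : Subgroup G} (h : alpha M = beta M) : betaCore M = alphaCore M := by
  rw [betaCore_eq, alphaCore_eq, h]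

/-- B & G, Proposition 12.15. -/
theorem sigma_subgroup_embedding {M X Mstar S : Subgroup G} {q : ℕ} (maxM : IsCoatom M)
    (sMq : q ∈ sigma M) (sXM : X ≤ M) (qX : IsPGrp q X) (ntX : X ≠ ⊥)
    (maxMs : IsCoatom Mstar) (sNMs : 𝒩(X) ≤ Mstar) (neMs : Mstar ≠ M)
    (sylS : IsSylowOf q S (M ⊓ Mstar)) (sXS : X ≤ S) :
    (∀ g, Mstar ≠ M :^ g) ∧ 𝒩(S) ≤ M ∧ IsSylowOf q S Mstar ∧
    (q ∈ sigma Mstar →
      betaCore Mstar ⊔ (M ⊓ Mstar) = Mstar ∧ tau1 Mstar ⊆ tau1 M ∪ alpha M ∧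
      betaCore M = alphaCore M ∧ alphaCore M ≠ ⊥) ∧
    (q ∉ sigma Mstar →
      q ∈ tau2 Mstar ∧ primesOf M ∩ sigma Mstar ⊆ beta Mstar ∧
      IsPiHallOf (sigma Mstar)ᶜ (M ⊓ Mstar) Mstar) := by
  have hq := sigma_prime sMq
  have sSM := sylS.le.trans inf_le_left
  have sSH := sylS.le.trans inf_le_right
  have notJ := mmax_norm_notJ maxM maxMs qX sXM sNMs (Or.inl ⟨sMq, neMs.symm⟩)
  have sNSM : 𝒩(S) ≤ M := by
    by_cases cycS : IsCyclic S
    · exact norm_sigma_Sylow sMq (sylS.of_norm_le hq inf_le_left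
        (inf_le_inf_left _ ((norm_le_norm_of_cyclic cycS sXS).trans sNMs)))
    · exact norm_noncyclic_sigma maxM sMq sylS.pGrp sSM cycS
  have sylSH : IsSylowOf q S Mstar :=
    sylS.of_norm_le hq inf_le_right (le_inf (inf_le_right.trans sNSM) inf_le_left)
  refine ⟨notJ, sNSM, sylSH, fun sHq => ?_, fun s'q => ?_⟩
  · have sNSH := norm_sigma_Sylow sHq sylSH
    have sylSG := sigma_Sylow_G sHq sylSH
    obtain ⟨defH, -⟩ := nonuniq_norm_Sylow_pprod maxMs hq maxM neMs.symm sylSG (le_inf sNSM sNSH)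
    obtain ⟨defM, eab⟩ := nonuniq_norm_Sylow_pprod maxM hq maxMs neMs sylSG (le_inf sNSH sNSM)
    refine ⟨defH, fun p t1p => ?_, eq_Mbeta_Malpha eab, fun h => ?_⟩
    · by_cases ap : p ∈ alpha M
      · exact Or.inr ap
      left
      obtain ⟨hp, s'p, rp, p'H'⟩ := mem_tau1_iff.1 t1p
      rw [inf_comm] at defM
      have p'Mb : IsPiGrp {p}ᶜ (betaCore M) := p'_of_not_mem (Mbeta_pgroup M) (eab ▸ ap)
      have p'Hb : IsPiGrp {p}ᶜ (betaCore Mstar) :=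
        p'_of_not_mem (Mbeta_pgroup Mstar) fun h => s'p (beta_sub_sigma maxMs h)
      have nMb : M ⊓ Mstar ≤ 𝒩(betaCore M) := inf_le_left.trans (Mbeta_norm M)
      have r1 := pRank_of_not_dvd_relIndex hp inf_le_left
        ((piNat_compl_singleton_iff hp).1 (piNat_relIndex_of_sup defM nMb p'Mb))
      have r2 := pRank_of_not_dvd_relIndex hp inf_le_right ((piNat_compl_singleton_iff hp).1
        (piNat_relIndex_of_sup defH (inf_le_right.trans (Mbeta_norm _)) p'Hb))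
      have p'M' := not_dvd_der_of_sup hp defM nMb p'Mb
        fun h => p'H' (dvd_of_le h (der_mono inf_le_right))
      refine mem_tau1_iff.2 ⟨hp, fun sp => p'M' (dvd_of_le ?_ (Msigma_der1 maxM)), by omega, p'M'⟩
      exact ((pi_Msigma maxM).symm ▸ sp : p ∈ primesOf (sigmaCore M)).2
    · rw [eq_Mbeta_Malpha eab, h, bot_sup_eq] at defM
      exact neMs (eq_mmax maxM maxMs (defM.ge.trans inf_le_left)).symm
  · have t2q : q ∈ tau2 Mstar := (prime_class_mmax_norm hq maxMs qX sNMs).resolve_left s'q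
    obtain ⟨A, EqA⟩ : ∃ A : Subgroup G, IsPnElem q 2 A S := (p_rank_geP hq).1 (by
      rw [p_rank_Sylow hq sylSH, (mem_tau2_iff.1 t2q).2.2])
    have qA := EqA.pGrp hq
    obtain ⟨F, hallF, sAF⟩ := ex_sigma_compl maxMs (EqA.le.trans sSH) (qA.piGrp s'q)
    obtain ⟨-, ⟨sCAF, defF, -⟩, -, tis⟩ := tau2_compl_context maxMs hallF t2q (EqA.of_le sAF)
    obtain ⟨-, -, regA, tiHs, -⟩ := tau2_context maxMs t2q (EqA.mono sSH)
    have sNAM := norm_noncyclic_sigma maxM sMq qA (EqA.le.trans sSM) (EqA.not_cyclic hq le_rfl)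
    have sFM : F ≤ M := defF.ge.trans (inf_le_right.trans sNAM)
    have defD : M ⊓ Mstar = F := by
      have d := sdprod_sigma maxMs hallF
      conv_lhs => rw [← d.sup_eq]
      rw [inf_sup_of_right_le (Or.inr d.norm) sFM, inf_comm,
        tiHs M maxM (EqA.le.trans sSM) neMs.symm, bot_sup_eq]
    refine ⟨t2q, ?_, defD ▸ hallF⟩
    rintro p ⟨⟨hp, piMp⟩, sHp⟩
    by_contra b'p
    have s'p : p ∉ sigma M := fun h => Set.disjoint_left.1 (tis M maxM (notJ_symm notJ)).2 sHp h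
    have b'q := (tau2_not_beta maxMs t2q).1
    rcases lt_trichotomy p q with h | h | h
    · obtain ⟨⟨P, sylP, cPA⟩, -⟩ := beta'_cent_Sylow maxMs hp hq b'p (not_beta_of_not_ideal b'q) qA
        (Or.inr ⟨h, EqA.le.trans sSH⟩)
      exact sylP.ne_bot' hp ((pi_Msigma maxMs).symm ▸ sHp : p ∈ primesOf (sigmaCore Mstar)).2
        (eq_bot_of_le (le_inf sylP.le (le_cent_symm cPA)) regA)
    · exact s'q (h ▸ sHp)
    · obtain ⟨Y, sylY⟩ := sylow_exists hp M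
      obtain ⟨⟨Q, sylQ, cQY⟩, -⟩ := beta'_cent_Sylow maxM hq hp (not_beta_of_not_ideal b'q)
        (fun hb => s'p (beta_sub_sigma maxM hb)) sylY.pGrp (Or.inr ⟨h, sylY.le⟩)
      obtain ⟨g, -, sAQ⟩ := sylow_subJ hq (sigma_Sylow_G sMq (sylQ.trans_hall (Msigma_Hall maxM) sMq))
        qA le_top
      have h1 : Y :^ g ≤ F := ((conjg_le_cent_iff.2 cQY).trans (cent_anti sAQ)).trans sCAF
      refine hallF.piGrp p hp (dvd_of_le ?_ h1) sHp
      rw [card_conjg]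
      exact IsPGrp.dvd_card sylY.pGrp (sylY.ne_bot' hp piMp)

/-- The factorization of a maximal subgroup containing `N(X)` used in Corollary 12.16. -/
theorem sigma_norm_factor {M X : Subgroup G} {q : ℕ} (maxM : IsCoatom M) (sMq : q ∈ sigma M)
    (sXM : X ≤ M) (qX : IsPGrp q X) (ntX : X ≠ ⊥) :
    ∃ L K : Subgroup G, IsCoatom L ∧ 𝒩(X) ≤ L ∧ K ⊲ L ∧ K ⊔ (M ⊓ L) = L ∧ IsPiGrp (sigma M)ᶜ K ∧
      ∀ p ∈ primesOf M, ¬ IsIdealPrime p G → IsPiGrp {p}ᶜ K := by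
  by_cases sNM : 𝒩(X) ≤ M
  · exact ⟨M, ⊥, maxM, sNM, bot_normalIn M, by rw [inf_idem, bot_sup_eq], piGrp_bot _,
      fun p _ _ => piGrp_bot _⟩
  obtain ⟨L, maxL, sNL⟩ := mmax_exists (norm_pgroup_proper qX ntX)
  have neL : L ≠ M := fun e => sNM (e ▸ sNL)
  obtain ⟨S, sylS, sXS⟩ := sylow_superset (sigma_prime sMq) qX
    (le_inf sXM (Subgroup.le_normalizer.trans sNL))
  obtain ⟨notJ, -, -, h1, h2⟩ := sigma_subgroup_embedding maxM sMq sXM qX ntX maxL sNL neL sylS sXS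
  by_cases sLq : q ∈ sigma L
  · refine ⟨L, betaCore L, maxL, sNL, Mbeta_normal L, (h1 sLq).1, (Mbeta_pgroup L).mono fun r hr => ?_,
      fun p _ h => p'_of_not_mem (Mbeta_pgroup L) (not_beta_of_not_ideal h)⟩
    exact Set.disjoint_left.1 (sigma_disjoint maxL maxM (notJ_symm notJ)).2.1 (beta_sub_alpha L hr)
  · obtain ⟨t2q, hb, hallD⟩ := h2 sLq
    refine ⟨L, sigmaCore L, maxL, sNL, Msigma_normal L, (sdprod_sigma maxL hallD).sup_eq,
      (Msigma_pgroup L).mono fun r hr => ?_,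
      fun p hp h => p'_of_not_mem (Msigma_pgroup L) fun sp => h (hb ⟨hp, sp⟩).2⟩
    exact Set.disjoint_left.1
      ((sigma_disjoint maxL maxM (notJ_symm notJ)).2.2 (tau2_Msigma_nil maxL t2q)).2 hr

theorem sub_conj_of_factor {π : Set ℕ} {L K D Y : Subgroup G} (maxL : IsCoatom L) (nsK : K ⊲ L)
    (defL : K ⊔ D = L) (piK : IsPiGrp πᶜ K) (sYL : Y ≤ L) (piY : IsPiGrp π Y) :
    ∃ x ∈ L, Y :^ x ≤ D := by
  have sDL : D ≤ L := le_sup_right.trans defL.le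
  obtain ⟨T, hallT⟩ := Hall_exists π (sol_of_le (mmax_sol maxL) sDL)
  obtain ⟨x, hx, h⟩ := Hall_Jsub (mmax_sol maxL)
    (hallT.trans_index sDL (piNat_relIndex_of_sup defL (sDL.trans nsK.2) piK)) sYL piY
  exact ⟨x, hx, h.trans hallT.le⟩

theorem sigma_Jsub_aux {M Y X : Subgroup G} {q : ℕ} (maxM : IsCoatom M) (sMY : IsPiGrp (sigma M) Y)
    (ntY : Y ≠ ⊥) (sMq : q ∈ sigma M) (sXM : X ≤ M) (qX : IsPGrp q X) (ntX : X ≠ ⊥)
    (sNYX : 𝒩(Y) ≤ 𝒩(X)) :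
    (∃ x, Y :^ x ≤ sigmaCore M) ∧
    ∀ (H : Subgroup G) (p : ℕ), p ∈ primesOf M → p ∉ sigma M → ¬ IsIdealPrime p G →
      IsCoatom H → Y ≤ H → (∀ g, H ≠ M :^ g) →
      pRank p (H ⊓ 𝒩(Y)) ≤ 1 ∧ (p ∈ tau1 M → ¬ p ∣ Nat.card ↥⁅H ⊓ 𝒩(Y), H ⊓ 𝒩(Y)⁆) := by
  obtain ⟨L, K, maxL, sNL, nsK, defL, s'K, p'K⟩ := sigma_norm_factor maxM sMq sXM qX ntX
  have sNYL := sNYX.trans sNL
  constructor
  · obtain ⟨x, -, h⟩ := sub_conj_of_factor maxL nsK defL s'K (Subgroup.le_normalizer.trans sNYL) sMY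
    exact ⟨x, sub_Msigma maxM (h.trans inf_le_left) (sMY.conjg x)⟩
  intro H p piMp s'p b'p maxH sYH notJ
  have hp := piMp.1
  constructor
  · by_contra hr
    obtain ⟨A, EpA⟩ := (p_rank_geP hp (n := 2) (H := H ⊓ 𝒩(Y))).1 (by omega)
    have nYA : A ≤ 𝒩(Y) := EpA.le.trans inf_le_right
    obtain ⟨x, -, h⟩ := sub_conj_of_factor (π := sigma M ∪ {p}) (Y := Y ⊔ A) maxL nsK defL
      (by rw [Set.compl_union]; exact piNat_inter_iff.2 ⟨s'K, p'K p piMp b'p⟩)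
      (sup_le (Subgroup.le_normalizer.trans sNYL) (nYA.trans sNYL))
      (IsPiGrp.sup (sMY.mono Set.subset_union_left) ((EpA.pGrp hp).mono Set.subset_union_right)
        (Or.inr nYA))
    have hM := h.trans inf_le_left
    have EpAx : IsPnElem p 2 (A :^ x) M := EpA.conjg_of_le ((conjg_mono x le_sup_right).trans hM)
    have ti := (tau2_context maxM (sigma'2Elem_tau2 hp maxM s'p EpAx) EpAx).2.2.2.1 (H :^ x)
      (isCoatom_conjg.2 maxH) (conjg_mono x (EpA.le.trans inf_le_left))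
      (fun e => notJ x⁻¹ (conjg_eq_iff.1 e))
    exact ntY (conjg_eq_bot.1 (eq_bot_of_le (le_inf
      (sub_Msigma maxM ((conjg_mono x le_sup_left).trans hM) (sMY.conjg x)) (conjg_mono x sYH)) ti))
  · intro t1p hd
    exact not_dvd_der_of_sup hp defL (inf_le_right.trans nsK.2) (p'K p piMp b'p)
      (fun h => (mem_tau1_iff.1 t1p).2.2.2 (dvd_of_le h (der_mono inf_le_left)))
      (dvd_of_le hd (der_mono (inf_le_right.trans sNYL)))

theorem sigma_grp_proper {M Y : Subgroup G} (maxM : IsCoatom M) (sMY : IsPiGrp (sigma M) Y) :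
    Y ≠ ⊤ := by
  rintro rfl
  exact sub_mmax_proper maxM (Msigma_le M) ((Msigma_Hall_G maxM).eq_self sMY)

/-- B & G, Corollary 12.16. -/
theorem sigma_Jsub {M Y : Subgroup G} (maxM : IsCoatom M) (sMY : IsPiGrp (sigma M) Y) (ntY : Y ≠ ⊥) :
    (∃ x, Y :^ x ≤ sigmaCore M) ∧
    ∀ (E H : Subgroup G) (p : ℕ), IsPiHallOf (sigma M)ᶜ E M → p ∈ primesOf E → ¬ IsIdealPrime p G →
      IsCoatom H → Y ≤ H → (∀ g, H ≠ M :^ g) →
      pRank p (H ⊓ 𝒩(Y)) ≤ 1 ∧ (p ∈ tau1 M → ¬ p ∣ Nat.card ↥⁅H ⊓ 𝒩(Y), H ⊓ 𝒩(Y)⁆) := by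
  obtain ⟨q, hq, ntX⟩ := exists_pcore_ne_bot (mFT_sol (sigma_grp_proper maxM sMY)) ntY
  have qX := pcore_pGrp q Y
  have sMq : q ∈ sigma M := qX.mem_of_piGrp ntX (sMY.of_le (pcore_le _ _))
  obtain ⟨Q, sylQ⟩ := sylow_exists hq M
  obtain ⟨z, -, sXQ⟩ := sylow_subJ hq (sigma_Sylow_G sMq sylQ) qX le_top
  obtain ⟨⟨x, hx⟩, h⟩ := sigma_Jsub_aux (M := M :^ z) (isCoatom_conjg.2 maxM) (by rwa [sigmaJ]) ntY
    (by rwa [sigmaJ]) (sXQ.trans (conjg_mono z sylQ.le)) qX ntX (charIn_pcore _ Y).norm_le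
  constructor
  · rw [MsigmaJ, le_conjg_iff, ← conjg_mul] at hx
    exact ⟨_, hx⟩
  · intro E H p hallE piEp b'p maxH sYH notJ
    have := h H p ⟨piEp.1, by rw [card_conjg]; exact dvd_of_le piEp.2 hallE.le⟩
      (by rw [sigmaJ]; exact hallE.piGrp p piEp.1 piEp.2) b'p maxH sYH
      (fun g => by rw [← conjg_mul]; exact notJ _)
    rwa [tau1J] at this

/-- B & G, Lemma 12.17. -/
theorem sigma_compl_embedding {M E : Subgroup G} (maxM : IsCoatom M) (hallE : IsPiHallOf (sigma M)ᶜ E M) :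
    sigmaCore M ⊓ 𝒞(E) ≤ ⁅sigmaCore M, sigmaCore M⁆ ∧ ⁅sigmaCore M, E⁆ = sigmaCore M ∧
    ∀ g, g ∉ M → IsCyclic ↥(sigmaCore M ⊓ M :^ g) ∧ IsPiGrp (beta M)ᶜ (sigmaCore M ⊓ M :^ g) ∧
      sigmaCore M ⊓ M :^ g ⊓ ⁅sigmaCore M, sigmaCore M⁆ = ⊥ := by
  obtain ⟨h1, h2⟩ := coprime_der1_sdprod (sdprod_sigma maxM hallE) (coprime_sigma_compl hallE)
    (sol_of_le (mmax_sol maxM) (Msigma_le M)) (Msigma_der1 maxM)
  refine ⟨h2, h1, fun g notMg => ?_⟩
  have nCX : ∀ (p : ℕ) (X : Subgroup G), p.Prime → IsPGrp p X → X ≠ ⊥ → X ≤ sigmaCore M ⊓ M :^ g →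
      ¬ 𝒞(X) ≤ M := by
    intro p X hp pX ntX sX sCM
    have sXMs := sX.trans inf_le_left
    refine notMg ?_
    have := sigma_group_trans_e maxM (pX.mem_of_piGrp ntX ((Msigma_pgroup M).of_le sXMs)) pX
      (sXMs.trans (Msigma_le M)) sCM (le_conjg_iff.1 (sX.trans inf_le_right))
    simpa using this
  have key : ∀ (p : ℕ) (X : Subgroup G), p.Prime → IsPnElem p 1 X (sigmaCore M ⊓ M :^ g) →
      ¬ (p ∈ beta M ∨ X ≤ ⁅sigmaCore M, sigmaCore M⁆) := by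
    intro p X hp EpX h
    obtain ⟨P, sylP⟩ := sylow_exists hp (sigmaCore M)
    exact nCX p X hp (EpX.pGrp hp) (EpX.ne_bot hp one_pos) EpX.le
      (cent_der_sigma_uniq hp maxM (EpX.mono (inf_le_left.trans (Msigma_le M))) sylP h).1.2.1
  have ti : sigmaCore M ⊓ M :^ g ⊓ ⁅sigmaCore M, sigmaCore M⁆ = ⊥ := by
    by_contra h
    obtain ⟨p, hp, hd⟩ := exists_prime_dvd_card h
    obtain ⟨X, EpX⟩ := p1Elem_exists hp hd
    exact key p X hp (EpX.mono inf_le_left) (Or.inr (EpX.le.trans inf_le_right))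
  refine ⟨?_, fun p hp hd hb => ?_, ti⟩
  · refine (abelian_rank1_cyclic (der_eq_bot_iff.1
      (eq_bot_of_le (le_inf (der_le _) (der_mono inf_le_left)) ti))).2 ?_
    by_contra hr
    obtain ⟨p, hp, A, EpA⟩ := (rank_geP (n := 2) (H := sigmaCore M ⊓ M :^ g)).1 (by omega)
    exact nCX p A hp (EpA.pGrp hp) (EpA.ne_bot hp (by omega)) EpA.le
      (p2Elem_mmax hp maxM (EpA.mono (inf_le_left.trans (Msigma_le M)))).1
  · obtain ⟨X, EpX⟩ := p1Elem_exists hp hd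
    exact key p X hp EpX (Or.inl hb)

theorem rank_cent_Malpha_le {M X : Subgroup G} (maxM : IsCoatom M) (sXM : X ≤ M)
    (a'X : IsPiGrp (alpha M)ᶜ X) (prN : 𝒩(X) ≠ ⊤) (nuN : ¬ UniqMax 𝒩(X) M) :
    rank (alphaCore M ⊓ 𝒞(X)) ≤ 1 := by
  by_contra h
  exact nuN (def_uniq_mmaxS (inf_le_right.trans (cent_le_norm X)) prN
    (def_uniq_mmax (cent_alpha'_uniq maxM sXM a'X (by omega)) maxM inf_le_left))

theorem cent_Malpha_reg_tau1_a {M P Q : Subgroup G} {p q : ℕ} (maxM : IsCoatom M) (t1p : p ∈ tau1 M)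
    (hq : q.Prime) (neqp : q ≠ p) (EpP : IsPnElem p 1 P M) (ntQ : Q ≠ ⊥) (nQP : P ≤ 𝒩(Q))
    (regP : Q ⊓ 𝒞(P) = ⊥) (nuN : ¬ UniqMax 𝒩(Q) M) (ntMa : alphaCore M ≠ ⊥) (a'q : q ∉ alpha M)
    (sQM : Q ≤ M) (qQ : IsPGrp q Q) :
    alphaCore M ⊓ 𝒞(P) ≠ ⊥ ∧ alphaCore M ⊓ 𝒞(P ⊔ Q) = ⊥ := by
  have hp := t1p.1
  have pP := EpP.pGrp hp
  have a'p : p ∉ alpha M := fun h => t1p.2.1 (alpha_sub_sigma maxM h)
  have rQ := rank_cent_Malpha_le maxM sQM (qQ.piGrp a'q) (norm_pgroup_proper qQ ntQ) nuN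
  have rP := rank_cent_Malpha_le maxM EpP.le (pP.piGrp a'p)
    (norm_pgroup_proper pP (EpP.ne_bot hp one_pos))
    fun u => (prime_class_mmax_norm hp maxM pP u.2.1).elim t1p.2.1 (tau2'1 t1p)
  have frob : IsFrob (Q ⊔ P) Q P := (prime_FrobeniusP ntQ (EpP.card_prime hp)).2
    ⟨sdprod_mk nQP rfl (inf_eq_bot_of_cop (qQ.coprime_of_ne pP neqp)), regP⟩
  have sFM : Q ⊔ P ≤ M := sup_le sQM EpP.le
  have a'F : IsPiGrp (alpha M)ᶜ (Q ⊔ P) := (qQ.piGrp a'q).sup (pP.piGrp a'p) (Or.inr nQP)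
  have coF := (Malpha_pgroup M).coprime a'F
  have key : ∀ (r : ℕ) (R : Subgroup G), r ∈ alpha M → IsSylowOf r R (alphaCore M) → Q ⊔ P ≤ 𝒩(R) →
      ∃ R₁ : Subgroup G, R₁ ≤ R ∧ (∀ x ∈ R₁, x ^ r = 1) ∧ ¬ R₁ ⊓ 𝒞(P) ≤ 𝒞(Q) := by
    intro r R ar sylR nRF
    obtain ⟨hr, rr⟩ := mem_alpha_iff.1 ar
    rw [← p_rank_Sylow hr (sylR.trans_hall (Malpha_Hall maxM) ar)] at rr
    obtain ⟨R₁, chR₁, -, -, -, expR₁, faith, -⟩ := critical_odd hr sylR.pGrp (mFT_odd R)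
      (ne_bot_of_pRank_pos hr (by omega))
    refine ⟨R₁, chR₁.le, expR₁, fun hc => ?_⟩
    have w := (Frobenius_Wielandt_fixpoint frob (chR₁.norm nRF) (cop_left coF (chR₁.le.trans sylR.le))
      (IsPGrp.sol (sylR.pGrp.of_le chR₁.le))).1
    have e : R₁ ⊓ 𝒞(Q ⊔ P) = R₁ ⊓ 𝒞(P) := by
      rw [cent_sup]
      exact le_antisymm (inf_le_inf_left _ inf_le_right) (le_inf inf_le_left (le_inf hc inf_le_right))
    rw [e] at w
    have w' := Nat.eq_of_mul_eq_mul_left (pow_pos Nat.card_pos _) w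
    have cQ : R₁ ≤ 𝒞(Q) :=
      (Subgroup.eq_of_le_of_card_ge (inf_le_left : R₁ ⊓ 𝒞(Q) ≤ R₁) w'.le).ge.trans inf_le_right
    have cRQ := faith Q (le_sup_left.trans nRF) (p'_of_ne qQ fun e => a'q (e ▸ ar)) (le_cent_symm cQ)
    have h1 := (p_rank_le_rank hr R).trans (rank_mono (le_inf sylR.le (le_cent_symm cRQ)))
    omega
  have solF := Or.inr (a := Group.IsSolvable (alphaCore M)) (sol_of_le (mmax_sol maxM) sFM)
  have nMaF := sFM.trans (Malpha_norm M)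
  constructor
  · obtain ⟨r, hr, hd⟩ := exists_prime_dvd_card ntMa
    obtain ⟨R, sylR, nRF⟩ := sol_coprime_Sylow_exists hr solF nMaF coF
    obtain ⟨R₁, sR₁, -, h⟩ := key r R (Malpha_pgroup M r hr hd) sylR nRF
    intro reg
    exact h ((eq_bot_of_le (inf_le_inf_right _ (sR₁.trans sylR.le)) reg).le.trans bot_le)
  · by_contra nt
    rw [sup_comm] at nt
    obtain ⟨r, hr, hd⟩ := exists_prime_dvd_card nt
    obtain ⟨T, ErT⟩ := p1Elem_exists hr hd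
    obtain ⟨R, sylR, nRF, sTR⟩ := sol_coprime_Sylow_subset hr solF nMaF coF (ErT.le.trans inf_le_left)
      (ErT.pGrp hr) (norm_of_cent' (ErT.le.trans inf_le_right))
    obtain ⟨R₁, sR₁, expR₁, h⟩ := key r R (Malpha_pgroup M r hr (dvd_of_le hd inf_le_left)) sylR nRF
    have cyc : IsCyclic ↥(R ⊓ 𝒞(P)) := (cyclic_iff hr (sylR.pGrp.inf_left _)).2
      ((p_rank_le_rank hr _).trans ((rank_mono (inf_le_inf_right _ sylR.le)).trans rP))
    have cT := ErT.le.trans inf_le_right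
    apply h
    refine (le_ohm1 (inf_le_inf_right _ sR₁) fun x hx => expR₁ x hx.1).trans ?_
    rw [ohm1_eq_of_cyclic hr cyc (le_inf sTR (cT.trans (cent_anti le_sup_right))) ErT.card_one]
    exact cT.trans (cent_anti le_sup_left)

/-- B & G, Lemma 12.18. -/
theorem cent_Malpha_reg_tau1 {M P Q : Subgroup G} {p q : ℕ} (maxM : IsCoatom M) (t1p : p ∈ tau1 M)
    (hq : q.Prime) (neqp : q ≠ p) (EpP : IsPnElem p 1 P M) (ntQ : Q ≠ ⊥) (nQP : P ≤ 𝒩(Q))
    (regP : Q ⊓ 𝒞(P) = ⊥) (nuN : ¬ UniqMax 𝒩(Q) M) :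
    (alphaCore M ≠ ⊥ → q ∉ alpha M → Q ≤ M → IsPGrp q Q →
      alphaCore M ⊓ 𝒞(P) ≠ ⊥ ∧ alphaCore M ⊓ 𝒞(P ⊔ Q) = ⊥) ∧
    (IsSylowOf q Q M →
      alpha M = beta M ∧ alphaCore M ≠ ⊥ ∧ q ∉ alpha M ∧
      alphaCore M ⊓ 𝒞(P) ≠ ⊥ ∧ alphaCore M ⊓ 𝒞(P ⊔ Q) = ⊥) := by
  have ha := cent_Malpha_reg_tau1_a maxM t1p hq neqp EpP ntQ nQP regP nuN
  refine ⟨ha, fun sylQ => ?_⟩
  have qQ := sylQ.pGrp
  have prN := norm_pgroup_proper qQ ntQ
  have sQM' : Q ≤ ⁅M, M⁆ := by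
    have := coprime_cent_prod nQP (qQ.coprime_of_ne (EpP.pGrp t1p.1) neqp) (Or.inl (IsPGrp.sol qQ))
    rw [regP, sup_bot_eq] at this
    exact this.ge.trans (Subgroup.commutator_mono sylQ.le EpP.le)
  have a'q : q ∉ alpha M := fun h => nuN (def_uniq_mmaxS Subgroup.le_normalizer prN
    (def_uniq_mmax (rank3_Uniqueness (pgroup_proper qQ)
      (by rw [rank_Sylow hq sylQ]; exact (mem_alpha_iff.1 h).2)) maxM sylQ.le))
  have ntMa : alphaCore M ≠ ⊥ := by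
    intro h
    have nsQ : Q ⊲ M := by
      rw [nilpotent_Hall_pcore (der_nil_of_Malpha maxM h) (IsPiHallOf.of_le sylQ sQM' (der_le M))]
      exact (der_normalIn M).pcore _
    exact nuN (by rw [mmax_normal maxM nsQ ntQ]; exact mmax_uniq_id maxM)
  refine ⟨Set.Subset.antisymm (fun r ar => ?_) (beta_sub_alpha M), ntMa, a'q, ha ntMa a'q sylQ.le qQ⟩
  by_contra b'r
  have u := (beta'_cent_Sylow maxM (alpha_prime ar) hq b'r (fun h => a'q (beta_sub_alpha M h)) qQ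
    (Or.inl ⟨fun e => a'q (e ▸ ar), sQM'⟩)).2.1 ar
  exact nuN (def_uniq_mmaxS (inf_le_right.trans (cent_le_norm Q)) prN (def_uniq_mmax u maxM inf_le_left))

/-- B & G, Lemma 12.19. -/
theorem der_compl_cent_beta' {M E : Subgroup G} (maxM : IsCoatom M) (hallE : IsPiHallOf (sigma M)ᶜ E M) :
    ∃ H : Subgroup G, IsPiHallOf (beta M)ᶜ H (sigmaCore M) ∧ ⁅E, E⁆ ≤ 𝒞(H) := by
  have s'E' := hallE.piGrp.of_le (der_le E)
  obtain ⟨L, hallL, sE'L⟩ := Hall_superset (π := (beta M)ᶜ) (sol_of_le (mmax_sol maxM) (der_le M))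
    (der_mono hallE.le) (s'E'.mono fun p h hb => h (beta_sub_sigma maxM hb))
  refine ⟨L ⊓ sigmaCore M, hallL.inf_normal ((Msigma_normal M).of_le (Msigma_der1 maxM) (der_le M)), ?_⟩
  exact sub_nilpotent_cent2 (beta'_der1_nil maxM hallL.piGrp hallL.le) sE'L inf_le_left
    (cop_right (cop_Msigma s'E').symm inf_le_right)

end CA.BG.P12
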