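/-
Interface: B & G section 12 (the subgroup `E`).
`E` is a Hall `σ(M)'`-subgroup of `M` (`IsPiHallOf (sigma M)ᶜ E M`); `𝓔¹(K)` is written
`X ≤ K ∧ (Nat.card X).Prime`; `π.-group (E / C)` is written `PiNat π (C.relIndex E)`.
-/
import Cfsg.Agent.BG.P12d
import Cfsg.Agent.BG.P12e

set_option autoImplicit false
set_option linter.unusedSectionVars false

namespace CA.BG

open Cfsg CA.FG

universe u

variable {G : Type u} [Group G] [MinSimpleOdd G]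

/-! ### elementary facts on `τ₁, τ₂, τ₃` and complements -/

theorem tau1_prime {M : Subgroup G} {p : ℕ} (h : p ∈ tau1 M) : p.Prime := h.1
theorem tau2_prime {M : Subgroup G} {p : ℕ} (h : p ∈ tau2 M) : p.Prime := h.1
theorem tau3_prime {M : Subgroup G} {p : ℕ} (h : p ∈ tau3 M) : p.Prime := h.1
theorem tau1_sigma' {M : Subgroup G} {p : ℕ} (h : p ∈ tau1 M) : p ∉ sigma M := h.2.1
theorem tau2_sigma' {M : Subgroup G} {p : ℕ} (h : p ∈ tau2 M) : p ∉ sigma M := h.2.1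
theorem tau3_sigma' {M : Subgroup G} {p : ℕ} (h : p ∈ tau3 M) : p ∉ sigma M := h.2.1

theorem mem_tau1_iff {M : Subgroup G} {p : ℕ} :
    p ∈ tau1 M ↔ p.Prime ∧ p ∉ sigma M ∧ pRank p M = 1 ∧ ¬ p ∣ Nat.card ↥⁅M, M⁆ :=
  P12.mem_tau1_iff
theorem mem_tau2_iff {M : Subgroup G} {p : ℕ} :
    p ∈ tau2 M ↔ p.Prime ∧ p ∉ sigma M ∧ pRank p M = 2 :=
  P12.mem_tau2_iff
theorem mem_tau3_iff {M : Subgroup G} {p : ℕ} :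
    p ∈ tau3 M ↔ p.Prime ∧ p ∉ sigma M ∧ pRank p M = 1 ∧ p ∣ Nat.card ↥⁅M, M⁆ :=
  P12.mem_tau3_iff

theorem tau1J (M : Subgroup G) (g : G) : tau1 (M :^ g) = tau1 M :=
  P12.tau1J M g
theorem tau2J (M : Subgroup G) (g : G) : tau2 (M :^ g) = tau2 M :=
  P12.tau2J M g
theorem tau3J (M : Subgroup G) (g : G) : tau3 (M :^ g) = tau3 M :=
  P12.tau3J M g

theorem tau2'1 {M : Subgroup G} {p : ℕ} (h : p ∈ tau1 M) : p ∉ tau2 M :=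
  P12.tau2'1 h
theorem tau3'1 {M : Subgroup G} {p : ℕ} (h : p ∈ tau1 M) : p ∉ tau3 M :=
  P12.tau3'1 h
theorem tau3'2 {M : Subgroup G} {p : ℕ} (h : p ∈ tau2 M) : p ∉ tau3 M :=
  P12.tau3'2 h

theorem partition_pi_mmax {M : Subgroup G} (maxM : IsCoatom M) {p : ℕ} :
    p ∈ primesOf M ↔ p ∈ tau1 M ∨ p ∈ tau2 M ∨ p ∈ tau3 M ∨ p ∈ sigma M :=
  P12.partition_pi_mmax maxM

theorem partition_pi_sigma_compl {M E : Subgroup G} (maxM : IsCoatom M)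
    (hallE : IsPiHallOf (sigma M)ᶜ E M) {p : ℕ} :
    p ∈ primesOf E ↔ p ∈ tau1 M ∨ p ∈ tau2 M ∨ p ∈ tau3 M :=
  P12.partition_pi_sigma_compl maxM hallE

theorem ex_sigma_compl {M F : Subgroup G} (maxM : IsCoatom M) (sFM : F ≤ M)
    (s'F : IsPiGrp (sigma M)ᶜ F) : ∃ E : Subgroup G, IsPiHallOf (sigma M)ᶜ E M ∧ F ≤ E :=
  P12.ex_sigma_compl maxM sFM s'F

theorem sdprod_sigma {M E : Subgroup G} (maxM : IsCoatom M) (hallE : IsPiHallOf (sigma M)ᶜ E M) :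
    SDProd (sigmaCore M) E M :=
  P12.sdprod_sigma maxM hallE

/-- Bridge to the hypothesis used in the statements. -/
theorem sigma_compl_hall_iff {M E : Subgroup G} (maxM : IsCoatom M) :
    IsComplIn E (sigmaCore M) M ↔ IsPiHallOf (sigma M)ᶜ E M :=
  P12.sigma_compl_hall_iff maxM

theorem coprime_sigma_compl {M E : Subgroup G} (hallE : IsPiHallOf (sigma M)ᶜ E M) :
    (Nat.card (sigmaCore M)).Coprime (Nat.card E) :=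
  P12.coprime_sigma_compl hallE

theorem sigma_compl_neq1 {M E : Subgroup G} (maxM : IsCoatom M) (hallE : IsPiHallOf (sigma M)ᶜ E M) :
    E ≠ ⊥ :=
  P12.sigma_compl_neq1 maxM hallE

/-- `M' = M_σ ⋊ E'`. -/
theorem der1_sdprod_sigma {M E : Subgroup G} (maxM : IsCoatom M) (hallE : IsPiHallOf (sigma M)ᶜ E M) :
    SDProd (sigmaCore M) ⁅E, E⁆ ⁅M, M⁆ :=
  P12.der1_sdprod_sigma maxM hallE

theorem tau1E {M E : Subgroup G} (maxM : IsCoatom M) (hallE : IsPiHallOf (sigma M)ᶜ E M) {p : ℕ} :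
    p ∈ tau1 M ↔ p.Prime ∧ pRank p E = 1 ∧ ¬ p ∣ Nat.card ↥⁅E, E⁆ :=
  P12.tau1E maxM hallE
theorem tau2E {M E : Subgroup G} (hallE : IsPiHallOf (sigma M)ᶜ E M) {p : ℕ} :
    p ∈ tau2 M ↔ p.Prime ∧ pRank p E = 2 :=
  P12.tau2E hallE
theorem tau3E {M E : Subgroup G} (maxM : IsCoatom M) (hallE : IsPiHallOf (sigma M)ᶜ E M) {p : ℕ} :
    p ∈ tau3 M ↔ p.Prime ∧ pRank p E = 1 ∧ p ∣ Nat.card ↥⁅E, E⁆ :=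
  P12.tau3E maxM hallE

/-- Every `p`-subgroup of `M` is cyclic for `p ∈ τ₁(M) ∪ τ₃(M)`. -/
theorem tau13_pgroup_cyclic {M P : Subgroup G} {p : ℕ} (t13p : p ∈ tau1 M ∨ p ∈ tau3 M) (sPM : P ≤ M)
    (pP : IsPGrp p P) : IsCyclic P :=
  P12.tau13_pgroup_cyclic t13p sPM pP

/-! ### Lemma 12.1 -/

/-- 12.1(a). -/
theorem der1_sigma_compl_nil {M E : Subgroup G} (maxM : IsCoatom M) (hallE : IsPiHallOf (sigma M)ᶜ E M) :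
    Group.IsNilpotent ↥⁅E, E⁆ :=
  P12.der1_sigma_compl_nil maxM hallE

/-- 12.1(g). -/
theorem tau2_not_beta {M : Subgroup G} (maxM : IsCoatom M) {p : ℕ} (t2p : p ∈ tau2 M) :
    ¬ IsIdealPrime p G ∧ ∀ A : Subgroup G, IsPnElem p 2 A M → IsPMaxElem p A ⊤ :=
  P12.tau2_not_beta maxM t2p

theorem tau1_cyclic {M E E₁ : Subgroup G} (maxM : IsCoatom M) (hallE : IsPiHallOf (sigma M)ᶜ E M)
    (hallE₁ : IsPiHallOf (tau1 M) E₁ E) : IsCyclic E₁ :=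
  P12.tau1_cyclic maxM hallE hallE₁

theorem tau3_cyclic_normal {M E E₃ : Subgroup G} (maxM : IsCoatom M) (hallE : IsPiHallOf (sigma M)ᶜ E M)
    (hallE₃ : IsPiHallOf (tau3 M) E₃ E) : IsCyclic E₃ ∧ E₃ ≤ ⁅E, E⁆ ∧ E₃ ⊲ E :=
  P12.tau3_cyclic_normal maxM hallE hallE₃

theorem ex_tau13_compl {M E : Subgroup G} (maxM : IsCoatom M) (hallE : IsPiHallOf (sigma M)ᶜ E M) :
    (∃ E₁ : Subgroup G, IsPiHallOf (tau1 M) E₁ E) ∧ ∃ E₃ : Subgroup G, IsPiHallOf (tau3 M) E₃ E :=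
  P12.ex_tau13_compl maxM hallE

theorem ex_tau2_compl {M E E₁ E₃ : Subgroup G} (maxM : IsCoatom M) (hallE : IsPiHallOf (sigma M)ᶜ E M)
    (hallE₁ : IsPiHallOf (tau1 M) E₁ E) (hallE₃ : IsPiHallOf (tau3 M) E₃ E) :
    ∃ E₂ : Subgroup G, SigmaCompl M E E₁ E₂ E₃ :=
  P12.ex_tau2_compl maxM hallE hallE₁ hallE₃

/-- A `τ₁ ∪ τ₃`-subgroup of `E` lies in `E₃ E₁` for suitable complement data. -/
theorem ex_sigma_compl_tau13 {M E K : Subgroup G} (maxM : IsCoatom M) (hallE : IsPiHallOf (sigma M)ᶜ E M)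
    (sKE : K ≤ E) (t13K : IsPiGrp (tau1 M ∪ tau3 M) K) :
    ∃ E₁ E₂ E₃ : Subgroup G, SigmaCompl M E E₁ E₂ E₃ ∧ K ≤ E₃ ⊔ E₁ :=
  P12.ex_sigma_compl_tau13 maxM hallE sKE t13K

theorem ex_tau2Elem {M E E₂ : Subgroup G} (hallE : IsPiHallOf (sigma M)ᶜ E M)
    (hallE₂ : IsPiHallOf (tau2 M) E₂ E) (ntE₂ : E₂ ≠ ⊥) :
    ∃ p ∈ tau2 M, ∃ A : Subgroup G, IsPnElem p 2 A E ∧ A ≤ E₂ ∧ IsPnElem p 2 A M :=
  P12.ex_tau2Elem hallE hallE₂ ntE₂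

/-- 12.1(b-f). -/
theorem sigma_compl_context {M E E₁ E₂ E₃ : Subgroup G} (maxM : IsCoatom M)
    (complE : SigmaCompl M E E₁ E₂ E₃) :
    (E₃ ≤ ⁅E, E⁆ ∧ E₃ ⊲ E) ∧ (E₂ = ⊥ → E₁ ≠ ⊥) ∧ (IsCyclic E₁ ∧ IsCyclic E₃) ∧
    (SDProd E₂ E₁ (E₂ ⊔ E₁) ∧ SDProd E₃ (E₂ ⊔ E₁) E ∧
      SDProd E₃ E₂ (E₃ ⊔ E₂) ∧ SDProd (E₃ ⊔ E₂) E₁ E) ∧
    E₃ ⊓ 𝒞(E) = ⊥ :=
  P12.sigma_compl_context maxM complE

/-- B & G, Lemma 12.2(a). -/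
theorem prime_class_mmax_norm {M X : Subgroup G} {p : ℕ} (hp : p.Prime) (maxM : IsCoatom M)
    (pX : IsPGrp p X) (sNM : 𝒩(X) ≤ M) : p ∈ sigma M ∨ p ∈ tau2 M :=
  P12.prime_class_mmax_norm hp maxM pX sNM

/-- B & G, Lemma 12.2(b). -/
theorem mmax_norm_notJ {M Mstar X : Subgroup G} {p : ℕ} (maxM : IsCoatom M) (maxMs : IsCoatom Mstar)
    (pX : IsPGrp p X) (sXM : X ≤ M) (sNMs : 𝒩(X) ≤ Mstar)
    (h : (p ∈ sigma M ∧ M ≠ Mstar) ∨ p ∈ tau1 M ∨ p ∈ tau3 M) : ∀ g, Mstar ≠ M :^ g :=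
  P12.mmax_norm_notJ maxM maxMs pX sXM sNMs h

/-- B & G, Lemma 12.3. -/
theorem nonuniq_p2Elem_cent_sigma {M Mstar A A₀ : Subgroup G} {p : ℕ} (hp : p.Prime) (maxM : IsCoatom M)
    (maxMs : IsCoatom Mstar) (neMs : Mstar ≠ M) (EpA : IsPnElem p 2 A M) (sAMs : A ≤ Mstar)
    (EpA₀ : IsPnElem p 1 A₀ A) (sNMs : 𝒩(A₀) ≤ Mstar) :
    (p ∉ sigma M → A ≤ 𝒞(sigmaCore M ⊓ Mstar)) ∧ (p ∉ alpha M → A ≤ 𝒞(alphaCore M ⊓ Mstar)) :=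
  P12.nonuniq_p2Elem_cent_sigma hp maxM maxMs neMs EpA sAMs EpA₀ sNMs

/-- B & G, Proposition 12.4. -/
theorem p2Elem_mmax {M A : Subgroup G} {p : ℕ} (hp : p.Prime) (maxM : IsCoatom M)
    (EpA : IsPnElem p 2 A M) :
    𝒞(A) ≤ M ∧
    ((∀ A₀ : Subgroup G, IsPnElem p 1 A₀ A → ¬ UniqMax 𝒩(A₀) M) →
      p ∈ sigma M ∧ alphaCore M = ⊥ ∧ Group.IsNilpotent (sigmaCore M)) :=
  P12.p2Elem_mmax hp maxM EpA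

/-- B & G, Theorem 12.5(a). -/
theorem tau2_Msigma_nil {M : Subgroup G} {p : ℕ} (maxM : IsCoatom M) (t2p : p ∈ tau2 M) :
    Group.IsNilpotent (sigmaCore M) :=
  P12.tau2_Msigma_nil maxM t2p

/-- B & G, Theorem 12.5(b-f). -/
theorem tau2_context {M A : Subgroup G} {p : ℕ} (maxM : IsCoatom M) (t2p : p ∈ tau2 M)
    (EpA : IsPnElem p 2 A M) :
    (∀ P : Subgroup G, IsSylowOf p P M →
      IsMulCommutative P ∧ (A ≤ P → ohm1 p P = A ∧ ¬ 𝒩(P) ≤ M)) ∧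
    sigmaCore M ⊔ A ⊲ M ∧
    sigmaCore M ⊓ 𝒞(A) = ⊥ ∧
    (∀ Mstar : Subgroup G, IsCoatom Mstar → A ≤ Mstar → Mstar ≠ M → sigmaCore M ⊓ Mstar = ⊥) ∧
    ∃ A₁ : Subgroup G, IsPnElem p 1 A₁ A ∧ sigmaCore M ⊓ 𝒞(A₁) = ⊥ :=
  P12.tau2_context maxM t2p EpA

/-- B & G, Corollary 12.6(a, b, c, f). -/
theorem tau2_compl_context {M E A : Subgroup G} {p : ℕ} (maxM : IsCoatom M)
    (hallE : IsPiHallOf (sigma M)ᶜ E M) (t2p : p ∈ tau2 M) (EpA : IsPnElem p 2 A E) :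
    (A ⊲ E ∧ ∀ X : Subgroup G, IsPnElem p 1 X E → X ≤ A) ∧
    (𝒞(A) ≤ E ∧ M ⊓ 𝒩(A) = E ∧ ¬ 𝒩(A) ≤ M) ∧
    (∀ X : Subgroup G, IsPnElem p 1 X E → sigmaCore M ⊓ 𝒞(X) ≠ ⊥ → UniqMax 𝒞(X) M) ∧
    ∀ Mstar : Subgroup G, IsCoatom Mstar → (∀ g, Mstar ≠ M :^ g) →
      sigmaCore M ⊓ sigmaCore Mstar = ⊥ ∧ Disjoint (sigma M) (sigma Mstar) :=
  P12.tau2_compl_context maxM hallE t2p EpA

/-- B & G, Corollary 12.6(d, e). -/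
theorem tau2_regular {M E E₁ E₂ E₃ A : Subgroup G} {p : ℕ} (maxM : IsCoatom M)
    (complE : SigmaCompl M E E₁ E₂ E₃) (t2p : p ∈ tau2 M) (EpA : IsPnElem p 2 A E) :
    Semiregular (sigmaCore M) E₃ ∧ Semiregular (sigmaCore M) (E₁ ⊓ 𝒞(A)) ∧
    ∀ U : Subgroup G, U ≤ M → IsPiGrp (tau1 M ∪ tau3 M) U → U ≤ 𝒞(A) →
      Semiregular (sigmaCore M) U :=
  P12.tau2_regular maxM complE t2p EpA

/-- B & G, Theorem 12.7, with `A₀ = C_A(M_σ)`. -/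
theorem nonabelian_tau2 {M E A P₀ : Subgroup G} {p : ℕ} (maxM : IsCoatom M)
    (hallE : IsPiHallOf (sigma M)ᶜ E M) (t2p : p ∈ tau2 M) (EpA : IsPnElem p 2 A E)
    (pP₀ : IsPGrp p P₀) (nabP₀ : ¬ IsMulCommutative P₀) :
    tau2 M = {p} ∧
    (Nat.card ↥(A ⊓ 𝒞(sigmaCore M)) = p ∧ DProd (sigmaCore M) (A ⊓ 𝒞(sigmaCore M)) (fittingOf M)) ∧
    (∀ X : Subgroup G, IsPnElem p 1 X E → X ≠ A ⊓ 𝒞(sigmaCore M) →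
      sigmaCore M ⊓ 𝒞(X) = ⊥ ∧ ¬ 𝒞(X) ≤ M) ∧
    ∃ E₀ : Subgroup G, SDProd (A ⊓ 𝒞(sigmaCore M)) E₀ E ∧
      ∀ x ∈ sigmaCore M, x ≠ 1 → IsPiGrp (tau1 M) (E₀ ⊓ 𝒞[x]) :=
  P12.nonabelian_tau2 maxM hallE t2p EpA pP₀ nabP₀

/-- B & G, Lemma 12.8(c). -/
theorem abelian_tau2_sub_Fitting {M E A S : Subgroup G} {p : ℕ} (maxM : IsCoatom M)
    (hallE : IsPiHallOf (sigma M)ᶜ E M) (t2p : p ∈ tau2 M) (EpA : IsPnElem p 2 A E)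
    (sylS : IsSylowOf p S ⊤) (sAS : A ≤ S) (cSS : IsMulCommutative S) :
    S ≤ ⁅𝒩(S), 𝒩(S)⁆ ∧ ⁅𝒩(S), 𝒩(S)⁆ ≤ fittingOf E ∧ fittingOf E ≤ 𝒞(S) ∧ 𝒞(S) ≤ E :=
  P12.abelian_tau2_sub_Fitting maxM hallE t2p EpA sylS sAS cSS

/-- B & G, Lemma 12.8(a, b, d, e). -/
theorem abelian_tau2 {M E E₁ E₂ E₃ A S : Subgroup G} {p : ℕ} (maxM : IsCoatom M)
    (complE : SigmaCompl M E E₁ E₂ E₃) (t2p : p ∈ tau2 M) (EpA : IsPnElem p 2 A E)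
    (sylS : IsSylowOf p S ⊤) (sAS : A ≤ S) (cSS : IsMulCommutative S) :
    (E₂ ⊲ E ∧ IsMulCommutative E₂) ∧ IsPiHallOf (tau2 M) E₂ ⊤ ∧
    (𝒩(A) = 𝒩(S) ∧ 𝒩(S) = 𝒩(E₂) ∧ 𝒩(E₂) = 𝒩(E₃ ⊔ E₂) ∧ 𝒩(E₃ ⊔ E₂) = 𝒩(fittingOf E)) ∧
    ∀ X : Subgroup G, X ≤ E₁ → (Nat.card X).Prime → sigmaCore M ⊓ 𝒞(X) = ⊥ → X ≤ 𝒵(E) :=
  P12.abelian_tau2 maxM complE t2p EpA sylS sAS cSS

/-- B & G, Lemma 12.8(f). -/
theorem abelian_tau2_norm_Sylow {M E A S : Subgroup G} {p : ℕ} (maxM : IsCoatom M)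
    (hallE : IsPiHallOf (sigma M)ᶜ E M) (t2p : p ∈ tau2 M) (EpA : IsPnElem p 2 A E)
    (sylS : IsSylowOf p S ⊤) (sAS : A ≤ S) (cSS : IsMulCommutative S) {X : Subgroup G}
    (nSX : X ≤ 𝒩(S)) : S ⊓ 𝒞(X) ⊲ 𝒩(S) ∧ ⁅S, X⁆ ⊲ 𝒩(S) :=
  P12.abelian_tau2_norm_Sylow maxM hallE t2p EpA sylS sAS cSS nSX

/-- B & G, Corollary 12.9, with `A₀ = [A, Q]`, `A₁ = C_A(Q)`. -/
theorem tau1_act_tau2 {M E A Q : Subgroup G} {p q : ℕ} (maxM : IsCoatom M)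
    (hallE : IsPiHallOf (sigma M)ᶜ E M) (t2p : p ∈ tau2 M) (EpA : IsPnElem p 2 A E)
    (t1q : q ∈ tau1 M) (EqQ : IsPnElem q 1 Q E) (regQ : sigmaCore M ⊓ 𝒞(Q) = ⊥) (ntAQ : ⁅A, Q⁆ ≠ ⊥) :
    (IsPnElem p 1 ⁅A, Q⁆ A ∧ A ⊓ 𝒞(sigmaCore M) = ⁅A, Q⁆ ∧ ⁅A, Q⁆ ⊲ M) ∧
    (∀ g, ⁅A, Q⁆ ≠ (A ⊓ 𝒞(Q)) :^ g) ∧
    (IsPnElem p 1 (A ⊓ 𝒞(Q)) A ∧ ¬ 𝒞(A ⊓ 𝒞(Q)) ≤ M) :=
  P12.tau1_act_tau2 maxM hallE t2p EpA t1q EqQ regQ ntAQ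

/-- B & G, Corollary 12.10(a). -/
theorem sigma'_nil_abelian {M N : Subgroup G} (maxM : IsCoatom M) (sNM : N ≤ M)
    (s'N : IsPiGrp (sigma M)ᶜ N) (nilN : Group.IsNilpotent N) : IsMulCommutative N :=
  P12.sigma'_nil_abelian maxM sNM s'N nilN

/-- B & G, Corollary 12.10(b), first assertion. -/
theorem der_mmax_compl_abelian {M E : Subgroup G} (maxM : IsCoatom M)
    (hallE : IsPiHallOf (sigma M)ᶜ E M) : IsMulCommutative ↥⁅E, E⁆ :=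
  P12.der_mmax_compl_abelian maxM hallE

/-- B & G, Corollary 12.10(b), second assertion. -/
theorem tau2_compl_abelian {M E E₂ : Subgroup G} (maxM : IsCoatom M)
    (hallE : IsPiHallOf (sigma M)ᶜ E M) (hallE₂ : IsPiHallOf (tau2 M) E₂ E) :
    IsMulCommutative E₂ :=
  P12.tau2_compl_abelian maxM hallE hallE₂

/-- B & G, Corollary 12.10(c). -/
theorem tau1_cent_tau2Elem_factor {M E A : Subgroup G} {p : ℕ} (maxM : IsCoatom M)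
    (hallE : IsPiHallOf (sigma M)ᶜ E M) (t2p : p ∈ tau2 M) (EpA : IsPnElem p 2 A E) :
    (∀ E₁ E₂ E₃ : Subgroup G, SigmaCompl M E E₁ E₂ E₃ → E₃ ⊔ E₂ ≤ E ⊓ 𝒞(A)) ∧
    E ⊓ 𝒞(A) ⊲ E ∧ PiNat (tau1 M) ((𝒞(A)).relIndex E) :=
  P12.tau1_cent_tau2Elem_factor maxM hallE t2p EpA

/-- B & G, Corollary 12.10(d). -/
theorem norm_noncyclic_sigma {M P : Subgroup G} {p : ℕ} (maxM : IsCoatom M) (sMp : p ∈ sigma M)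
    (pP : IsPGrp p P) (sPM : P ≤ M) (ncP : ¬ IsCyclic P) : 𝒩(P) ≤ M :=
  P12.norm_noncyclic_sigma maxM sMp pP sPM ncP

/-- B & G, Corollary 12.10(e). -/
theorem cent1_nreg_sigma_uniq {M : Subgroup G} {x : G} (maxM : IsCoatom M) (Mx : x ∈ M) (ntx : x ≠ 1)
    (t2x : IsPiElt (tau2 M) x) (ntC : sigmaCore M ⊓ 𝒞[x] ≠ ⊥) : UniqMax 𝒞[x] M :=
  P12.cent1_nreg_sigma_uniq maxM Mx ntx t2x ntC

/-- B & G, Lemma 12.11. -/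
theorem primes_norm_tau2Elem {M E A Mstar : Subgroup G} {p : ℕ} (maxM : IsCoatom M)
    (hallE : IsPiHallOf (sigma M)ᶜ E M) (t2p : p ∈ tau2 M) (EpA : IsPnElem p 2 A E)
    (maxMs : IsCoatom Mstar) (sNMs : 𝒩(A) ≤ Mstar) :
    (∀ q ∈ tau2 M, q ∈ sigma Mstar ∧ q ∉ beta Mstar) ∧
    PiNat (tau1 Mstar ∪ tau2 Mstar) ((𝒞(A)).relIndex E) ∧
    ∀ q : ℕ, q.Prime → q ∣ (𝒞(A)).relIndex E → q ∣ Nat.card ↥(E ⊓ 𝒞(A)) →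
      q ∈ tau2 Mstar ∧ (∃ P : Subgroup G, IsSylowOf p P ⊤ ∧ P ⊲ Mstar) ∧
      ∃ Q : Subgroup G, IsSylowOf q Q ⊤ ∧ Q ≤ Mstar ∧ IsMulCommutative Q :=
  P12.primes_norm_tau2Elem maxM hallE t2p EpA maxMs sNMs

/-- B & G, Theorem 12.12, generalized to a Hall `σ(M)'`-subgroup `U` (needed for type `𝓟₂`; only the
cases where `U` contains a Hall `τ₂(M)`-subgroup of `M` are used: hypothesis `t2U`). -/
theorem FTtypeF_complement {M U : Subgroup G} (maxM : IsCoatom M) (hallU : IsHallOf U M)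
    (s'U : IsPiGrp (sigma M)ᶜ U) (t2U : PiNat (tau2 M)ᶜ (U.relIndex M)) (ntU : U ≠ ⊥)
    (regU : ∀ e ∈ U, e ≠ 1 → IsPiElt (tau1 M ∪ tau3 M) e → sigmaCore M ⊓ 𝒞[e] = ⊥) :
    (∃ A₀ : Subgroup G, A₀ ⊲ U ∧ IsMulCommutative A₀ ∧
      ∀ x ∈ sigmaCore M, x ≠ 1 → U ⊓ 𝒞[x] ≤ A₀) ∧
    ∃ E₀ : Subgroup G, E₀ ≤ U ∧ Monoid.exponent E₀ = Monoid.exponent U ∧
      IsFrob (sigmaCore M ⊔ E₀) (sigmaCore M) E₀ :=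
  P12.FTtypeF_complement maxM hallU s'U t2U ntU regU

/-- B & G, Theorem 12.13. -/
theorem nonabelian_Uniqueness {p : ℕ} (hp : p.Prime) {P : Subgroup G} (pP : IsPGrp p P)
    (nabP : ¬ IsMulCommutative P) : InUniqueMaximal P :=
  P12.nonabelian_Uniqueness hp pP nabP

/-- B & G, Corollary 12.14. -/
theorem cent_der_sigma_uniq {M X P : Subgroup G} {p : ℕ} (hp : p.Prime) (maxM : IsCoatom M)
    (EpX : IsPnElem p 1 X M) (sylP : IsSylowOf p P (sigmaCore M))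
    (h : p ∈ beta M ∨ X ≤ ⁅sigmaCore M, sigmaCore M⁆) : UniqMax 𝒞(X) M ∧ UniqMax P M :=
  P12.cent_der_sigma_uniq hp maxM EpX sylP h

/-- B & G, Proposition 12.15. -/
theorem sigma_subgroup_embedding {M X Mstar S : Subgroup G} {q : ℕ} (maxM : IsCoatom M)
    (sMq : q ∈ sigma M) (sXM : X ≤ M) (qX : IsPGrp q X) (ntX : X ≠ ⊥)
    (maxMs : IsCoatom Mstar) (sNMs : 𝒩(X) ≤ Mstar) (neMs : Mstar ≠ M)
    (sylS : IsSylowOf q S (M ⊓ Mstar)) (sXS : X ≤ S) :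
    (∀ g, Mstar ≠ M :^ g) ∧ 𝒩(S) ≤ M ∧ IsSylowOf q S Mstar ∧
    (q ∈ sigma Mstar →
      betaCore Mstar ⊔ (M ⊓ Mstar) = Mstar ∧ tau1 Mstar ⊆ tau1 M ∪ alpha M ∧
      betaCore M = alphaCore M ∧ alphaCore M ≠ ⊥) ∧
    (q ∉ sigma Mstar →
      q ∈ tau2 Mstar ∧ primesOf M ∩ sigma Mstar ⊆ beta Mstar ∧
      IsPiHallOf (sigma Mstar)ᶜ (M ⊓ Mstar) Mstar) :=
  P12.sigma_subgroup_embedding maxM sMq sXM qX ntX maxMs sNMs neMs sylS sXS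

/-- B & G, Corollary 12.16. -/
theorem sigma_Jsub {M Y : Subgroup G} (maxM : IsCoatom M) (sMY : IsPiGrp (sigma M) Y) (ntY : Y ≠ ⊥) :
    (∃ x, Y :^ x ≤ sigmaCore M) ∧
    ∀ (E H : Subgroup G) (p : ℕ), IsPiHallOf (sigma M)ᶜ E M → p ∈ primesOf E → ¬ IsIdealPrime p G →
      IsCoatom H → Y ≤ H → (∀ g, H ≠ M :^ g) →
      pRank p (H ⊓ 𝒩(Y)) ≤ 1 ∧ (p ∈ tau1 M → ¬ p ∣ Nat.card ↥⁅H ⊓ 𝒩(Y), H ⊓ 𝒩(Y)⁆) :=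
  P12.sigma_Jsub maxM sMY ntY

/-- B & G, Lemma 12.17. -/
theorem sigma_compl_embedding {M E : Subgroup G} (maxM : IsCoatom M) (hallE : IsPiHallOf (sigma M)ᶜ E M) :
    sigmaCore M ⊓ 𝒞(E) ≤ ⁅sigmaCore M, sigmaCore M⁆ ∧ ⁅sigmaCore M, E⁆ = sigmaCore M ∧
    ∀ g, g ∉ M → IsCyclic ↥(sigmaCore M ⊓ M :^ g) ∧ IsPiGrp (beta M)ᶜ (sigmaCore M ⊓ M :^ g) ∧
      sigmaCore M ⊓ M :^ g ⊓ ⁅sigmaCore M, sigmaCore M⁆ = ⊥ :=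
  P12.sigma_compl_embedding maxM hallE

/-- B & G, Lemma 12.18. -/
theorem cent_Malpha_reg_tau1 {M P Q : Subgroup G} {p q : ℕ} (maxM : IsCoatom M) (t1p : p ∈ tau1 M)
    (hq : q.Prime) (neqp : q ≠ p) (EpP : IsPnElem p 1 P M) (ntQ : Q ≠ ⊥) (nQP : P ≤ 𝒩(Q))
    (regP : Q ⊓ 𝒞(P) = ⊥) (nuN : ¬ UniqMax 𝒩(Q) M) :
    (alphaCore M ≠ ⊥ → q ∉ alpha M → Q ≤ M → IsPGrp q Q →
      alphaCore M ⊓ 𝒞(P) ≠ ⊥ ∧ alphaCore M ⊓ 𝒞(P ⊔ Q) = ⊥) ∧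
    (IsSylowOf q Q M →
      alpha M = beta M ∧ alphaCore M ≠ ⊥ ∧ q ∉ alpha M ∧
      alphaCore M ⊓ 𝒞(P) ≠ ⊥ ∧ alphaCore M ⊓ 𝒞(P ⊔ Q) = ⊥) :=
  P12.cent_Malpha_reg_tau1 maxM t1p hq neqp EpP ntQ nQP regP nuN

/-- B & G, Lemma 12.19. -/
theorem der_compl_cent_beta' {M E : Subgroup G} (maxM : IsCoatom M) (hallE : IsPiHallOf (sigma M)ᶜ E M) :
    ∃ H : Subgroup G, IsPiHallOf (beta M)ᶜ H (sigmaCore M) ∧ ⁅E, E⁆ ≤ 𝒞(H) :=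
  P12.der_compl_cent_beta' maxM hallE

end CA.BG
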