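/-
B & G section 13, part a: Lemma 13.1 - Corollary 13.3.
-/
import Cfsg.Agent.BG.I12
import Cfsg.Agent.BG.I03
import Cfsg.Agent.BG.I06
import Cfsg.Agent.FG.Rank
import Cfsg.Agent.FG.Frattini
import Cfsg.Agent.FG.Hall

set_option autoImplicit false
set_option linter.unusedSectionVars false

namespace CA.BG.P13

open Cfsg CA.FG CA.BG

universe u

section General

variable {G : Type u} [Group G] [Finite G]

theorem not_conj_symm {M H : Subgroup G} (h : ∀ g, H ≠ M :^ g) : ∀ g, M ≠ H :^ g := by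
  intro g e
  exact h g⁻¹ (by rw [e, conjg_inv_cancel])

theorem not_conj_conj_left {M H : Subgroup G} (h : ∀ g, H ≠ M :^ g) (x : G) :
    ∀ g, H :^ x ≠ M :^ g := by
  intro g e
  exact h (x⁻¹ * g) (by rw [conjg_mul, ← e, conjg_inv_cancel])

theorem not_conj_conj_right {M H : Subgroup G} (h : ∀ g, H ≠ M :^ g) (x : G) :
    ∀ g, H ≠ (M :^ x) :^ g := by
  intro g e
  exact h (g * x) (by rw [conjg_mul, e])

theorem ne_of_not_conj {M H : Subgroup G} (h : ∀ g, H ≠ M :^ g) : H ≠ M := by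
  have := h 1
  rwa [conjg_one] at this

/-- If `M' / K` is nilpotent, the Sylow subgroups of `M'` are normal modulo `K`. -/
theorem sup_sylow_normal {M K Q : Subgroup G} {q : ℕ} (nsK : K ⊲ M)
    (nil : Group.IsNilpotent (⁅M, M⁆ /ₛ K)) (sylQ : IsSylowOf q Q ⁅M, M⁆) : K ⊔ Q ⊲ M := by
  have nKM' : ⁅M, M⁆ ≤ 𝒩(K) := (der_le M).trans nsK.2
  have h1 : IsSylowOf q (Q /ₛ K) (⁅M, M⁆ /ₛ K) := sylQ.quot nKM'
  have h2 := nilpotent_Hall_pcore nil h1
  have h3 : Q /ₛ K ⊲ M /ₛ K := by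
    rw [h2]; exact (quot_normalIn K (der_normalIn M)).pcore _
  have h4 := quotPre_normalIn_of nsK h3
  rwa [quotPre_quot (sylQ.le.trans nKM')] at h4

theorem sup_norm_sylow {M K Q : Subgroup G} {q : ℕ} (hq : q.Prime) (nsK : K ⊲ M) (sKM' : K ≤ ⁅M, M⁆)
    (nil : Group.IsNilpotent (⁅M, M⁆ /ₛ K)) (sylQ : IsSylowOf q Q ⁅M, M⁆) :
    K ⊔ (M ⊓ 𝒩(Q)) = M := by
  have h1 := sup_sylow_normal nsK nil sylQ
  have h2 : IsSylowOf q Q (K ⊔ Q) := sylQ.of_le le_sup_right (sup_le sKM' sylQ.le)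
  have h3 := frattini_arg hq h1 h2
  have h4 : Q ≤ M ⊓ 𝒩(Q) := le_inf (sylQ.le.trans (der_le M)) Subgroup.le_normalizer
  rw [sup_assoc, sup_eq_right.2 h4] at h3
  exact h3

theorem piNat_relIndex_of_sup {π : Set ℕ} {K N H : Subgroup G} (nKN : N ≤ 𝒩(K)) (e : K ⊔ N = H)
    (piK : IsPiGrp π K) : PiNat π (N.relIndex H) := by
  rw [← e, relIndex_sup_right' (Or.inr nKN)]
  exact piK.relIndex N

theorem der_le_sup {K N H : Subgroup G} (nKN : N ≤ 𝒩(K)) (e : K ⊔ N = H) : ⁅H, H⁆ ≤ K ⊔ ⁅N, N⁆ := by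
  rw [← e, comm_sup_self nKN]
  exact sup_le (sup_le ((der_le K).trans le_sup_left) ((comm_le_left nKN).trans le_sup_left))
    le_sup_right

theorem semiprime_of_prime_subgroups {K H : Subgroup G}
    (h : ∀ X : Subgroup G, X ≤ H → (Nat.card X).Prime → K ⊓ 𝒞(X) ≤ 𝒞(H)) : Semiprime K H := by
  intro x hx ntx
  apply le_antisymm
  · obtain ⟨y, hy, py⟩ := exists_prime_orderOf_mem_zpowers ntx
    have sXH : Subgroup.zpowers y ≤ H :=
      (Subgroup.zpowers_le.2 hy).trans (Subgroup.zpowers_le.2 hx)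
    have := h _ sXH (by rwa [Nat.card_zpowers])
    rw [cent_zpowers] at this
    exact le_inf inf_le_left ((inf_le_inf_left K (cent_singleton_le_of_mem_zpowers hy)).trans this)
  · exact inf_le_inf_left K (cent_le_cent_singleton hx)

theorem semiregular_of_prime_subgroups {K H : Subgroup G}
    (h : ∀ X : Subgroup G, X ≤ H → (Nat.card X).Prime → K ⊓ 𝒞(X) = ⊥) : Semiregular K H := by
  intro x hx ntx
  obtain ⟨y, hy, py⟩ := exists_prime_orderOf_mem_zpowers ntx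
  have sXH : Subgroup.zpowers y ≤ H :=
    (Subgroup.zpowers_le.2 hy).trans (Subgroup.zpowers_le.2 hx)
  have := h _ sXH (by rwa [Nat.card_zpowers])
  rw [cent_zpowers] at this
  exact le_bot_iff.1 ((inf_le_inf_left K (cent_singleton_le_of_mem_zpowers hy)).trans this.le)

theorem exists_prime_of_not_semiregular {K H : Subgroup G} (h : ¬ Semiregular K H) :
    ∃ X : Subgroup G, X ≤ H ∧ (Nat.card X).Prime ∧ K ⊓ 𝒞(X) ≠ ⊥ := by
  by_contra hc
  push Not at hc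
  exact h (semiregular_of_prime_subgroups hc)

theorem mem_primesOf_of_pGrp {p : ℕ} {P H : Subgroup G} (pP : IsPGrp p P) (ntP : P ≠ ⊥) (sPH : P ≤ H) :
    p ∈ primesOf H :=
  ⟨pP.prime ntP, (pP.dvd_card ntP).trans (Subgroup.card_dvd_of_le sPH)⟩

theorem mem_of_piGrp_of_card_prime {π : Set ℕ} {X H : Subgroup G} (piH : IsPiGrp π H) (sXH : X ≤ H)
    (prX : (Nat.card X).Prime) : Nat.card X ∈ π :=
  piH _ prX (Subgroup.card_dvd_of_le sXH)

theorem p1Elem_of_prime {X H : Subgroup G} (sXH : X ≤ H) (prX : (Nat.card X).Prime) :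
    IsPnElem (Nat.card X) 1 X H := (pnElem_one_iff prX).2 ⟨sXH, rfl⟩

end General

variable {G : Type u} [Group G] [MinSimpleOdd G]

theorem mmax_norm_exists {X : Subgroup G} (ntX : X ≠ ⊥) (prX : X ≠ ⊤) :
    ∃ L : Subgroup G, IsCoatom L ∧ 𝒩(X) ≤ L :=
  mmax_exists (mFT_norm_proper ntX prX)

theorem ne_bot_of_norm_le {M P : Subgroup G} (maxM : IsCoatom M) (h : 𝒩(P) ≤ M) : P ≠ ⊥ := by
  rintro rfl
  exact maxM.1 (top_le_iff.1 ((norm_bot ⊤).trans h))

theorem sigma_le_Msigma {M X : Subgroup G} (maxM : IsCoatom M) (sXM : X ≤ M)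
    (sX : IsPiGrp (sigma M) X) : X ≤ sigmaCore M :=
  (Msigma_Hall maxM).le_of_normal (Msigma_normal M).2 sX sXM

theorem alpha_le_Malpha {M X : Subgroup G} (maxM : IsCoatom M) (sXM : X ≤ M)
    (sX : IsPiGrp (alpha M) X) : X ≤ alphaCore M :=
  (Malpha_Hall maxM).le_of_normal (Malpha_normal M).2 sX sXM

theorem beta_le_Mbeta {M X : Subgroup G} (maxM : IsCoatom M) (sXM : X ≤ M)
    (sX : IsPiGrp (beta M) X) : X ≤ betaCore M :=
  (Mbeta_Hall maxM).le_of_normal (Mbeta_normal M).2 sX sXM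

theorem tau1'_of_le_der {M X : Subgroup G} (h : X ≤ ⁅M, M⁆) : IsPiGrp (tau1 M)ᶜ X := by
  intro p _ hd t1p
  exact (mem_tau1_iff.1 t1p).2.2.2 (hd.trans (Subgroup.card_dvd_of_le h))

/-- A Sylow `p`-subgroup of `M` lies in `M'` for `p ∈ τ₃(M) ∪ σ(M)`. -/
theorem sylow_le_der {M S : Subgroup G} {p : ℕ} (maxM : IsCoatom M) (sylS : IsSylowOf p S M)
    (h : p ∈ tau3 M ∨ p ∈ sigma M) : S ≤ ⁅M, M⁆ := by
  rcases h with t3p | sp
  · have hp := tau3_prime t3p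
    have cS := tau13_pgroup_cyclic (Or.inr t3p) sylS.le sylS.pGrp
    rcases cyclic_Sylow_tiVsub_der1 hp sylS cS with h1 | h1
    · exfalso
      have h2 : IsSylowOf p (S ⊓ ⁅M, M⁆) ⁅M, M⁆ := sylS.inf_normal (der_normalIn M)
      exact h2.ne_bot' hp (mem_tau3_iff.1 t3p).2.2.2 h1
    · exact h1
  · exact (sigma_le_Msigma maxM sylS.le (sylS.pGrp.piGrp sp)).trans (Msigma_der1 maxM)

theorem dvd_der_of_tau3_sigma {M : Subgroup G} {p : ℕ} (maxM : IsCoatom M)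
    (h : p ∈ tau3 M ∨ p ∈ sigma M) : p ∣ Nat.card ↥⁅M, M⁆ := by
  rcases h with t3p | sp
  · exact (mem_tau3_iff.1 t3p).2.2.2
  · have : p ∈ primesOf (sigmaCore M) := by rw [pi_Msigma maxM]; exact sp
    exact this.2.trans (Subgroup.card_dvd_of_le (Msigma_der1 maxM))

/-- B & G, Lemma 13.1. -/
theorem Msigma_setI_mmax_central {M E H : Subgroup G} {p : ℕ} (maxM : IsCoatom M)
    (hallE : IsPiHallOf (sigma M)ᶜ E M) (maxH : IsCoatom H) (piEp : p ∈ primesOf E)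
    (piHp : p ∈ primesOf H) (t1'p : p ∉ tau1 H) (ntR : ⁅sigmaCore M ⊓ H, M ⊓ H⁆ ≠ ⊥)
    (notjMH : ∀ g, H ≠ M :^ g) :
    (∀ P : Subgroup G, P ≤ M ⊓ H → IsPGrp p P → P ≤ 𝒞(sigmaCore M ⊓ H)) ∧
    p ∉ tau2 H ∧ (p ∈ tau1 M → IsIdealPrime p G) := by
  have hp := piEp.1
  have s'p : p ∉ sigma M := hallE.piGrp p hp piEp.2
  obtain ⟨q, hq, qR⟩ := exists_prime_dvd_card ntR
  have sRMs : ⁅sigmaCore M ⊓ H, M ⊓ H⁆ ≤ sigmaCore M :=
    (Subgroup.commutator_mono inf_le_left inf_le_left).trans (comm_le_left (Msigma_normal M).2)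
  have sRH' : ⁅sigmaCore M ⊓ H, M ⊓ H⁆ ≤ ⁅H, H⁆ := Subgroup.commutator_mono inf_le_right inf_le_right
  have sMq : q ∈ sigma M := Msigma_pgroup M q hq (qR.trans (Subgroup.card_dvd_of_le sRMs))
  obtain ⟨Y, sylY⟩ := sylow_exists hq (⁅H, H⁆ : Subgroup G)
  have ntY : Y ≠ ⊥ := sylY.ne_bot' hq (qR.trans (Subgroup.card_dvd_of_le sRH'))
  have sYH : Y ≤ H := sylY.le.trans (der_le H)
  have defH : betaCore H ⊔ (H ⊓ 𝒩(Y)) = H :=
    sup_norm_sylow hq (Mbeta_normal H) (Mbeta_der1 maxH) (Mbeta_quo_nil maxH) sylY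
  have nHb : H ⊓ 𝒩(Y) ≤ 𝒩(betaCore H) := inf_le_left.trans (Mbeta_normal H).2
  have key := (sigma_Jsub maxM (sylY.pGrp.piGrp sMq) ntY).2 E H p hallE piEp
  have b'p : ¬ IsIdealPrime p G → p ∉ beta H := fun h hb => h ((predI_sigma_beta maxH).1 hb).2
  have t2'p : p ∉ tau2 H := by
    intro t2p
    have nid := (tau2_not_beta maxH t2p).1
    have h1 := (key nid maxH sYH notjMH).1
    have h2 : ¬ p ∣ (H ⊓ 𝒩(Y)).relIndex H := fun hd =>
      b'p nid (piNat_relIndex_of_sup nHb defH (Mbeta_pgroup H) p hp hd)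
    rw [pRank_of_not_dvd_relIndex hp inf_le_left h2, (mem_tau2_iff.1 t2p).2.2] at h1
    omega
  have t3sp : p ∈ tau3 H ∨ p ∈ sigma H := by
    rcases (partition_pi_mmax maxH).1 piHp with h | h | h
    · exact absurd h t1'p
    · exact absurd h t2'p
    · exact h
  refine ⟨fun P sP pP => ?_, t2'p, fun t1p => ?_⟩
  · obtain ⟨S, sylS, sPS⟩ := sylow_superset hp pP (sP.trans inf_le_right)
    have sSH' := sylow_le_der maxH sylS t3sp
    have nsK : alphaCore H ⊔ S ⊲ H :=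
      sup_sylow_normal (Malpha_normal H) (Malpha_quo_nil maxH) (sylS.of_le sSH' (der_le H))
    have dis := (sigma_disjoint maxH maxM (not_conj_symm notjMH)).2.1
    have s'K : IsPiGrp (sigma M)ᶜ (alphaCore H ⊔ S) := by
      refine IsPiGrp.sup ((Malpha_pgroup H).mono ?_) (sylS.pGrp.piGrp s'p)
        (Or.inr (sylS.le.trans (Malpha_normal H).2))
      exact fun r hr => Set.disjoint_left.1 dis hr
    apply comm_eq_bot_iff'.1
    rw [eq_bot_iff, ← (Msigma_pgroup M).inf_eq_bot s'K]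
    refine le_inf ?_ ?_
    · exact (Subgroup.commutator_mono inf_le_left (sP.trans inf_le_left)).trans
        (comm_le_left (Msigma_normal M).2)
    · exact (Subgroup.commutator_mono inf_le_right (sPS.trans le_sup_right)).trans
        (comm_le_right nsK.2)
  · by_contra nid
    have h1 := (key nid maxH sYH notjMH).2 t1p
    have h2 := (dvd_der_of_tau3_sigma maxH t3sp).trans
      (Subgroup.card_dvd_of_le (der_le_sup nHb defH))
    have h3 := h2.trans (card_sup_dvd (Or.inr ((der_le _).trans nHb)))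
    rcases (Nat.Prime.dvd_mul hp).1 h3 with h | h
    · exact b'p nid (Mbeta_pgroup H p hp h)
    · exact h1 h

theorem tau13_mem_primesOf {M E : Subgroup G} {p : ℕ} (maxM : IsCoatom M)
    (hallE : IsPiHallOf (sigma M)ᶜ E M) (t13p : p ∈ tau1 M ∨ p ∈ tau3 M) : p ∈ primesOf E :=
  (partition_pi_sigma_compl maxM hallE).2 (t13p.elim Or.inl fun h => Or.inr (Or.inr h))

theorem tau1'_of_sigma_tau2 {H : Subgroup G} {p : ℕ} (h : p ∈ sigma H ∨ p ∈ tau2 H) : p ∉ tau1 H :=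
  fun t1p => h.elim (tau1_sigma' t1p) (tau2'1 t1p)

/-- B & G, Corollary 13.2. -/
theorem cent_norm_tau13_mmax {M E P H : Subgroup G} {p : ℕ} (maxM : IsCoatom M)
    (hallE : IsPiHallOf (sigma M)ᶜ E M) (t13p : p ∈ tau1 M ∨ p ∈ tau3 M) (sPM : P ≤ M)
    (pP : IsPGrp p P) (maxH : IsCoatom H) (sNH : 𝒩(P) ≤ H) :
    (∀ P₁ : Subgroup G, P₁ ≤ M ⊓ H → IsPGrp p P₁ → P₁ ≤ 𝒞(sigmaCore M ⊓ H)) ∧
    (∀ X : Subgroup G, X ≤ E ⊓ H → IsPiGrp (tau1 H)ᶜ X → X ≤ 𝒞(sigmaCore M ⊓ H)) ∧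
    (⁅sigmaCore M ⊓ H, M ⊓ H⁆ ≠ ⊥ → p ∈ sigma H ∧ (p ∈ tau1 M → p ∈ beta H)) := by
  have ntP := ne_bot_of_norm_le maxH sNH
  have hp := pP.prime ntP
  have st2p := prime_class_mmax_norm hp maxH pP sNH
  have notj := mmax_norm_notJ maxM maxH pP sPM sNH (Or.inr t13p)
  by_cases hR : ⁅sigmaCore M ⊓ H, M ⊓ H⁆ = ⊥
  · have c := comm_eq_bot_iff'.1 hR
    exact ⟨fun P₁ h _ => h.trans c, fun X h _ => (h.trans (inf_le_inf_right H hallE.le)).trans c,
      fun h => absurd hR h⟩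
  have piHp : p ∈ primesOf H := mem_primesOf_of_pGrp pP ntP (Subgroup.le_normalizer.trans sNH)
  obtain ⟨h1, h2, h3⟩ := Msigma_setI_mmax_central maxM hallE maxH (tau13_mem_primesOf maxM hallE t13p)
    piHp (tau1'_of_sigma_tau2 st2p) hR notj
  have sHp : p ∈ sigma H := st2p.resolve_right h2
  refine ⟨h1, fun X sX t1'X => ?_, fun _ => ⟨sHp, fun t1p => (predI_sigma_beta maxH).2 ⟨sHp, h3 t1p⟩⟩⟩
  apply le_of_forall_sylow
  intro r R hr sylR
  by_cases ntR : R = ⊥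
  · rw [ntR]; exact bot_le
  have sR := sylR.le.trans sX
  exact (Msigma_setI_mmax_central maxM hallE maxH
    (mem_primesOf_of_pGrp sylR.pGrp ntR (sR.trans inf_le_left))
    (mem_primesOf_of_pGrp sylR.pGrp ntR (sR.trans inf_le_right))
    (sylR.pGrp.mem_of_piGrp ntR (t1'X.of_le sylR.le)) hR notj).1 R
    (sR.trans (inf_le_inf_right H hallE.le)) sylR.pGrp

/-- B & G, Corollary 13.3(a). -/
theorem cyclic_primact_Msigma {M E P : Subgroup G} {p : ℕ} (hp : p.Prime) (maxM : IsCoatom M)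
    (hallE : IsPiHallOf (sigma M)ᶜ E M) (sylP : IsSylowOf p P E) (cycP : IsCyclic P) :
    Semiprime (sigmaCore M) P := by
  apply semiprime_of_prime_subgroups
  intro X sXP prX
  have ntX := ne_bot_of_card_prime prX
  have pX := sylP.pGrp.of_le sXP
  have sXM := sXP.trans (sylP.le.trans hallE.le)
  have t13p : p ∈ tau1 M ∨ p ∈ tau3 M := by
    rcases (partition_pi_sigma_compl maxM hallE).1
      (mem_primesOf_of_pGrp pX ntX (sXP.trans sylP.le)) with h | h | h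
    · exact Or.inl h
    · have h1 := ((tau2E hallE).1 h).2
      have h2 := pRank_le_one_of_cyclic hp cycP
      rw [p_rank_Sylow hp sylP] at h2
      omega
    · exact Or.inr h
  obtain ⟨H, maxH, sNH⟩ := mmax_norm_exists ntX (sub_mmax_proper maxM sXM)
  have sPH : P ≤ H := (norm_of_le_abelian (abelian_of_cyclic cycP) sXP).trans sNH
  have h := (cent_norm_tau13_mmax maxM hallE t13p sXM pX maxH sNH).1 P
    (le_inf (sylP.le.trans hallE.le) sPH) sylP.pGrp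
  exact (inf_le_inf_left _ ((cent_le_norm X).trans sNH)).trans (le_cent_symm h)

/-- B & G, Corollary 13.3(b). -/
theorem tau3_primact_Msigma {M E E₃ : Subgroup G} (maxM : IsCoatom M)
    (hallE : IsPiHallOf (sigma M)ᶜ E M) (hallE₃ : IsPiHallOf (tau3 M) E₃ E) :
    Semiprime (sigmaCore M) E₃ := by
  obtain ⟨cE₃, sE₃E', nsE₃⟩ := tau3_cyclic_normal maxM hallE hallE₃
  apply semiprime_of_prime_subgroups
  intro X sX prX
  have ntX := ne_bot_of_card_prime prX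
  have t3p := mem_of_piGrp_of_card_prime hallE₃.piGrp sX prX
  have sXM := sX.trans (hallE₃.le.trans hallE.le)
  obtain ⟨H, maxH, sNH⟩ := mmax_norm_exists ntX (sub_mmax_proper maxM sXM)
  have sEH : E ≤ H := (nsE₃.2.trans (norm_le_norm_of_cyclic cE₃ sX)).trans sNH
  have h := (cent_norm_tau13_mmax maxM hallE (Or.inr t3p) sXM (pGrp_of_card_eq prX rfl) maxH sNH).2.1 E₃
    (le_inf hallE₃.le (hallE₃.le.trans sEH)) (tau1'_of_le_der (sE₃E'.trans (der_mono sEH)))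
  exact (inf_le_inf_left _ ((cent_le_norm X).trans sNH)).trans (le_cent_symm h)

end CA.BG.P13
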