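/-
B & G section 13, part b: Theorem 13.4 - Lemma 13.7.
-/
import Cfsg.Agent.BG.P13a

set_option autoImplicit false
set_option linter.unusedSectionVars false

namespace CA.BG.P13

open Cfsg CA.FG CA.BG

universe u

variable {G : Type u} [Group G] [MinSimpleOdd G]

theorem sol_le_mmax {M H : Subgroup G} (maxM : IsCoatom M) (h : H ≤ M) : Group.IsSolvable H :=
  sol_of_le (mmax_sol maxM) h

theorem abelian_of_le_two {M L S : Subgroup G} {q : ℕ} (hq : q.Prime) (qS : IsPGrp q S)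
    (maxM : IsCoatom M) (maxL : IsCoatom L) (sSM : S ≤ M) (sSL : S ≤ L) (neLM : L ≠ M) :
    IsMulCommutative S := by
  by_contra h
  exact neLM (uniq_eq_of_le (nonabelian_Uniqueness hq qS h) maxM sSM maxL sSL)

theorem ex_tau1_compl {M X : Subgroup G} (maxM : IsCoatom M) (sXM : X ≤ M) (t1X : IsPiGrp (tau1 M) X) :
    ∃ E E₁ : Subgroup G, IsPiHallOf (sigma M)ᶜ E M ∧ IsPiHallOf (tau1 M) E₁ E ∧ X ≤ E₁ := by
  obtain ⟨E, hallE, sXE⟩ := ex_sigma_compl maxM sXM (t1X.mono fun p h => tau1_sigma' h)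
  obtain ⟨E₁, hallE₁, sXE₁⟩ := Hall_superset (sol_le_mmax maxM hallE.le) sXE t1X
  exact ⟨E, E₁, hallE, hallE₁, sXE₁⟩

/-- The main step in the proof of Theorem 13.4. -/
theorem cent_tau1Elem_step {M E P R S : Subgroup G} {p q : ℕ} (maxM : IsCoatom M)
    (hallE : IsPiHallOf (sigma M)ᶜ E M) (t1p : p ∈ tau1 M) (EpP : IsPnElem p 1 P E)
    (sRC : R ≤ E ⊓ 𝒞(P)) (prR : (Nat.card R).Prime) (sSC : S ≤ sigmaCore M ⊓ 𝒞(P))
    (qS : IsPGrp q S) (nSR : R ≤ 𝒩(S)) (ntQ : ⁅S, R⁆ ≠ ⊥) :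
    Nat.card R ∈ tau1 M ∧ alphaCore M ≠ ⊥ ∧ q ∉ alpha M ∧ q ≠ Nat.card R ∧ ⁅S, R⁆ ⊓ 𝒞(R) = ⊥ ∧
      ¬ UniqMax 𝒩(⁅S, R⁆) M := by
  have hp := tau1_prime t1p
  have sPM := EpP.le.trans hallE.le
  have ntP := EpP.ne_bot hp one_pos
  have pP := EpP.pGrp hp
  have sQS : ⁅S, R⁆ ≤ S := comm_le_left nSR
  have ntS : S ≠ ⊥ := ne_bot_mono sQS ntQ
  have hq := qS.prime ntS
  have sSMs : S ≤ sigmaCore M := sSC.trans inf_le_left
  have sSM : S ≤ M := sSMs.trans (Msigma_normal M).1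
  have sMq : q ∈ sigma M := qS.mem_of_piGrp ntS ((Msigma_pgroup M).of_le sSMs)
  have sRE : R ≤ E := sRC.trans inf_le_left
  have sRM : R ≤ M := sRE.trans hallE.le
  have s'r : Nat.card R ∉ sigma M := mem_of_piGrp_of_card_prime hallE.piGrp sRE prR
  have neqr : q ≠ Nat.card R := fun e => s'r (e ▸ sMq)
  obtain ⟨L, maxL, sNL⟩ := mmax_norm_exists ntP (sub_mmax_proper maxM sPM)
  have notj := mmax_norm_notJ maxM maxL pP sPM sNL (Or.inr (Or.inl t1p))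
  have neLM := ne_of_not_conj notj
  have sCL : 𝒞(P) ≤ L := (cent_le_norm P).trans sNL
  have sSL : S ≤ L := (sSC.trans inf_le_right).trans sCL
  have sRL : R ≤ L := (sRC.trans inf_le_right).trans sCL
  have sPL : P ≤ L := Subgroup.le_normalizer.trans sNL
  obtain ⟨-, h2, h3⟩ := cent_norm_tau13_mmax maxM hallE (Or.inl t1p) sPM pP maxL sNL
  have bLp : p ∈ beta L := (h3 (ne_bot_mono
    (Subgroup.commutator_mono (le_inf sSMs sSL) (le_inf sRM sRL)) ntQ)).2 t1p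
  have rR : IsPGrp (Nat.card R) R := pGrp_of_card_eq prR rfl
  have t1r : Nat.card R ∈ tau1 L := by
    by_contra h
    exact ntQ (comm_eq_bot_iff'.2 ((h2 R (le_inf sRE sRL) (rR.piGrp h)).trans
      (cent_anti (le_inf sSMs sSL))))
  have cSS := abelian_of_le_two hq qS maxM maxL sSM sSL neLM
  have regQ : ⁅S, R⁆ ⊓ 𝒞(R) = ⊥ := coprime_abel_cent_TI nSR (qS.coprime_of_ne rR neqr) cSS
  have a'Lq : q ∉ alpha L := fun h =>
    Set.disjoint_left.1 (sigma_disjoint maxL maxM (not_conj_symm notj)).2.1 h sMq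
  have qQ : IsPGrp q ⁅S, R⁆ := qS.of_le sQS
  have nQR : R ≤ 𝒩(⁅S, R⁆) := norm_comm nSR Subgroup.le_normalizer
  have sPLa : P ≤ alphaCore L := alpha_le_Malpha maxL sPL (pP.piGrp (beta_sub_alpha L bLp))
  have uNL : UniqMax 𝒩(⁅S, R⁆) L := by
    by_contra nu
    have h := ((cent_Malpha_reg_tau1 maxL t1r hq neqr (p1Elem_of_prime sRL prR) ntQ nQR regQ nu).1
      (ne_bot_mono sPLa ntP) a'Lq (sQS.trans sSL) qQ).2
    apply ntP
    rw [eq_bot_iff, ← h]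
    exact le_inf sPLa (le_cent_sup (le_cent_symm (sRC.trans inf_le_right))
      (le_cent_symm (sQS.trans (sSC.trans inf_le_right))))
  obtain ⟨S₁, sylS₁, sQS₁⟩ := sylow_superset hq qQ (le_inf (sQS.trans sSM) (sQS.trans sSL))
  obtain ⟨-, -, -, h4, h5⟩ := sigma_subgroup_embedding maxM sMq (sQS.trans sSM) qQ ntQ maxL uNL.2.1 neLM
    sylS₁ sQS₁
  have sLq : q ∈ sigma L := by
    by_contra h
    exact pP.mem_of_piGrp ntP ((h5 h).2.2.piGrp.of_le (le_inf sPM sPL)) (beta_sub_sigma maxL bLp)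
  obtain ⟨-, h6, -, h7⟩ := h4 sLq
  refine ⟨(h6 t1r).resolve_right fun h => s'r (alpha_sub_sigma maxM h), h7, fun h => ?_, neqr, regQ,
    fun h => neLM (eq_uniq_mmax h maxL uNL.2.1)⟩
  exact Set.disjoint_left.1 (sigma_disjoint maxM maxL notj).2.1 h sLq

/-- A subgroup `R` centralizes `C` if it centralizes all `R`-invariant Sylow subgroups. -/
theorem cent_of_invariant_sylow {C R : Subgroup G} (solC : Group.IsSolvable C) (nCR : R ≤ 𝒩(C))
    (co : (Nat.card C).Coprime (Nat.card R))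
    (h : ∀ q S, q.Prime → q ∣ Nat.card C → IsSylowOf q S C → R ≤ 𝒩(S) → S ≤ 𝒞(R)) : C ≤ 𝒞(R) := by
  apply le_of_exists_sylow
  intro q hq hd
  obtain ⟨S, sylS, nSR⟩ := sol_coprime_Sylow_exists hq (Or.inl solC) nCR co
  exact ⟨S, sylS, h q S hq hd sylS nSR⟩

theorem cent_tau1Elem_Malpha {M E P R : Subgroup G} {p : ℕ} (maxM : IsCoatom M)
    (hallE : IsPiHallOf (sigma M)ᶜ E M) (t1p : p ∈ tau1 M) (EpP : IsPnElem p 1 P E)
    (sRC : R ≤ E ⊓ 𝒞(P)) (prR : (Nat.card R).Prime) : alphaCore M ⊓ 𝒞(P) ≤ 𝒞(R) := by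
  have sRE : R ≤ E := sRC.trans inf_le_left
  have sMaMs := Malpha_sub_Msigma maxM
  refine cent_of_invariant_sylow (sol_le_mmax maxM (inf_le_left.trans (Malpha_normal M).1))
    (norm_inf ((sRE.trans hallE.le).trans (Malpha_normal M).2)
      (norm_cent (norm_of_cent (sRC.trans inf_le_right))))
    (((Msigma_pgroup M).of_le (inf_le_left.trans sMaMs)).coprime (hallE.piGrp.of_le sRE)) ?_
  intro q S hq hd sylS nSR
  apply comm_eq_bot_iff.1
  by_contra ntQ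
  exact (cent_tau1Elem_step maxM hallE t1p EpP sRC prR (sylS.le.trans (inf_le_inf_right _ sMaMs))
    sylS.pGrp nSR ntQ).2.2.1 (((Malpha_pgroup M).inf_left _) q hq hd)

/-- B & G, Theorem 13.4. -/
theorem cent_tau1Elem_Msigma {M E P R : Subgroup G} {p : ℕ} (maxM : IsCoatom M)
    (hallE : IsPiHallOf (sigma M)ᶜ E M) (t1p : p ∈ tau1 M) (EpP : IsPnElem p 1 P E)
    (sRC : R ≤ E ⊓ 𝒞(P)) (prR : (Nat.card R).Prime) :
    sigmaCore M ⊓ 𝒞(P) ≤ sigmaCore M ⊓ 𝒞(R) := by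
  have hp := tau1_prime t1p
  have sRE : R ≤ E := sRC.trans inf_le_left
  have sRM := sRE.trans hallE.le
  have cRP : R ≤ 𝒞(P) := sRC.trans inf_le_right
  refine le_inf inf_le_left (cent_of_invariant_sylow
    (sol_le_mmax maxM (inf_le_left.trans (Msigma_normal M).1))
    (norm_inf (sRM.trans (Msigma_normal M).2) (norm_cent (norm_of_cent cRP)))
    (((Msigma_pgroup M).inf_left _).coprime (hallE.piGrp.of_le sRE)) ?_)
  intro q S hq hd sylS nSR
  apply comm_eq_bot_iff.1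
  by_contra ntQ
  obtain ⟨t1r, ntMa, a'q, neqr, regQ, nu⟩ :=
    cent_tau1Elem_step maxM hallE t1p EpP sRC prR sylS.le sylS.pGrp nSR ntQ
  have h1 := cent_tau1Elem_Malpha maxM hallE t1p EpP sRC prR
  have h2 := cent_tau1Elem_Malpha maxM hallE t1r (p1Elem_of_prime sRE prR)
    (le_inf EpP.le (le_cent_symm cRP)) (EpP.card_prime hp)
  have sQS : ⁅S, R⁆ ≤ S := comm_le_left nSR
  have sSM : S ≤ M := sylS.le.trans (inf_le_left.trans (Msigma_normal M).1)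
  obtain ⟨h3, h4⟩ := (cent_Malpha_reg_tau1 maxM t1r hq neqr (p1Elem_of_prime sRM prR) ntQ
    (norm_comm nSR Subgroup.le_normalizer) regQ nu).1 ntMa a'q (sQS.trans sSM) (sylS.pGrp.of_le sQS)
  apply h3
  rw [eq_bot_iff, ← h4]
  refine le_inf inf_le_left (le_cent_sup inf_le_right ?_)
  have nDS : S ≤ 𝒩(alphaCore M ⊓ 𝒞(P)) :=
    norm_inf (sSM.trans (Malpha_normal M).2) (norm_cent (norm_of_cent (sylS.le.trans inf_le_right)))
  have h5 : ⁅S, R⁆ ≤ 𝒞(alphaCore M ⊓ 𝒞(P)) :=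
    (Subgroup.commutator_mono le_rfl (le_cent_symm h1)).trans (comm_le_right (norm_cent nDS))
  exact (le_inf inf_le_left h2).trans (le_cent_symm h5)

/-- B & G, Theorem 13.5. -/
theorem tau1_primact_Msigma {M E E₁ : Subgroup G} (maxM : IsCoatom M)
    (hallE : IsPiHallOf (sigma M)ᶜ E M) (hallE₁ : IsPiHallOf (tau1 M) E₁ E) :
    Semiprime (sigmaCore M) E₁ := by
  have cE₁ := tau1_cyclic maxM hallE hallE₁
  apply semiprime_of_prime_subgroups
  intro X sX prX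
  apply le_cent_symm
  apply le_of_forall_sylow
  intro r R hr sylR
  by_cases ntR : R = ⊥
  · rw [ntR]; exact bot_le
  have t1r : r ∈ tau1 M := sylR.pGrp.mem_of_piGrp ntR (hallE₁.piGrp.of_le sylR.le)
  obtain ⟨R₀, sR₀, oR₀⟩ := exists_le_card_eq_prime hr (sylR.pGrp.dvd_card ntR)
  have prR₀ : (Nat.card R₀).Prime := by rwa [oR₀]
  have h1 := cent_tau1Elem_Msigma maxM hallE (mem_of_piGrp_of_card_prime hallE₁.piGrp sX prX)
    (p1Elem_of_prime (sX.trans hallE₁.le) prX)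
    (le_inf ((sR₀.trans sylR.le).trans hallE₁.le)
      ((sR₀.trans sylR.le).trans ((abelian_iff_le_cent.1 (abelian_of_cyclic cE₁)).trans (cent_anti sX))))
    prR₀
  have h2 := cyclic_primact_Msigma hr maxM hallE (sylR.trans_hall hallE₁ t1r) (cyclic_of_le cE₁ sylR.le)
  rw [cent_semiprime h2 sR₀ (ne_bot_of_card_prime prR₀)] at h1
  exact le_cent_symm (h1.trans inf_le_right)

/-- B & G, Lemma 13.6. -/
theorem cent_cent_Msigma_tau1_uniq {M E E₁ P X : Subgroup G} {q : ℕ} (hq : q.Prime) (maxM : IsCoatom M)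
    (hallE : IsPiHallOf (sigma M)ᶜ E M) (hallE₁ : IsPiHallOf (tau1 M) E₁ E) (sPE₁ : P ≤ E₁)
    (ntP : P ≠ ⊥) (EqX : IsPnElem q 1 X (sigmaCore M ⊓ 𝒞(P))) :
    UniqMax 𝒞(X) M ∧ ∀ S : Subgroup G, IsSylowOf q S (sigmaCore M) → UniqMax S M := by
  have sXMs : X ≤ sigmaCore M := EqX.le.trans inf_le_left
  have EqXM : IsPnElem q 1 X M := EqX.of_le (sXMs.trans (Msigma_normal M).1)
  suffices h : q ∈ beta M ∨ X ≤ ⁅sigmaCore M, sigmaCore M⁆ by
    obtain ⟨S₀, sylS₀⟩ := sylow_exists hq (sigmaCore M)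
    exact ⟨(cent_der_sigma_uniq hq maxM EqXM sylS₀ h).1,
      fun S sylS => (cent_der_sigma_uniq hq maxM EqXM sylS h).2⟩
  by_contra hc
  push Not at hc
  obtain ⟨b'q, nsX⟩ := hc
  have prim := tau1_primact_Msigma maxM hallE hallE₁
  have cXE₁ : X ≤ sigmaCore M ⊓ 𝒞(E₁) := by rw [← cent_semiprime prim sPE₁ ntP]; exact EqX.le
  have nMsE : E ≤ 𝒩(sigmaCore M) := hallE.le.trans (Msigma_normal M).2
  have nMsE₁ := hallE₁.le.trans nMsE
  have solMs := sol_le_mmax maxM (Msigma_normal M).1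
  have coMsE₁ : (Nat.card (sigmaCore M)).Coprime (Nat.card E₁) :=
    (Msigma_pgroup M).coprime (hallE.piGrp.of_le hallE₁.le)
  obtain ⟨H, hallH, cHE'⟩ := der_compl_cent_beta' maxM hallE
  have sHD : H ≤ sigmaCore M ⊓ 𝒞(⁅E, E⁆) := le_inf hallH.le (le_cent_symm cHE')
  have nDE₁ : E₁ ≤ 𝒩(sigmaCore M ⊓ 𝒞(⁅E, E⁆)) :=
    norm_inf nMsE₁ (norm_cent (hallE₁.le.trans (der_normalIn E).2))
  obtain ⟨S, sylS, nSE₁⟩ := sol_coprime_Sylow_exists hq (Or.inl (sol_of_le solMs inf_le_left)) nDE₁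
    (((Msigma_pgroup M).inf_left _).coprime (hallE.piGrp.of_le hallE₁.le))
  have sylSMs : IsSylowOf q S (sigmaCore M) := by
    refine sylS.trans_index inf_le_left ?_
    refine (piNat_compl_singleton_iff hq).2 fun hd => b'q ?_
    have h1 : (sigmaCore M ⊓ 𝒞(⁅E, E⁆)).relIndex (sigmaCore M) ∣ H.relIndex (sigmaCore M) :=
      Subgroup.relIndex_dvd_of_le_left _ sHD
    have := hallH.index q hq (hd.trans h1)
    simpa using this
  obtain ⟨S₁, sylS₁, nS₁E₁, sXS₁⟩ := sol_coprime_Sylow_subset hq (Or.inl solMs) nMsE₁ coMsE₁ sXMs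
    (EqX.pGrp hq) (norm_of_cent' (cXE₁.trans inf_le_right))
  obtain ⟨c, hc, rfl⟩ := sol_coprime_Sylow_trans hq (Or.inl solMs) nMsE₁ coMsE₁ sylSMs nSE₁ sylS₁ nS₁E₁
  have hc' := Subgroup.mem_inf.1 hc
  have sYS : X :^ c ≤ S₁ :^ c := conjg_mono c sXS₁
  have cYE₁ : X :^ c ≤ sigmaCore M ⊓ 𝒞(E₁) := conjg_le_of_mem cXE₁ hc
  have cYE' : X :^ c ≤ 𝒞(⁅E, E⁆) := sYS.trans (sylS.le.trans inf_le_right)
  have sYMs : X :^ c ≤ sigmaCore M := cYE₁.trans inf_le_left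
  obtain ⟨E₃, hallE₃⟩ := (ex_tau13_compl maxM hallE).2
  obtain ⟨E₂, complE⟩ := ex_tau2_compl maxM hallE hallE₁ hallE₃
  obtain ⟨⟨sE₃E', -⟩, -, -, ⟨-, defE, -, -⟩, -⟩ := sigma_compl_context maxM complE
  by_cases E₂1 : E₂ = ⊥
  · apply nsX
    have h1 : X :^ c ≤ 𝒞(E) := by
      rw [← defE.sup_eq, E₂1, bot_sup_eq]
      exact le_cent_sup (cYE'.trans (cent_anti sE₃E')) (cYE₁.trans inf_le_right)
    have h2 := (le_inf sYMs h1).trans (sigma_compl_embedding maxM hallE).1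
    exact (conjg_le_iff_of_mem_norm ((der_normalIn _).2 hc'.1)).1 h2
  · obtain ⟨p, t2p, A, EpA, sAE₂, EpAM⟩ := ex_tau2Elem hallE complE.hallE₂ E₂1
    have hp := tau2_prime t2p
    have nsA := (tau2_compl_context maxM hallE t2p EpA).1.1
    have regA := (tau2_context maxM t2p EpAM).2.2.1
    have coAE₁ : (Nat.card A).Coprime (Nat.card E₁) :=
      PiNat.coprime_of_disjoint ((EpA.pGrp hp).piGrp t2p) hallE₁.piGrp fun r h2 h1 => tau2'1 h1 h2
    have defA := coprime_cent_prod (hallE₁.le.trans nsA.2) coAE₁ (Or.inl (sol_of_abelian EpA.abelian))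
    obtain ⟨r, hr, rP⟩ := exists_prime_dvd_card ntP
    obtain ⟨P₀, EP₀⟩ := p1Elem_exists hr rP
    have sP₀E₁ := EP₀.le.trans sPE₁
    have t1r : r ∈ tau1 M := hallE₁.piGrp r hr (rP.trans (Subgroup.card_dvd_of_le sPE₁))
    have h1 : X :^ c ≤ 𝒞(A) := by
      rw [← defA]
      refine le_cent_sup (cYE'.trans (cent_anti (Subgroup.commutator_mono EpA.le hallE₁.le))) ?_
      rw [le_cent_iff_forall_le]
      intro a ha
      by_cases a1 : a = 1
      · rw [a1, cent_one]; exact le_top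
      have ha' := Subgroup.mem_inf.1 ha
      have oa : orderOf a = p := abelem_orderOf hp EpA.abelem ha'.1 a1
      have h2 := cent_tau1Elem_Msigma maxM hallE t1r (EP₀.of_le (sP₀E₁.trans hallE₁.le))
        (R := Subgroup.zpowers a)
        (Subgroup.zpowers_le.2 (Subgroup.mem_inf.2 ⟨EpA.le ha'.1, cent_anti sP₀E₁ ha'.2⟩))
        (by rwa [Nat.card_zpowers, oa])
      rw [cent_zpowers] at h2
      exact (cYE₁.trans (inf_le_inf_left _ (cent_anti sP₀E₁))).trans (h2.trans inf_le_right)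
    have h2 : X :^ c = ⊥ := by rw [eq_bot_iff, ← regA]; exact le_inf sYMs h1
    exact EqX.ne_bot hq one_pos (conjg_eq_bot.1 h2)

theorem exists_prime_pair_of_not_semiregular {K H : Subgroup G} (h : ¬ Semiregular K H) :
    ∃ P R : Subgroup G, P ≤ H ∧ (Nat.card P).Prime ∧ R ≤ K ⊓ 𝒞(P) ∧ (Nat.card R).Prime := by
  obtain ⟨P, sP, prP, ntC⟩ := exists_prime_of_not_semiregular h
  obtain ⟨r, hr, hd⟩ := exists_prime_dvd_card ntC
  obtain ⟨R, sR, oR⟩ := exists_le_card_eq_prime hr hd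
  exact ⟨P, R, sP, prP, sR, by rwa [oR]⟩

theorem tau2_compl_eq_bot {M E E₁ E₂ E₃ : Subgroup G} (maxM : IsCoatom M)
    (complE : SigmaCompl M E E₁ E₂ E₃) (nreg : ¬ Semiregular (sigmaCore M) E₃) : E₂ = ⊥ := by
  by_contra ntE₂
  obtain ⟨p, t2p, A, EpA, -, -⟩ := ex_tau2Elem complE.hallE complE.hallE₂ ntE₂
  exact nreg (tau2_regular maxM complE t2p EpA).1

/-- B & G, Lemma 13.7. -/
theorem tau13_primact_Msigma {M E E₁ E₂ E₃ : Subgroup G} (maxM : IsCoatom M)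
    (complE : SigmaCompl M E E₁ E₂ E₃) (nreg : ¬ Semiregular E₃ E₁) :
    Semiprime (sigmaCore M) (E₃ ⊔ E₁) := by
  obtain ⟨hallE, hallE₁, hallE₂, hallE₃, -⟩ := id complE
  obtain ⟨⟨-, nsE₃⟩, -, ⟨-, cE₃⟩, ⟨-, defE, -, -⟩, regE₃⟩ := sigma_compl_context maxM complE
  obtain ⟨P, R, sPE₁, prP, sR, prR⟩ := exists_prime_pair_of_not_semiregular nreg
  have sRE₃ : R ≤ E₃ := sR.trans inf_le_left
  have ntP := ne_bot_of_card_prime prP
  have ntR := ne_bot_of_card_prime prR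
  have prim1 := tau1_primact_Msigma maxM hallE hallE₁
  have prim3 := tau3_primact_Msigma maxM hallE hallE₃
  have h13 : sigmaCore M ⊓ 𝒞(E₁) ≤ sigmaCore M ⊓ 𝒞(E₃) := by
    rw [← cent_semiprime prim1 sPE₁ ntP, ← cent_semiprime prim3 sRE₃ ntR]
    exact cent_tau1Elem_Msigma maxM hallE (mem_of_piGrp_of_card_prime hallE₁.piGrp sPE₁ prP)
      (p1Elem_of_prime (sPE₁.trans hallE₁.le) prP) (sR.trans (inf_le_inf_right _ hallE₃.le)) prR
  have h31 : sigmaCore M ⊓ 𝒞(E₃) ≤ 𝒞(E₁) := by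
    by_contra nc
    have E₂1 : E₂ = ⊥ := tau2_compl_eq_bot maxM complE fun reg => nc (by
      rw [cent_semiregular reg le_rfl (ne_bot_mono sRE₃ ntR)]; exact bot_le)
    have sRM := sRE₃.trans (hallE₃.le.trans hallE.le)
    obtain ⟨L, maxL, sNL⟩ := mmax_norm_exists ntR (sub_mmax_proper maxM sRM)
    have sEL : E ≤ L := (nsE₃.2.trans (norm_le_norm_of_cyclic cE₃ sRE₃)).trans sNL
    have t3r := mem_of_piGrp_of_card_prime hallE₃.piGrp sRE₃ prR
    have rR : IsPGrp (Nat.card R) R := pGrp_of_card_eq prR rfl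
    obtain ⟨-, h2, h3⟩ := cent_norm_tau13_mmax maxM hallE (Or.inr t3r) sRM rR maxL sNL
    have sCL : sigmaCore M ⊓ 𝒞(E₃) ≤ sigmaCore M ⊓ L :=
      inf_le_inf_left _ ((cent_anti sRE₃).trans ((cent_le_norm R).trans sNL))
    have sLr : Nat.card R ∈ sigma L := by
      refine (h3 fun h => nc ?_).1
      exact sCL.trans ((comm_eq_bot_iff.1 h).trans
        (cent_anti (le_inf (hallE₁.le.trans hallE.le) (hallE₁.le.trans sEL))))
    have t1E₁ : IsPiGrp (tau1 L) E₁ := by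
      intro s hs hd
      by_contra t1's
      obtain ⟨X, sX, oX⟩ := exists_le_card_eq_prime hs hd
      have h4 := h2 X (le_inf (sX.trans hallE₁.le) (sX.trans (hallE₁.le.trans sEL)))
        ((pGrp_of_card_eq hs oX).piGrp t1's)
      apply nc
      have h5 : sigmaCore M ⊓ 𝒞(E₃) ≤ sigmaCore M ⊓ 𝒞(X) :=
        le_inf inf_le_left (sCL.trans (le_cent_symm h4))
      rw [cent_semiprime prim1 sX (ne_bot_of_card_prime (by rwa [oX]))] at h5
      exact h5.trans inf_le_right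
    obtain ⟨F, F₁, hallF, hallF₁, sE₁F₁⟩ := ex_tau1_compl maxL (hallE₁.le.trans sEL) t1E₁
    have primL := semiprimeS (tau1_primact_Msigma maxL hallF hallF₁) le_rfl sE₁F₁
    have h4 : R ≤ sigmaCore L ⊓ 𝒞(E₁) := by
      rw [← cent_semiprime primL sPE₁ ntP]
      exact le_inf (sigma_le_Msigma maxL (Subgroup.le_normalizer.trans sNL) (rR.piGrp sLr))
        (sR.trans inf_le_right)
    apply ntR
    rw [eq_bot_iff, ← regE₃]
    refine le_inf sRE₃ ?_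
    rw [← defE.sup_eq, E₂1, bot_sup_eq]
    exact le_cent_sup (sRE₃.trans (abelian_iff_le_cent.1 (abelian_of_cyclic cE₃)))
      (h4.trans inf_le_right)
  have sFE : E₃ ⊔ E₁ ≤ E := sup_le hallE₃.le hallE₁.le
  have nE₃E₁ : E₁ ≤ 𝒩(E₃) := hallE₁.le.trans nsE₃.2
  have c1 : sigmaCore M ⊓ 𝒞(E₁) ≤ 𝒞(E₃ ⊔ E₁) := le_cent_sup (h13.trans inf_le_right) inf_le_right
  have c3 : sigmaCore M ⊓ 𝒞(E₃) ≤ 𝒞(E₃ ⊔ E₁) := le_cent_sup inf_le_right h31
  apply semiprime_of_prime_subgroups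
  intro X sX prX
  have ntX := ne_bot_of_card_prime prX
  have sX' : IsPGrp (Nat.card X) X := pGrp_of_card_eq prX rfl
  have t13F : IsPiGrp (tau3 M ∪ tau1 M) (E₃ ⊔ E₁) :=
    IsPiGrp.sup (hallE₃.piGrp.mono Set.subset_union_left) (hallE₁.piGrp.mono Set.subset_union_right)
      (Or.inr nE₃E₁)
  rcases mem_of_piGrp_of_card_prime t13F sX prX with t3 | t1
  · have sXE₃ : X ≤ E₃ := hallE₃.le_of_normal nsE₃.2 (sX'.piGrp t3) (sX.trans sFE)
    rw [cent_semiprime prim3 sXE₃ ntX]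
    exact c3
  · obtain ⟨g, hg, sXg⟩ := Hall_Jsub (sol_le_mmax maxM (sFE.trans hallE.le))
      (hallE₁.of_le le_sup_right sFE) sX (sX'.piGrp t1)
    have h1 : sigmaCore M ⊓ 𝒞(X :^ g) ≤ 𝒞(E₃ ⊔ E₁) := by
      rw [cent_semiprime prim1 sXg (fun h => ntX (conjg_eq_bot.1 h))]
      exact c1
    have gMs : g ∈ 𝒩(sigmaCore M) := (Msigma_normal M).2 (hallE.le (sFE hg))
    rw [← conjg_of_mem_norm gMs, ← conjg_cent, ← conjg_inf] at h1
    exact (conjg_le_iff_of_mem_norm (norm_cent Subgroup.le_normalizer hg)).1 h1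

end CA.BG.P13
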