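/-
B & G section 13, part c: Lemma 13.8 - Lemma 13.13.
-/
import Cfsg.Agent.BG.P13b

set_option autoImplicit false
set_option linter.unusedSectionVars false

namespace CA.BG.P13

open Cfsg CA.FG CA.BG

universe u

variable {G : Type u} [Group G] [MinSimpleOdd G]

theorem ne_of_regular {P Q : Subgroup G} {p q : ℕ} (pP : IsPGrp p P) (qQ : IsPGrp q Q) (ntQ : Q ≠ ⊥)
    (nQP : P ≤ 𝒩(Q)) (regQ : Q ⊓ 𝒞(P) = ⊥) : q ≠ p := by
  rintro rfl
  exact pGrp_inf_cent_ne_bot qQ pP nQP ntQ regQ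

theorem comm_eq_of_regular {P Q : Subgroup G} (nQP : P ≤ 𝒩(Q))
    (co : (Nat.card Q).Coprime (Nat.card P)) (sol : Group.IsSolvable Q ∨ Group.IsSolvable P)
    (regQ : Q ⊓ 𝒞(P) = ⊥) : ⁅Q, P⁆ = Q := by
  have := coprime_cent_prod nQP co sol
  rwa [regQ, sup_bot_eq] at this

theorem Mbeta_eq_Malpha {M : Subgroup G} (h : alpha M = beta M) : betaCore M = alphaCore M := by
  rw [betaCore_eq, alphaCore_eq, h]

theorem tau1_mmaxI_half {M L P Q : Subgroup G} {p q : ℕ} (hq : q.Prime)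
    (t1Mp : p ∈ tau1 M) (EpP : IsPnElem p 1 P M) (sylQ : IsSylowOf q Q (M ⊓ L))
    (maxM : IsCoatom M) (maxL : IsCoatom L) (neLM : L ≠ M) (nQP : P ≤ 𝒩(Q)) (regQ : Q ⊓ 𝒞(P) = ⊥)
    (sNQ : 𝒩(Q) ≤ L) :
    IsSylowOf q Q M ∧ q ≠ p ∧ alpha M = beta M ∧ q ∉ alpha M ∧ alphaCore M ⊓ 𝒞(P) ≠ ⊥ ∧
      alphaCore M ⊓ 𝒞(P ⊔ Q) = ⊥ := by
  have ntQ := ne_bot_of_norm_le maxL sNQ
  have sylQM : IsSylowOf q Q M := IsSylowOf.of_norm_le sylQ hq inf_le_left (inf_le_inf_left M sNQ)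
  have neqp := ne_of_regular (EpP.pGrp (tau1_prime t1Mp)) sylQ.pGrp ntQ nQP regQ
  obtain ⟨h1, -, h2, h3, h4⟩ := (cent_Malpha_reg_tau1 maxM t1Mp hq neqp EpP ntQ nQP regQ
    (fun h => neLM (eq_uniq_mmax h maxL sNQ))).2 sylQM
  exact ⟨sylQM, neqp, h1, h2, h3, h4⟩

theorem tau1_mmaxI_aux {M L P Q H : Subgroup G} {p q s t : ℕ} (hq : q.Prime)
    (t1Mp : p ∈ tau1 M) (EpP : IsPnElem p 1 P (M ⊓ L)) (sylQ : IsSylowOf q Q (M ⊓ L))
    (maxM : IsCoatom M) (maxL : IsCoatom L) (notj : ∀ g, L ≠ M :^ g) (nQP : P ≤ 𝒩(Q))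
    (regQ : Q ⊓ 𝒞(P) = ⊥) (sNQ : 𝒩(Q) ≤ L) (bLt : t ∈ beta L) (tC : t ∣ Nat.card 𝒞(P))
    (hallH : IsPiHallOf (beta M ∪ beta L) H 𝒞(P)) (bMs : s ∈ beta M) (ntY : pCoreOf s H ≠ ⊥) :
    False := by
  have hp := tau1_prime t1Mp
  have hs := beta_prime bMs
  have ht := beta_prime bLt
  have sPM : P ≤ M := EpP.le.trans inf_le_left
  have sPL : P ≤ L := EpP.le.trans inf_le_right
  have pP := EpP.pGrp hp
  have ntP := EpP.ne_bot hp one_pos
  obtain ⟨sylQM, neqp, eab, a'q, ntC, regPQ⟩ := tau1_mmaxI_half hq t1Mp (EpP.of_le sPM) sylQ maxM maxL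
    (ne_of_not_conj notj) nQP regQ sNQ
  have solC : Group.IsSolvable 𝒞(P) := mFT_sol (mFT_cent_proper ntP)
  have bMa : IsPiGrp (beta M) (alphaCore M) := eab ▸ Malpha_pgroup M
  obtain ⟨c, hc, sCH⟩ := Hall_subJ solC hallH (K := alphaCore M ⊓ 𝒞(P)) inf_le_right
    ((bMa.inf_left _).mono Set.subset_union_left)
  have hallH' := hallH.conjg_of_mem hc
  have ntY' : pCoreOf s (H :^ c) ≠ ⊥ := by
    have e : pCoreOf s H :^ c = pCoreOf s (H :^ c) := pcore_conjg _ H c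
    rw [← e]; exact fun h => ntY (conjg_eq_bot.1 h)
  generalize H :^ c = K at sCH hallH' ntY'
  -- `K ≤ M`
  have sMs : s ∈ sigma M := beta_sub_sigma maxM bMs
  obtain ⟨S, sylS⟩ := sylow_exists hs M
  obtain ⟨g, -, sYS⟩ := sylow_subJ hs (sigma_Sylow_G sMs sylS) (pcore_pGrp s K) le_top
  have sKMg : K ≤ M :^ g := (pcore_norm _ K).trans (beta_norm_sub_mmax (isCoatom_conjg.2 maxM)
    (sYS.trans (conjg_mono g sylS.le)) ((pcore_pGrp s K).piGrp (by rwa [betaJ])) ntY')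
  obtain ⟨E₀, E₁, hallE₀, hallE₁, sPE₁⟩ := ex_tau1_compl maxM sPM (pP.piGrp t1Mp)
  obtain ⟨u, hu, uC⟩ := exists_prime_dvd_card ntC
  obtain ⟨X, EuX⟩ := p1Elem_exists hu uC
  have sMu : u ∈ sigma M := alpha_sub_sigma maxM (((Malpha_pgroup M).inf_left _) u hu uC)
  have uX := (cent_cent_Msigma_tau1_uniq hu maxM hallE₀ hallE₁ sPE₁ ntP
    (EuX.mono (inf_le_inf_right _ (Malpha_sub_Msigma maxM)))).1
  have hg : g⁻¹ ∈ M := sigma_group_trans_e maxM sMu (EuX.pGrp hu)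
    (EuX.le.trans (inf_le_left.trans (Malpha_normal M).1)) uX.2.1
    (le_conjg_iff.1 (EuX.le.trans (sCH.trans sKMg)))
  have sKM : K ≤ M := by rwa [conjg_of_mem (inv_mem_iff.1 hg)] at sKMg
  -- the subgroup `R`
  have dis := (sigma_disjoint maxM maxL notj).2.1
  have sLt : t ∈ sigma L := beta_sub_sigma maxL bLt
  have a't : t ∉ alpha M := fun h => Set.disjoint_left.1 dis h sLt
  have s't : t ∉ sigma M := fun h =>
    a't (beta_sub_alpha M ((predI_sigma_beta maxM).2 ⟨h, ((predI_sigma_beta maxL).1 bLt).2⟩))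
  have tK : t ∣ Nat.card ↥(M ⊓ 𝒞(P)) :=
    ((hallH'.dvd_card_iff ht (Or.inr bLt)).2 tC).trans
      (Subgroup.card_dvd_of_le (le_inf sKM hallH'.le))
  have defQ : ⁅Q, P⁆ = Q := comm_eq_of_regular nQP (sylQ.pGrp.coprime_of_ne pP neqp)
    (Or.inl sylQ.pGrp.sol) regQ
  have sQM' : Q ≤ ⁅M, M⁆ := by rw [← defQ]; exact Subgroup.commutator_mono sylQM.le sPM
  have sQL : Q ≤ L := sylQ.le.trans inf_le_right
  have sQL' : Q ≤ ⁅L, L⁆ := by rw [← defQ]; exact Subgroup.commutator_mono sQL sPL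
  have defM : alphaCore M ⊔ (M ⊓ 𝒩(Q)) = M :=
    sup_norm_sylow hq (Malpha_normal M) ((Malpha_sub_Msigma maxM).trans (Msigma_der1 maxM))
      (Malpha_quo_nil maxM) (sylQM.of_le sQM' (der_le M))
  have s'P : IsPiGrp (sigma M)ᶜ P := pP.piGrp (tau1_sigma' t1Mp)
  have defC := coprime_cent_mulG (A := P) (M := M ⊓ 𝒩(Q)) (H := alphaCore M)
    (norm_inf (norm_of_le sPM) (norm_of_le nQP)) (sPM.trans (Malpha_normal M).2)
    (inf_le_left.trans (Malpha_normal M).2)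
    (((Msigma_pgroup M).of_le (Malpha_sub_Msigma maxM)).coprime s'P) (Or.inr pP.sol)
  rw [defM] at defC
  rw [defC] at tK
  have tN : t ∣ Nat.card ↥(M ⊓ 𝒩(Q) ⊓ 𝒞(P)) := by
    have h1 := tK.trans (card_sup_dvd (Or.inr (norm_inf
      ((inf_le_left.trans inf_le_left).trans (Malpha_normal M).2) (norm_of_le inf_le_right))))
    rcases (Nat.Prime.dvd_mul ht).1 h1 with h | h
    · exact absurd (((Malpha_pgroup M).inf_left _) t ht h) a't
    · exact h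
  obtain ⟨R, sR, oR⟩ := exists_le_card_eq_prime ht tN
  have tR : IsPGrp t R := pGrp_of_card_eq ht oR
  have prR : (Nat.card R).Prime := by rwa [oR]
  have sRM : R ≤ M := sR.trans (inf_le_left.trans inf_le_left)
  have cRP : R ≤ 𝒞(P) := sR.trans inf_le_right
  have sNRL : 𝒩(R) ≤ L := beta_norm_sub_mmax maxL ((sR.trans (inf_le_left.trans inf_le_right)).trans sNQ)
    (tR.piGrp bLt) (ne_bot_of_card_prime prR)
  obtain ⟨E, hallE, sPRE⟩ := ex_sigma_compl maxM (sup_le sPM sRM)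
    (s'P.sup (tR.piGrp s't) (Or.inr (norm_of_cent cRP)))
  have h1 := cent_tau1Elem_Malpha maxM hallE t1Mp (EpP.of_le (le_sup_left.trans sPRE))
    (le_inf (le_sup_right.trans sPRE) cRP) prR
  have sCL : alphaCore M ⊓ 𝒞(P) ≤ L := h1.trans ((cent_le_norm R).trans sNRL)
  obtain ⟨Q₁, sylQ₁, sQQ₁⟩ := sylow_superset hq sylQ.pGrp sQL'
  have nsK : alphaCore L ⊔ Q₁ ⊲ L := sup_sylow_normal (Malpha_normal L) (Malpha_quo_nil maxL) sylQ₁
  have a'K : IsPiGrp (alpha M)ᶜ (alphaCore L ⊔ Q₁) := by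
    refine IsPiGrp.sup ((Malpha_pgroup L).mono ?_) (sylQ₁.pGrp.piGrp a'q)
      (Or.inr ((sylQ₁.le.trans (der_le L)).trans (Malpha_normal L).2))
    exact fun r hr h => Set.disjoint_left.1 dis h (alpha_sub_sigma maxL hr)
  apply ntC
  rw [eq_bot_iff, ← regPQ]
  refine le_inf inf_le_left (le_cent_sup inf_le_right (comm_eq_bot_iff.1 ?_))
  rw [eq_bot_iff, ← (Malpha_pgroup M).inf_eq_bot a'K]
  exact le_inf ((Subgroup.commutator_mono inf_le_left sylQM.le).trans (comm_le_left (Malpha_normal M).2))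
    ((Subgroup.commutator_mono sCL (sQQ₁.trans le_sup_right)).trans (comm_le_right nsK.2))

/-- B & G, Lemma 13.8. -/
theorem tau1_mmaxI_asymmetry {M Mstar P Q Qstar : Subgroup G} {p q qstar : ℕ} (hq : q.Prime)
    (hqs : qstar.Prime) (t1Mp : p ∈ tau1 M) (t1Msp : p ∈ tau1 Mstar)
    (EpP : IsPnElem p 1 P (M ⊓ Mstar)) (sylQ : IsSylowOf q Q (M ⊓ Mstar))
    (sylQs : IsSylowOf qstar Qstar (M ⊓ Mstar)) (maxM : IsCoatom M) (maxMs : IsCoatom Mstar)
    (notj : ∀ g, Mstar ≠ M :^ g) (nQP : P ≤ 𝒩(Q)) (nQsP : P ≤ 𝒩(Qstar))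
    (regQ : Q ⊓ 𝒞(P) = ⊥) (regQs : Qstar ⊓ 𝒞(P) = ⊥)
    (sNQ : 𝒩(Q) ≤ Mstar) (sNQs : 𝒩(Qstar) ≤ M) : False := by
  have hp := tau1_prime t1Mp
  have neLM := ne_of_not_conj notj
  have sylQs' : IsSylowOf qstar Qstar (Mstar ⊓ M) := by rwa [inf_comm]
  have EpP' : IsPnElem p 1 P (Mstar ⊓ M) := by rwa [inf_comm]
  obtain ⟨-, -, eab, -, ntC, -⟩ := tau1_mmaxI_half hq t1Mp (EpP.mono inf_le_left) sylQ maxM maxMs
    neLM nQP regQ sNQ
  obtain ⟨-, -, eab', -, ntC', -⟩ := tau1_mmaxI_half hqs t1Msp (EpP.mono inf_le_right) sylQs' maxMs maxM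
    neLM.symm nQsP regQs sNQs
  obtain ⟨t, ht, tC⟩ := exists_prime_dvd_card ntC
  obtain ⟨t', ht', tC'⟩ := exists_prime_dvd_card ntC'
  have bt : t ∈ beta M := eab ▸ ((Malpha_pgroup M).inf_left _) t ht tC
  have bt' : t' ∈ beta Mstar := eab' ▸ ((Malpha_pgroup Mstar).inf_left _) t' ht' tC'
  have tC₁ : t ∣ Nat.card 𝒞(P) := tC.trans (Subgroup.card_dvd_of_le inf_le_right)
  have tC₁' : t' ∣ Nat.card 𝒞(P) := tC'.trans (Subgroup.card_dvd_of_le inf_le_right)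
  have solC : Group.IsSolvable 𝒞(P) := mFT_sol (mFT_cent_proper (EpP.ne_bot hp one_pos))
  obtain ⟨H, hallH⟩ := Hall_exists (beta M ∪ beta Mstar) solC
  have ntH : H ≠ ⊥ := hallH.ne_bot ht (Or.inl bt) tC₁
  obtain ⟨s, hs, ntY⟩ := exists_pcore_ne_bot (sol_of_le solC hallH.le) ntH
  rcases (pcore_pGrp s H).mem_of_piGrp ntY (hallH.piGrp.of_le (pcore_le _ H)) with bs | bs
  · exact tau1_mmaxI_aux hq t1Mp EpP sylQ maxM maxMs notj nQP regQ sNQ bt' tC₁' hallH bs ntY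
  · exact tau1_mmaxI_aux hqs t1Msp EpP' sylQs' maxMs maxM (not_conj_symm notj) nQsP regQs sNQs bt tC₁
      (by rwa [Set.union_comm]) bs ntY

/-- B & G, Theorem 13.9. -/
theorem sigma_partition {M Mstar : Subgroup G} (maxM : IsCoatom M) (maxMs : IsCoatom Mstar)
    (notj : ∀ g, Mstar ≠ M :^ g) : Disjoint (sigma M) (sigma Mstar) := by
  rw [Set.disjoint_left]
  intro q sMq sMsq
  have hq := sigma_prime sMq
  obtain ⟨E, hallE, -⟩ := ex_sigma_compl maxM bot_le (piGrp_bot _)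
  obtain ⟨S, sylS, nSE⟩ := sol_coprime_Sylow_exists hq (Or.inl (sol_le_mmax maxM (Msigma_normal M).1))
    (hallE.le.trans (Msigma_normal M).2) (coprime_sigma_compl hallE)
  have sylSM : IsSylowOf q S M := sylS.trans_hall (Msigma_Hall maxM) sMq
  have sylSG := sigma_Sylow_G sMq sylSM
  obtain ⟨T, sylT⟩ := sylow_exists hq Mstar
  obtain ⟨g, -, defS⟩ := sylow_trans hq (sigma_Sylow_G sMsq sylT) sylSG
  have maxL : IsCoatom (Mstar :^ g) := isCoatom_conjg.2 maxMs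
  have sylSL : IsSylowOf q S (Mstar :^ g) := by rw [defS]; exact sylT.conjg g
  have notjL := not_conj_conj_left notj g
  have sLq : q ∈ sigma (Mstar :^ g) := by rwa [sigmaJ]
  generalize Mstar :^ g = L at maxL sylSL notjL sLq
  have sNL := norm_sigma_Sylow sLq sylSL
  have sNM := norm_sigma_Sylow sMq sylSM
  have ntS := sigma_Sylow_neq1 sMq sylSM
  obtain ⟨⟨E₁, hallE₁⟩, E₃, hallE₃⟩ := ex_tau13_compl maxM hallE
  obtain ⟨E₂, complE⟩ := ex_tau2_compl maxM hallE hallE₁ hallE₃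
  have E₂1 : E₂ = ⊥ := by
    by_contra ntE₂
    obtain ⟨p, t2p, A, EpA, -, -⟩ := ex_tau2Elem hallE complE.hallE₂ ntE₂
    exact Set.disjoint_left.1 ((tau2_compl_context maxM hallE t2p EpA).2.2.2 L maxL notjL).2 sMq sLq
  have ntE₁ := (sigma_compl_context maxM complE).2.1 E₂1
  obtain ⟨p, hp, pE₁⟩ := exists_prime_dvd_card ntE₁
  obtain ⟨P, EpP⟩ := p1Elem_exists hp pE₁
  have ntP := EpP.ne_bot hp one_pos
  have pP := EpP.pGrp hp
  have t1p : p ∈ tau1 M := hallE₁.piGrp p hp pE₁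
  have sPE := EpP.le.trans hallE₁.le
  have nSP := sPE.trans nSE
  have sPML : P ≤ M ⊓ L := le_inf (sPE.trans hallE.le) (nSP.trans sNL)
  have regS : S ⊓ 𝒞(P) = ⊥ := by
    by_contra ntC
    obtain ⟨X, EqX⟩ := p1Elem_exists hq (IsPGrp.dvd_card (sylS.pGrp.inf_left _) ntC)
    exact ne_of_not_conj notjL (eq_uniq_mmax ((cent_cent_Msigma_tau1_uniq hq maxM hallE hallE₁ EpP.le ntP
      (EqX.mono (inf_le_inf_right _ sylS.le))).2 S sylS) maxL sylSL.le)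
  have ncSP : ¬ S ≤ 𝒞(P) := fun h => ntS (by rw [← regS]; exact (inf_eq_left.2 h).symm)
  have sSMsL : S ≤ sigmaCore M ⊓ L := le_inf sylS.le sylSL.le
  have t1Lp : p ∈ tau1 L := by
    by_contra t1'p
    have h := (Msigma_setI_mmax_central maxM hallE maxL (mem_primesOf_of_pGrp pP ntP sPE)
      (mem_primesOf_of_pGrp pP ntP (sPML.trans inf_le_right)) t1'p
      (ne_bot_mono (Subgroup.commutator_mono sSMsL sPML) fun h => ncSP (comm_eq_bot_iff.1 h))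
      notjL).1 P sPML pP
    exact ncSP (sSMsL.trans (le_cent_symm h))
  have sylSML : IsSylowOf q S (M ⊓ L) := sylSM.of_le (le_inf sylSM.le sylSL.le) inf_le_left
  exact tau1_mmaxI_asymmetry hq hq t1p t1Lp (EpP.of_le sPML) sylSML sylSML maxM maxL notjL nSP nSP
    regS regS sNL sNM

theorem cyclic_regular_of_not_cent {P Q : Subgroup G} {q : ℕ} (qQ : IsPGrp q Q) (cQ : IsCyclic Q)
    (nQP : P ≤ 𝒩(Q)) (co : (Nat.card Q).Coprime (Nat.card P)) (nc : ¬ P ≤ 𝒞(Q)) : Q ⊓ 𝒞(P) = ⊥ := by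
  by_contra ntC
  exact nc (coprime_abelian_pgroup_faithful_Ohm1 qQ nQP co (abelian_of_cyclic cQ)
    (le_cent_symm ((ohm1_le_of_cyclic qQ cQ inf_le_left ntC).trans inf_le_right)))

/-- B & G, Theorem 13.10. -/
theorem tau13_regular {M E E₁ E₂ E₃ P : Subgroup G} (maxM : IsCoatom M)
    (complE : SigmaCompl M E E₁ E₂ E₃) (sPE₁ : P ≤ E₁) (prP : (Nat.card P).Prime)
    (ncP : ¬ P ≤ 𝒞(E₃)) :
    Semiregular E₃ E₁ ∧ Semiregular (sigmaCore M) E₃ ∧ sigmaCore M ⊓ 𝒞(P) ≠ ⊥ := by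
  obtain ⟨hallE, hallE₁, hallE₂, hallE₃, -⟩ := id complE
  obtain ⟨⟨sE₃E', nsE₃⟩, -, ⟨-, cE₃⟩, -, -⟩ := sigma_compl_context maxM complE
  have t1p := mem_of_piGrp_of_card_prime hallE₁.piGrp sPE₁ prP
  have pP : IsPGrp (Nat.card P) P := pGrp_of_card_eq prP rfl
  have ntP := ne_bot_of_card_prime prP
  have sPE := sPE₁.trans hallE₁.le
  have sPM := sPE.trans hallE.le
  obtain ⟨q, Q, hq, sylQ, ncQ⟩ : ∃ q Q, q.Prime ∧ IsSylowOf q Q E₃ ∧ ¬ Q ≤ 𝒞(P) := by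
    by_contra h
    push Not at h
    exact ncP (le_cent_symm (le_of_forall_sylow h))
  have ntQ : Q ≠ ⊥ := by rintro rfl; exact ncQ bot_le
  have t3q : q ∈ tau3 M := sylQ.pGrp.mem_of_piGrp ntQ (hallE₃.piGrp.of_le sylQ.le)
  have neqp : q ≠ Nat.card P := fun e => tau3'1 t1p (e ▸ t3q)
  have nQE : E ≤ 𝒩(Q) := nsE₃.2.trans (norm_le_norm_of_cyclic cE₃ sylQ.le)
  have nQP := sPE.trans nQE
  have regQ : Q ⊓ 𝒞(P) = ⊥ := cyclic_regular_of_not_cent sylQ.pGrp (cyclic_of_le cE₃ sylQ.le) nQP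
    (sylQ.pGrp.coprime_of_ne pP neqp) fun h => ncQ (le_cent_symm h)
  have sylQM : IsSylowOf q Q M := (sylQ.trans_hall hallE₃ t3q).trans_hall hallE (tau3_sigma' t3q)
  obtain ⟨L, maxL, sNL⟩ := mmax_norm_exists ntQ (sub_mmax_proper maxM sylQM.le)
  have notj := mmax_norm_notJ maxM maxL sylQ.pGrp sylQM.le sNL (Or.inr (Or.inr t3q))
  have neLM := ne_of_not_conj notj
  have sQL : Q ≤ L := Subgroup.le_normalizer.trans sNL
  have sPL : P ≤ L := nQP.trans sNL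
  have sylQML : IsSylowOf q Q (M ⊓ L) := sylQM.of_le (le_inf sylQM.le sQL) inf_le_left
  obtain ⟨-, -, eab, a'q, ntC, regPQ⟩ := tau1_mmaxI_half hq t1p (p1Elem_of_prime sPM prP) sylQML maxM maxL
    neLM nQP regQ sNL
  have sMaMs := Malpha_sub_Msigma maxM
  refine ⟨?_, ?_, ne_bot_mono (inf_le_inf_right _ sMaMs) ntC⟩
  · by_contra nreg
    have prim := tau13_primact_Msigma maxM complE nreg
    apply ntC
    rw [eq_bot_iff, ← regPQ]
    have h1 : alphaCore M ⊓ 𝒞(P) ≤ sigmaCore M ⊓ 𝒞(E₃ ⊔ E₁) := by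
      rw [← cent_semiprime prim (sPE₁.trans le_sup_right) ntP]
      exact inf_le_inf_right _ sMaMs
    exact le_inf inf_le_left ((h1.trans inf_le_right).trans
      (cent_anti (sup_le (sPE₁.trans le_sup_right) (sylQ.le.trans le_sup_left))))
  · have prim3 := tau3_primact_Msigma maxM hallE hallE₃
    apply semiprime_regular prim3
    by_contra ntC3
    rw [← cent_semiprime prim3 sylQ.le ntQ] at ntC3
    obtain ⟨h1, h2, -⟩ := cent_norm_tau13_mmax maxM hallE (Or.inr t3q) sylQM.le sylQ.pGrp maxL sNL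
    have cDQ : sigmaCore M ⊓ L ≤ 𝒞(Q) := le_cent_symm (h1 Q sylQML.le sylQ.pGrp)
    have sCD : sigmaCore M ⊓ 𝒞(Q) ≤ sigmaCore M ⊓ L := inf_le_inf_left _ ((cent_le_norm Q).trans sNL)
    obtain ⟨u, hu, uD⟩ := exists_prime_dvd_card (ne_bot_mono sCD ntC3)
    have sMu : u ∈ sigma M := ((Msigma_pgroup M).inf_left _) u hu uD
    obtain ⟨U, sylU, nUP⟩ := sol_coprime_Sylow_exists hu (Or.inr pP.sol)
      (norm_inf (sPM.trans (Msigma_normal M).2) (norm_of_le sPL))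
      (((Msigma_pgroup M).inf_left L).coprime (hallE.piGrp.of_le sPE))
    have ntU : U ≠ ⊥ := sylU.ne_bot' hu uD
    have sUMs : U ≤ sigmaCore M := sylU.le.trans inf_le_left
    have sUL : U ≤ L := sylU.le.trans inf_le_right
    have sUM : U ≤ M := sUMs.trans (Msigma_normal M).1
    have sylUML : IsSylowOf u U (M ⊓ L) := by
      have h3 : IsPiHallOf (sigma M) (sigmaCore M ⊓ (M ⊓ L)) (M ⊓ L) :=
        (Msigma_Hall maxM).inf_of_normal (Msigma_normal M).2 inf_le_left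
      rw [← inf_assoc, inf_eq_left.2 (Msigma_normal M).1] at h3
      exact sylU.trans_hall h3 sMu
    have key : U ⊓ 𝒞(P) = ⊥ ∧ 𝒩(U) ≤ M := by
      by_cases bu : u ∈ beta M
      · refine ⟨?_, beta_norm_sub_mmax maxM sUM (sylU.pGrp.piGrp bu) ntU⟩
        rw [eq_bot_iff, ← regPQ]
        exact le_inf (inf_le_left.trans
          (alpha_le_Malpha maxM sUM (sylU.pGrp.piGrp (beta_sub_alpha M bu))))
          (le_cent_sup inf_le_right (inf_le_left.trans (sylU.le.trans cDQ)))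
      · obtain ⟨H, hallH, cHE'⟩ := der_compl_cent_beta' maxM hallE
        have sHD : H ≤ sigmaCore M ⊓ L :=
          (le_inf hallH.le (le_cent_symm ((sylQ.le.trans sE₃E').trans cHE'))).trans sCD
        have sylUMs : IsSylowOf u U (sigmaCore M) := by
          refine sylU.trans_index inf_le_left ?_
          refine (piNat_compl_singleton_iff hu).2 fun hd => bu ?_
          have := hallH.index u hu (hd.trans (Subgroup.relIndex_dvd_of_le_left _ sHD))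
          simpa using this
        refine ⟨?_, norm_sigma_Sylow sMu (sylUMs.trans_hall (Msigma_Hall maxM) sMu)⟩
        by_contra ntCU
        obtain ⟨X, EqX⟩ := p1Elem_exists hu (IsPGrp.dvd_card (sylU.pGrp.inf_left _) ntCU)
        exact neLM (eq_uniq_mmax ((cent_cent_Msigma_tau1_uniq hu maxM hallE hallE₁ sPE₁ ntP
          (EqX.mono (inf_le_inf_right _ sUMs))).2 U sylUMs) maxL sUL)
    have t1Lp : Nat.card P ∈ tau1 L := by
      by_contra t1'p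
      have h3 := h2 P (le_inf sPE sPL) (pP.piGrp t1'p)
      apply ntU
      rw [← key.1]
      exact (inf_eq_left.2 (sylU.le.trans (le_cent_symm h3))).symm
    exact tau1_mmaxI_asymmetry hq hu t1p t1Lp (p1Elem_of_prime (le_inf sPM sPL) prP) sylQML sylUML maxM
      maxL notj nQP nUP regQ key.1 sNL key.2

/-- B & G, Corollary 13.11. -/
theorem tau13_nonregular {M E E₁ E₂ E₃ : Subgroup G} (maxM : IsCoatom M)
    (complE : SigmaCompl M E E₁ E₂ E₃) (nreg : ¬ Semiregular (sigmaCore M) E₃) :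
    E₁ ≠ ⊥ ∧ SDProd E₃ E₁ E ∧ Semiprime (sigmaCore M) E ∧
    ∀ X : Subgroup G, X ≤ E → (Nat.card X).Prime → X ⊲ E := by
  obtain ⟨hallE, hallE₁, hallE₂, hallE₃, -⟩ := id complE
  obtain ⟨⟨-, nsE₃⟩, ntE₁, ⟨cE₁, cE₃⟩, ⟨-, defE, -, -⟩, -⟩ := sigma_compl_context maxM complE
  have E₂1 := tau2_compl_eq_bot maxM complE nreg
  replace ntE₁ := ntE₁ E₂1
  rw [E₂1, bot_sup_eq] at defE
  have cE₃P : ∀ P : Subgroup G, P ≤ E₁ → (Nat.card P).Prime → P ≤ 𝒞(E₃) := by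
    intro P sP prP
    by_contra nc
    exact nreg (tau13_regular maxM complE sP prP nc).2.1
  have ntE₃ : E₃ ≠ ⊥ := by
    rintro rfl
    exact nreg fun x hx ntx => absurd (Subgroup.mem_bot.1 hx) ntx
  refine ⟨ntE₁, defE, ?_, fun X sX prX => ?_⟩
  · rw [← defE.sup_eq]
    apply tau13_primact_Msigma maxM complE
    intro reg
    obtain ⟨p, hp, pE₁⟩ := exists_prime_dvd_card ntE₁
    obtain ⟨P, EpP⟩ := p1Elem_exists hp pE₁
    apply ntE₃
    rw [← cent_semiregular reg EpP.le (EpP.ne_bot hp one_pos)]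
    exact (inf_eq_left.2 (le_cent_symm (cE₃P P EpP.le (EpP.card_prime hp)))).symm
  · have sX' : IsPGrp (Nat.card X) X := pGrp_of_card_eq prX rfl
    have t13E : IsPiGrp (tau3 M ∪ tau1 M) E := by
      rw [← defE.sup_eq]
      exact IsPiGrp.sup (hallE₃.piGrp.mono Set.subset_union_left)
        (hallE₁.piGrp.mono Set.subset_union_right) (Or.inr defE.norm)
    refine ⟨sX, ?_⟩
    rcases mem_of_piGrp_of_card_prime t13E sX prX with t3 | t1
    · exact nsE₃.2.trans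
        (norm_le_norm_of_cyclic cE₃ (hallE₃.le_of_normal nsE₃.2 (sX'.piGrp t3) sX))
    · obtain ⟨g, hg, sXg⟩ := Hall_Jsub (sol_le_mmax maxM hallE.le) hallE₁ sX (sX'.piGrp t1)
      have h1 : E ≤ 𝒩(X :^ g) := by
        rw [← defE.sup_eq]
        exact sup_le (norm_of_cent' (cE₃P _ sXg (by rwa [card_conjg])))
          (norm_of_le_abelian (abelian_of_cyclic cE₁) sXg)
      rw [← conjg_of_mem hg] at h1
      exact conjg_le_norm_iff.1 h1

theorem exists_p2Elem_tau2 {M E : Subgroup G} {p : ℕ} (hallE : IsPiHallOf (sigma M)ᶜ E M)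
    (t2p : p ∈ tau2 M) : ∃ A : Subgroup G, IsPnElem p 2 A E :=
  (p_rank_geP (tau2_prime t2p)).1 ((tau2E hallE).1 t2p).2.ge

theorem mem_of_not_le_of_index {π : Set ℕ} {P K E : Subgroup G} {p : ℕ} (pP : IsPGrp p P) (sPE : P ≤ E)
    (nKE : E ≤ 𝒩(K)) (h : PiNat π (K.relIndex E)) (nle : ¬ P ≤ K) : p ∈ π := by
  by_contra hp
  exact nle (le_of_coprime_relIndex sPE nKE (PiNat.coprime' (pP.piGrp hp) h))

/-- B & G, Lemma 13.12. -/
theorem tau12_regular {M E P A : Subgroup G} {p q : ℕ} (maxM : IsCoatom M)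
    (hallE : IsPiHallOf (sigma M)ᶜ E M) (t1p : p ∈ tau1 M) (t2q : q ∈ tau2 M)
    (EpP : IsPnElem p 1 P E) (EqA : IsPnElem q 2 A E) (ntC : A ⊓ 𝒞(P) ≠ ⊥) :
    sigmaCore M ⊓ 𝒞(P) = ⊥ := by
  by_contra nreg
  have hp := tau1_prime t1p
  have hq := tau2_prime t2q
  have pP := EpP.pGrp hp
  have ntP := EpP.ne_bot hp one_pos
  have qA := EqA.pGrp hq
  have sPM := EpP.le.trans hallE.le
  obtain ⟨⟨nsA, -⟩, ⟨-, -, nsNM⟩, uniqC, -⟩ := tau2_compl_context maxM hallE t2q EqA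
  obtain ⟨Y, EqY⟩ := p1Elem_exists hq (IsPGrp.dvd_card (qA.inf_left _) ntC)
  have sYA : Y ≤ A := EqY.le.trans inf_le_left
  have cYP : Y ≤ 𝒞(P) := EqY.le.trans inf_le_right
  have h1 := cent_tau1Elem_Msigma maxM hallE t1p EpP (le_inf (sYA.trans EqA.le) cYP) (EqY.card_prime hq)
  have uY := uniqC Y (EqY.of_le (sYA.trans EqA.le)) (ne_bot_mono h1 nreg)
  obtain ⟨L, maxL, sNL⟩ := mmax_norm_exists (EqA.ne_bot hq two_pos)
    (sub_mmax_proper maxM (EqA.le.trans hallE.le))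
  have neLM : L ≠ M := fun e => nsNM (e ▸ sNL)
  obtain ⟨h2, h3, -⟩ := primes_norm_tau2Elem maxM hallE t2q EqA maxL sNL
  have sLq := (h2 q t2q).1
  have sAL : A ≤ L := Subgroup.le_normalizer.trans sNL
  have sPL : P ≤ L := (EpP.le.trans nsA.2).trans sNL
  have sYLs : Y ≤ sigmaCore L ⊓ 𝒞(P) :=
    le_inf (sigma_le_Msigma maxL (sYA.trans sAL) ((EqY.pGrp hq).piGrp sLq)) cYP
  have ncP : ¬ P ≤ 𝒞(A) := by
    intro cP
    obtain ⟨⟨E₁, hallE₁⟩, E₃, hallE₃⟩ := ex_tau13_compl maxM hallE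
    obtain ⟨E₂, complE⟩ := ex_tau2_compl maxM hallE hallE₁ hallE₃
    exact nreg (cent_semiregular ((tau2_regular maxM complE t2q EqA).2.2 P sPM
      (pP.piGrp (Or.inl t1p)) cP) le_rfl ntP)
  rcases mem_of_not_le_of_index pP EpP.le (norm_cent nsA.2) h3 ncP with t1Lp | t2Lp
  · obtain ⟨F, F₁, hallF, hallF₁, sPF₁⟩ := ex_tau1_compl maxL sPL (pP.piGrp t1Lp)
    have := (cent_cent_Msigma_tau1_uniq hq maxL hallF hallF₁ sPF₁ ntP (EqY.of_le sYLs)).1
    exact neLM (eq_uniq_mmax uY maxL this.2.1)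
  · obtain ⟨F, hallF, sPF⟩ := ex_sigma_compl maxL sPL (pP.piGrp (tau2_sigma' t2Lp))
    obtain ⟨B, EpB⟩ := exists_p2Elem_tau2 hallF t2Lp
    have uP := (tau2_compl_context maxL hallF t2Lp EpB).2.2.1 P (EpP.of_le sPF)
      (ne_bot_mono sYLs (EqY.ne_bot hq one_pos))
    apply nreg
    rw [eq_bot_iff, ← (tau2_context maxM t2q (EqA.mono hallE.le)).2.2.2.1 L maxL sAL neLM]
    exact inf_le_inf_left _ uP.2.1

/-- B & G, Lemma 13.13. -/
theorem tau13_nonregular_sigma {M E P : Subgroup G} {p : ℕ} (maxM : IsCoatom M)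
    (hallE : IsPiHallOf (sigma M)ᶜ E M) (EpP : IsPnElem p 1 P E) (t13p : p ∈ tau1 M ∨ p ∈ tau3 M)
    (ntC : sigmaCore M ⊓ 𝒞(P) ≠ ⊥) {Mstar : Subgroup G} (maxMs : IsCoatom Mstar)
    (sNMs : 𝒩(P) ≤ Mstar) : p ∈ sigma Mstar := by
  have hp : p.Prime := t13p.elim tau1_prime tau3_prime
  have pP := EpP.pGrp hp
  have ntP := EpP.ne_bot hp one_pos
  have sPM := EpP.le.trans hallE.le
  refine (prime_class_mmax_norm hp maxMs pP sNMs).resolve_right fun t2Lp => ?_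
  have notj := mmax_norm_notJ maxM maxMs pP sPM sNMs (Or.inr t13p)
  obtain ⟨q, hq, qC⟩ := exists_prime_dvd_card ntC
  obtain ⟨Q, EqQ⟩ := p1Elem_exists hq qC
  have sMq : q ∈ sigma M := ((Msigma_pgroup M).inf_left _) q hq qC
  have cQP : Q ≤ 𝒞(P) := EqQ.le.trans inf_le_right
  have sCL : 𝒞(P) ≤ Mstar := (cent_le_norm P).trans sNMs
  have s'q : q ∉ sigma Mstar := Set.disjoint_left.1 (sigma_partition maxM maxMs notj) sMq
  obtain ⟨F, hallF, sPQF⟩ := ex_sigma_compl maxMs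
    (sup_le (Subgroup.le_normalizer.trans sNMs) (cQP.trans sCL))
    ((pP.piGrp (tau2_sigma' t2Lp)).sup ((EqQ.pGrp hq).piGrp s'q) (Or.inr (norm_of_cent cQP)))
  have sPF : P ≤ F := le_sup_left.trans sPQF
  have sQF : Q ≤ F := le_sup_right.trans sPQF
  obtain ⟨A, EpA⟩ := exists_p2Elem_tau2 hallF t2Lp
  obtain ⟨⟨nsA, hA⟩, -⟩ := tau2_compl_context maxMs hallF t2Lp EpA
  have sPA := hA P (EpP.of_le sPF)
  have uQ : UniqMax 𝒞(Q) M := by
    rcases t13p with t1p | t3p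
    · obtain ⟨E₁, hallE₁, sPE₁⟩ := Hall_superset (sol_le_mmax maxM hallE.le) EpP.le (pP.piGrp t1p)
      exact (cent_cent_Msigma_tau1_uniq hq maxM hallE hallE₁ sPE₁ ntP EqQ).1
    · obtain ⟨⟨E₁, hallE₁⟩, E₃, hallE₃⟩ := ex_tau13_compl maxM hallE
      obtain ⟨E₂, complE⟩ := ex_tau2_compl maxM hallE hallE₁ hallE₃
      have sPE₃ : P ≤ E₃ :=
        hallE₃.le_of_normal (tau3_cyclic_normal maxM hallE hallE₃).2.2.2 (pP.piGrp t3p) EpP.le
      obtain ⟨ntE₁, -, prim, -⟩ := tau13_nonregular maxM complE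
        fun reg => ntC (cent_semiregular reg sPE₃ ntP)
      refine (cent_cent_Msigma_tau1_uniq hq maxM hallE hallE₁ le_rfl ntE₁ ?_).1
      rwa [cent_semiprime prim hallE₁.le ntE₁, ← cent_semiprime prim EpP.le ntP]
  have ncQ : ¬ Q ≤ 𝒞(A) := by
    intro cQ
    have h1 := (EpA.of_le ((le_cent_symm cQ).trans uQ.2.1)).le_pRank hp
    have h2 : pRank p M = 1 := t13p.elim (fun h => (mem_tau1_iff.1 h).2.2.1)
      fun h => (mem_tau3_iff.1 h).2.2.1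
    omega
  have t1q : q ∈ tau1 Mstar := mem_of_not_le_of_index (EqQ.pGrp hq) sQF (norm_cent nsA.2)
    (tau1_cent_tau2Elem_factor maxMs hallF t2Lp EpA).2.2 ncQ
  have sPC : P ≤ A ⊓ 𝒞(Q) := le_inf sPA (le_cent_symm cQP)
  have regQ := tau12_regular maxMs hallF t1q t2Lp (EqQ.of_le sQF) EpA (ne_bot_mono sPC ntP)
  obtain ⟨-, -, h1, h2⟩ := tau1_act_tau2 maxMs hallF t2Lp EpA t1q (EqQ.of_le sQF) regQ
    fun h => ncQ (comm_eq_bot_iff'.1 h)
  rw [← EpP.eq_of_le h1 sPC] at h2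
  exact h2 sCL

end CA.BG.P13
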