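/-
Interface: B & G section 13 (prime action).
-/
import Cfsg.Agent.BG.I12
import Cfsg.Agent.BG.P13c

set_option autoImplicit false
set_option linter.unusedSectionVars false

namespace CA.BG

open Cfsg CA.FG

universe u

variable {G : Type u} [Group G] [MinSimpleOdd G]

/-- B & G, Lemma 13.1. -/
theorem Msigma_setI_mmax_central {M E H : Subgroup G} {p : ℕ} (maxM : IsCoatom M)
    (hallE : IsPiHallOf (sigma M)ᶜ E M) (maxH : IsCoatom H) (piEp : p ∈ primesOf E)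
    (piHp : p ∈ primesOf H) (t1'p : p ∉ tau1 H) (ntR : ⁅sigmaCore M ⊓ H, M ⊓ H⁆ ≠ ⊥)
    (notjMH : ∀ g, H ≠ M :^ g) :
    (∀ P : Subgroup G, P ≤ M ⊓ H → IsPGrp p P → P ≤ 𝒞(sigmaCore M ⊓ H)) ∧
    p ∉ tau2 H ∧ (p ∈ tau1 M → IsIdealPrime p G) :=
  P13.Msigma_setI_mmax_central maxM hallE maxH piEp piHp t1'p ntR notjMH

/-- B & G, Corollary 13.2. -/
theorem cent_norm_tau13_mmax {M E P H : Subgroup G} {p : ℕ} (maxM : IsCoatom M)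
    (hallE : IsPiHallOf (sigma M)ᶜ E M) (t13p : p ∈ tau1 M ∨ p ∈ tau3 M) (sPM : P ≤ M)
    (pP : IsPGrp p P) (maxH : IsCoatom H) (sNH : 𝒩(P) ≤ H) :
    (∀ P₁ : Subgroup G, P₁ ≤ M ⊓ H → IsPGrp p P₁ → P₁ ≤ 𝒞(sigmaCore M ⊓ H)) ∧
    (∀ X : Subgroup G, X ≤ E ⊓ H → IsPiGrp (tau1 H)ᶜ X → X ≤ 𝒞(sigmaCore M ⊓ H)) ∧
    (⁅sigmaCore M ⊓ H, M ⊓ H⁆ ≠ ⊥ → p ∈ sigma H ∧ (p ∈ tau1 M → p ∈ beta H)) :=
  P13.cent_norm_tau13_mmax maxM hallE t13p sPM pP maxH sNH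

/-- B & G, Corollary 13.3(a). -/
theorem cyclic_primact_Msigma {M E P : Subgroup G} {p : ℕ} (hp : p.Prime) (maxM : IsCoatom M)
    (hallE : IsPiHallOf (sigma M)ᶜ E M) (sylP : IsSylowOf p P E) (cycP : IsCyclic P) :
    Semiprime (sigmaCore M) P :=
  P13.cyclic_primact_Msigma hp maxM hallE sylP cycP

/-- B & G, Corollary 13.3(b). -/
theorem tau3_primact_Msigma {M E E₃ : Subgroup G} (maxM : IsCoatom M)
    (hallE : IsPiHallOf (sigma M)ᶜ E M) (hallE₃ : IsPiHallOf (tau3 M) E₃ E) :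
    Semiprime (sigmaCore M) E₃ :=
  P13.tau3_primact_Msigma maxM hallE hallE₃

/-- B & G, Theorem 13.4. -/
theorem cent_tau1Elem_Msigma {M E P R : Subgroup G} {p : ℕ} (maxM : IsCoatom M)
    (hallE : IsPiHallOf (sigma M)ᶜ E M) (t1p : p ∈ tau1 M) (EpP : IsPnElem p 1 P E)
    (sRC : R ≤ E ⊓ 𝒞(P)) (prR : (Nat.card R).Prime) :
    sigmaCore M ⊓ 𝒞(P) ≤ sigmaCore M ⊓ 𝒞(R) :=
  P13.cent_tau1Elem_Msigma maxM hallE t1p EpP sRC prR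

/-- B & G, Theorem 13.5. -/
theorem tau1_primact_Msigma {M E E₁ : Subgroup G} (maxM : IsCoatom M)
    (hallE : IsPiHallOf (sigma M)ᶜ E M) (hallE₁ : IsPiHallOf (tau1 M) E₁ E) :
    Semiprime (sigmaCore M) E₁ :=
  P13.tau1_primact_Msigma maxM hallE hallE₁

/-- B & G, Lemma 13.6. -/
theorem cent_cent_Msigma_tau1_uniq {M E E₁ P X : Subgroup G} {q : ℕ} (hq : q.Prime) (maxM : IsCoatom M)
    (hallE : IsPiHallOf (sigma M)ᶜ E M) (hallE₁ : IsPiHallOf (tau1 M) E₁ E) (sPE₁ : P ≤ E₁)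
    (ntP : P ≠ ⊥) (EqX : IsPnElem q 1 X (sigmaCore M ⊓ 𝒞(P))) :
    UniqMax 𝒞(X) M ∧ ∀ S : Subgroup G, IsSylowOf q S (sigmaCore M) → UniqMax S M :=
  P13.cent_cent_Msigma_tau1_uniq hq maxM hallE hallE₁ sPE₁ ntP EqX

/-- B & G, Lemma 13.7. -/
theorem tau13_primact_Msigma {M E E₁ E₂ E₃ : Subgroup G} (maxM : IsCoatom M)
    (complE : SigmaCompl M E E₁ E₂ E₃) (nreg : ¬ Semiregular E₃ E₁) :
    Semiprime (sigmaCore M) (E₃ ⊔ E₁) :=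
  P13.tau13_primact_Msigma maxM complE nreg

/-- B & G, Lemma 13.8. -/
theorem tau1_mmaxI_asymmetry {M Mstar P Q Qstar : Subgroup G} {p q qstar : ℕ} (hq : q.Prime)
    (hqs : qstar.Prime) (t1Mp : p ∈ tau1 M) (t1Msp : p ∈ tau1 Mstar)
    (EpP : IsPnElem p 1 P (M ⊓ Mstar)) (sylQ : IsSylowOf q Q (M ⊓ Mstar))
    (sylQs : IsSylowOf qstar Qstar (M ⊓ Mstar)) (maxM : IsCoatom M) (maxMs : IsCoatom Mstar)
    (notj : ∀ g, Mstar ≠ M :^ g) (nQP : P ≤ 𝒩(Q)) (nQsP : P ≤ 𝒩(Qstar))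
    (regQ : Q ⊓ 𝒞(P) = ⊥) (regQs : Qstar ⊓ 𝒞(P) = ⊥)
    (sNQ : 𝒩(Q) ≤ Mstar) (sNQs : 𝒩(Qstar) ≤ M) : False :=
  P13.tau1_mmaxI_asymmetry hq hqs t1Mp t1Msp EpP sylQ sylQs maxM maxMs notj nQP nQsP regQ regQs sNQ sNQs

/-- B & G, Theorem 13.9. -/
theorem sigma_partition {M Mstar : Subgroup G} (maxM : IsCoatom M) (maxMs : IsCoatom Mstar)
    (notj : ∀ g, Mstar ≠ M :^ g) : Disjoint (sigma M) (sigma Mstar) :=
  P13.sigma_partition maxM maxMs notj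

/-- B & G, Theorem 13.10. -/
theorem tau13_regular {M E E₁ E₂ E₃ P : Subgroup G} (maxM : IsCoatom M)
    (complE : SigmaCompl M E E₁ E₂ E₃) (sPE₁ : P ≤ E₁) (prP : (Nat.card P).Prime)
    (ncP : ¬ P ≤ 𝒞(E₃)) :
    Semiregular E₃ E₁ ∧ Semiregular (sigmaCore M) E₃ ∧ sigmaCore M ⊓ 𝒞(P) ≠ ⊥ :=
  P13.tau13_regular maxM complE sPE₁ prP ncP

/-- B & G, Corollary 13.11. -/
theorem tau13_nonregular {M E E₁ E₂ E₃ : Subgroup G} (maxM : IsCoatom M)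
    (complE : SigmaCompl M E E₁ E₂ E₃) (nreg : ¬ Semiregular (sigmaCore M) E₃) :
    E₁ ≠ ⊥ ∧ SDProd E₃ E₁ E ∧ Semiprime (sigmaCore M) E ∧
    ∀ X : Subgroup G, X ≤ E → (Nat.card X).Prime → X ⊲ E :=
  P13.tau13_nonregular maxM complE nreg

/-- B & G, Lemma 13.12. -/
theorem tau12_regular {M E P A : Subgroup G} {p q : ℕ} (maxM : IsCoatom M)
    (hallE : IsPiHallOf (sigma M)ᶜ E M) (t1p : p ∈ tau1 M) (t2q : q ∈ tau2 M)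
    (EpP : IsPnElem p 1 P E) (EqA : IsPnElem q 2 A E) (ntC : A ⊓ 𝒞(P) ≠ ⊥) :
    sigmaCore M ⊓ 𝒞(P) = ⊥ :=
  P13.tau12_regular maxM hallE t1p t2q EpP EqA ntC

/-- B & G, Lemma 13.13. -/
theorem tau13_nonregular_sigma {M E P : Subgroup G} {p : ℕ} (maxM : IsCoatom M)
    (hallE : IsPiHallOf (sigma M)ᶜ E M) (EpP : IsPnElem p 1 P E) (t13p : p ∈ tau1 M ∨ p ∈ tau3 M)
    (ntC : sigmaCore M ⊓ 𝒞(P) ≠ ⊥) {Mstar : Subgroup G} (maxMs : IsCoatom Mstar)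
    (sNMs : 𝒩(P) ≤ Mstar) : p ∈ sigma Mstar :=
  P13.tau13_nonregular_sigma maxM hallE EpP t13p ntC maxMs sNMs

end CA.BG
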