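/-
B & G section 14, part a: `κ(M)`, Lemma 14.1, Proposition 14.2, Corollary 14.3.
-/
import Cfsg.Agent.BG.I13

set_option autoImplicit false
set_option linter.unusedSectionVars false

namespace CA.BG.P14

open Cfsg CA.FG CA.BG
open CA.BG.P13 (not_conj_symm not_conj_conj_left not_conj_conj_right ne_of_not_conj
  semiprime_of_prime_subgroups semiregular_of_prime_subgroups exists_prime_of_not_semiregular
  mem_primesOf_of_pGrp mem_of_piGrp_of_card_prime p1Elem_of_prime mmax_norm_exists ne_bot_of_norm_le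
  sigma_le_Msigma sol_le_mmax ex_tau1_compl tau2_compl_eq_bot exists_p2Elem_tau2 comm_eq_of_regular
  tau13_mem_primesOf)

universe u

variable {G : Type u} [Group G] [MinSimpleOdd G]

theorem tau13_prime {M : Subgroup G} {p : ℕ} (h : p ∈ tau1 M ∨ p ∈ tau3 M) : p.Prime :=
  h.elim tau1_prime tau3_prime

theorem tau13_sigma' {M : Subgroup G} {p : ℕ} (h : p ∈ tau1 M ∨ p ∈ tau3 M) : p ∉ sigma M :=
  h.elim tau1_sigma' tau3_sigma'

theorem tau13_rank {M : Subgroup G} {p : ℕ} (h : p ∈ tau1 M ∨ p ∈ tau3 M) : pRank p M = 1 :=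
  h.elim (fun h => (mem_tau1_iff.1 h).2.2.1) fun h => (mem_tau3_iff.1 h).2.2.1

theorem tau13_tau2' {M : Subgroup G} {p : ℕ} (h : p ∈ tau1 M ∨ p ∈ tau3 M) : p ∉ tau2 M :=
  fun h2 => h.elim (fun h => tau2'1 h h2) (tau3'2 h2)

theorem tau13_of_rank {M : Subgroup G} {p : ℕ} (hp : p.Prime) (s'p : p ∉ sigma M) (r : pRank p M = 1) :
    p ∈ tau1 M ∨ p ∈ tau3 M := by
  by_cases h : p ∣ Nat.card ↥⁅M, M⁆
  · exact Or.inr (mem_tau3_iff.2 ⟨hp, s'p, r, h⟩)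
  · exact Or.inl (mem_tau1_iff.2 ⟨hp, s'p, r, h⟩)

theorem Msigma_cent_conjg {M X : Subgroup G} {g : G} (hg : g ∈ M) :
    (sigmaCore M ⊓ 𝒞(X)) :^ g = sigmaCore M ⊓ 𝒞(X :^ g) := by
  rw [conjg_inf, conjg_cent, conjg_of_mem_norm ((Msigma_normal M).2 hg)]

theorem Msigma_cent_conjg' (M X : Subgroup G) (g : G) :
    (sigmaCore M ⊓ 𝒞(X)) :^ g = sigmaCore (M :^ g) ⊓ 𝒞(X :^ g) := by
  rw [conjg_inf, conjg_cent, MsigmaJ]

/-- Subgroups of order `p` are conjugate in `M` when the Sylow `p`-subgroups of `M` are cyclic. -/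
theorem p1Elem_conj_of_cyclic {M S P Q : Subgroup G} {p : ℕ} (hp : p.Prime) (sylS : IsSylowOf p S M)
    (cS : IsCyclic S) (EpP : IsPnElem p 1 P M) (EpQ : IsPnElem p 1 Q M) : ∃ m ∈ M, Q = P :^ m := by
  obtain ⟨a, ha, sP⟩ := sylow_Jsub hp sylS (EpP.pGrp hp) EpP.le
  obtain ⟨b, hb, sQ⟩ := sylow_Jsub hp sylS (EpQ.pGrp hp) EpQ.le
  have e := eq_of_cyclic_of_card_eq cS sP sQ (by rw [card_conjg, card_conjg, EpP.card_one, EpQ.card_one])
  exact ⟨b⁻¹ * a, M.mul_mem (M.inv_mem hb) ha, by rw [conjg_mul, e, conjg_inv_cancel]⟩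

theorem p1Elem_conj_tau13 {M P Q : Subgroup G} {p : ℕ} (h : p ∈ tau1 M ∨ p ∈ tau3 M)
    (EpP : IsPnElem p 1 P M) (EpQ : IsPnElem p 1 Q M) : ∃ m ∈ M, Q = P :^ m := by
  obtain ⟨S, sylS⟩ := sylow_exists (tau13_prime h) M
  exact p1Elem_conj_of_cyclic (tau13_prime h) sylS (tau13_pgroup_cyclic h sylS.le sylS.pGrp) EpP EpQ

theorem mem_kappa_iff {M : Subgroup G} {p : ℕ} :
    p ∈ kappa M ↔ (p ∈ tau1 M ∨ p ∈ tau3 M) ∧
      ∃ P : Subgroup G, IsPnElem p 1 P M ∧ sigmaCore M ⊓ 𝒞(P) ≠ ⊥ := by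
  constructor
  · rintro ⟨hp, hd, s'p, h⟩
    have := Fact.mk hp
    obtain ⟨S⟩ : Nonempty (Sylow p M) := inferInstance
    obtain ⟨cS, x, hx, ntx, y, hy, nty, cxy⟩ := h S
    have sylS := sylow_map_subtype hp S
    have cS' : IsCyclic ((S : Subgroup M).map M.subtype) := cyclic_map _ cS
    have r1 : pRank p M = 1 := by
      have h1 := pRank_le_one_of_cyclic hp cS'
      rw [p_rank_Sylow hp sylS] at h1
      have h2 := (pRank_pos_iff hp).2 hd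
      omega
    refine ⟨tau13_of_rank hp s'p r1, ?_⟩
    have hxS : (x : G) ∈ (S : Subgroup M).map M.subtype := ⟨x, hx, rfl⟩
    have ntx' : (x : G) ≠ 1 := fun e => ntx (Subtype.ext e)
    have ntX : Subgroup.zpowers (x : G) ≠ ⊥ := fun e => ntx' (Subgroup.zpowers_eq_bot.1 e)
    obtain ⟨P, EpP⟩ := p1Elem_exists hp
      (IsPGrp.dvd_card (sylS.pGrp.of_le (Subgroup.zpowers_le.2 hxS)) ntX)
    refine ⟨P, EpP.mono (Subgroup.zpowers_le.2 x.2), ne_bot_of_mem (Subgroup.mem_inf.2 ⟨hy, ?_⟩) nty⟩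
    apply cent_anti EpP.le
    rw [cent_zpowers]
    exact Subgroup.mem_centralizer_singleton_iff.2 cxy.symm
  · rintro ⟨t13p, P, EpP, ntC⟩
    have hp := tau13_prime t13p
    refine ⟨hp, EpP.prime_dvd_card one_pos, tau13_sigma' t13p, fun S => ?_⟩
    have sylS := sylow_map_subtype hp S
    refine ⟨(cyclic_map_iff_of_inj M.subtype_injective).1
      (tau13_pgroup_cyclic t13p sylS.le sylS.pGrp), ?_⟩
    obtain ⟨m, hm, sP⟩ := sylow_Jsub hp sylS (EpP.pGrp hp) EpP.le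
    obtain ⟨x, hx, ntx⟩ := exists_mem_ne_one (H := P :^ m)
      (fun e => EpP.ne_bot hp one_pos (conjg_eq_bot.1 e))
    obtain ⟨y, hy, nty⟩ := exists_mem_ne_one (H := sigmaCore M ⊓ 𝒞(P :^ m))
      (by rw [← Msigma_cent_conjg hm]; exact fun e => ntC (conjg_eq_bot.1 e))
    obtain ⟨x₀, hx₀, rfl⟩ := sP hx
    refine ⟨x₀, hx₀, fun e => ntx (by rw [e]; rfl), y, (Subgroup.mem_inf.1 hy).1, nty, ?_⟩
    exact (Subgroup.mem_inf.1 hy).2 _ hx

theorem kappa_tau13 {M : Subgroup G} {p : ℕ} (h : p ∈ kappa M) : p ∈ tau1 M ∨ p ∈ tau3 M :=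
  (mem_kappa_iff.1 h).1

theorem kappa_tau2' {M : Subgroup G} {p : ℕ} (h : p ∈ kappa M) : p ∉ tau2 M :=
  tau13_tau2' (kappa_tau13 h)

theorem kappa_sigma'' {M : Subgroup G} {p : ℕ} (h : p ∈ kappa M) : p ∉ sigma M := h.2.2.1

theorem kappa_nonregular {M P : Subgroup G} {p : ℕ} (kp : p ∈ kappa M) (EpP : IsPnElem p 1 P M) :
    sigmaCore M ⊓ 𝒞(P) ≠ ⊥ := by
  obtain ⟨t13p, Q, EpQ, ntC⟩ := mem_kappa_iff.1 kp
  obtain ⟨m, hm, rfl⟩ := p1Elem_conj_tau13 t13p EpQ EpP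
  rw [← Msigma_cent_conjg hm]
  exact fun e => ntC (conjg_eq_bot.1 e)

theorem kappaJ_sub (M : Subgroup G) (g : G) : kappa M ⊆ kappa (M :^ g) := by
  intro p kp
  obtain ⟨t13p, Q, EpQ, ntC⟩ := mem_kappa_iff.1 kp
  refine mem_kappa_iff.2 ⟨by rwa [tau1J, tau3J], Q :^ g, EpQ.conjg g, ?_⟩
  rw [← Msigma_cent_conjg']
  exact fun e => ntC (conjg_eq_bot.1 e)

theorem kappaJ (M : Subgroup G) (g : G) : kappa (M :^ g) = kappa M := by
  apply Set.Subset.antisymm _ (kappaJ_sub M g)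
  have := kappaJ_sub (M :^ g) g⁻¹
  rwa [conjg_inv_cancel] at this

theorem FtypeJ {M : Subgroup G} {g : G} : TypeF (M :^ g) ↔ TypeF M := by
  show IsCoatom (M :^ g) ∧ IsPiGrp (kappa (M :^ g))ᶜ (M :^ g) ↔ IsCoatom M ∧ IsPiGrp (kappa M)ᶜ M
  rw [isCoatom_conjg, kappaJ, piGrp_conjg]

theorem PtypeJ {M : Subgroup G} {g : G} : TypeP (M :^ g) ↔ TypeP M := by
  show IsCoatom (M :^ g) ∧ ¬ IsPiGrp (kappa (M :^ g))ᶜ (M :^ g) ↔ IsCoatom M ∧ ¬ IsPiGrp (kappa M)ᶜ M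
  rw [isCoatom_conjg, kappaJ, piGrp_conjg]

theorem P1typeJ {M : Subgroup G} {g : G} : TypeP1 (M :^ g) ↔ TypeP1 M := by
  show TypeP (M :^ g) ∧ IsPiGrp (sigma (M :^ g) ∪ kappa (M :^ g)) (M :^ g) ↔
    TypeP M ∧ IsPiGrp (sigma M ∪ kappa M) M
  rw [PtypeJ, kappaJ, sigmaJ, piGrp_conjg]

theorem P2typeJ {M : Subgroup G} {g : G} : TypeP2 (M :^ g) ↔ TypeP2 M := by
  show TypeP (M :^ g) ∧ ¬ IsPiGrp (sigma (M :^ g) ∪ kappa (M :^ g)) (M :^ g) ↔
    TypeP M ∧ ¬ IsPiGrp (sigma M ∪ kappa M) M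
  rw [PtypeJ, kappaJ, sigmaJ, piGrp_conjg]

theorem kappa'_iff {M : Subgroup G} : IsPiGrp (kappa M)ᶜ M ↔ kappa M = ∅ := by
  constructor
  · intro h
    exact Set.eq_empty_of_forall_notMem fun p kp => h p kp.1 kp.2.1 kp
  · intro h p _ _
    rw [h]; exact Set.notMem_empty p

theorem typeP_iff_kappa {M : Subgroup G} : TypeP M ↔ IsCoatom M ∧ (kappa M).Nonempty := by
  show IsCoatom M ∧ ¬ IsPiGrp (kappa M)ᶜ M ↔ _
  rw [kappa'_iff, Set.nonempty_iff_ne_empty]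

theorem typeF_iff_kappa {M : Subgroup G} : TypeF M ↔ IsCoatom M ∧ kappa M = ∅ := by
  show IsCoatom M ∧ IsPiGrp (kappa M)ᶜ M ↔ _
  rw [kappa'_iff]

theorem typeP_of_kappa {M : Subgroup G} {p : ℕ} (maxM : IsCoatom M) (kp : p ∈ kappa M) : TypeP M :=
  typeP_iff_kappa.2 ⟨maxM, p, kp⟩

theorem typeF_kappa' {M : Subgroup G} {p : ℕ} (FM : TypeF M) : p ∉ kappa M := by
  rw [(typeF_iff_kappa.1 FM).2]; exact Set.notMem_empty p

theorem ex_kappa_hall {M : Subgroup G} (maxM : IsCoatom M) : ∃ K, IsPiHallOf (kappa M) K M :=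
  Hall_exists _ (mmax_sol maxM)

theorem trivg_kappa {M K : Subgroup G} (maxM : IsCoatom M) (hallK : IsPiHallOf (kappa M) K M) :
    K = ⊥ ↔ TypeF M := by
  rw [hallK.eq_bot_iff]
  exact ⟨fun h => ⟨maxM, h⟩, fun h => h.2⟩

theorem trivgPmax {M K : Subgroup G} (maxM : IsCoatom M) (hallK : IsPiHallOf (kappa M) K M) :
    K ≠ ⊥ ↔ TypeP M := by
  rw [Ne, hallK.eq_bot_iff]
  exact ⟨fun h => ⟨maxM, h⟩, fun h => h.2⟩

theorem P1type_of_sigma_kappa {M : Subgroup G} (maxM : IsCoatom M)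
    (h : IsPiGrp (sigma M ∪ kappa M) M) : TypeP1 M := by
  refine ⟨?_, h⟩
  obtain ⟨E, hallE, -⟩ := ex_sigma_compl maxM bot_le (piGrp_bot _)
  obtain ⟨p, hp, hd⟩ := exists_prime_dvd_card (sigma_compl_neq1 maxM hallE)
  exact typeP_of_kappa maxM ((h p hp (hd.trans (Subgroup.card_dvd_of_le hallE.le))).resolve_left
    (hallE.piGrp p hp hd))

theorem trivg_kappa_compl {M U K : Subgroup G} (maxM : IsCoatom M) (complU : KappaCompl M U K) :
    U = ⊥ ↔ TypeP1 M := by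
  rw [complU.hallU.eq_bot_iff, compl_compl]
  exact ⟨P1type_of_sigma_kappa maxM, fun h => h.2⟩

theorem notP1type {M : Subgroup G} (maxM : IsCoatom M) : ¬ TypeP1 M ↔ TypeF M ∨ TypeP2 M := by
  constructor
  · intro h
    by_cases hF : IsPiGrp (kappa M)ᶜ M
    · exact Or.inl ⟨maxM, hF⟩
    · exact Or.inr ⟨⟨maxM, hF⟩, fun h' => h ⟨⟨maxM, hF⟩, h'⟩⟩
  · rintro (h | h) h'
    · exact h'.1.2 h.2
    · exact h.2 h'.2

theorem sigma_mmax_exists {p : ℕ} (hp : p.Prime) (piGp : p ∣ Nat.card G) :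
    ∃ M : Subgroup G, IsCoatom M ∧ p ∈ sigma M := by
  obtain ⟨P, sylP⟩ := sylow_exists hp (⊤ : Subgroup G)
  have ntP : P ≠ ⊥ := sylP.ne_bot' hp (by rwa [Subgroup.card_top])
  obtain ⟨M, maxM, sNM⟩ := mmax_norm_exists ntP (mFT_nil_proper sylP.pGrp.nil)
  have sPM : P ≤ M := Subgroup.le_normalizer.trans sNM
  exact ⟨M, maxM, mem_sigma_iff.2 ⟨hp, (mem_primesOf_of_pGrp sylP.pGrp ntP sPM).2, P,
    sylP.of_le sPM le_top, sNM⟩⟩

theorem exists_conj_mem_Msigma {M : Subgroup G} {x : G} (maxM : IsCoatom M) (sx : IsPiElt (sigma M) x) :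
    ∃ g, x ∈ sigmaCore (M :^ g) := by
  by_cases ntx : x = 1
  · exact ⟨1, by rw [ntx]; exact Subgroup.one_mem _⟩
  obtain ⟨g, hg⟩ := (sigma_Jsub maxM (piGrp_zpowers_iff.2 sx)
    (fun e => ntx (Subgroup.zpowers_eq_bot.1 e))).1
  refine ⟨g⁻¹, ?_⟩
  rw [MsigmaJ]
  exact conjg_le_iff.1 hg (Subgroup.mem_zpowers x)

theorem ell1_of_sigma_elt {M : Subgroup G} {x : G} (maxM : IsCoatom M) (sx : IsPiElt (sigma M) x)
    (ntx : x ≠ 1) : Ell1 x := by
  obtain ⟨g, hg⟩ := exists_conj_mem_Msigma maxM sx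
  exact ⟨ntx, M :^ g, isCoatom_conjg.2 maxM, hg⟩

theorem sigmaMmaxJ {x g : G} {M : Subgroup G} :
    M :^ g ∈ sigmaMmax (g * x * g⁻¹) ↔ M ∈ sigmaMmax x := by
  show IsCoatom (M :^ g) ∧ g * x * g⁻¹ ∈ sigmaCore (M :^ g) ↔ IsCoatom M ∧ x ∈ sigmaCore M
  rw [isCoatom_conjg, MsigmaJ, conj_mem_conjg_iff]

theorem ell1J_of {x : G} (g : G) (h : Ell1 x) : Ell1 (g * x * g⁻¹) := by
  obtain ⟨ntx, M, hM⟩ := h
  refine ⟨fun e => ntx ?_, M :^ g, sigmaMmaxJ.2 hM⟩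
  rwa [mul_inv_eq_one, mul_eq_left] at e

theorem ell1J {x g : G} : Ell1 (g * x * g⁻¹) ↔ Ell1 x := by
  refine ⟨fun h => ?_, ell1J_of g⟩
  have := ell1J_of g⁻¹ h
  rwa [show g⁻¹ * (g * x * g⁻¹) * g⁻¹⁻¹ = x by group] at this

/-- B & G, Lemma 14.1, with `A = Ω₁(S)`. -/
theorem sigma'_kappa'_facts {M S : Subgroup G} {p : ℕ} (hp : p.Prime) (maxM : IsCoatom M)
    (piMp : p ∣ Nat.card M) (sk'p : p ∉ sigma M ∪ kappa M) (sylS : IsSylowOf p S M) :
    (TypeF M ∨ TypeP2 M) ∧ Nat.card (ohm1 p S) ≤ p ^ 2 ∧ sigmaCore M ⊓ 𝒞(ohm1 p S) = ⊥ ∧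
    Group.IsNilpotent (sigmaCore M) := by
  refine ⟨(notP1type maxM).1 fun h => sk'p (h.2 p hp piMp), ?_⟩
  have t13 : p ∈ tau1 M ∨ p ∈ tau3 M → Nat.card (ohm1 p S) ≤ p ^ 2 ∧ sigmaCore M ⊓ 𝒞(ohm1 p S) = ⊥ ∧
      Group.IsNilpotent (sigmaCore M) := by
    intro t13p
    have oA := card_ohm1_of_cyclic hp (tau13_pgroup_cyclic t13p sylS.le sylS.pGrp)
      ((sylS.dvd_card_iff hp rfl).2 piMp)
    have sAM := (ohm1_le p S).trans sylS.le
    have regA : sigmaCore M ⊓ 𝒞(ohm1 p S) = ⊥ := by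
      by_contra h
      exact sk'p (Or.inr (mem_kappa_iff.2 ⟨t13p, _, (pnElem_one_iff hp).2 ⟨sAM, oA⟩, h⟩))
    refine ⟨?_, regA, prime_regular_sol_nil (sAM.trans (Msigma_normal M).2)
      (sol_le_mmax maxM (Msigma_normal M).1) (by rwa [oA]) regA⟩
    rw [oA, sq]
    exact Nat.le_mul_self p
  rcases (partition_pi_mmax maxM).1 ⟨hp, piMp⟩ with h | t2p | h | h
  · exact t13 (Or.inl h)
  · obtain ⟨A, EpA⟩ := (p_rank_geP hp (H := S)).1
      (by rw [p_rank_Sylow hp sylS, (mem_tau2_iff.1 t2p).2.2])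
    obtain ⟨h1, -, h2, -⟩ := tau2_context maxM t2p (EpA.mono sylS.le)
    rw [((h1 S sylS).2 EpA.le).1]
    exact ⟨EpA.card.le, h2, tau2_Msigma_nil maxM t2p⟩
  · exact t13 (Or.inr h)
  · exact absurd (Or.inl h) sk'p

theorem notP1type_Msigma_nil {M : Subgroup G} (h : TypeF M ∨ TypeP2 M) :
    Group.IsNilpotent (sigmaCore M) := by
  have maxM : IsCoatom M := h.elim (fun h => h.1) fun h => h.1.1
  have h1 : ¬ IsPiGrp (sigma M ∪ kappa M) M := fun h' =>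
    (notP1type maxM).2 h (P1type_of_sigma_kappa maxM h')
  obtain ⟨p, hp, hd, sk'p⟩ : ∃ p : ℕ, p.Prime ∧ p ∣ Nat.card M ∧ p ∉ sigma M ∪ kappa M := by
    by_contra hc
    push Not at hc
    exact h1 hc
  obtain ⟨S, sylS⟩ := sylow_exists hp M
  exact (sigma'_kappa'_facts hp maxM hd sk'p sylS).2.2.2

theorem kappa_sigma'_grp {M K : Subgroup G} (kK : IsPiGrp (kappa M) K) : IsPiGrp (sigma M)ᶜ K :=
  kK.mono fun _ h => kappa_sigma'' h

/-- The structure of a complement `E ≥ K` to `M_σ`. -/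
theorem Ptype_compl {M K E : Subgroup G} (PM : TypeP M) (hallK : IsPiHallOf (kappa M) K M)
    (hallE : IsPiHallOf (sigma M)ᶜ E M) (sKE : K ≤ E) :
    ∃ U : Subgroup G, IsPiHallOf (sigma M ∪ kappa M)ᶜ U M ∧ SDProd U K E ∧ IsMulCommutative U ∧
      Semiprime (sigmaCore M) K ∧ Semiregular U K ∧
      (∀ X : Subgroup G, X ≤ K → (Nat.card X).Prime → K ≤ 𝒩(X)) ∧
      ∃ E₁ : Subgroup G, IsPiHallOf (tau1 M) E₁ E ∧ E₁ ≤ K ∧ E₁ ≠ ⊥ := by
  have maxM := PM.1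
  have ntK := (trivgPmax maxM hallK).2 PM
  have hallU_of : ∀ U : Subgroup G, SDProd U K E → IsPiGrp (kappa M)ᶜ U →
      IsPiHallOf (sigma M ∪ kappa M)ᶜ U M := by
    intro U defE k'U
    refine pHall_mk (defE.left_le.trans hallE.le) ?_ ?_
    · rw [Set.compl_union]
      exact piNat_inter_iff.2 ⟨hallE.piGrp.of_le defE.left_le, k'U⟩
    · rw [compl_compl, ← Subgroup.relIndex_mul_relIndex U E M defE.left_le hallE.le,
        defE.complIn.relIndex_left]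
      refine PiNat.mul (hallK.piGrp.mono Set.subset_union_right) (PiNat.mono ?_ Set.subset_union_left)
      exact piNat_compl_compl.1 hallE.index
  by_cases h3 : ∃ p ∈ kappa M, p ∈ tau3 M
  · obtain ⟨p, kp, t3p⟩ := h3
    have hp := tau3_prime t3p
    obtain ⟨⟨E₁, hallE₁⟩, E₃, hallE₃⟩ := ex_tau13_compl maxM hallE
    obtain ⟨E₂, complE⟩ := ex_tau2_compl maxM hallE hallE₁ hallE₃
    obtain ⟨P, EpP⟩ := p1Elem_exists hp
      ((hallE₃.dvd_card_iff hp t3p).2 (tau13_mem_primesOf maxM hallE (Or.inr t3p)).2)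
    have ntP := EpP.ne_bot hp one_pos
    have ntC := kappa_nonregular kp (EpP.mono (hallE₃.le.trans hallE.le))
    obtain ⟨ntE₁, defE, prim, nsX⟩ := tau13_nonregular maxM complE
      fun reg => ntC (cent_semiregular reg EpP.le ntP)
    rw [cent_semiprime prim (EpP.le.trans hallE₃.le) ntP] at ntC
    have t13E : IsPiGrp (tau3 M ∪ tau1 M) E := by
      rw [← defE.sup_eq]
      exact IsPiGrp.sup (hallE₃.piGrp.mono Set.subset_union_left)
        (hallE₁.piGrp.mono Set.subset_union_right) (Or.inr defE.norm)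
    have kE : IsPiGrp (kappa M) E := by
      intro r hr hd
      obtain ⟨R, ErR⟩ := p1Elem_exists hr hd
      refine mem_kappa_iff.2 ⟨(t13E r hr hd).symm, R, ErR.mono hallE.le, ?_⟩
      rwa [cent_semiprime prim ErR.le (ErR.ne_bot hr one_pos)]
    obtain rfl : E = K := hallK.eq_of_le kE sKE hallE.le
    have defE' : SDProd ⊥ E E := sdprod_mk (norm_bot E) (bot_sup_eq E) (bot_inf_eq E)
    exact ⟨⊥, hallU_of ⊥ defE' (piGrp_bot _), defE', abelian_of_cyclic cyclic_bot, prim,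
      fun x _ _ => bot_inf_eq _, fun X sX prX => (nsX X sX prX).2, E₁, hallE₁, hallE₁.le, ntE₁⟩
  · push Not at h3
    have k1 : kappa M ⊆ tau1 M := fun p kp => (kappa_tau13 kp).resolve_right (h3 p kp)
    obtain ⟨E₁, hallE₁, sKE₁⟩ := Hall_superset (sol_le_mmax maxM hallE.le) sKE (hallK.piGrp.mono k1)
    have prim := tau1_primact_Msigma maxM hallE hallE₁
    have ntC : sigmaCore M ⊓ 𝒞(E₁) ≠ ⊥ := by
      obtain ⟨p, hp, hd⟩ := exists_prime_dvd_card ntK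
      obtain ⟨P, EpP⟩ := p1Elem_exists hp hd
      rw [← cent_semiprime prim (EpP.le.trans sKE₁) (EpP.ne_bot hp one_pos)]
      exact kappa_nonregular (hallK.piGrp p hp hd) (EpP.mono hallK.le)
    have kE₁ : IsPiGrp (kappa M) E₁ := by
      intro r hr hd
      obtain ⟨R, ErR⟩ := p1Elem_exists hr hd
      refine mem_kappa_iff.2 ⟨Or.inl (hallE₁.piGrp r hr hd), R, ErR.mono (hallE₁.le.trans hallE.le), ?_⟩
      rwa [cent_semiprime prim ErR.le (ErR.ne_bot hr one_pos)]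
    obtain rfl : E₁ = K := hallK.eq_of_le kE₁ sKE₁ (hallE₁.le.trans hallE.le)
    obtain ⟨E₃, hallE₃⟩ := (ex_tau13_compl maxM hallE).2
    obtain ⟨E₂, complE⟩ := ex_tau2_compl maxM hallE hallE₁ hallE₃
    obtain ⟨-, -, ⟨cE₁, -⟩, ⟨-, -, defU, defE⟩, -⟩ := sigma_compl_context maxM complE
    have t32U : IsPiGrp (tau3 M ∪ tau2 M) (E₃ ⊔ E₂) :=
      IsPiGrp.sup (hallE₃.piGrp.mono Set.subset_union_left)
        (complE.hallE₂.piGrp.mono Set.subset_union_right) (Or.inr defU.norm)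
    have k'U : IsPiGrp (kappa M)ᶜ (E₃ ⊔ E₂) := t32U.mono fun r hr kr =>
      hr.elim (h3 r kr) (kappa_tau2' kr)
    have regU : Semiregular (E₃ ⊔ E₂) E₁ := by
      apply semiregular_of_prime_subgroups
      intro X sX prX
      by_contra ntCX
      obtain ⟨q, hq, hd⟩ := exists_prime_dvd_card ntCX
      obtain ⟨Y, EqY⟩ := p1Elem_exists hq hd
      have sYE : Y ≤ E := (EqY.le.trans inf_le_left).trans defE.left_le
      have cYX : Y ≤ 𝒞(X) := EqY.le.trans inf_le_right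
      have t1X := mem_of_piGrp_of_card_prime hallE₁.piGrp sX prX
      have EX := p1Elem_of_prime (sX.trans hallE₁.le) prX
      have ntCX' : sigmaCore M ⊓ 𝒞(X) ≠ ⊥ := by
        rwa [cent_semiprime prim sX (ne_bot_of_card_prime prX)]
      rcases (t32U.inf_left _) q hq hd with t3q | t2q
      · exact h3 q (mem_kappa_iff.2 ⟨Or.inr t3q, Y, EqY.of_le (sYE.trans hallE.le), ne_bot_mono
          (cent_tau1Elem_Msigma maxM hallE t1X EX (le_inf sYE cYX) (EqY.card_prime hq)) ntCX'⟩) t3q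
      · obtain ⟨A, EqA⟩ := exists_p2Elem_tau2 hallE t2q
        have sYA := (tau2_compl_context maxM hallE t2q EqA).1.2 Y (EqY.of_le sYE)
        exact ntCX' (tau12_regular maxM hallE t1X t2q EX EqA
          (ne_bot_mono (le_inf sYA cYX) (EqY.ne_bot hq one_pos)))
    have defU' : ⁅E₃ ⊔ E₂, E₁⁆ = E₃ ⊔ E₂ := comm_eq_of_regular defE.norm (k'U.coprime
      (piNat_compl_compl.2 hallK.piGrp)) (Or.inr (sol_le_mmax maxM hallK.le))
      (cent_semiregular regU le_rfl ntK)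
    refine ⟨E₃ ⊔ E₂, hallU_of _ defE k'U, defE, ?_, prim, regU,
      fun X sX _ => norm_of_le_abelian (abelian_of_cyclic cE₁) sX, E₁, hallE₁, le_rfl, ntK⟩
    refine abelian_of_le (der_mmax_compl_abelian maxM hallE) ?_
    rw [← defU']
    exact Subgroup.commutator_mono defE.left_le defE.right_le

theorem kappaCompl_of_sdprod {M U K E : Subgroup G} (hallK : IsPiHallOf (kappa M) K M)
    (hallU : IsPiHallOf (sigma M ∪ kappa M)ᶜ U M) (defE : SDProd U K E) : KappaCompl M U K :=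
  ⟨hallK, hallU, fun x hx => defE.complIn.2.2.2 x (defE.sup_eq ▸ hx)⟩

theorem ex_sigma_compl_kappa {M K : Subgroup G} (maxM : IsCoatom M) (hallK : IsPiHallOf (kappa M) K M) :
    ∃ E : Subgroup G, IsPiHallOf (sigma M)ᶜ E M ∧ K ≤ E :=
  ex_sigma_compl maxM hallK.le (kappa_sigma'_grp hallK.piGrp)

theorem ex_kappa_compl {M K : Subgroup G} (maxM : IsCoatom M) (hallK : IsPiHallOf (kappa M) K M) :
    ∃ U : Subgroup G, KappaCompl M U K := by
  by_cases ntK : K = ⊥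
  · obtain ⟨U, hallU⟩ := Hall_exists (sigma M ∪ kappa M)ᶜ (mmax_sol maxM)
    refine ⟨U, hallK, hallU, fun x hx => ⟨x, ?_, 1, K.one_mem, (mul_one x).symm⟩⟩
    rwa [ntK, sup_bot_eq] at hx
  · obtain ⟨E, hallE, sKE⟩ := ex_sigma_compl_kappa maxM hallK
    obtain ⟨U, hallU, defE, -⟩ := Ptype_compl ((trivgPmax maxM hallK).1 ntK) hallK hallE sKE
    exact ⟨U, kappaCompl_of_sdprod hallK hallU defE⟩

theorem kappa'_of_hallU {M U : Subgroup G} (hallU : IsPiHallOf (sigma M ∪ kappa M)ᶜ U M) :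
    IsPiGrp (kappa M)ᶜ U := hallU.piGrp.mono fun _ h k => h (Or.inr k)

theorem sigma'_of_hallU {M U : Subgroup G} (hallU : IsPiHallOf (sigma M ∪ kappa M)ᶜ U M) :
    IsPiGrp (sigma M)ᶜ U := hallU.piGrp.mono fun _ h k => h (Or.inl k)

theorem kappa_compl_context {M U K : Subgroup G} (maxM : IsCoatom M) (complU : KappaCompl M U K) :
    IsPiHallOf (sigma M)ᶜ (U ⊔ K) M ∧ SDProd U K (U ⊔ K) ∧ SDProd (sigmaCore M) (U ⊔ K) M ∧
    Semiprime (sigmaCore M) K ∧ Semiregular U K ∧ (K ≠ ⊥ → IsMulCommutative U) := by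
  obtain ⟨hallK, hallU, mulUK⟩ := complU
  have tiUK : U ⊓ K = ⊥ := by rw [inf_comm]; exact hallK.piGrp.inf_eq_bot (kappa'_of_hallU hallU)
  have cUK : IsComplIn U K (U ⊔ K) := ⟨le_sup_left, le_sup_right, tiUK, mulUK⟩
  have sEM : U ⊔ K ≤ M := sup_le hallU.le hallK.le
  have hallE : IsPiHallOf (sigma M)ᶜ (U ⊔ K) M := by
    refine pHall_mk sEM ?_ fun p hp hd => ?_
    · show PiNat _ _
      rw [← cUK.card_mul]
      exact PiNat.mul (sigma'_of_hallU hallU) (kappa_sigma'_grp hallK.piGrp)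
    · have h1 := hallU.index p hp (hd.trans (Subgroup.relIndex_dvd_of_le_left _ le_sup_left))
      have h2 := hallK.index p hp (hd.trans (Subgroup.relIndex_dvd_of_le_left _ le_sup_right))
      rw [compl_compl] at h1 ⊢
      exact h1.resolve_right h2
  refine ⟨hallE, ?_⟩
  by_cases ntK : K = ⊥
  · subst ntK
    refine ⟨sdprod_mk bot_le rfl tiUK, sdprod_sigma maxM hallE, ?_, ?_, fun h => absurd rfl h⟩ <;>
    exact fun x hx ntx => absurd (Subgroup.mem_bot.1 hx) ntx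
  · obtain ⟨V, hallV, defE, cV, prim, reg, -⟩ :=
      Ptype_compl ((trivgPmax maxM hallK).1 ntK) hallK hallE le_sup_right
    obtain rfl : U = V := (hallV.of_le defE.left_le sEM).eq_of_normal defE.normal.2
      (hallU.of_le le_sup_left sEM)
    exact ⟨defE, sdprod_sigma maxM hallE, prim, reg, fun _ => cV⟩

end CA.BG.P14
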