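/-
B & G section 14, part b: Proposition 14.2, Corollary 14.3.
-/
import Cfsg.Agent.BG.P14a

set_option autoImplicit false
set_option linter.unusedSectionVars false

namespace CA.BG.P14

open Cfsg CA.FG CA.BG
open CA.BG.P13 (not_conj_symm not_conj_conj_left not_conj_conj_right ne_of_not_conj
  semiprime_of_prime_subgroups semiregular_of_prime_subgroups exists_prime_of_not_semiregular
  mem_primesOf_of_pGrp mem_of_piGrp_of_card_prime p1Elem_of_prime mmax_norm_exists ne_bot_of_norm_le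
  sigma_le_Msigma sol_le_mmax ex_tau1_compl tau2_compl_eq_bot exists_p2Elem_tau2 comm_eq_of_regular
  tau13_mem_primesOf)

universe u

variable {G : Type u} [Group G] [MinSimpleOdd G]

section Ptype

variable {M K : Subgroup G}

theorem Ptype_primact (PM : TypeP M) (hallK : IsPiHallOf (kappa M) K M) :
    Semiprime (sigmaCore M) K := by
  obtain ⟨E, hallE, sKE⟩ := ex_sigma_compl_kappa PM.1 hallK
  obtain ⟨U, -, -, -, prim, -⟩ := Ptype_compl PM hallK hallE sKE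
  exact prim

theorem Ptype_cent_eq (PM : TypeP M) (hallK : IsPiHallOf (kappa M) K M) {X : Subgroup G} (sXK : X ≤ K)
    (ntX : X ≠ ⊥) : sigmaCore M ⊓ 𝒞(X) = sigmaCore M ⊓ 𝒞(K) :=
  cent_semiprime (Ptype_primact PM hallK) sXK ntX

theorem Ptype_norm_prime (PM : TypeP M) (hallK : IsPiHallOf (kappa M) K M) {X : Subgroup G} (sXK : X ≤ K)
    (prX : (Nat.card X).Prime) : K ≤ 𝒩(X) := by
  obtain ⟨E, hallE, sKE⟩ := ex_sigma_compl_kappa PM.1 hallK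
  obtain ⟨U, -, -, -, -, -, h, -⟩ := Ptype_compl PM hallK hallE sKE
  exact h X sXK prX

theorem Ptype_norm_eq (PM : TypeP M) (hallK : IsPiHallOf (kappa M) K M) {X : Subgroup G} (sXK : X ≤ K)
    (ntX : X ≠ ⊥) (nXK : K ≤ 𝒩(X)) : M ⊓ 𝒩(X) = K ⊔ (sigmaCore M ⊓ 𝒞(K)) := by
  have maxM := PM.1
  obtain ⟨E, hallE, sKE⟩ := ex_sigma_compl_kappa maxM hallK
  obtain ⟨U, hallU, defE, -, prim, reg, -⟩ := Ptype_compl PM hallK hallE sKE
  have nMsM := (Msigma_normal M).2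
  have nMsU : U ≤ 𝒩(sigmaCore M) := hallU.le.trans nMsM
  have nHK : K ≤ 𝒩(sigmaCore M ⊔ U) := norm_sup (hallK.le.trans nMsM) defE.norm
  have defM : (sigmaCore M ⊔ U) ⊔ K = M := by
    rw [sup_assoc, defE.sup_eq, (sdprod_sigma maxM hallE).sup_eq]
  have k'H : IsPiGrp (kappa M)ᶜ (sigmaCore M ⊔ U) :=
    IsPiGrp.sup ((Msigma_pgroup M).mono fun p sp kp => kappa_sigma'' kp sp) (kappa'_of_hallU hallU)
      (Or.inr nMsU)
  have kX := hallK.piGrp.of_le sXK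
  have h1 : (sigmaCore M ⊔ U) ⊓ 𝒩(X) = (sigmaCore M ⊔ U) ⊓ 𝒞(X) :=
    coprime_norm_cent (sXK.trans nHK) (PiNat.coprime' k'H kX)
  have h2 := coprime_cent_mulG (A := X) (M := U) (H := sigmaCore M) (sXK.trans defE.norm)
    ((sXK.trans hallK.le).trans nMsM) nMsU ((Msigma_pgroup M).coprime (kappa_sigma'_grp kX))
    (Or.inl (sol_le_mmax maxM (Msigma_normal M).1))
  rw [cent_semiregular reg sXK ntX, sup_bot_eq, cent_semiprime prim sXK ntX] at h2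
  calc M ⊓ 𝒩(X) = 𝒩(X) ⊓ ((sigmaCore M ⊔ U) ⊔ K) := by rw [defM, inf_comm]
    _ = (𝒩(X) ⊓ (sigmaCore M ⊔ U)) ⊔ K := inf_sup_of_right_le (Or.inr nHK) nXK
    _ = K ⊔ (sigmaCore M ⊓ 𝒞(K)) := by rw [inf_comm, h1, h2, sup_comm]

theorem Ptype_normK (PM : TypeP M) (hallK : IsPiHallOf (kappa M) K M) :
    M ⊓ 𝒩(K) = K ⊔ (sigmaCore M ⊓ 𝒞(K)) :=
  Ptype_norm_eq PM hallK le_rfl ((trivgPmax PM.1 hallK).2 PM) Subgroup.le_normalizer

theorem Ptype_normX (PM : TypeP M) (hallK : IsPiHallOf (kappa M) K M) {X : Subgroup G} (sXK : X ≤ K)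
    (prX : (Nat.card X).Prime) : M ⊓ 𝒩(X) = K ⊔ (sigmaCore M ⊓ 𝒞(K)) :=
  Ptype_norm_eq PM hallK sXK (ne_bot_of_card_prime prX) (Ptype_norm_prime PM hallK sXK prX)

theorem Kstar_sigma (M K : Subgroup G) : IsPiGrp (sigma M) (sigmaCore M ⊓ 𝒞(K)) :=
  (Msigma_pgroup M).inf_left _

theorem Kstar_le (M K : Subgroup G) : sigmaCore M ⊓ 𝒞(K) ≤ M := inf_le_left.trans (Msigma_normal M).1

theorem Ptype_dprod (hallK : IsPiHallOf (kappa M) K M) :
    DProd K (sigmaCore M ⊓ 𝒞(K)) (K ⊔ (sigmaCore M ⊓ 𝒞(K))) :=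
  dprod_mk inf_le_right rfl (by
    rw [inf_comm]; exact (Kstar_sigma M K).inf_eq_bot (kappa_sigma'_grp hallK.piGrp))

theorem Ptype_hallK_Z (hallK : IsPiHallOf (kappa M) K M) :
    IsPiHallOf (sigma M)ᶜ K (K ⊔ (sigmaCore M ⊓ 𝒞(K))) :=
  (Ptype_dprod hallK).complIn.pHall_left (kappa_sigma'_grp hallK.piGrp)
    (piNat_compl_compl.2 (Kstar_sigma M K))

theorem Ptype_hallKs_Z (hallK : IsPiHallOf (kappa M) K M) :
    IsPiHallOf (sigma M) (sigmaCore M ⊓ 𝒞(K)) (K ⊔ (sigmaCore M ⊓ 𝒞(K))) :=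
  (Ptype_dprod hallK).complIn.pHall_right (kappa_sigma'_grp hallK.piGrp) (Kstar_sigma M K)

theorem Ptype_Z_le (hallK : IsPiHallOf (kappa M) K M) : K ⊔ (sigmaCore M ⊓ 𝒞(K)) ≤ M :=
  sup_le hallK.le (Kstar_le M K)

theorem Ptype_sigma_norm (PM : TypeP M) (hallK : IsPiHallOf (kappa M) K M) {X L : Subgroup G}
    (sXK : X ≤ K) (prX : (Nat.card X).Prime) (maxL : IsCoatom L) (sNL : 𝒩(X) ≤ L) :
    X ≤ sigmaCore L := by
  obtain ⟨E, hallE, sKE⟩ := ex_sigma_compl_kappa PM.1 hallK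
  have kp := mem_of_piGrp_of_card_prime hallK.piGrp sXK prX
  exact sigma_le_Msigma maxL (Subgroup.le_normalizer.trans sNL) ((pGrp_of_card_eq prX rfl).piGrp
    (tau13_nonregular_sigma PM.1 hallE (p1Elem_of_prime (sXK.trans sKE) prX) (kappa_tau13 kp)
      (kappa_nonregular kp (p1Elem_of_prime (sXK.trans hallK.le) prX)) maxL sNL))

theorem Ptype_Kstar_ne_bot (PM : TypeP M) (hallK : IsPiHallOf (kappa M) K M) :
    sigmaCore M ⊓ 𝒞(K) ≠ ⊥ := by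
  obtain ⟨p, hp, hd⟩ := exists_prime_dvd_card ((trivgPmax PM.1 hallK).2 PM)
  obtain ⟨P, EpP⟩ := p1Elem_exists hp hd
  rw [← Ptype_cent_eq PM hallK EpP.le (EpP.ne_bot hp one_pos)]
  exact kappa_nonregular (hallK.piGrp p hp hd) (EpP.mono hallK.le)

theorem Ptype_uniq (PM : TypeP M) (hallK : IsPiHallOf (kappa M) K M) {X : Subgroup G} {q : ℕ}
    (hq : q.Prime) (EqX : IsPnElem q 1 X (sigmaCore M ⊓ 𝒞(K))) :
    UniqMax 𝒞(X) M ∧ ∀ S : Subgroup G, IsSylowOf q S (sigmaCore M) → UniqMax S M := by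
  obtain ⟨E, hallE, sKE⟩ := ex_sigma_compl_kappa PM.1 hallK
  obtain ⟨U, -, -, -, -, -, -, E₁, hallE₁, sE₁K, ntE₁⟩ := Ptype_compl PM hallK hallE sKE
  exact cent_cent_Msigma_tau1_uniq hq PM.1 hallE hallE₁ le_rfl ntE₁
    (EqX.mono (inf_le_inf_left _ (cent_anti sE₁K)))

theorem Ptype_uniqX (PM : TypeP M) (hallK : IsPiHallOf (kappa M) K M) {X : Subgroup G}
    (sX : X ≤ sigmaCore M ⊓ 𝒞(K)) (prX : (Nat.card X).Prime) : UniqMax 𝒞(X) M :=
  (Ptype_uniq PM hallK prX (p1Elem_of_prime sX prX)).1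

theorem exists_prime_le {H : Subgroup G} (h : H ≠ ⊥) : ∃ X : Subgroup G, X ≤ H ∧ (Nat.card X).Prime := by
  obtain ⟨p, hp, hd⟩ := exists_prime_dvd_card h
  obtain ⟨X, sX, oX⟩ := exists_le_card_eq_prime hp hd
  exact ⟨X, sX, by rwa [oX]⟩

theorem Ptype_cent1_le (PM : TypeP M) (hallK : IsPiHallOf (kappa M) K M) {x : G}
    (hx : x ∈ sigmaCore M ⊓ 𝒞(K)) (ntx : x ≠ 1) : 𝒞[x] ≤ M := by
  obtain ⟨X, sX, prX⟩ := exists_prime_le (H := Subgroup.zpowers x)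
    (fun e => ntx (Subgroup.zpowers_eq_bot.1 e))
  rw [← cent_zpowers]
  exact (cent_anti sX).trans (Ptype_uniqX PM hallK (sX.trans (Subgroup.zpowers_le.2 hx)) prX).2.1

theorem Ptype_Kstar_TI (PM : TypeP M) (hallK : IsPiHallOf (kappa M) K M) {g : G} (hg : g ∉ M) :
    sigmaCore M ⊓ 𝒞(K) ⊓ M :^ g = ⊥ := by
  by_contra nt
  obtain ⟨X, sX, prX⟩ := exists_prime_le nt
  have sXKs := sX.trans inf_le_left
  exact hg (inv_mem_iff.1 (sigma_group_trans_e PM.1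
    (mem_of_piGrp_of_card_prime (Kstar_sigma M K) sXKs prX) (pGrp_of_card_eq prX rfl)
    (sXKs.trans (Kstar_le M K)) (Ptype_uniqX PM hallK sXKs prX).2.1
    (le_conjg_iff.1 (sX.trans inf_le_right))))

theorem Ptype_K_TI (PM : TypeP M) (hallK : IsPiHallOf (kappa M) K M) {g : G} (hg : g ∈ M)
    (ng : g ∉ 𝒩(K)) : K ⊓ K :^ g = ⊥ := by
  by_contra nt
  obtain ⟨X, sX, prX⟩ := exists_prime_le nt
  have h1 := Ptype_normX PM hallK (sX.trans inf_le_left) prX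
  have h2 := Ptype_normX PM hallK (le_conjg_iff.1 (sX.trans inf_le_right)) (by rwa [card_conjg])
  rw [← conjg_norm, ← conjg_of_mem (M.inv_mem hg), ← conjg_inf, h1, conjg_of_mem (M.inv_mem hg)] at h2
  exact ng (inv_mem_iff.1 ((Ptype_hallK_Z hallK).norm_le_norm (Ptype_dprod hallK).left_normal.2
    (conjg_eq_self_iff.1 h2)))

theorem Ptype_sylow_not_le (PM : TypeP M) (hallK : IsPiHallOf (kappa M) K M) {S : Subgroup G}
    (uS : UniqMax S M) : ¬ S ≤ sigmaCore M ⊓ 𝒞(K) := by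
  intro sS
  obtain ⟨X, sX, prX⟩ := exists_prime_le ((trivgPmax PM.1 hallK).2 PM)
  have ntX := ne_bot_of_card_prime prX
  obtain ⟨L, maxL, sNL⟩ := mmax_norm_exists ntX (sub_mmax_proper PM.1 (sX.trans hallK.le))
  have h := Ptype_sigma_norm PM hallK sX prX maxL sNL
  rw [eq_uniq_mmax uS maxL (((sS.trans inf_le_right).trans (cent_anti sX)).trans
    ((cent_le_norm X).trans sNL))] at h
  exact ntX (((Msigma_pgroup M).of_le h).eq_bot ((kappa_sigma'_grp hallK.piGrp).of_le sX))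

theorem Ptype_sigma_sub (PM : TypeP M) (hallK : IsPiHallOf (kappa M) K M) {Y : Subgroup G}
    (sY : IsPiGrp (sigma M) Y) (nt : Y ⊓ (sigmaCore M ⊓ 𝒞(K)) ≠ ⊥) : Y ≤ sigmaCore M := by
  obtain ⟨x, hx⟩ := (sigma_Jsub PM.1 sY (ne_bot_mono inf_le_left nt)).1
  have h : x⁻¹ ∈ M := by
    by_contra h
    apply nt
    rw [eq_bot_iff, ← Ptype_Kstar_TI PM hallK h]
    exact le_inf inf_le_right (inf_le_left.trans (conjg_le_iff.1 (hx.trans (Msigma_normal M).1)))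
  exact (conjg_le_iff_of_mem_norm ((Msigma_normal M).2 (inv_mem_iff.1 h))).1 hx

theorem Msigma_cent_eq_bot {U : Subgroup G} (maxM : IsCoatom M)
    (hallU : IsPiHallOf (sigma M ∪ kappa M)ᶜ U M) (ntU : U ≠ ⊥) : sigmaCore M ⊓ 𝒞(U) = ⊥ := by
  obtain ⟨p, hp, hd⟩ := exists_prime_dvd_card ntU
  obtain ⟨S, sylS⟩ := sylow_exists hp U
  have h := (sigma'_kappa'_facts hp maxM (hd.trans (Subgroup.card_dvd_of_le hallU.le))
    (hallU.piGrp p hp hd) (sylS.trans_hall hallU (hallU.piGrp p hp hd))).2.2.1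
  rw [eq_bot_iff, ← h]
  exact inf_le_inf_left _ (cent_anti ((ohm1_le p S).trans sylS.le))

theorem P2type_structure (P2M : TypeP2 M) (hallK : IsPiHallOf (kappa M) K M) :
    sigma M = beta M ∧ (Nat.card K).Prime ∧ Group.IsNilpotent (sigmaCore M) ∧
      NormedTI (sharp (sigmaCore M)) ⊤ M := by
  have PM := P2M.1
  have maxM := PM.1
  have ntK := (trivgPmax maxM hallK).2 PM
  obtain ⟨E, hallE, sKE⟩ := ex_sigma_compl_kappa maxM hallK
  obtain ⟨U, hallU, defE, -, prim, reg, -⟩ := Ptype_compl PM hallK hallE sKE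
  have ntU : U ≠ ⊥ := fun e =>
    P2M.2 ((trivg_kappa_compl maxM (kappaCompl_of_sdprod hallK hallU defE)).1 e).2
  have regU := Msigma_cent_eq_bot maxM hallU ntU
  have frobE : IsFrob E U K := ⟨defE, ntU, ntK, reg⟩
  have prK := (Frobenius_primact frobE (hallE.le.trans (Msigma_normal M).2)
    (sol_le_mmax maxM (Msigma_normal M).1) (Msigma_neq1 maxM) (coprime_sigma_compl hallE) prim regU).1
  obtain ⟨H, hallH, cHE'⟩ := der_compl_cent_beta' maxM hallE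
  have sUE' : U ≤ ⁅E, E⁆ := by
    rw [← Frobenius_commg frobE]
    exact Subgroup.commutator_mono defE.left_le defE.right_le
  have H1 : H = ⊥ := by
    rw [eq_bot_iff, ← regU]
    exact le_inf hallH.le (le_cent_symm (sUE'.trans cHE'))
  have bMs : IsPiGrp (beta M) (sigmaCore M) := by
    have := hallH.eq_bot_iff.1 H1
    rwa [compl_compl] at this
  refine ⟨Set.Subset.antisymm ?_ (beta_sub_sigma maxM), prK, notP1type_Msigma_nil (Or.inr P2M), ?_, le_top,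
    fun a ha g _ => ⟨fun h => ?_, fun hg => ?_⟩⟩
  · rw [← pi_Msigma maxM]
    exact piGrp_iff_primesOf_subset.1 bMs
  · obtain ⟨x, hx, ntx⟩ := exists_mem_ne_one (Msigma_neq1 maxM)
    exact ⟨x, hx, ntx⟩
  · by_contra hg
    have h1 := (bMs.inf_left _).eq_bot ((sigma_compl_embedding maxM hallE).2.2 g hg).2.1
    have h2 : g * a * g⁻¹ ∈ sigmaCore M ⊓ M :^ g :=
      Subgroup.mem_inf.2 ⟨h.1, conj_mem_conjg g ((Msigma_normal M).1 ha.1)⟩
    rw [h1] at h2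
    exact h.2 (Subgroup.mem_bot.1 h2)
  · refine ⟨conj_mem_of_le_norm (Msigma_normal M).2 hg ha.1, fun e => ha.2 ?_⟩
    rwa [mul_inv_eq_one, mul_eq_left] at e

end Ptype

/-- B & G, Proposition 14.2, with `K* = C_{M_σ}(K)`. -/
theorem Ptype_structure {M K : Subgroup G} (PM : TypeP M) (hallK : IsPiHallOf (kappa M) K M) :
    (∃ U : Subgroup G, KappaCompl M U K ∧ K ≤ 𝒩(U) ∧ IsMulCommutative U ∧
      Semiprime (sigmaCore M) K ∧ Semiregular U K) ∧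
    (DProd K (sigmaCore M ⊓ 𝒞(K)) (M ⊓ 𝒩(K)) ∧
      ∀ X : Subgroup G, X ≤ K → (Nat.card X).Prime →
        M ⊓ 𝒩(X) = M ⊓ 𝒩(K) ∧
        ∀ Mstar : Subgroup G, IsCoatom Mstar → 𝒩(X) ≤ Mstar → X ≤ sigmaCore Mstar) ∧
    (sigmaCore M ⊓ 𝒞(K) ≠ ⊥ ∧
      ∀ X : Subgroup G, X ≤ sigmaCore M ⊓ 𝒞(K) → (Nat.card X).Prime → UniqMax 𝒞(X) M) ∧
    ((∀ g, g ∉ M → sigmaCore M ⊓ 𝒞(K) ⊓ M :^ g = ⊥) ∧
      ∀ g ∈ M, g ∉ 𝒩(K) → K ⊓ K :^ g = ⊥) ∧
    (∀ p ∈ primesOf (sigmaCore M ⊓ 𝒞(K)), ∀ S : Subgroup G, IsSylowOf p S (sigmaCore M) →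
      UniqMax S M ∧ ¬ S ≤ sigmaCore M ⊓ 𝒞(K)) ∧
    (∀ Y : Subgroup G, IsPiGrp (sigma M) Y → Y ⊓ (sigmaCore M ⊓ 𝒞(K)) ≠ ⊥ → Y ≤ sigmaCore M) ∧
    (TypeP2 M → sigma M = beta M ∧ (Nat.card K).Prime ∧ Group.IsNilpotent (sigmaCore M) ∧
      NormedTI (sharp (sigmaCore M)) ⊤ M) := by
  refine ⟨?_, ⟨?_, fun X sX prX => ⟨?_, fun L maxL sNL => Ptype_sigma_norm PM hallK sX prX maxL sNL⟩⟩,
    ⟨Ptype_Kstar_ne_bot PM hallK, fun X sX prX => Ptype_uniqX PM hallK sX prX⟩,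
    ⟨fun g hg => Ptype_Kstar_TI PM hallK hg, fun g hg ng => Ptype_K_TI PM hallK hg ng⟩,
    fun p hp S sylS => ?_, fun Y sY nt => Ptype_sigma_sub PM hallK sY nt,
    fun P2M => P2type_structure P2M hallK⟩
  · obtain ⟨E, hallE, sKE⟩ := ex_sigma_compl_kappa PM.1 hallK
    obtain ⟨U, hallU, defE, cU, prim, reg, -⟩ := Ptype_compl PM hallK hallE sKE
    exact ⟨U, kappaCompl_of_sdprod hallK hallU defE, defE.norm, cU, prim, reg⟩
  · rw [Ptype_normK PM hallK]; exact Ptype_dprod hallK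
  · rw [Ptype_normK PM hallK, Ptype_normX PM hallK sX prX]
  · obtain ⟨X, EX⟩ := p1Elem_exists hp.1 hp.2
    have uS := (Ptype_uniq PM hallK hp.1 EX).2 S sylS
    exact ⟨uS, Ptype_sylow_not_le PM hallK uS⟩

theorem zpowers_ne_bot' {x : G} (h : x ≠ 1) : Subgroup.zpowers x ≠ ⊥ :=
  fun e => h (Subgroup.zpowers_eq_bot.1 e)

/-- B & G, Corollary 14.3. -/
theorem pi_of_cent_sigma {M : Subgroup G} {x x' : G} (maxM : IsCoatom M) (Msx : x ∈ sigmaCore M)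
    (ntx : x ≠ 1) (Cx' : x' ∈ M ⊓ 𝒞[x]) (ntx' : x' ≠ 1) (s'x' : IsPiElt (sigma M)ᶜ x') :
    (IsPiElt (kappa M) x' ∧ 𝒞[x] ≤ M) ∨
    (IsPiElt (tau2 M) x' ∧ Ell1 x' ∧ UniqMax 𝒞[x'] M) := by
  obtain ⟨Mx', cx'⟩ := Subgroup.mem_inf.1 Cx'
  have hx : x ∈ sigmaCore M ⊓ 𝒞[x'] := Subgroup.mem_inf.2 ⟨Msx, mem_cent_singleton_comm.1 cx'⟩
  by_cases t2x' : IsPiElt (tau2 M) x'
  · refine Or.inr ⟨t2x', ?_, cent1_nreg_sigma_uniq maxM Mx' ntx' t2x' (ne_bot_of_mem hx ntx)⟩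
    obtain ⟨p, hp, hd⟩ := exists_prime_dvd_card (zpowers_ne_bot' ntx')
    have t2p : p ∈ tau2 M := (piGrp_zpowers_iff.2 t2x') p hp hd
    obtain ⟨E, hallE, -⟩ := ex_sigma_compl maxM bot_le (piGrp_bot _)
    obtain ⟨A, EpA⟩ := exists_p2Elem_tau2 hallE t2p
    obtain ⟨H, maxH, sNH⟩ := mmax_norm_exists (EpA.ne_bot hp two_pos)
      (sub_mmax_proper maxM (EpA.le.trans hallE.le))
    exact ell1_of_sigma_elt maxH
      (t2x'.mono fun q h => ((primes_norm_tau2Elem maxM hallE t2p EpA maxH sNH).1 q h).1) ntx'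
  · left
    obtain ⟨p, hp, hd, t2'p⟩ : ∃ p : ℕ, p.Prime ∧ p ∣ orderOf x' ∧ p ∉ tau2 M := by
      by_contra hc
      push Not at hc
      exact t2x' hc
    obtain ⟨X, EpX⟩ := p1Elem_exists hp (H := Subgroup.zpowers x') (by rwa [Nat.card_zpowers])
    have sXM : X ≤ M := EpX.le.trans (Subgroup.zpowers_le.2 Mx')
    have t13p : p ∈ tau1 M ∨ p ∈ tau3 M := by
      rcases (partition_pi_mmax maxM).1 ⟨hp, (EpX.of_le sXM).prime_dvd_card one_pos⟩ with h | h | h | h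
      · exact Or.inl h
      · exact absurd h t2'p
      · exact Or.inr h
      · exact absurd h (s'x' p hp hd)
    have hx' : x ∈ sigmaCore M ⊓ 𝒞(X) := by
      refine Subgroup.mem_inf.2 ⟨Msx, cent_anti EpX.le ?_⟩
      rw [cent_zpowers]; exact (Subgroup.mem_inf.1 hx).2
    have kp : p ∈ kappa M := mem_kappa_iff.2 ⟨t13p, X, EpX.of_le sXM, ne_bot_of_mem hx' ntx⟩
    have PM := typeP_of_kappa maxM kp
    obtain ⟨K, hallK, sXK⟩ := Hall_superset (mmax_sol maxM) sXM ((EpX.pGrp hp).piGrp kp)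
    rw [Ptype_cent_eq PM hallK sXK (EpX.ne_bot hp one_pos)] at hx'
    refine ⟨hallK.piGrp.piElt ?_, Ptype_cent1_le PM hallK hx' ntx⟩
    refine (Ptype_hallK_Z hallK).mem_of_normal (Ptype_dprod hallK).left_normal.2 s'x' ?_
    rw [← Ptype_normX PM hallK sXK (EpX.card_prime hp)]
    exact Subgroup.mem_inf.2 ⟨Mx', norm_of_le_abelian (abelian_zpowers x') EpX.le (Subgroup.mem_zpowers x')⟩

end CA.BG.P14
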