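/-
B & G section 14, part c: Theorem 14.4, Lemmas 14.5 and 14.6.
-/
import Cfsg.Agent.BG.P14b

set_option autoImplicit false
set_option linter.unusedSectionVars false

namespace CA.BG.P14

open Cfsg CA.FG CA.BG
open CA.BG.P13 (not_conj_symm not_conj_conj_left not_conj_conj_right ne_of_not_conj
  semiprime_of_prime_subgroups semiregular_of_prime_subgroups exists_prime_of_not_semiregular
  mem_primesOf_of_pGrp mem_of_piGrp_of_card_prime p1Elem_of_prime mmax_norm_exists ne_bot_of_norm_le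
  sigma_le_Msigma sol_le_mmax ex_tau1_compl tau2_compl_eq_bot exists_p2Elem_tau2 comm_eq_of_regular
  tau13_mem_primesOf)

universe u

variable {G : Type u} [Group G] [MinSimpleOdd G]

theorem conj_of_sigma {M L : Subgroup G} {p : ℕ} (maxM : IsCoatom M) (maxL : IsCoatom L)
    (sMp : p ∈ sigma M) (sLp : p ∈ sigma L) : ∃ g, L = M :^ g := by
  by_contra h
  push Not at h
  exact Set.disjoint_left.1 (sigma_partition maxM maxL h) sMp sLp

theorem sigma_elt_of_mem {M : Subgroup G} {x : G} (h : x ∈ sigmaCore M) : IsPiElt (sigma M) x :=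
  (Msigma_pgroup M).piElt h

theorem mem_Msigma {M : Subgroup G} {x : G} (maxM : IsCoatom M) (Mx : x ∈ M) (sx : IsPiElt (sigma M) x) :
    x ∈ sigmaCore M := (Msigma_Hall maxM).mem_of_normal (Msigma_normal M).2 sx Mx

theorem exists_common_prime {π ρ : Set ℕ} {x : G} (ntx : x ≠ 1) (h1 : IsPiElt π x) (h2 : IsPiElt ρ x) :
    ∃ p, p.Prime ∧ p ∣ orderOf x ∧ p ∈ π ∧ p ∈ ρ := by
  obtain ⟨p, hp, hd⟩ := exists_prime_dvd_card (zpowers_ne_bot' ntx)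
  rw [Nat.card_zpowers] at hd
  exact ⟨p, hp, hd, h1 p hp hd, h2 p hp hd⟩

theorem sigmaMmax_conj_cent {x c : G} {M : Subgroup G} (hM : M ∈ sigmaMmax x) (hc : c ∈ 𝒞[x]) :
    M :^ c ∈ sigmaMmax x := by
  have := (sigmaMmaxJ (g := c)).2 hM
  rwa [Subgroup.mem_centralizer_singleton_iff.1 hc, mul_inv_cancel_right] at this

theorem cent1_sub_uniq_sigma_mmax {x : G} {M : Subgroup G} (h1 : ¬ (sigmaMmax x).Nontrivial)
    (hM : M ∈ sigmaMmax x) : 𝒞[x] ≤ M := fun _ hc =>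
  mem_of_conjg_mmax hM.1 ((Set.not_nontrivial_iff.1 h1) (sigmaMmax_conj_cent hM hc) hM)

theorem sigBase_eq_bot {x : G} (h1 : ¬ (sigmaMmax x).Nontrivial) : sigBase x = ⊥ := by
  unfold sigBase
  rw [dif_neg fun h => h1 h.1]

theorem sigR_def (x : G) : sigR x = sigmaCore (sigBase x) ⊓ 𝒞[x] := rfl

theorem sigR_le_cent (x : G) : sigR x ≤ 𝒞[x] := inf_le_right

theorem sigR_eq_bot {x : G} (h1 : ¬ (sigmaMmax x).Nontrivial) : sigR x = ⊥ := by
  rw [sigR_def, sigBase_eq_bot h1, eq_bot_iff]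
  exact inf_le_left.trans (Msigma_normal _).1

theorem sigBase_eq {x : G} {N : Subgroup G} (nt : (sigmaMmax x).Nontrivial) (uN : UniqMax 𝒞[x] N) :
    sigBase x = N := by
  have h : (sigmaMmax x).Nontrivial ∧ ∃ M : Subgroup G, IsCoatom M ∧ 𝒞[x] ≤ M := ⟨nt, N, uN.1, uN.2.1⟩
  unfold sigBase
  rw [dif_pos h]
  exact eq_uniq_mmax uN (Classical.choose_spec h.2).1 (Classical.choose_spec h.2).2

theorem nontrivial_of_sigR {x : G} (h : sigR x ≠ ⊥) : (sigmaMmax x).Nontrivial := by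
  by_contra h1
  exact h (sigR_eq_bot h1)

/-- The core of the proof of Theorem 14.4. -/
theorem signalizer_aux {x : G} (ntx : x ≠ 1) (nt : (sigmaMmax x).Nontrivial) :
    ∃ N : Subgroup G, UniqMax 𝒞[x] N ∧ sigmaCore N ⊓ 𝒞[x] ≠ ⊥ ∧ IsPiElt (tau2 N) x ∧
      (TypeF N ∨ TypeP2 N) ∧ ∀ M ∈ sigmaMmax x,
        SDProd (sigmaCore N ⊓ 𝒞[x]) (M ⊓ N ⊓ 𝒞[x]) 𝒞[x] ∧ tau2 N ⊆ sigma M ∧
        primesOf M ∩ sigma N ⊆ beta N ∧ IsPiHallOf (sigma N)ᶜ (M ⊓ N) N ∧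
        ∀ L ∈ sigmaMmax x, ∃ r ∈ sigmaCore N ⊓ 𝒞[x], L = M :^ r := by
  obtain ⟨X, sX, prX⟩ := exists_prime_le (zpowers_ne_bot' ntx)
  have ntX := ne_bot_of_card_prime prX
  have qX : IsPGrp (Nat.card X) X := pGrp_of_card_eq prX rfl
  obtain ⟨N, maxN, sNN⟩ := mmax_norm_exists ntX (mFT_nil_proper qX.nil)
  have sCXN : 𝒞(X) ≤ N := (cent_le_norm X).trans sNN
  have sCxN : 𝒞[x] ≤ N := by rw [← cent_zpowers]; exact (cent_anti sX).trans sCXN
  have Nx : x ∈ N := sCxN (mem_cent_singleton_self x)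
  have sXMs : ∀ M ∈ sigmaMmax x, X ≤ sigmaCore M := fun M hM => sX.trans (Subgroup.zpowers_le.2 hM.2)
  have sMq : ∀ M ∈ sigmaMmax x, Nat.card X ∈ sigma M := fun M hM =>
    mem_of_piGrp_of_card_prime (Msigma_pgroup M) (sXMs M hM) prX
  have trans : ∀ M ∈ sigmaMmax x, ∀ L ∈ sigmaMmax x, ∃ c ∈ 𝒞(X), L = M :^ c := by
    intro M hM L hL
    obtain ⟨g, rfl⟩ := conj_of_sigma hM.1 hL.1 (sMq M hM) (sMq L hL)
    have := sigma_group_trans_b hM.1 (sMq M hM) qX (g := 1) (h := g)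
      (by rw [conjg_one]; exact (sXMs M hM).trans (Msigma_normal M).1)
      ((sXMs _ hL).trans (Msigma_normal _).1)
    rwa [conjg_one] at this
  have main : ∀ M ∈ sigmaMmax x, Nat.card X ∈ tau2 N ∧ primesOf M ∩ sigma N ⊆ beta N ∧
      IsPiHallOf (sigma N)ᶜ (M ⊓ N) N := by
    intro M hM
    have neNM : N ≠ M := by
      rintro rfl
      obtain ⟨L, hL, neL⟩ := nt.exists_ne N
      obtain ⟨c, hc, rfl⟩ := trans N hM L hL
      exact neL (conjg_of_mem (sCXN hc))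
    have sXM := (sXMs M hM).trans (Msigma_normal M).1
    obtain ⟨S, sylS, sXS⟩ := sylow_superset prX qX (le_inf sXM (Subgroup.le_normalizer.trans sNN))
    obtain ⟨notj, -, -, -, h⟩ := sigma_subgroup_embedding hM.1 (sMq M hM) sXM qX ntX maxN sNN neNM sylS sXS
    exact h (Set.disjoint_left.1 (sigma_partition hM.1 maxN notj) (sMq M hM))
  have transR : ∀ M ∈ sigmaMmax x, ∀ L ∈ sigmaMmax x, ∃ r ∈ sigmaCore N ⊓ 𝒞[x], L = M :^ r := by
    intro M hM L hL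
    obtain ⟨c, hc, rfl⟩ := trans M hM L hL
    have defN := sdprod_sigma maxN (main M hM).2.2
    obtain ⟨u, hu, m, hm, rfl⟩ := defN.complIn.2.2.2 c (sCXN hc)
    have e : M :^ (u * m) = M :^ u := by rw [conjg_mul, conjg_of_mem (Subgroup.mem_inf.1 hm).1]
    rw [e] at hL ⊢
    refine ⟨u, Subgroup.mem_inf.2 ⟨hu, ?_⟩, rfl⟩
    have uN := (Msigma_normal N).1 hu
    have h1 : u⁻¹ * x * u * x⁻¹ ∈ sigmaCore N ⊓ (M ⊓ N) := by
      refine Subgroup.mem_inf.2 ⟨?_, Subgroup.mem_inf.2 ⟨?_, ?_⟩⟩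
      · rw [show u⁻¹ * x * u * x⁻¹ = u⁻¹ * (x * u * x⁻¹) by group]
        exact Subgroup.mul_mem _ (Subgroup.inv_mem _ hu) (conj_mem_of_le_norm (Msigma_normal N).2 Nx hu)
      · exact M.mul_mem (mem_conjg.1 ((Msigma_normal _).1 hL.2)) (M.inv_mem ((Msigma_normal M).1 hM.2))
      · exact N.mul_mem (N.mul_mem (N.mul_mem (N.inv_mem uN) Nx) uN) (N.inv_mem Nx)
    rw [defN.inf_eq, Subgroup.mem_bot] at h1
    rw [Subgroup.mem_centralizer_singleton_iff]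
    calc u * x = u * (u⁻¹ * x * u * x⁻¹) * x := by rw [h1, mul_one]
      _ = x * u := by group
  obtain ⟨M₀, hM₀, L₀, hL₀, neML⟩ := id nt
  have ntR : sigmaCore N ⊓ 𝒞[x] ≠ ⊥ := by
    intro e
    obtain ⟨r, hr, rfl⟩ := transR M₀ hM₀ L₀ hL₀
    rw [e, Subgroup.mem_bot] at hr
    exact neML (by rw [hr, conjg_one])
  have t2q := (main M₀ hM₀).1
  have s'x : IsPiElt (sigma N)ᶜ x := (main M₀ hM₀).2.2.piGrp.piElt
    (Subgroup.mem_inf.2 ⟨(Msigma_normal M₀).1 hM₀.2, Nx⟩)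
  obtain ⟨y, hy, nty⟩ := exists_mem_ne_one ntR
  have qx : Nat.card X ∣ orderOf x := by rw [← Nat.card_zpowers]; exact Subgroup.card_dvd_of_le sX
  obtain ⟨t2x, -, uN⟩ := (pi_of_cent_sigma maxN (Subgroup.mem_inf.1 hy).1 nty
    (Subgroup.mem_inf.2 ⟨Nx, mem_cent_singleton_comm.1 (Subgroup.mem_inf.1 hy).2⟩) ntx s'x).resolve_left
    fun h => kappa_tau2' (h.1 _ prX qx) t2q
  refine ⟨N, uN, ntR, t2x, ?_, fun M hM => ⟨?_, ?_, (main M hM).2.1, (main M hM).2.2, transR M hM⟩⟩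
  · refine (notP1type maxN).1 fun h => ?_
    exact (h.2 _ prX (Subgroup.card_dvd_of_le (Subgroup.le_normalizer.trans sNN))).elim
      (tau2_sigma' t2q) fun k => kappa_tau2' k t2q
  · have hallD := (main M hM).2.2
    have defN := sdprod_sigma maxN hallD
    have Dx : x ∈ M ⊓ N := Subgroup.mem_inf.2 ⟨(Msigma_normal M).1 hM.2, Nx⟩
    have h := coprime_cent_mulG (A := Subgroup.zpowers x) (M := M ⊓ N) (H := sigmaCore N)
      (norm_of_le (Subgroup.zpowers_le.2 Dx)) ((Subgroup.zpowers_le.2 Nx).trans (Msigma_normal N).2)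
      defN.norm ((Msigma_pgroup N).coprime (piGrp_zpowers_iff.2 s'x))
      (Or.inr (sol_of_abelian (abelian_zpowers x)))
    rw [defN.sup_eq, cent_zpowers, inf_eq_right.2 sCxN] at h
    refine sdprod_mk (norm_inf (inf_le_left.trans defN.norm) (norm_of_le inf_le_right)) h.symm ?_
    rw [eq_bot_iff, ← defN.inf_eq]
    exact inf_le_inf inf_le_left inf_le_left
  · intro p t2p
    have hp := tau2_prime t2p
    have hallD := (main M hM).2.2
    by_contra s'p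
    obtain ⟨A, EpA⟩ := exists_p2Elem_tau2 hallD t2p
    have EpAM := EpA.mono inf_le_left
    have t2Mp : p ∈ tau2 M := by
      refine mem_tau2_iff.2 ⟨hp, s'p, le_antisymm ?_ (EpAM.le_pRank hp)⟩
      by_contra h
      exact s'p (alpha_sub_sigma hM.1 (mem_alpha_iff.2 ⟨hp, not_le.1 h⟩))
    have Dx : x ∈ M ⊓ N := Subgroup.mem_inf.2 ⟨(Msigma_normal M).1 hM.2, Nx⟩
    obtain ⟨E₂, hallE₂, sxE₂⟩ := Hall_superset (sol_le_mmax maxN hallD.le) (Subgroup.zpowers_le.2 Dx)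
      (piGrp_zpowers_iff.2 t2x)
    have sAE₂ : A ≤ E₂ := hallE₂.le_of_norm_le ((EpA.pGrp hp).piGrp t2p) EpA.le
      (hallE₂.le.trans (tau2_compl_context maxN hallD t2p EpA).1.1.2)
    have h1 : x ∈ sigmaCore M ⊓ 𝒞(A) := Subgroup.mem_inf.2 ⟨hM.2, cent_anti sAE₂
      (abelian_iff_le_cent.1 (tau2_compl_abelian maxN hallD hallE₂) (sxE₂ (Subgroup.mem_zpowers x)))⟩
    rw [(tau2_context hM.1 t2Mp EpAM).2.2.1] at h1
    exact ntx (Subgroup.mem_bot.1 h1)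

/-- B & G, Theorem 14.4, second part, with `N = N(x)`, `R = R(x)`. -/
theorem FT_signalizer_context {x : G} (ell1x : Ell1 x) (ntMs : (sigmaMmax x).Nontrivial) :
    UniqMax 𝒞[x] (sigBase x) ∧ sigR x ≠ ⊥ ∧ IsPiElt (tau2 (sigBase x)) x ∧
    (TypeF (sigBase x) ∨ TypeP2 (sigBase x)) ∧
    ∀ M ∈ sigmaMmax x,
      SDProd (sigR x) (M ⊓ sigBase x ⊓ 𝒞[x]) 𝒞[x] ∧
      tau2 (sigBase x) ⊆ sigma M ∧
      primesOf M ∩ sigma (sigBase x) ⊆ beta (sigBase x) ∧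
      IsPiHallOf (sigma (sigBase x))ᶜ (M ⊓ sigBase x) (sigBase x) := by
  obtain ⟨N, uN, h1, h2, h3, h4⟩ := signalizer_aux ell1x.1 ntMs
  rw [sigR_def, sigBase_eq ntMs uN]
  exact ⟨uN, h1, h2, h3, fun M hM => ⟨(h4 M hM).1, (h4 M hM).2.1, (h4 M hM).2.2.1, (h4 M hM).2.2.2.1⟩⟩

/-- B & G, Theorem 14.4, first part, with `R = R(x)`. -/
theorem FT_signalizer_trans {x : G} (ell1x : Ell1 x) :
    TransOn (sigR x) (sigmaMmax x) ∧ Nat.card (sigR x) = (sigmaMmax x).ncard ∧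
    sigR x ⊲ 𝒞[x] ∧ IsHallOf (sigR x) 𝒞[x] := by
  obtain ⟨M, hM⟩ := ell1x.2
  by_cases nt : (sigmaMmax x).Nontrivial
  · obtain ⟨N, uN, -, -, -, h4⟩ := signalizer_aux ell1x.1 nt
    rw [sigR_def, sigBase_eq nt uN]
    have nR : 𝒞[x] ≤ 𝒩(sigmaCore N) := uN.2.1.trans (Msigma_normal N).2
    refine ⟨fun M hM L hL => (h4 M hM).2.2.2.2 L hL, ?_, ?_, ?_⟩
    · rw [← Nat.card_coe_set_eq]
      refine Nat.card_congr (Equiv.ofBijective (fun r => ⟨M :^ (r : G),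
        sigmaMmax_conj_cent hM (Subgroup.mem_inf.1 r.2).2⟩) ⟨fun r s e => ?_, fun L => ?_⟩)
      · have e' : M :^ (r : G) = M :^ (s : G) := congrArg Subtype.val e
        rw [conjg_eq_conjg_iff, norm_mmax hM.1] at e'
        have h1 : (s : G)⁻¹ * r ∈ sigmaCore N := Subgroup.mul_mem _
          (Subgroup.inv_mem _ (Subgroup.mem_inf.1 s.2).1) (Subgroup.mem_inf.1 r.2).1
        have h2 : (s : G)⁻¹ * r ∈ sigmaCore N ⊓ (M ⊓ N) :=
          Subgroup.mem_inf.2 ⟨h1, Subgroup.mem_inf.2 ⟨e', (Msigma_normal N).1 h1⟩⟩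
        rw [(sdprod_sigma uN.1 (h4 M hM).2.2.2.1).inf_eq, Subgroup.mem_bot, inv_mul_eq_one] at h2
        exact Subtype.ext h2.symm
      · obtain ⟨r, hr, e⟩ := (h4 M hM).2.2.2.2 L.1 L.2
        exact ⟨⟨r, hr⟩, Subtype.ext e.symm⟩
    · exact ⟨inf_le_right, norm_inf nR Subgroup.le_normalizer⟩
    · exact ((Msigma_Hall uN.1).inf_of_normal (Msigma_normal N).2 uN.2.1).isHallOf
  · have sub := Set.not_nontrivial_iff.1 nt
    rw [sigR_eq_bot nt]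
    refine ⟨fun M hM L hL => ⟨1, Subgroup.one_mem _, by rw [conjg_one]; exact sub hL hM⟩, ?_,
      bot_normalIn _, bot_le, ?_⟩
    · rw [sub.eq_singleton_of_mem hM, Set.ncard_singleton, Subgroup.card_bot]
    · rw [Subgroup.card_bot]; exact Nat.coprime_one_left _

/-- For `x ∈ M_σ^#`: `|𝓜_σ[x]| > 1` iff `C(x) ⊄ M`. -/
theorem sigmaMmax_nontrivial_iff {x : G} {M : Subgroup G} (ntx : x ≠ 1) (hM : M ∈ sigmaMmax x) :
    (sigmaMmax x).Nontrivial ↔ ¬ 𝒞[x] ≤ M := by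
  refine ⟨fun nt sC => ?_, fun h => by_contra fun nt => h (cent1_sub_uniq_sigma_mmax nt hM)⟩
  obtain ⟨N, uN, -, t2x, -⟩ := signalizer_aux ntx nt
  obtain rfl := eq_uniq_mmax uN hM.1 sC
  exact ntx ((sigma_elt_of_mem hM.2).eq_one (t2x.mono fun p h => tau2_sigma' h))

theorem sigmaMmax_nontrivialJ_of {x : G} (g : G) (h : (sigmaMmax x).Nontrivial) :
    (sigmaMmax (g * x * g⁻¹)).Nontrivial := by
  obtain ⟨M, hM, L, hL, ne⟩ := h
  exact ⟨_, sigmaMmaxJ.2 hM, _, sigmaMmaxJ.2 hL, fun e => ne (conjg_inj.1 e)⟩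

theorem sigBaseJ {x : G} (ell1x : Ell1 x) (g : G) : sigBase (g * x * g⁻¹) = sigBase x :^ g := by
  by_cases nt : (sigmaMmax x).Nontrivial
  · apply sigBase_eq (sigmaMmax_nontrivialJ_of g nt)
    rw [← conjg_cent1]
    exact def_uniq_mmaxJ g (FT_signalizer_context ell1x nt).1
  · rw [sigBase_eq_bot nt, conjg_bot]
    apply sigBase_eq_bot
    intro h
    have := sigmaMmax_nontrivialJ_of g⁻¹ h
    rw [show g⁻¹ * (g * x * g⁻¹) * g⁻¹⁻¹ = x by group] at this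
    exact nt this

theorem sigRJ {x : G} (ell1x : Ell1 x) (g : G) : sigR (g * x * g⁻¹) = sigR x :^ g := by
  rw [sigR_def, sigR_def, sigBaseJ ell1x, conjg_inf, MsigmaJ, conjg_cent1]

/-- The elements of `R(x)` are `σ(M)'`-elements for `M ∈ 𝓜_σ[x]`. -/
theorem sigR_sigma' {x r : G} {M : Subgroup G} (ntx : x ≠ 1) (hM : M ∈ sigmaMmax x) (hr : r ∈ sigR x) :
    IsPiElt (sigma M)ᶜ r := by
  by_cases nt : (sigmaMmax x).Nontrivial
  · obtain ⟨uN, -, t2x, -⟩ := FT_signalizer_context ⟨ntx, M, hM⟩ nt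
    obtain ⟨p, -, -, sp, t2p⟩ := exists_common_prime ntx (sigma_elt_of_mem hM.2) t2x
    refine (sigma_elt_of_mem (Subgroup.mem_inf.1 hr).1).mono fun q sNq sMq => ?_
    obtain ⟨g, e⟩ := conj_of_sigma hM.1 uN.1 sMq sNq
    exact tau2_sigma' t2p (by rwa [e, sigmaJ])
  · rw [sigR_eq_bot nt, Subgroup.mem_bot] at hr
    rw [hr]; exact piElt_one _

theorem sigR_comm {x r : G} (hr : r ∈ sigR x) : x * r = r * x :=
  (Subgroup.mem_centralizer_singleton_iff.1 (sigR_le_cent x hr)).symm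

theorem piPart_mem_zpowers {π : Set ℕ} {x r y s : G} (hx : IsPiElt π x) (hr : IsPiElt πᶜ r)
    (cxr : x * r = r * x) (hy : IsPiElt πᶜ y) (cys : y * s = s * y) (e : x * r = y * s) :
    x ∈ Subgroup.zpowers s := by
  obtain ⟨a, b, ha, hb, pa, pb, rfl, cab⟩ := exists_piPart π s
  have cy : ∀ z ∈ Subgroup.zpowers (a * b), y * z = z * y := fun z hz =>
    Subgroup.mem_centralizer_singleton_iff.1 (cent_singleton_le_of_mem_zpowers hz
      (Subgroup.mem_centralizer_singleton_iff.2 cys))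
  have h := piPart_elt_unique hx hr pa (hy.mul pb (cy b hb)) cxr
    (by rw [← mul_assoc, ← cy a ha, mul_assoc, cab, mul_assoc])
    (by rw [e, ← mul_assoc, cy a ha, mul_assoc])
  rw [h.1]; exact ha

theorem sigma_eq_or_disjoint {M L : Subgroup G} (maxM : IsCoatom M) (maxL : IsCoatom L) :
    sigma L = sigma M ∨ (sigma L ⊆ (sigma M)ᶜ ∧ sigma M ⊆ (sigma L)ᶜ) := by
  by_cases h : ∃ g, L = M :^ g
  · obtain ⟨g, rfl⟩ := h
    exact Or.inl (sigmaJ M g)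
  · push Not at h
    have d := sigma_partition maxM maxL h
    exact Or.inr ⟨fun p h1 h2 => Set.disjoint_left.1 d h2 h1, fun p h1 h2 => Set.disjoint_left.1 d h1 h2⟩

/-- B & G, Lemma 14.5(a). -/
theorem sigma_cover_disjoint {x y : G} (ell1x : Ell1 x) (ell1y : Ell1 y) (neqxy : x ≠ y) :
    ∀ r ∈ sigR x, ∀ s ∈ sigR y, x * r ≠ y * s := by
  intro r hr s hs e
  obtain ⟨ntx, M, hM⟩ := id ell1x
  obtain ⟨nty, L, hL⟩ := id ell1y
  have sx := sigma_elt_of_mem hM.2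
  have sy := sigma_elt_of_mem hL.2
  have s'r := sigR_sigma' ntx hM hr
  have s's := sigR_sigma' nty hL hs
  rcases sigma_eq_or_disjoint hM.1 hL.1 with h | ⟨h1, h2⟩
  · rw [h] at sy s's
    exact neqxy (piPart_elt_unique sx s'r sy s's (sigR_comm hr) (sigR_comm hs) e).1
  · have xR : x ∈ sigR y := Subgroup.zpowers_le.2 hs
      (piPart_mem_zpowers sx s'r (sigR_comm hr) (sy.mono h1) (sigR_comm hs) e)
    have yR : y ∈ sigR x := Subgroup.zpowers_le.2 hr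
      (piPart_mem_zpowers sy s's (sigR_comm hs) (sx.mono h2) (sigR_comm hr) e.symm)
    obtain ⟨uN, -, -, -, h3⟩ := FT_signalizer_context ell1x (nontrivial_of_sigR (ne_bot_of_mem yR nty))
    obtain ⟨uN', -⟩ := FT_signalizer_context ell1y (nontrivial_of_sigR (ne_bot_of_mem xR ntx))
    have yN := (Subgroup.mem_inf.1 yR).1
    exact nty ((sigma_elt_of_mem yN).eq_one
      ((h3 (sigBase y) ⟨uN'.1, (Subgroup.mem_inf.1 xR).1⟩).2.2.2.piGrp.piElt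
        (Subgroup.mem_inf.2 ⟨uN'.2.1 (mem_cent_singleton_self y), (Msigma_normal _).1 yN⟩)))

theorem mem_classSupport_sigmaCover {M : Subgroup G} (maxM : IsCoatom M) {z : G} :
    z ∈ classSupport (sigmaCover M) ⊤ ↔
      ∃ x, x ≠ 1 ∧ (∃ g, x ∈ sigmaCore (M :^ g)) ∧ ∃ r ∈ sigR x, z = x * r := by
  constructor
  · rintro ⟨_, ⟨x, hx, ntx, r, hr, rfl⟩, g, -, rfl⟩
    have ell1x : Ell1 x := ⟨ntx, M, maxM, hx⟩
    refine ⟨g * x * g⁻¹, (ell1J_of g ell1x).1, ⟨g, by rw [MsigmaJ]; exact conj_mem_conjg g hx⟩,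
      g * r * g⁻¹, by rw [sigRJ ell1x]; exact conj_mem_conjg g hr, by group⟩
  · rintro ⟨x, ntx, ⟨g, hx⟩, r, hr, rfl⟩
    have ell1x : Ell1 x := ⟨ntx, _, isCoatom_conjg.2 maxM, hx⟩
    refine ⟨g⁻¹ * x * g⁻¹⁻¹ * (g⁻¹ * r * g⁻¹⁻¹), ⟨g⁻¹ * x * g⁻¹⁻¹, ?_, (ell1J_of g⁻¹ ell1x).1,
      g⁻¹ * r * g⁻¹⁻¹, ?_, rfl⟩, g, Subgroup.mem_top g, by group⟩
    · rw [MsigmaJ, mem_conjg] at hx
      rwa [inv_inv]
    · rw [sigRJ ell1x]; exact conj_mem_conjg _ hr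

/-- B & G, Lemma 14.5(b). -/
theorem sigma_support_disjoint {M₁ M₂ : Subgroup G} (maxM₁ : IsCoatom M₁) (maxM₂ : IsCoatom M₂)
    (notj : ∀ g, M₂ ≠ M₁ :^ g) :
    Disjoint (classSupport (sigmaCover M₁) ⊤) (classSupport (sigmaCover M₂) ⊤) := by
  rw [Set.disjoint_left]
  intro z h1 h2
  obtain ⟨x, ntx, ⟨g, hx⟩, r, hr, rfl⟩ := (mem_classSupport_sigmaCover maxM₁).1 h1
  obtain ⟨y, nty, ⟨h, hy⟩, s, hs, e⟩ := (mem_classSupport_sigmaCover maxM₂).1 h2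
  have exy : x = y := by
    by_contra ne
    exact sigma_cover_disjoint ⟨ntx, _, isCoatom_conjg.2 maxM₁, hx⟩ ⟨nty, _, isCoatom_conjg.2 maxM₂, hy⟩
      ne r hr s hs e
  subst exy
  obtain ⟨p, -, -, s1, s2⟩ := exists_common_prime ntx (sigma_elt_of_mem hx) (sigma_elt_of_mem hy)
  rw [sigmaJ] at s1 s2
  exact Set.disjoint_left.1 (sigma_partition maxM₁ maxM₂ notj) s1 s2

theorem one_notin_classSupport {M : Subgroup G} (maxM : IsCoatom M) :
    (1 : G) ∉ classSupport (sigmaCover M) ⊤ := by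
  intro h
  obtain ⟨x, ntx, ⟨g, hx⟩, r, hr, e⟩ := (mem_classSupport_sigmaCover maxM).1 h
  have h1 := sigR_sigma' ntx ⟨isCoatom_conjg.2 maxM, hx⟩ hr
  rw [eq_inv_of_mul_eq_one_right e.symm] at h1
  have h2 := h1.inv
  rw [inv_inv] at h2
  exact ntx ((sigma_elt_of_mem hx).eq_one h2)

theorem one_notin_sigmaCover {M : Subgroup G} (maxM : IsCoatom M) : (1 : G) ∉ sigmaCover M :=
  fun h => one_notin_classSupport maxM ⟨1, h, 1, Subgroup.mem_top _, by group⟩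

theorem dichotomy_not_both {x r y y' : G} {M : Subgroup G} (ell1x : Ell1 x) (hr : r ∈ sigR x)
    (nty : y ≠ 1) (hM : M ∈ sigmaMmax y) (hy' : y' ∈ M ⊓ 𝒞[y]) (nty' : y' ≠ 1)
    (ky' : IsPiElt (kappa M) y') : x * r ≠ y * y' := by
  intro e
  have s'y' : IsPiElt (sigma M)ᶜ y' := ky'.mono fun p h => kappa_sigma'' h
  have sC : 𝒞[y] ≤ M := by
    rcases pi_of_cent_sigma hM.1 hM.2 nty hy' nty' s'y' with h | h
    · exact h.2
    · exact absurd (h.1.eq_one (ky'.mono fun p k => kappa_tau2' k)) nty'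
  have nnt : ¬ (sigmaMmax y).Nontrivial := fun h => (sigmaMmax_nontrivial_iff nty hM).1 h sC
  have sy := sigma_elt_of_mem hM.2
  have cyy' : y * y' = y' * y := (Subgroup.mem_centralizer_singleton_iff.1 (Subgroup.mem_inf.1 hy').2).symm
  obtain ⟨ntx, L, hL⟩ := id ell1x
  have sx := sigma_elt_of_mem hL.2
  have s'r := sigR_sigma' ntx hL hr
  rcases sigma_eq_or_disjoint hM.1 hL.1 with h | ⟨h1, -⟩
  · rw [h] at sx s'r
    obtain ⟨rfl, rfl⟩ := piPart_elt_unique sx s'r sy s'y' (sigR_comm hr) cyy' e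
    rw [sigR_eq_bot nnt] at hr
    exact nty' (Subgroup.mem_bot.1 hr)
  · have yR : y ∈ sigR x := Subgroup.zpowers_le.2 hr
      (piPart_mem_zpowers sy s'y' cyy' (sx.mono h1) (sigR_comm hr) e.symm)
    obtain ⟨uN, -, t2x, -⟩ := FT_signalizer_context ell1x (nontrivial_of_sigR (ne_bot_of_mem yR nty))
    have eN : sigBase x = M := (Set.not_nontrivial_iff.1 nnt) ⟨uN.1, (Subgroup.mem_inf.1 yR).1⟩ hM
    have sr : IsPiElt (sigma M) r := eN ▸ sigma_elt_of_mem (Subgroup.mem_inf.1 hr).1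
    obtain ⟨-, rfl⟩ := piPart_elt_unique sr (sx.mono h1) sy s'y' (sigR_comm hr).symm cyy'
      ((sigR_comm hr).symm.trans e)
    rw [eN] at t2x
    exact ntx (t2x.eq_one (ky'.mono fun p k => kappa_tau2' k))

theorem dichotomy_exists {g : G} (ntg : g ≠ 1) :
    (∃ x, Ell1 x ∧ x⁻¹ * g ∈ sigR x) ∨
      (∃ y, Ell1 y ∧ ∃ M ∈ sigmaMmax y, y⁻¹ * g ∈ M ⊓ 𝒞[y] ∧ y⁻¹ * g ≠ 1 ∧
        IsPiElt (kappa M) (y⁻¹ * g)) := by
  by_contra hc
  obtain ⟨n1, n2⟩ := not_or.1 hc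
  have claim : ∀ M : Subgroup G, IsCoatom M → g ∈ M → IsPiElt (sigma M)ᶜ g := by
    intro M maxM Mg
    obtain ⟨a, b, ha, hb, sa, s'b, e, cab⟩ := exists_piPart (sigma M) g
    by_cases a1 : a = 1
    · rw [e, a1, one_mul]; exact s'b
    exfalso
    have Ma := Subgroup.zpowers_le.2 Mg ha
    have Mb := Subgroup.zpowers_le.2 Mg hb
    have Msa := mem_Msigma maxM Ma sa
    have ell1a : Ell1 a := ⟨a1, M, maxM, Msa⟩
    have eb : a⁻¹ * g = b := by rw [e, inv_mul_cancel_left]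
    have ntb : b ≠ 1 := fun b1 => n1 ⟨a, ell1a, by rw [eb, b1]; exact Subgroup.one_mem _⟩
    have Cb : b ∈ M ⊓ 𝒞[a] := Subgroup.mem_inf.2 ⟨Mb, Subgroup.mem_centralizer_singleton_iff.2 cab.symm⟩
    rcases pi_of_cent_sigma maxM Msa a1 Cb ntb s'b with h | ⟨-, ell1b, uM⟩
    · exact n2 ⟨a, ell1a, M, ⟨maxM, Msa⟩, by rw [eb]; exact ⟨Cb, ntb, h.1⟩⟩
    · obtain ⟨L, hL⟩ := ell1b.2
      have nt : (sigmaMmax b).Nontrivial := by
        by_contra nt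
        obtain rfl := eq_uniq_mmax uM hL.1 (cent1_sub_uniq_sigma_mmax nt hL)
        exact ntb ((sigma_elt_of_mem hL.2).eq_one s'b)
      refine n1 ⟨b, ell1b, ?_⟩
      rw [sigR_def, sigBase_eq nt uM, e, cab, inv_mul_cancel_left]
      exact Subgroup.mem_inf.2 ⟨Msa, Subgroup.mem_centralizer_singleton_iff.2 cab⟩
  obtain ⟨p, hp, hd⟩ := exists_prime_dvd_card (zpowers_ne_bot' ntg)
  obtain ⟨M₀, maxM₀, sp⟩ := sigma_mmax_exists hp (hd.trans (Subgroup.card_subgroup_dvd_card _))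
  rw [Nat.card_zpowers] at hd
  have notin : ∀ h, g ∉ M₀ :^ h := fun h hg =>
    claim _ (isCoatom_conjg.2 maxM₀) hg p hp hd (by rwa [sigmaJ])
  obtain ⟨a, b, ha, hb, sa, s'b, e, cab⟩ := exists_piPart (sigma M₀) g
  have a1 : a ≠ 1 := by
    rintro rfl
    rw [one_mul] at e
    exact s'b p hp (e ▸ hd) sp
  obtain ⟨h, Msa⟩ := exists_conj_mem_Msigma maxM₀ sa
  have hM : M₀ :^ h ∈ sigmaMmax a := ⟨isCoatom_conjg.2 maxM₀, Msa⟩
  have Cg : g ∈ 𝒞[a] := cent_singleton_le_of_mem_zpowers ha (mem_cent_singleton_self g)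
  obtain ⟨uN, -, -, -, h1⟩ := FT_signalizer_context ⟨a1, _, hM⟩
    ((sigmaMmax_nontrivial_iff a1 hM).2 fun h => notin _ (h Cg))
  have Ng := uN.2.1 Cg
  obtain ⟨u, -, hu⟩ := Hall_subJ (mmax_sol uN.1) (h1 _ hM).2.2.2 (Subgroup.zpowers_le.2 Ng)
    (piGrp_zpowers_iff.2 (claim _ uN.1 Ng))
  apply notin (u * h)
  rw [conjg_mul]
  exact conjg_mono u inf_le_left (hu (Subgroup.mem_zpowers g))

/-- B & G, Lemma 14.6. -/
theorem sigma_decomposition_dichotomy {g : G} (ntg : g ≠ 1) :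
    Xor' (∃ x, Ell1 x ∧ x⁻¹ * g ∈ sigR x)
      (∃ y, Ell1 y ∧ ∃ M ∈ sigmaMmax y, y⁻¹ * g ∈ M ⊓ 𝒞[y] ∧ y⁻¹ * g ≠ 1 ∧
        IsPiElt (kappa M) (y⁻¹ * g)) := by
  have nb : (∃ x, Ell1 x ∧ x⁻¹ * g ∈ sigR x) → (∃ y, Ell1 y ∧ ∃ M ∈ sigmaMmax y,
      y⁻¹ * g ∈ M ⊓ 𝒞[y] ∧ y⁻¹ * g ≠ 1 ∧ IsPiElt (kappa M) (y⁻¹ * g)) → False := by
    rintro ⟨x, ell1x, hr⟩ ⟨y, ell1y, M, hM, h1, h2, h3⟩
    exact dichotomy_not_both ell1x hr ell1y.1 hM h1 h2 h3 (by group)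
  rcases dichotomy_exists ntg with h | h
  · exact Or.inl ⟨h, nb h⟩
  · exact Or.inr ⟨h, fun h' => nb h' h⟩

end CA.BG.P14
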