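/-
B & G section 14, part d: counting (Lemma 14.5(c)) and the dual pair of maximal subgroups of type `𝓟`.
-/
import Cfsg.Agent.BG.P14c

set_option autoImplicit false
set_option linter.unusedSectionVars false

namespace CA.BG.P14

open Cfsg CA.FG CA.BG
open CA.BG.P13 (not_conj_symm not_conj_conj_left not_conj_conj_right ne_of_not_conj
  semiprime_of_prime_subgroups semiregular_of_prime_subgroups exists_prime_of_not_semiregular
  mem_primesOf_of_pGrp mem_of_piGrp_of_card_prime p1Elem_of_prime mmax_norm_exists ne_bot_of_norm_le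
  sigma_le_Msigma sol_le_mmax ex_tau1_compl tau2_compl_eq_bot exists_p2Elem_tau2 comm_eq_of_regular
  tau13_mem_primesOf)

universe u

section General

variable {G : Type u} [Group G]

/-- The number of conjugates of a subgroup is the index of its normalizer. -/
theorem ncard_conjugates (H : Subgroup G) : {L : Subgroup G | ∃ g, L = H :^ g}.ncard = (𝒩(H)).index := by
  rw [← Nat.card_coe_set_eq, Subgroup.index]
  refine (Nat.card_congr (Equiv.ofBijective (fun q : G ⧸ 𝒩(H) =>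
    (⟨H :^ q.out, q.out, rfl⟩ : {L : Subgroup G | ∃ g, L = H :^ g})) ⟨fun a b e => ?_, ?_⟩)).symm
  · have e' : H :^ a.out = H :^ b.out := congrArg Subtype.val e
    rw [conjg_eq_conjg_iff, ← QuotientGroup.eq, QuotientGroup.out_eq', QuotientGroup.out_eq'] at e'
    exact e'.symm
  · rintro ⟨_, g, rfl⟩
    obtain ⟨n, hn⟩ := QuotientGroup.mk_out_eq_mul (𝒩(H)) g
    refine ⟨(g : G ⧸ 𝒩(H)), Subtype.ext ?_⟩
    show H :^ _ = H :^ g
    rw [hn, conjg_mul, conjg_of_mem_norm n.2]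

/-- The number of conjugates of elements of a TI-set. -/
theorem ncard_classSupport_TI {A : Set G} {L : Subgroup G}
    (h : ∀ a ∈ A, ∀ g, g * a * g⁻¹ ∈ A ↔ g ∈ L) : (classSupport A ⊤).ncard = A.ncard * L.index := by
  rw [← Nat.card_coe_set_eq, ← Nat.card_coe_set_eq, Subgroup.index, ← Nat.card_prod]
  refine (Nat.card_congr (Equiv.ofBijective (fun q : A × (G ⧸ L) =>
    (⟨q.2.out * q.1 * q.2.out⁻¹, q.1, q.1.2, q.2.out, Subgroup.mem_top _, rfl⟩ : classSupport A ⊤))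
      ⟨?_, ?_⟩)).symm
  · rintro ⟨x, a⟩ ⟨y, b⟩ e
    have e' : a.out * x * a.out⁻¹ = b.out * y * b.out⁻¹ := congrArg Subtype.val e
    have h1 : b.out⁻¹ * a.out ∈ L := by
      rw [← h x x.2, show b.out⁻¹ * a.out * x * (b.out⁻¹ * a.out)⁻¹ =
        b.out⁻¹ * (a.out * x * a.out⁻¹) * b.out by group, e',
        show b.out⁻¹ * (b.out * y * b.out⁻¹) * b.out = y by group]
      exact y.2
    rw [← QuotientGroup.eq, QuotientGroup.out_eq', QuotientGroup.out_eq'] at h1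
    subst h1
    rw [mul_left_inj, mul_right_inj] at e'
    rw [Subtype.ext e']
  · rintro ⟨_, x, hx, g, -, rfl⟩
    obtain ⟨l, hl⟩ := QuotientGroup.mk_out_eq_mul L g
    refine ⟨(⟨(l : G)⁻¹ * x * (l : G)⁻¹⁻¹, (h x hx _).2 (L.inv_mem l.2)⟩, (g : G ⧸ L)), Subtype.ext ?_⟩
    show (g : G ⧸ L).out * ((l : G)⁻¹ * x * (l : G)⁻¹⁻¹) * (g : G ⧸ L).out⁻¹ = g * x * g⁻¹
    rw [hl]; group

theorem ncard_classSupport_normedTI {A : Set G} {L : Subgroup G} (h : NormedTI A ⊤ L) :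
    (classSupport A ⊤).ncard = A.ncard * L.index :=
  ncard_classSupport_TI fun a ha g => h.2.2 a ha g (Subgroup.mem_top g)

theorem ncard_coe_subgroup (H : Subgroup G) : (H : Set G).ncard = Nat.card H :=
  (Nat.card_coe_set_eq _).symm

theorem ncard_sharp (H : Subgroup G) : (sharp H).ncard = Nat.card H - 1 := by
  have : sharp H = (H : Set G) \ {1} := rfl
  rw [this, Set.ncard_sdiff_singleton_of_mem H.one_mem, ncard_coe_subgroup]

theorem conj_mem_classSupport {A : Set G} {x : G} (g : G) (h : x ∈ classSupport A ⊤) :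
    g * x * g⁻¹ ∈ classSupport A ⊤ := by
  obtain ⟨a, ha, h, -, rfl⟩ := h
  exact ⟨a, ha, g * h, Subgroup.mem_top _, by group⟩

theorem mem_classSupport_self {A : Set G} {x : G} (h : x ∈ A) : x ∈ classSupport A ⊤ :=
  ⟨x, h, 1, Subgroup.mem_top _, by group⟩

theorem zHat_comm (K L : Subgroup G) : zHat K L = zHat L K := by
  show ((K ⊔ L : Subgroup G) : Set G) \ (K ∪ L) = ((L ⊔ K : Subgroup G) : Set G) \ (L ∪ K)
  rw [sup_comm, Set.union_comm]

theorem mem_zHat {K L : Subgroup G} {z : G} : z ∈ zHat K L ↔ z ∈ K ⊔ L ∧ z ∉ K ∧ z ∉ L :=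
  ⟨fun h => ⟨h.1, fun k => h.2 (Or.inl k), fun k => h.2 (Or.inr k)⟩, fun h => ⟨h.1, fun k => k.elim h.2.1 h.2.2⟩⟩

theorem conj_mem_zHat {K L : Subgroup G} {z : G} (g : G) (h : z ∈ zHat K L) :
    g * z * g⁻¹ ∈ zHat (K :^ g) (L :^ g) := by
  rw [mem_zHat] at h ⊢
  rwa [← conjg_sup, conj_mem_conjg_iff, conj_mem_conjg_iff, conj_mem_conjg_iff]

theorem mem_zHat_iff_of_dprod {K L Z : Subgroup G} (h : DProd K L Z) {z : G} :
    z ∈ zHat K L ↔ ∃ x ∈ K, x ≠ 1 ∧ ∃ y ∈ L, y ≠ 1 ∧ z = x * y := by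
  rw [mem_zHat]
  constructor
  · rintro ⟨h1, h2, h3⟩
    obtain ⟨x, hx, y, hy, rfl⟩ := h.complIn.2.2.2 z (h.sup_eq ▸ h1)
    refine ⟨x, hx, ?_, y, hy, ?_, rfl⟩
    · rintro rfl
      exact h3 (by rwa [one_mul])
    · rintro rfl
      exact h2 (by rwa [mul_one])
  · rintro ⟨x, hx, ntx, y, hy, nty, rfl⟩
    refine ⟨Subgroup.mul_mem_sup hx hy, fun k => nty ?_, fun k => ntx ?_⟩
    · rw [← Subgroup.mem_bot, ← h.inf_eq]
      exact Subgroup.mem_inf.2 ⟨(Subgroup.mul_mem_cancel_left _ hx).1 k, hy⟩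
    · rw [← Subgroup.mem_bot, ← h.inf_eq]
      exact Subgroup.mem_inf.2 ⟨hx, (Subgroup.mul_mem_cancel_right _ hy).1 k⟩

theorem ncard_zHat [Finite G] {K L Z : Subgroup G} (h : DProd K L Z) :
    (zHat K L).ncard = (Nat.card K - 1) * (Nat.card L - 1) := by
  rw [← ncard_sharp, ← ncard_sharp, ← Nat.card_coe_set_eq, ← Nat.card_coe_set_eq, ← Nat.card_coe_set_eq,
    ← Nat.card_prod]
  refine (Nat.card_congr (Equiv.ofBijective (fun q : sharp K × sharp L =>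
    (⟨q.1 * q.2, (mem_zHat_iff_of_dprod h).2 ⟨_, q.1.2.1, q.1.2.2, _, q.2.2.1, q.2.2.2, rfl⟩⟩ : zHat K L))
      ⟨?_, ?_⟩)).symm
  · rintro ⟨x, y⟩ ⟨x', y'⟩ e
    have e' : (x : G) * y = x' * y' := congrArg Subtype.val e
    have h1 : (x' : G)⁻¹ * x ∈ K ⊓ L := by
      refine Subgroup.mem_inf.2 ⟨K.mul_mem (K.inv_mem x'.2.1) x.2.1, ?_⟩
      rw [show (x' : G)⁻¹ * x = (x' : G)⁻¹ * (x * y) * (y : G)⁻¹ by group, e', inv_mul_cancel_left]
      exact L.mul_mem y'.2.1 (L.inv_mem y.2.1)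
    rw [h.inf_eq, Subgroup.mem_bot, inv_mul_eq_one] at h1
    rw [h1, mul_right_inj] at e'
    rw [Subtype.ext h1, Subtype.ext e']
  · rintro ⟨z, hz⟩
    obtain ⟨x, hx, ntx, y, hy, nty, rfl⟩ := (mem_zHat_iff_of_dprod h).1 hz
    exact ⟨(⟨x, hx, ntx⟩, ⟨y, hy, nty⟩), rfl⟩

end General

variable {G : Type u} [Group G] [MinSimpleOdd G]

/-- B & G, Lemma 14.5(c). -/
theorem card_class_support_sigma {M : Subgroup G} (maxM : IsCoatom M) :
    (classSupport (sigmaCover M) ⊤).ncard = (Nat.card (sigmaCore M) - 1) * M.index := by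
  classical
  let S : Set G := {x | x ≠ 1 ∧ ∃ g, x ∈ sigmaCore (M :^ g)}
  let C : Set (Subgroup G) := {L | ∃ g, L = M :^ g}
  have ell : ∀ x : S, Ell1 (x : G) := fun x => by
    obtain ⟨ntx, g, hx⟩ := x.2
    exact ⟨ntx, _, isCoatom_conjg.2 maxM, hx⟩
  have := Fintype.ofFinite S
  have := Fintype.ofFinite C
  have e1 : Nat.card (Σ x : S, sigR (x : G)) = Nat.card (classSupport (sigmaCover M) ⊤) := by
    refine Nat.card_congr (Equiv.ofBijective (fun q => ⟨(q.1 : G) * q.2,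
      (mem_classSupport_sigmaCover maxM).2 ⟨_, q.1.2.1, q.1.2.2, _, q.2.2, rfl⟩⟩) ⟨?_, ?_⟩)
    · rintro ⟨x, r⟩ ⟨y, s⟩ e
      have e' : (x : G) * r = y * s := congrArg Subtype.val e
      obtain rfl : x = y := by
        by_contra ne
        exact sigma_cover_disjoint (ell x) (ell y) (fun h => ne (Subtype.ext h)) _ r.2 _ s.2 e'
      rw [mul_right_inj] at e'
      rw [Subtype.ext e']
    · rintro ⟨z, hz⟩
      obtain ⟨x, ntx, hx, r, hr, rfl⟩ := (mem_classSupport_sigmaCover maxM).1 hz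
      exact ⟨⟨⟨x, ntx, hx⟩, ⟨r, hr⟩⟩, rfl⟩
  have e2 : Nat.card (Σ x : S, sigR (x : G)) = Nat.card (Σ x : S, sigmaMmax (x : G)) := by
    rw [Nat.card_sigma, Nat.card_sigma]
    exact Finset.sum_congr rfl fun x _ => by
      rw [(FT_signalizer_trans (ell x)).2.1, Nat.card_coe_set_eq]
  have e3 : Nat.card (Σ L : C, sharp (sigmaCore (L : Subgroup G))) =
      Nat.card (Σ x : S, sigmaMmax (x : G)) := by
    refine Nat.card_congr (Equiv.ofBijective (fun q => ⟨⟨q.2, q.2.2.2, ?_⟩, ⟨q.1, ?_, q.2.2.1⟩⟩) ⟨?_, ?_⟩)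
    · obtain ⟨g, hg⟩ := q.1.2
      exact ⟨g, hg ▸ q.2.2.1⟩
    · obtain ⟨g, hg⟩ := q.1.2
      rw [hg]; exact isCoatom_conjg.2 maxM
    · rintro ⟨⟨L, hL⟩, ⟨x, hx⟩⟩ ⟨⟨L', hL'⟩, ⟨y, hy⟩⟩ e
      obtain rfl : x = y := congrArg (fun q : Σ x : S, sigmaMmax (x : G) => (q.1 : G)) e
      obtain rfl : L = L' := congrArg (fun q : Σ x : S, sigmaMmax (x : G) => (q.2 : Subgroup G)) e
      rfl
    · rintro ⟨⟨x, ntx, g, hx⟩, ⟨L, hL⟩⟩
      obtain ⟨p, -, -, s1, s2⟩ := exists_common_prime ntx (sigma_elt_of_mem hx) (sigma_elt_of_mem hL.2)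
      rw [sigmaJ] at s1
      exact ⟨⟨⟨L, conj_of_sigma maxM hL.1 s1 s2⟩, ⟨x, hL.2, ntx⟩⟩, rfl⟩
  rw [← Nat.card_coe_set_eq, ← e1, e2, ← e3, Nat.card_sigma,
    Finset.sum_congr rfl (g := fun _ => Nat.card (sigmaCore M) - 1), Finset.sum_const, Finset.card_univ,
    smul_eq_mul, ← Nat.card_eq_fintype_card, Nat.card_coe_set_eq, ncard_conjugates, norm_mmax maxM, mul_comm]
  rintro ⟨_, g, rfl⟩ -
  rw [Nat.card_coe_set_eq, ncard_sharp, MsigmaJ, card_conjg]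

section Pair

variable {M K : Subgroup G}

theorem zHat_decomp (hallK : IsPiHallOf (kappa M) K M) {z : G} (hz : z ∈ zHat K (sigmaCore M ⊓ 𝒞(K))) :
    ∃ x ∈ K, x ≠ 1 ∧ ∃ y ∈ sigmaCore M ⊓ 𝒞(K), y ≠ 1 ∧ z = x * y ∧ x * y = y * x ∧
      x ∈ Subgroup.zpowers z ∧ y ∈ Subgroup.zpowers z := by
  obtain ⟨x, hx, ntx, y, hy, nty, rfl⟩ := (mem_zHat_iff_of_dprod (Ptype_dprod hallK)).1 hz
  have cxy : x * y = y * x := (Subgroup.mem_inf.1 hy).2 x hx
  have co : (orderOf x).Coprime (orderOf y) :=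
    PiNat.coprime' ((kappa_sigma'_grp hallK.piGrp).piElt hx) ((Kstar_sigma M K).piElt hy)
  exact ⟨x, hx, ntx, y, hy, nty, rfl, cxy, mem_zpowers_mul_of_coprime cxy co,
    mem_zpowers_mul_of_coprime' cxy co⟩

theorem zHat_not_mem_conj (PM : TypeP M) (hallK : IsPiHallOf (kappa M) K M) {g : G} (hg : g ∉ M) {z : G}
    (hz : z ∈ zHat K (sigmaCore M ⊓ 𝒞(K))) : z ∉ M :^ g := by
  intro h
  obtain ⟨x, -, -, y, hy, nty, -, -, -, yz⟩ := zHat_decomp hallK hz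
  exact ne_bot_of_mem (Subgroup.mem_inf.2 ⟨hy, Subgroup.zpowers_le.2 h yz⟩) nty (Ptype_Kstar_TI PM hallK hg)

theorem zHat_TI (PM : TypeP M) (hallK : IsPiHallOf (kappa M) K M) {g z : G}
    (hz : z ∈ zHat K (sigmaCore M ⊓ 𝒞(K))) (h : g * z * g⁻¹ ∈ K ⊔ (sigmaCore M ⊓ 𝒞(K))) :
    g ∈ K ⊔ (sigmaCore M ⊓ 𝒞(K)) := by
  have Mg : g ∈ M := by
    by_contra hg
    exact zHat_not_mem_conj PM hallK (g := g⁻¹) (fun k => hg (inv_mem_iff.1 k)) hz
      (mem_conjg_inv.2 (Ptype_Z_le hallK h))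
  obtain ⟨x, hx, ntx, y, -, -, -, -, xz, -⟩ := zHat_decomp hallK hz
  rw [← Ptype_normK PM hallK]
  refine Subgroup.mem_inf.2 ⟨Mg, ?_⟩
  by_contra ng
  have h1 : g * x * g⁻¹ ∈ K ⊓ K :^ g := by
    refine Subgroup.mem_inf.2 ⟨(Ptype_hallK_Z hallK).mem_of_normal (Ptype_dprod hallK).left_normal.2
      (((kappa_sigma'_grp hallK.piGrp).piElt hx).conj g) ?_, conj_mem_conjg g hx⟩
    apply Subgroup.zpowers_le.2 h
    rw [← conjg_zpowers]
    exact conj_mem_conjg g xz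
  rw [Ptype_K_TI PM hallK Mg ng, Subgroup.mem_bot, mul_inv_eq_one, mul_eq_left] at h1
  exact ntx h1

theorem zHat_not_cover (hallK : IsPiHallOf (kappa M) K M) (maxM : IsCoatom M) {z : G}
    (hz : z ∈ zHat K (sigmaCore M ⊓ 𝒞(K))) {N : Subgroup G} (maxN : IsCoatom N) :
    z ∉ classSupport (sigmaCover N) ⊤ := by
  intro h
  obtain ⟨x, hx, ntx, y, hy, nty, rfl, cxy, -⟩ := zHat_decomp hallK hz
  obtain ⟨a, nta, ⟨g, ha⟩, r, hr, e⟩ := (mem_classSupport_sigmaCover maxN).1 h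
  exact dichotomy_not_both ⟨nta, _, isCoatom_conjg.2 maxN, ha⟩ hr nty ⟨maxM, (Subgroup.mem_inf.1 hy).1⟩
    (Subgroup.mem_inf.2 ⟨hallK.le hx, Subgroup.mem_centralizer_singleton_iff.2 cxy⟩) ntx
    (hallK.piGrp.piElt hx) (e.symm.trans cxy)

theorem disjoint_classSupport_cover {A : Set G} {N : Subgroup G}
    (h : ∀ z ∈ A, z ∉ classSupport (sigmaCover N) ⊤) :
    Disjoint (classSupport A ⊤) (classSupport (sigmaCover N) ⊤) := by
  rw [Set.disjoint_left]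
  rintro _ ⟨a, ha, g, -, rfl⟩ h'
  have := conj_mem_classSupport g⁻¹ h'
  rw [show g⁻¹ * (g * a * g⁻¹) * g⁻¹⁻¹ = a by group] at this
  exact h a ha this

theorem Pmax_sym (PM : TypeP M) (hallK : IsPiHallOf (kappa M) K M) {X L : Subgroup G} (sXK : X ≤ K)
    (prX : (Nat.card X).Prime) (maxL : IsCoatom L) (sNL : 𝒩(X) ≤ L) :
    TypeP L ∧ ∃ K' : Subgroup G, IsPiHallOf (kappa L) K' L ∧ sigmaCore M ⊓ 𝒞(K) ≤ K' ∧
      K ⊔ (sigmaCore M ⊓ 𝒞(K)) ≤ K' ⊔ (sigmaCore L ⊓ 𝒞(K')) := by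
  have maxM := PM.1
  have ntX := ne_bot_of_card_prime prX
  have sZL : K ⊔ (sigmaCore M ⊓ 𝒞(K)) ≤ L := by
    rw [← Ptype_normX PM hallK sXK prX]; exact inf_le_right.trans sNL
  have sXLs := Ptype_sigma_norm PM hallK sXK prX maxL sNL
  have s'q := mem_of_piGrp_of_card_prime (kappa_sigma'_grp hallK.piGrp) sXK prX
  have sLq := mem_of_piGrp_of_card_prime (Msigma_pgroup L) sXLs prX
  have neLM : L ≠ M := fun e => s'q (e ▸ sLq)
  have dis : sigma M ⊆ (sigma L)ᶜ :=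
    ((sigma_eq_or_disjoint maxM maxL).resolve_left fun e => s'q (e ▸ sLq)).2
  have kKs : IsPiGrp (kappa L) (sigmaCore M ⊓ 𝒞(K)) := by
    intro p hp hd
    obtain ⟨y, hy, oy⟩ := exists_mem_orderOf_eq hp hd
    have nty : y ≠ 1 := by
      rintro rfl
      exact hp.one_lt.ne (orderOf_one.symm.trans oy)
    obtain ⟨x, hx, ntx⟩ := exists_mem_ne_one ntX
    have uM := Ptype_uniqX PM hallK (Subgroup.zpowers_le.2 hy) (by rwa [Nat.card_zpowers, oy])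
    rw [cent_zpowers] at uM
    rcases pi_of_cent_sigma maxL (sXLs hx) ntx (Subgroup.mem_inf.2 ⟨sZL (Subgroup.mem_sup_right hy),
      cent_le_cent_singleton (sXK hx) (Subgroup.mem_inf.1 hy).2⟩) nty
      (((Kstar_sigma M K).piElt hy).mono dis) with h | h
    · exact h.1 p hp (oy ▸ dvd_rfl)
    · exact absurd (eq_uniq_mmax uM maxL h.2.2.2.1) neLM
  obtain ⟨K', hallK', sKs⟩ := Hall_superset (mmax_sol maxL) (le_sup_right.trans sZL) kKs
  have PL : TypeP L := (trivgPmax maxL hallK').1 (ne_bot_mono sKs (Ptype_Kstar_ne_bot PM hallK))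
  refine ⟨PL, K', hallK', sKs, sup_le ?_ (sKs.trans le_sup_left)⟩
  obtain ⟨Y, sY, prY⟩ := exists_prime_le (Ptype_Kstar_ne_bot PM hallK)
  rw [← Ptype_normX PL hallK' (sY.trans sKs) prY]
  exact le_inf (le_sup_left.trans sZL) (norm_of_cent' (sY.trans inf_le_right))

theorem Pmax_dual (PM : TypeP M) (hallK : IsPiHallOf (kappa M) K M) {X L : Subgroup G} (sXK : X ≤ K)
    (prX : (Nat.card X).Prime) (maxL : IsCoatom L) (sNL : 𝒩(X) ≤ L) :
    TypeP L ∧ ∃ K' : Subgroup G, IsPiHallOf (kappa L) K' L ∧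
      K' ⊔ (sigmaCore L ⊓ 𝒞(K')) = K ⊔ (sigmaCore M ⊓ 𝒞(K)) := by
  obtain ⟨PL, K', hallK', sKs, sZ⟩ := Pmax_sym PM hallK sXK prX maxL sNL
  refine ⟨PL, K', hallK', le_antisymm ?_ sZ⟩
  obtain ⟨Y, sY, prY⟩ := exists_prime_le (Ptype_Kstar_ne_bot PM hallK)
  have uY := Ptype_uniqX PM hallK sY prY
  have sNM : 𝒩(Y) ≤ M := sub_uniq_mmax uY (cent_le_norm Y)
    (mFT_norm_proper (ne_bot_of_card_prime prY) (sub_mmax_proper PM.1 (sY.trans (Kstar_le M K))))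
  obtain ⟨-, K'', hallK'', sKs', sZ'⟩ := Pmax_sym PL hallK' (sY.trans sKs) prY PM.1 sNM
  have sXKs' : X ≤ sigmaCore L ⊓ 𝒞(K') :=
    (Ptype_hallKs_Z hallK').le_of_normal (Ptype_dprod hallK').right_normal.2
      ((Msigma_pgroup L).of_le (Ptype_sigma_norm PM hallK sXK prX maxL sNL))
      ((sXK.trans le_sup_left).trans sZ)
  rwa [← Ptype_normX PM hallK'' (sXKs'.trans sKs') prX, Ptype_normX PM hallK sXK prX] at sZ'

end Pair

end CA.BG.P14
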