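/-
B & G section 14, part e: Theorem 14.7 - Corollary 14.9.
-/
import Cfsg.Agent.BG.P14d

set_option autoImplicit false
set_option linter.unusedSectionVars false

namespace CA.BG.P14

open Cfsg CA.FG CA.BG
open CA.BG.P13 (not_conj_symm not_conj_conj_left not_conj_conj_right ne_of_not_conj
  semiprime_of_prime_subgroups semiregular_of_prime_subgroups exists_prime_of_not_semiregular
  mem_primesOf_of_pGrp mem_of_piGrp_of_card_prime p1Elem_of_prime mmax_norm_exists ne_bot_of_norm_le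
  sigma_le_Msigma sol_le_mmax ex_tau1_compl tau2_compl_eq_bot exists_p2Elem_tau2 comm_eq_of_regular
  tau13_mem_primesOf)

universe u

variable {G : Type u} [Group G] [MinSimpleOdd G]

section Family

variable {L K L' K' : Subgroup G}

theorem fam_inf_eq_bot (PL : TypeP L) (hallK : IsPiHallOf (kappa L) K L) (PL' : TypeP L')
    (hallK' : IsPiHallOf (kappa L') K' L') (ne : L' ≠ L) :
    (sigmaCore L ⊓ 𝒞(K)) ⊓ (sigmaCore L' ⊓ 𝒞(K')) = ⊥ := by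
  by_contra nt
  obtain ⟨X, sX, prX⟩ := exists_prime_le nt
  exact ne (eq_uniq_mmax (Ptype_uniqX PL hallK (sX.trans inf_le_left) prX) PL'.1
    (Ptype_uniqX PL' hallK' (sX.trans inf_le_right) prX).2.1)

theorem fam_le (PL : TypeP L) (hallK : IsPiHallOf (kappa L) K L) (PL' : TypeP L')
    (hallK' : IsPiHallOf (kappa L') K' L') (ne : L' ≠ L)
    (e : K' ⊔ (sigmaCore L' ⊓ 𝒞(K')) = K ⊔ (sigmaCore L ⊓ 𝒞(K))) : sigmaCore L' ⊓ 𝒞(K') ≤ K := by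
  have sZ : sigmaCore L' ⊓ 𝒞(K') ≤ K ⊔ (sigmaCore L ⊓ 𝒞(K)) := e ▸ le_sup_right
  have h := (Ptype_hallKs_Z hallK).inf_of_normal (Ptype_dprod hallK).right_normal.2 sZ
  exact (Ptype_hallK_Z hallK).le_of_normal (Ptype_dprod hallK).left_normal.2
    (h.eq_bot_iff.1 (fam_inf_eq_bot PL hallK PL' hallK' ne)) sZ

theorem fam_not_conj (hallK : IsPiHallOf (kappa L) K L) (PL' : TypeP L')
    (hallK' : IsPiHallOf (kappa L') K' L') (h : sigmaCore L' ⊓ 𝒞(K') ≤ K) : ∀ g, L' ≠ L :^ g := by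
  rintro g rfl
  have h1 := Kstar_sigma (L :^ g) K'
  rw [sigmaJ] at h1
  exact Ptype_Kstar_ne_bot PL' hallK' (h1.eq_bot ((kappa_sigma'_grp hallK.piGrp).of_le h))

theorem fam_eq (hallK : IsPiHallOf (kappa L) K L) (hallK' : IsPiHallOf (kappa L) K' L)
    (e : K' ⊔ (sigmaCore L ⊓ 𝒞(K')) = K ⊔ (sigmaCore L ⊓ 𝒞(K))) : K' = K :=
  (Ptype_hallK_Z hallK).eq_of_normal (Ptype_dprod hallK).left_normal.2 (e ▸ Ptype_hallK_Z hallK')

theorem P1type_sdprod (P1L : TypeP1 L) (hallK : IsPiHallOf (kappa L) K L) :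
    SDProd (sigmaCore L) K L := by
  obtain ⟨U, complU⟩ := ex_kappa_compl P1L.1.1 hallK
  have h := (kappa_compl_context P1L.1.1 complU).2.2.1
  rwa [(trivg_kappa_compl P1L.1.1 complU).2 P1L, bot_sup_eq] at h

theorem P1type_count (P1L : TypeP1 L) (hallK : IsPiHallOf (kappa L) K L) :
    2 * (Nat.card ↥(sigmaCore L ⊓ 𝒞(K)) - 1) * (K ⊔ (sigmaCore L ⊓ 𝒞(K))).index +
      (K ⊔ (sigmaCore L ⊓ 𝒞(K))).index ≤ 2 * (classSupport (sigmaCover L) ⊤).ncard := by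
  have PL := P1L.1
  have sZ := Ptype_Z_le hallK
  have h1 := (P1type_sdprod P1L hallK).card_mul
  have h2 := card_mul_relIndex sZ
  have h3 := (Ptype_dprod hallK).card_mul
  have h4 := Subgroup.relIndex_mul_index sZ
  have h5 : (K ⊔ (sigmaCore L ⊓ 𝒞(K))).relIndex L ≠ 1 := by
    rw [Ne, Subgroup.relIndex_eq_one]
    intro sL
    obtain ⟨X, sX, prX⟩ := exists_prime_le (Ptype_Kstar_ne_bot PL hallK)
    obtain ⟨S, sylS⟩ := sylow_exists prX (sigmaCore L)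
    exact Ptype_sylow_not_le PL hallK ((Ptype_uniq PL hallK prX (p1Elem_of_prime sX prX)).2 S sylS)
      ((Ptype_hallKs_Z hallK).le_of_normal (Ptype_dprod hallK).right_normal.2
        ((Msigma_pgroup L).of_le sylS.le) (sylS.le.trans ((Msigma_normal L).1.trans sL)))
  have h6 := relIndex_pos (K ⊔ (sigmaCore L ⊓ 𝒞(K))) L
  have h7 : 0 < Nat.card ↥(sigmaCore L ⊓ 𝒞(K)) := Nat.card_pos
  have h8 : 0 < Nat.card K := Nat.card_pos
  rw [card_class_support_sigma PL.1, ← h4]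
  rw [← h2, ← h3] at h1
  generalize (K ⊔ (sigmaCore L ⊓ 𝒞(K))).relIndex L = m at h1 h5 h6
  generalize Nat.card ↥(sigmaCore L ⊓ 𝒞(K)) = s at h1 h7
  obtain ⟨b, rfl⟩ : ∃ b, m = b + 2 := ⟨m - 2, by omega⟩
  obtain ⟨a, rfl⟩ : ∃ a, s = a + 1 := ⟨s - 1, by omega⟩
  have h9 : Nat.card (sigmaCore L) = (a * b + 2 * a + b + 1) + 1 :=
    Nat.eq_of_mul_eq_mul_right h8 (by rw [h1]; ring)
  rw [h9, Nat.add_sub_cancel, Nat.add_sub_cancel]
  nlinarith [Nat.zero_le (b * L.index)]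

end Family

section Dual

variable {M K : Subgroup G}

theorem fam_cover (PM : TypeP M) (hallK : IsPiHallOf (kappa M) K M) {X : Subgroup G}
    (sX : X ≤ K ⊔ (sigmaCore M ⊓ 𝒞(K))) (prX : (Nat.card X).Prime) :
    ∃ L : Subgroup G, (TypeP L ∧ ∃ K' : Subgroup G, IsPiHallOf (kappa L) K' L ∧
      K' ⊔ (sigmaCore L ⊓ 𝒞(K')) = K ⊔ (sigmaCore M ⊓ 𝒞(K))) ∧ X ≤ sigmaCore L := by
  have pX : IsPGrp (Nat.card X) X := pGrp_of_card_eq prX rfl
  by_cases sp : Nat.card X ∈ sigma M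
  · exact ⟨M, ⟨PM, K, hallK, rfl⟩, sigma_le_Msigma PM.1 (sX.trans (Ptype_Z_le hallK)) (pX.piGrp sp)⟩
  · have sXK : X ≤ K :=
      (Ptype_hallK_Z hallK).le_of_normal (Ptype_dprod hallK).left_normal.2 (pX.piGrp sp) sX
    obtain ⟨L, maxL, sNL⟩ := mmax_norm_exists (ne_bot_of_card_prime prX)
      (sub_mmax_proper PM.1 (sXK.trans hallK.le))
    exact ⟨L, Pmax_dual PM hallK sXK prX maxL sNL, Ptype_sigma_norm PM hallK sXK prX maxL sNL⟩

theorem fam_exists_ne (PM : TypeP M) (hallK : IsPiHallOf (kappa M) K M) :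
    ∃ L : Subgroup G, (TypeP L ∧ ∃ K' : Subgroup G, IsPiHallOf (kappa L) K' L ∧
      K' ⊔ (sigmaCore L ⊓ 𝒞(K')) = K ⊔ (sigmaCore M ⊓ 𝒞(K))) ∧ L ≠ M := by
  obtain ⟨X, sX, prX⟩ := exists_prime_le ((trivgPmax PM.1 hallK).2 PM)
  obtain ⟨L, hL, sXL⟩ := fam_cover PM hallK (sX.trans le_sup_left) prX
  refine ⟨L, hL, ?_⟩
  rintro rfl
  exact ne_bot_of_card_prime prX
    (((Msigma_pgroup L).of_le sXL).eq_bot ((kappa_sigma'_grp hallK.piGrp).of_le sX))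

theorem fam_exists_P2 (PM : TypeP M) (hallK : IsPiHallOf (kappa M) K M) :
    ∃ L : Subgroup G, TypeP2 L ∧ ∃ K' : Subgroup G, IsPiHallOf (kappa L) K' L ∧
      K' ⊔ (sigmaCore L ⊓ 𝒞(K')) = K ⊔ (sigmaCore M ⊓ 𝒞(K)) := by
  classical
  by_contra noP2
  generalize hZ : K ⊔ (sigmaCore M ⊓ 𝒞(K)) = Z at noP2
  let ι := {L : Subgroup G // TypeP L ∧ ∃ K' : Subgroup G, IsPiHallOf (kappa L) K' L ∧
      K' ⊔ (sigmaCore L ⊓ 𝒞(K')) = Z}
  have := Fintype.ofFinite ι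
  have hK : ∀ L : ι, ∃ K' : Subgroup G, IsPiHallOf (kappa L.1) K' L.1 ∧
      K' ⊔ (sigmaCore L.1 ⊓ 𝒞(K')) = Z := fun L => L.2.2
  choose Kf hallKf eZ using hK
  have P1 : ∀ L : ι, TypeP1 L.1 := fun L => ⟨L.2.1, by
    by_contra h
    exact noP2 ⟨L.1, ⟨L.2.1, h⟩, L.2.2⟩⟩
  have two : 2 ≤ Fintype.card ι := by
    obtain ⟨L, hL, ne⟩ := fam_exists_ne PM hallK
    rw [hZ] at hL
    exact Fintype.one_lt_card_iff.2 ⟨⟨L, hL⟩, ⟨M, PM, K, hallK, hZ⟩, fun e => ne (congrArg Subtype.val e)⟩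
  let T : Set G := {z | z ∈ Z ∧ ∀ L : ι, z ∉ sigmaCore L.1 ⊓ 𝒞(Kf L)}
  have T1 : ∀ t ∈ T, ∃ L : ι, t ∈ zHat (Kf L) (sigmaCore L.1 ⊓ 𝒞(Kf L)) := by
    intro t ht
    have ntt : t ≠ 1 := by
      rintro rfl
      exact ht.2 ⟨M, PM, K, hallK, hZ⟩ (Subgroup.one_mem _)
    obtain ⟨X, sX, prX⟩ := exists_prime_le (zpowers_ne_bot' ntt)
    obtain ⟨L, hL, sXL⟩ := fam_cover PM hallK (hZ ▸ sX.trans (Subgroup.zpowers_le.2 ht.1)) prX
    rw [hZ] at hL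
    refine ⟨⟨L, hL⟩, mem_zHat.2 ⟨(eZ _).symm ▸ ht.1, fun h => ?_, ht.2 _⟩⟩
    exact ne_bot_of_card_prime prX (((Msigma_pgroup L).of_le sXL).eq_bot
      ((kappa_sigma'_grp (hallKf ⟨L, hL⟩).piGrp).of_le (sX.trans (Subgroup.zpowers_le.2 h))))
  have T2 : ∀ a ∈ T, ∀ g, g * a * g⁻¹ ∈ T ↔ g ∈ Z := by
    intro a ha g
    constructor
    · intro h
      obtain ⟨L, hL⟩ := T1 a ha
      rw [← eZ L]
      exact zHat_TI L.2.1 (hallKf L) hL ((eZ L).symm ▸ h.1)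
    · intro hg
      refine ⟨Z.mul_mem (Z.mul_mem hg ha.1) (Z.inv_mem hg), fun L h => ha.2 L ?_⟩
      have := conj_mem_of_le_norm' (Ptype_dprod (hallKf L)).right_normal.2 ((eZ L).symm ▸ hg) h
      rwa [show g⁻¹ * (g * a * g⁻¹) * g = a by group] at this
  have T3 : Nat.card Z ≤ T.ncard + 1 + ∑ L : ι, (Nat.card ↥(sigmaCore L.1 ⊓ 𝒞(Kf L)) - 1) := by
    have sub : (Z : Set G) ⊆ T ∪ {1} ∪ ⋃ L : ι, sharp (sigmaCore L.1 ⊓ 𝒞(Kf L)) := by
      intro z hz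
      by_cases h1 : z = 1
      · exact Or.inl (Or.inr h1)
      by_cases h2 : z ∈ T
      · exact Or.inl (Or.inl h2)
      · right
        by_contra h3
        exact h2 ⟨hz, fun L h => h3 (Set.mem_iUnion.2 ⟨L, h, h1⟩)⟩
    rw [← ncard_coe_subgroup]
    refine (Set.ncard_le_ncard sub).trans ((Set.ncard_union_le _ _).trans (add_le_add ?_ ?_))
    · exact (Set.ncard_union_le _ _).trans (by rw [Set.ncard_singleton])
    · exact (Set.ncard_iUnion_le_of_fintype _).trans (Finset.sum_le_sum fun L _ => (ncard_sharp _).le)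
  have D1 : (⋃ L : ι, classSupport (sigmaCover L.1) ⊤).ncard =
      ∑ L : ι, (classSupport (sigmaCover L.1) ⊤).ncard := by
    rw [Set.ncard_iUnion_of_finite (fun _ => Set.toFinite _), finsum_eq_sum_of_fintype]
    intro L L' ne
    exact sigma_support_disjoint L.2.1.1 L'.2.1.1 (fam_not_conj (hallKf L) L'.2.1 (hallKf L')
      (fam_le L.2.1 (hallKf L) L'.2.1 (hallKf L') (fun e => ne (Subtype.ext e).symm)
        ((eZ L').trans (eZ L).symm)))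
  have D2 : Disjoint (classSupport T ⊤) (⋃ L : ι, classSupport (sigmaCover L.1) ⊤) := by
    rw [Set.disjoint_iUnion_right]
    intro L
    refine disjoint_classSupport_cover fun z hz => ?_
    obtain ⟨L', hL'⟩ := T1 z hz
    exact zHat_not_cover (hallKf L') L'.2.1.1 hL' L.2.1.1
  have D3 : (classSupport T ⊤ ∪ ⋃ L : ι, classSupport (sigmaCover L.1) ⊤).ncard < Nat.card G := by
    rw [← Set.ncard_univ]
    refine Set.ncard_lt_ncard (Set.ssubset_univ_iff.2 fun e => ?_)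
    have h1 : (1 : G) ∈ classSupport T ⊤ ∪ ⋃ L : ι, classSupport (sigmaCover L.1) ⊤ :=
      e ▸ Set.mem_univ _
    rcases h1 with ⟨a, ha, g, -, h⟩ | h
    · have a1 : a = 1 := by rwa [eq_comm, mul_inv_eq_one, mul_eq_left] at h
      exact ha.2 ⟨M, PM, K, hallK, hZ⟩ (a1 ▸ Subgroup.one_mem _)
    · obtain ⟨L, hL⟩ := Set.mem_iUnion.1 h
      exact one_notin_classSupport L.2.1.1 hL
  rw [Set.ncard_union_eq D2, D1, ncard_classSupport_TI T2, ← Subgroup.card_mul_index Z] at D3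
  have S1 : ∑ L : ι, (2 * (Nat.card ↥(sigmaCore L.1 ⊓ 𝒞(Kf L)) - 1) * Z.index + Z.index) ≤
      ∑ L : ι, 2 * (classSupport (sigmaCover L.1) ⊤).ncard := by
    refine Finset.sum_le_sum fun L _ => ?_
    have := P1type_count (P1 L) (hallKf L)
    rwa [eZ L] at this
  rw [Finset.sum_add_distrib, ← Finset.sum_mul, ← Finset.mul_sum, ← Finset.mul_sum, Finset.sum_const,
    Finset.card_univ, smul_eq_mul] at S1
  nlinarith [Nat.mul_le_mul_right Z.index T3, Nat.mul_le_mul_right Z.index two]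

/-- The dual maximal subgroup `M*`. -/
theorem Ptype_dual (PM : TypeP M) (hallK : IsPiHallOf (kappa M) K M) :
    ∃ L : Subgroup G, TypeP L ∧ IsPiHallOf (kappa L) (sigmaCore M ⊓ 𝒞(K)) L ∧
      sigmaCore L ⊓ 𝒞(sigmaCore M ⊓ 𝒞(K)) = K ∧ (TypeP2 M ∨ TypeP2 L) := by
  have key : ∀ {A B KA KB : Subgroup G}, TypeP2 A → IsPiHallOf (kappa A) KA A → TypeP B →
      IsPiHallOf (kappa B) KB B → B ≠ A → KB ⊔ (sigmaCore B ⊓ 𝒞(KB)) = KA ⊔ (sigmaCore A ⊓ 𝒞(KA)) →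
      sigmaCore B ⊓ 𝒞(KB) = KA ∧ sigmaCore A ⊓ 𝒞(KA) = KB := by
    intro A B KA KB P2A hallA PB hallB ne e
    have h1 : sigmaCore B ⊓ 𝒞(KB) = KA := (eq_bot_or_eq_of_le_card_prime (P2type_structure P2A hallA).2.1
      (fam_le P2A.1 hallA PB hallB ne e)).resolve_left (Ptype_Kstar_ne_bot PB hallB)
    refine ⟨h1, Subgroup.eq_of_le_of_card_ge (fam_le PB hallB P2A.1 hallA ne.symm e.symm) (le_of_eq ?_)⟩
    have h2 := (Ptype_dprod hallA).card_mul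
    have h3 := (Ptype_dprod hallB).card_mul
    rw [e, ← h2, h1, mul_comm] at h3
    exact Nat.eq_of_mul_eq_mul_left Nat.card_pos h3
  obtain ⟨L, P2L, K', hallK', e⟩ := fam_exists_P2 PM hallK
  by_cases eL : L = M
  · subst eL
    obtain ⟨L', ⟨PL', K'', hallK'', e'⟩, ne⟩ := fam_exists_ne PM hallK
    obtain ⟨h1, h2⟩ := key P2L hallK PL' hallK'' ne e'
    exact ⟨L', PL', h2 ▸ hallK'', by rw [h2, h1], Or.inl P2L⟩
  · obtain ⟨h1, h2⟩ := key P2L hallK' PM hallK (Ne.symm eL) e.symm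
    exact ⟨L, P2L.1, h1 ▸ hallK', by rw [h1, h2], Or.inr P2L⟩

theorem kappa_nil_cyclic (hallK : IsPiHallOf (kappa M) K M) (nilK : Group.IsNilpotent K) :
    IsCyclic K := by
  refine nil_Zgroup_cyclic (zgroup_of_exists_sylow fun p hp hd => ?_) nilK
  obtain ⟨P, sylP⟩ := sylow_exists hp K
  exact ⟨P, sylP, tau13_pgroup_cyclic (kappa_tau13 (hallK.piGrp p hp hd)) (sylP.le.trans hallK.le)
    sylP.pGrp⟩

theorem Ptype_cyclic (PM : TypeP M) (hallK : IsPiHallOf (kappa M) K M) :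
    IsCyclic K ∧ IsCyclic ↥(sigmaCore M ⊓ 𝒞(K)) := by
  obtain ⟨L, PL, hallKs, eK, P2 | P2⟩ := Ptype_dual PM hallK
  · obtain ⟨-, prK, nilMs, -⟩ := P2type_structure P2 hallK
    exact ⟨isCyclic_of_card_prime prK, kappa_nil_cyclic hallKs (nil_of_le nilMs inf_le_left)⟩
  · obtain ⟨-, prK, nilMs, -⟩ := P2type_structure P2 hallKs
    exact ⟨kappa_nil_cyclic hallK (nil_of_le nilMs (eK ▸ inf_le_left)), isCyclic_of_card_prime prK⟩

theorem Ptype_Z_cyclic (PM : TypeP M) (hallK : IsPiHallOf (kappa M) K M) :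
    IsCyclic ↥(K ⊔ (sigmaCore M ⊓ 𝒞(K))) :=
  cyclic_sup_of_coprime (Ptype_cyclic PM hallK).1 (Ptype_cyclic PM hallK).2 inf_le_right
    (PiNat.coprime' (kappa_sigma'_grp hallK.piGrp) (Kstar_sigma M K))

theorem Ptype_cent1 (PM : TypeP M) (hallK : IsPiHallOf (kappa M) K M) {x : G} (hx : x ∈ K) (ntx : x ≠ 1) :
    M ⊓ 𝒞[x] = K ⊔ (sigmaCore M ⊓ 𝒞(K)) := by
  apply le_antisymm
  · obtain ⟨X, sX, prX⟩ := exists_prime_le (zpowers_ne_bot' ntx)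
    rw [← Ptype_normX PM hallK (sX.trans (Subgroup.zpowers_le.2 hx)) prX, ← cent_zpowers]
    exact inf_le_inf_left M ((cent_anti sX).trans (cent_le_norm X))
  · exact le_inf (Ptype_Z_le hallK) ((abelian_iff_le_cent.1 (abelian_of_cyclic
      (Ptype_Z_cyclic PM hallK))).trans (cent_le_cent_singleton (Subgroup.mem_sup_left hx)))

theorem Ptype_der (PM : TypeP M) {U : Subgroup G} (complU : KappaCompl M U K) :
    ⁅M, M⁆ = sigmaCore M ⊔ U ∧ SDProd ⁅M, M⁆ K M := by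
  have maxM := PM.1
  have hallK := complU.hallK
  have hallU := complU.hallU
  obtain ⟨hallE, defE, defM, -, reg, -⟩ := kappa_compl_context maxM complU
  have nMsM := (Msigma_normal M).2
  have k'H : IsPiGrp (kappa M)ᶜ (sigmaCore M ⊔ U) :=
    IsPiGrp.sup ((Msigma_pgroup M).mono fun p sp kp => kappa_sigma'' kp sp) (kappa'_of_hallU hallU)
      (Or.inr (hallU.le.trans nMsM))
  have defM' : SDProd (sigmaCore M ⊔ U) K M :=
    sdprod_mk (norm_sup (hallK.le.trans nMsM) defE.norm) (by rw [sup_assoc, defM.sup_eq])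
      (by rw [inf_comm]; exact hallK.piGrp.inf_eq_bot k'H)
  have e : ⁅M, M⁆ = sigmaCore M ⊔ U := by
    refine le_antisymm (defM'.der_le (abelian_of_cyclic (Ptype_cyclic PM hallK).1))
      (sup_le (Msigma_der1 maxM) ?_)
    rw [← comm_eq_of_regular defE.norm (PiNat.coprime' (kappa'_of_hallU hallU) hallK.piGrp)
      (Or.inr (sol_le_mmax maxM hallK.le)) (cent_semiregular reg le_rfl ((trivgPmax maxM hallK).2 PM))]
    exact Subgroup.commutator_mono hallU.le hallK.le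
  exact ⟨e, e ▸ defM'⟩

theorem Ptype_kappa_eq (PM : TypeP M) : kappa M = tau1 M := by
  obtain ⟨K, hallK⟩ := ex_kappa_hall PM.1
  apply Set.Subset.antisymm
  · intro p kp
    refine (kappa_tau13 kp).resolve_right fun t3p => ?_
    obtain ⟨U, complU⟩ := ex_kappa_compl PM.1 hallK
    have h := (Ptype_der PM complU).2.complIn.relIndex_right
    exact hallK.index p kp.1 (h ▸ (mem_tau3_iff.1 t3p).2.2.2) kp
  · intro p t1p
    obtain ⟨E, hallE, sKE⟩ := ex_sigma_compl_kappa PM.1 hallK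
    obtain ⟨U, -, -, -, -, -, -, E₁, hallE₁, sE₁K, -⟩ := Ptype_compl PM hallK hallE sKE
    have hp := tau1_prime t1p
    exact hallK.piGrp p hp (((hallE₁.dvd_card_iff hp t1p).2
      (tau13_mem_primesOf PM.1 hallE (Or.inl t1p)).2).trans (Subgroup.card_dvd_of_le sE₁K))

theorem Ptype_zHat_TI (PM : TypeP M) (hallK : IsPiHallOf (kappa M) K M) :
    NormedTI (zHat K (sigmaCore M ⊓ 𝒞(K))) ⊤ (K ⊔ (sigmaCore M ⊓ 𝒞(K))) := by
  refine ⟨?_, le_top, fun a ha g _ => ⟨fun h => zHat_TI PM hallK ha h.1, fun hg => ?_⟩⟩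
  · obtain ⟨x, hx, ntx⟩ := exists_mem_ne_one ((trivgPmax PM.1 hallK).2 PM)
    obtain ⟨y, hy, nty⟩ := exists_mem_ne_one (Ptype_Kstar_ne_bot PM hallK)
    exact ⟨_, (mem_zHat_iff_of_dprod (Ptype_dprod hallK)).2 ⟨x, hx, ntx, y, hy, nty, rfl⟩⟩
  · rwa [abelian_iff_forall.1 (abelian_of_cyclic (Ptype_Z_cyclic PM hallK)) g hg a ha.1,
      mul_inv_cancel_right]

theorem Ptype_zHat_card (PM : TypeP M) (hallK : IsPiHallOf (kappa M) K M) :
    Nat.card G < 2 * (classSupport (zHat K (sigmaCore M ⊓ 𝒞(K))) ⊤).ncard := by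
  rw [ncard_classSupport_normedTI (Ptype_zHat_TI PM hallK), ncard_zHat (Ptype_dprod hallK),
    ← Subgroup.card_mul_index (K ⊔ (sigmaCore M ⊓ 𝒞(K))), ← (Ptype_dprod hallK).card_mul, ← mul_assoc]
  apply Nat.mul_lt_mul_of_pos_right _ (index_pos _)
  have h1 := one_lt_card ((trivgPmax PM.1 hallK).2 PM)
  have h2 := one_lt_card (Ptype_Kstar_ne_bot PM hallK)
  have h3 : (Nat.card K).Coprime (Nat.card ↥(sigmaCore M ⊓ 𝒞(K))) :=
    PiNat.coprime' (kappa_sigma'_grp hallK.piGrp) (Kstar_sigma M K)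
  obtain ⟨a, ha⟩ := mFT_odd K
  obtain ⟨b, hb⟩ := mFT_odd (sigmaCore M ⊓ 𝒞(K))
  rw [ha, hb] at h3 ⊢
  rw [ha] at h1
  rw [hb] at h2
  have h4 : a ≠ 1 ∨ b ≠ 1 := by
    by_contra h
    push Not at h
    rw [h.1, h.2] at h3
    exact absurd h3 (by decide)
  obtain ⟨c, rfl⟩ : ∃ c, a = c + 1 := ⟨a - 1, by omega⟩
  obtain ⟨d, rfl⟩ : ∃ d, b = d + 1 := ⟨b - 1, by omega⟩
  have h5 : 1 ≤ c + d := by omega
  rw [Nat.add_sub_cancel, Nat.add_sub_cancel]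
  nlinarith [Nat.zero_le (c * d)]

theorem Ptype_trans_aux (PM : TypeP M) (hallK : IsPiHallOf (kappa M) K M) {H : Subgroup G}
    (PH : TypeP H) : ∃ q ∈ sigma H, q ∣ Nat.card K ∨ q ∈ sigma M := by
  obtain ⟨J, hallJ⟩ := ex_kappa_hall PH.1
  have h1 := Ptype_zHat_card PM hallK
  have h2 := Ptype_zHat_card PH hallJ
  have h3 : ¬ Disjoint (classSupport (zHat K (sigmaCore M ⊓ 𝒞(K))) ⊤)
      (classSupport (zHat J (sigmaCore H ⊓ 𝒞(J))) ⊤) := by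
    intro d
    have h4 := Set.ncard_le_ncard (Set.subset_univ (classSupport (zHat K (sigmaCore M ⊓ 𝒞(K))) ⊤ ∪
      classSupport (zHat J (sigmaCore H ⊓ 𝒞(J))) ⊤))
    rw [Set.ncard_union_eq d, Set.ncard_univ] at h4
    omega
  obtain ⟨_, ⟨z, hz, a, -, rfl⟩, w, hw, b, -, e⟩ := Set.not_disjoint_iff.1 h3
  obtain ⟨x, -, -, y, hy, nty, -, -, -, yw⟩ := zHat_decomp hallJ hw
  obtain ⟨q, hq, hd⟩ := exists_prime_dvd_card (zpowers_ne_bot' nty)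
  refine ⟨q, (Kstar_sigma H J).of_le (Subgroup.zpowers_le.2 hy) q hq hd, ?_⟩
  have h4 : q ∣ Nat.card ↥(K ⊔ (sigmaCore M ⊓ 𝒞(K))) := by
    refine (hd.trans (Subgroup.card_dvd_of_le (Subgroup.zpowers_le.2 yw))).trans ?_
    rw [Nat.card_zpowers, ← orderOf_conj w b, ← e, orderOf_conj]
    exact orderOf_dvd_card_of_mem hz.1
  rw [← (Ptype_dprod hallK).card_mul] at h4
  exact ((Nat.Prime.dvd_mul hq).1 h4).imp_right (Kstar_sigma M K q hq)

end Dual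

/-- B & G, Theorem 14.7, with `K* = C_{M_σ}(K)`, `Z = K K*`, `Ẑ = zHat K K*`. -/
theorem Ptype_embedding {M K : Subgroup G} (PM : TypeP M) (hallK : IsPiHallOf (kappa M) K M) :
    ∃ Mstar : Subgroup G, TypeP Mstar ∧ (∀ g, Mstar ≠ M :^ g) ∧
    (∀ X : Subgroup G, X ≤ K → (Nat.card X).Prime → UniqMax 𝒞(X) Mstar) ∧
    (IsPiHallOf (kappa Mstar) (sigmaCore M ⊓ 𝒞(K)) Mstar ∧
      IsPiHallOf (sigma M) (sigmaCore M ⊓ 𝒞(K)) Mstar) ∧
    (sigmaCore Mstar ⊓ 𝒞(sigmaCore M ⊓ 𝒞(K)) = K ∧ kappa M = tau1 M) ∧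
    (IsCyclic ↥(K ⊔ (sigmaCore M ⊓ 𝒞(K))) ∧ M ⊓ Mstar = K ⊔ (sigmaCore M ⊓ 𝒞(K)) ∧
      (∀ x ∈ K, x ≠ 1 → M ⊓ 𝒞[x] = K ⊔ (sigmaCore M ⊓ 𝒞(K))) ∧
      (∀ y ∈ sigmaCore M ⊓ 𝒞(K), y ≠ 1 → Mstar ⊓ 𝒞[y] = K ⊔ (sigmaCore M ⊓ 𝒞(K))) ∧
      ∀ x ∈ K, x ≠ 1 → ∀ y ∈ sigmaCore M ⊓ 𝒞(K), y ≠ 1 →
        𝒞[x * y] = K ⊔ (sigmaCore M ⊓ 𝒞(K))) ∧
    (NormedTI (zHat K (sigmaCore M ⊓ 𝒞(K))) ⊤ (K ⊔ (sigmaCore M ⊓ 𝒞(K))) ∧
      (∀ g, g ∉ M → ∀ z ∈ zHat K (sigmaCore M ⊓ 𝒞(K)), z ∉ M :^ g) ∧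
      Nat.card G < 2 * (classSupport (zHat K (sigmaCore M ⊓ 𝒞(K))) ⊤).ncard) ∧
    ((TypeP2 M ∧ (Nat.card K).Prime) ∨ (TypeP2 Mstar ∧ (Nat.card ↥(sigmaCore M ⊓ 𝒞(K))).Prime)) ∧
    (∀ H : Subgroup G, TypeP H → ∃ g, H = M :^ g ∨ H = Mstar :^ g) ∧
    SDProd ⁅M, M⁆ K M := by
  obtain ⟨L, PL, hallKs, eK, P2⟩ := Ptype_dual PM hallK
  have maxM := PM.1
  have maxL := PL.1
  have notj := fam_not_conj hallK PL hallKs eK.le
  have sKLs : K ≤ sigmaCore L := eK ▸ inf_le_left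
  have eZ : sigmaCore M ⊓ 𝒞(K) ⊔ (sigmaCore L ⊓ 𝒞(sigmaCore M ⊓ 𝒞(K))) = K ⊔ (sigmaCore M ⊓ 𝒞(K)) := by
    rw [eK, sup_comm]
  have hallS : IsPiHallOf (sigma M) (sigmaCore M ⊓ 𝒞(K)) L := by
    obtain ⟨Y, hallY, sY⟩ := Hall_superset (mmax_sol maxL) hallKs.le (Kstar_sigma M K)
    have sYMs := Ptype_sigma_sub PM hallK hallY.piGrp
      (ne_bot_mono (le_inf sY le_rfl) (Ptype_Kstar_ne_bot PM hallK))
    have cYK : Y ≤ 𝒞(K) := by
      apply comm_eq_bot_iff.1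
      rw [eq_bot_iff, ← (Msigma_pgroup M).inf_eq_bot ((Msigma_pgroup L).mono fun p h1 h2 =>
        Set.disjoint_left.1 (sigma_partition maxM maxL notj) h2 h1)]
      exact le_inf ((Subgroup.commutator_mono sYMs hallK.le).trans (comm_le_left (Msigma_normal M).2))
        ((Subgroup.commutator_mono hallY.le sKLs).trans (comm_le_right (Msigma_normal L).2))
    rwa [le_antisymm sY (le_inf sYMs cYK)]
  have cZ := Ptype_Z_cyclic PM hallK
  obtain ⟨U, complU⟩ := ex_kappa_compl maxM hallK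
  refine ⟨L, PL, notj, fun X sX prX => Ptype_uniqX PL hallKs (eK.symm ▸ sX) prX, ⟨hallKs, hallS⟩,
    ⟨eK, Ptype_kappa_eq PM⟩, ⟨cZ, ?_, fun x hx ntx => Ptype_cent1 PM hallK hx ntx,
      fun y hy nty => (Ptype_cent1 PL hallKs hy nty).trans eZ, fun x hx ntx y hy nty => ?_⟩,
    ⟨Ptype_zHat_TI PM hallK, fun g hg z hz => zHat_not_mem_conj PM hallK hg hz, Ptype_zHat_card PM hallK⟩,
    P2.imp (fun h => ⟨h, (P2type_structure h hallK).2.1⟩) fun h => ⟨h, (P2type_structure h hallKs).2.1⟩,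
    fun H PH => ?_, (Ptype_der PM complU).2⟩
  · refine le_antisymm ?_ (le_inf (Ptype_Z_le hallK) (eZ ▸ Ptype_Z_le hallKs))
    rw [← eZ, ← Ptype_normK PL hallKs]
    refine le_inf inf_le_right ?_
    rw [← hallS.eq_of_le (K := sigmaCore M ⊓ L) ((Msigma_pgroup M).inf_left _)
      (le_inf inf_le_left hallKs.le) inf_le_right]
    exact norm_inf (inf_le_left.trans (Msigma_normal M).2) (norm_of_le inf_le_right)
  · have hz := (mem_zHat_iff_of_dprod (Ptype_dprod hallK)).2 ⟨x, hx, ntx, y, hy, nty, rfl⟩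
    refine le_antisymm (fun g hg => zHat_TI PM hallK hz ?_)
      ((abelian_iff_le_cent.1 (abelian_of_cyclic cZ)).trans (cent_le_cent_singleton hz.1))
    rw [Subgroup.mem_centralizer_singleton_iff.1 hg, mul_inv_cancel_right]
    exact hz.1
  · obtain ⟨q, sHq, h | h⟩ := Ptype_trans_aux PM hallK PH
    · obtain ⟨g, e⟩ := conj_of_sigma maxL PH.1
        ((Msigma_pgroup L).of_le sKLs q (sigma_prime sHq) h) sHq
      exact ⟨g, Or.inr e⟩
    · obtain ⟨g, e⟩ := conj_of_sigma maxM PH.1 h sHq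
      exact ⟨g, Or.inl e⟩

/-- B & G, Corollary 14.8, first part. -/
theorem P1type_trans {M H : Subgroup G} (P1M : TypeP1 M) (P1H : TypeP1 H) : ∃ g, H = M :^ g := by
  obtain ⟨K, hallK⟩ := ex_kappa_hall P1M.1.1
  obtain ⟨L, -, -, -, -, -, -, -, P2, tr, -⟩ := Ptype_embedding P1M.1 hallK
  obtain ⟨g, h | rfl⟩ := tr H P1H.1
  · exact ⟨g, h⟩
  · exact (P2.elim (fun h => h.1.2 P1M.2) fun h => h.1.2 (P1typeJ.1 P1H).2).elim

theorem cover_or_kappa {g : G} (ntg : g ≠ 1) :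
    (∃ N : Subgroup G, IsCoatom N ∧ g ∈ classSupport (sigmaCover N) ⊤) ∨
    ∃ H J : Subgroup G, TypeP H ∧ IsPiHallOf (kappa H) J H ∧ g ∈ zHat J (sigmaCore H ⊓ 𝒞(J)) := by
  rcases dichotomy_exists ntg with ⟨x, ⟨ntx, N, hN⟩, hr⟩ | ⟨y, ell1y, H, hH, h1, h2, h3⟩
  · exact Or.inl ⟨N, hN.1, mem_classSupport_self ⟨x, hN.2, ntx, _, hr, by group⟩⟩
  · right
    obtain ⟨h4, h5⟩ := Subgroup.mem_inf.1 h1
    obtain ⟨J, hallJ, sJ⟩ := Hall_superset (mmax_sol hH.1) (Subgroup.zpowers_le.2 h4)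
      (piGrp_zpowers_iff.2 h3)
    have PH := (trivgPmax hH.1 hallJ).1 (ne_bot_mono sJ (zpowers_ne_bot' h2))
    refine ⟨H, J, PH, hallJ, (mem_zHat_iff_of_dprod (Ptype_dprod hallJ)).2
      ⟨_, sJ (Subgroup.mem_zpowers _), h2, y, ?_, ell1y.1, ?_⟩⟩
    · rw [← Ptype_cent_eq PH hallJ sJ (zpowers_ne_bot' h2), cent_zpowers]
      exact Subgroup.mem_inf.2 ⟨hH.2, mem_cent_singleton_comm.1 h5⟩
    · rw [Subgroup.mem_centralizer_singleton_iff.1 h5, mul_inv_cancel_left]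

/-- B & G, Corollary 14.9(1). -/
theorem mFT_partition_F (noP : ∀ M : Subgroup G, ¬ TypeP M) {g : G} (ntg : g ≠ 1) :
    ∃ M : Subgroup G, IsCoatom M ∧ g ∈ classSupport (sigmaCover M) ⊤ :=
  (cover_or_kappa ntg).resolve_right fun ⟨H, _, PH, _⟩ => noP H PH

theorem zHat_sub_classSupport {M K J : Subgroup G} {a : G} (maxM : IsCoatom M)
    (hallK : IsPiHallOf (kappa M) K M) (hallJ : IsPiHallOf (kappa (M :^ a)) J (M :^ a)) {g : G}
    (hg : g ∈ zHat J (sigmaCore (M :^ a) ⊓ 𝒞(J))) :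
    g ∈ classSupport (zHat K (sigmaCore M ⊓ 𝒞(K))) ⊤ := by
  rw [kappaJ] at hallJ
  obtain ⟨h, hh, rfl⟩ := Hall_trans (mmax_sol (isCoatom_conjg.2 maxM)) hallJ (hallK.conjg a)
  rw [← conjg_of_mem hh, ← Msigma_cent_conjg', ← Msigma_cent_conjg', ← conjg_mul, ← conjg_mul] at hg
  have := conj_mem_zHat (h * a)⁻¹ hg
  rw [conjg_inv_cancel, conjg_inv_cancel] at this
  exact ⟨_, this, h * a, Subgroup.mem_top _, by group⟩

/-- B & G, Corollary 14.9(2). -/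
theorem mFT_partition_P {M K : Subgroup G} (PM : TypeP M) (hallK : IsPiHallOf (kappa M) K M) :
    (∀ g : G, g ≠ 1 → (∃ N : Subgroup G, IsCoatom N ∧ g ∈ classSupport (sigmaCover N) ⊤) ∨
      g ∈ classSupport (zHat K (sigmaCore M ⊓ 𝒞(K))) ⊤) ∧
    ∀ N : Subgroup G, IsCoatom N →
      Disjoint (classSupport (zHat K (sigmaCore M ⊓ 𝒞(K))) ⊤) (classSupport (sigmaCover N) ⊤) := by
  refine ⟨fun g ntg => (cover_or_kappa ntg).imp_right ?_, fun N maxN =>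
    disjoint_classSupport_cover fun z hz => zHat_not_cover hallK PM.1 hz maxN⟩
  rintro ⟨H, J, PH, hallJ, hg⟩
  obtain ⟨L, PL, -, -, ⟨hallKs, -⟩, ⟨eK, -⟩, -, -, -, tr, -⟩ := Ptype_embedding PM hallK
  obtain ⟨a, rfl | rfl⟩ := tr H PH
  · exact zHat_sub_classSupport PM.1 hallK hallJ hg
  · have := zHat_sub_classSupport PL.1 hallKs hallJ hg
    rwa [eK, zHat_comm] at this

end CA.BG.P14
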