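/-
B & G section 14, part f: Lemmas 14.11 - 14.13.
-/
import Cfsg.Agent.BG.P14e

set_option autoImplicit false
set_option linter.unusedSectionVars false

namespace CA.BG.P14

open Cfsg CA.FG CA.BG
open CA.BG.P13 (not_conj_symm not_conj_conj_left not_conj_conj_right ne_of_not_conj
  semiprime_of_prime_subgroups semiregular_of_prime_subgroups exists_prime_of_not_semiregular
  mem_primesOf_of_pGrp mem_of_piGrp_of_card_prime p1Elem_of_prime mmax_norm_exists ne_bot_of_norm_le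
  sigma_le_Msigma sol_le_mmax ex_tau1_compl tau2_compl_eq_bot exists_p2Elem_tau2 comm_eq_of_regular
  tau13_mem_primesOf mem_of_not_le_of_index)

universe u

variable {G : Type u} [Group G] [MinSimpleOdd G]

theorem Ftype_regular {M Q : Subgroup G} {q : ℕ} (FM : TypeF M) (t13q : q ∈ tau1 M ∨ q ∈ tau3 M)
    (EqQ : IsPnElem q 1 Q M) : sigmaCore M ⊓ 𝒞(Q) = ⊥ := by
  by_contra h
  exact typeF_kappa' FM (mem_kappa_iff.2 ⟨t13q, Q, EqQ, h⟩)

/-- B & G, Lemma 14.11. -/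
theorem primes_non_Fitting_Ftype {M E Q : Subgroup G} {q : ℕ} (hq : q.Prime) (FM : TypeF M)
    (hallE : IsPiHallOf (sigma M)ᶜ E M) (EqQ : IsPnElem q 1 Q E) (nsQF : ¬ Q ≤ fittingOf E) :
    ∃ Mstar : Subgroup G, IsCoatom Mstar ∧
      ((q ∈ tau2 Mstar ∧ UniqMax 𝒞(Q) Mstar) ∨ (q ∈ kappa Mstar ∧ TypeP1 Mstar)) := by
  have maxM := FM.1
  have qQ := EqQ.pGrp hq
  have sQE := EqQ.le
  have sQM := sQE.trans hallE.le
  have t1q : q ∈ tau1 M := by
    rcases (partition_pi_sigma_compl maxM hallE).1 ⟨hq, EqQ.prime_dvd_card one_pos⟩ with h | h | h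
    · exact h
    · obtain ⟨A, EqA⟩ := exists_p2Elem_tau2 hallE h
      obtain ⟨⟨nsA, hA⟩, -⟩ := tau2_compl_context maxM hallE h EqA
      exact absurd ((hA Q EqQ).trans (fitting_max nsA (nil_of_abelian EqA.abelian))) nsQF
    · obtain ⟨E₃, hallE₃⟩ := (ex_tau13_compl maxM hallE).2
      obtain ⟨cE₃, -, nsE₃⟩ := tau3_cyclic_normal maxM hallE hallE₃
      exact absurd ((hallE₃.le_of_normal nsE₃.2 (qQ.piGrp h) sQE).trans
        (fitting_max nsE₃ (nil_of_cyclic cE₃))) nsQF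
  have regQ := Ftype_regular FM (Or.inl t1q) (EqQ.of_le sQM)
  have sKE' : ⁅E, Q⁆ ≤ ⁅E, E⁆ := Subgroup.commutator_mono le_rfl sQE
  have sKE : ⁅E, Q⁆ ≤ E := sKE'.trans (der_le E)
  have cK : IsMulCommutative ↥⁅E, Q⁆ := abelian_of_le (der_mmax_compl_abelian maxM hallE) sKE'
  have q'K : IsPiGrp {q}ᶜ ⁅E, Q⁆ :=
    IsPiGrp.of_le ((piGrp_compl_singleton_iff hq).2 ((tau1E maxM hallE).1 t1q).2.2) sKE'
  have coKQ : (Nat.card ↥⁅E, Q⁆).Coprime (Nat.card Q) := PiNat.coprime' q'K qQ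
  have nKE : E ≤ 𝒩(⁅E, Q⁆) := (comm_normalIn_left (norm_of_le sQE)).2
  have defK : ⁅⁅E, Q⁆, Q⁆ = ⁅E, Q⁆ := by
    have h := coprimeR_cent_prod (norm_of_le sQE) coKQ (Or.inr qQ.sol)
    have h2 := comm_sup_left_of_cent (H := ⁅E, Q⁆) (K := E ⊓ 𝒞(Q)) (L := Q) (inf_le_left.trans nKE)
      inf_le_right
    rw [h] at h2
    exact h2.symm
  have ntK : ⁅E, Q⁆ ≠ ⊥ := fun h =>
    nsQF ((le_inf sQE (comm_eq_bot_iff'.1 h)).trans (center_le_fitting E))
  have cKMs : ⁅E, Q⁆ ≤ 𝒞(sigmaCore M) := by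
    rw [← defK]
    exact (commG_sigma'_1Elem_cyclic maxM (sKE.trans hallE.le) (hallE.piGrp.of_le sKE) hq q'K
      (tau1_sigma' t1q) (EqQ.of_le (le_inf sQM (sQE.trans nKE))) regQ cK).1
  obtain ⟨p, hp, pK⟩ := exists_prime_dvd_card ntK
  obtain ⟨P, EpP⟩ := p1Elem_exists hp pK
  have t2p : p ∈ tau2 M := by
    have t13 : p ∈ tau1 M ∨ p ∈ tau3 M → False := fun h => Msigma_neq1 maxM (by
      rw [← Ftype_regular FM h (EpP.mono (sKE.trans hallE.le))]
      exact (inf_eq_left.2 (le_cent_symm (EpP.le.trans cKMs))).symm)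
    rcases (partition_pi_sigma_compl maxM hallE).1 ⟨hp, pK.trans (Subgroup.card_dvd_of_le sKE)⟩
      with h | h | h
    · exact (t13 (Or.inl h)).elim
    · exact h
    · exact (t13 (Or.inr h)).elim
  obtain ⟨A, EpA⟩ := exists_p2Elem_tau2 hallE t2p
  obtain ⟨⟨nsA, hA⟩, -⟩ := tau2_compl_context maxM hallE t2p EpA
  have ncQ : ¬ Q ≤ 𝒞(A) := by
    intro c
    have h := coprime_abel_cent_TI (sQE.trans nKE) coKQ cK
    rw [defK] at h
    apply EpP.ne_bot hp one_pos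
    rw [eq_bot_iff, ← h]
    exact le_inf EpP.le ((hA P (EpP.mono sKE)).trans (le_cent_symm c))
  obtain ⟨-, -, EA₁, -⟩ := tau1_act_tau2 maxM hallE t2p EpA t1q EqQ regQ
    fun h => ncQ (comm_eq_bot_iff'.1 h)
  obtain ⟨L, maxL, sNL⟩ := mmax_norm_exists (EpA.ne_bot hp two_pos)
    (sub_mmax_proper maxM (EpA.le.trans hallE.le))
  obtain ⟨h1, h2, -⟩ := primes_norm_tau2Elem maxM hallE t2p EpA maxL sNL
  obtain ⟨sLp, b'p⟩ := h1 p t2p
  have sQL : Q ≤ L := (sQE.trans nsA.2).trans sNL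
  have ntC : sigmaCore L ⊓ 𝒞(Q) ≠ ⊥ := ne_bot_mono (inf_le_inf_right _ (sigma_le_Msigma maxL
    (Subgroup.le_normalizer.trans sNL) ((EpA.pGrp hp).piGrp sLp))) (EA₁.ne_bot hp one_pos)
  refine ⟨L, maxL, ?_⟩
  rcases mem_of_not_le_of_index qQ sQE (norm_cent nsA.2) h2 ncQ with t1Lq | t2Lq
  · have kq : q ∈ kappa L := mem_kappa_iff.2 ⟨Or.inl t1Lq, Q, EqQ.of_le sQL, ntC⟩
    refine Or.inr ⟨kq, ?_⟩
    by_contra h
    obtain ⟨J, hallJ⟩ := ex_kappa_hall maxL
    rcases (notP1type maxL).1 h with h | h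
    · exact typeF_kappa' h kq
    · exact b'p ((P2type_structure h hallJ).1 ▸ sLp)
  · obtain ⟨F, hallF, sQF⟩ := ex_sigma_compl maxL sQL (qQ.piGrp (tau2_sigma' t2Lq))
    obtain ⟨B, EqB⟩ := exists_p2Elem_tau2 hallF t2Lq
    exact Or.inl ⟨t2Lq, (tau2_compl_context maxL hallF t2Lq EqB).2.2.1 Q (EqQ.of_le sQF) ntC⟩

/-- B & G, Lemma 14.12. -/
theorem P2type_signalizer {M Mstar U K R H : Subgroup G} {r : ℕ} (hr : r.Prime) (P2M : TypeP2 M)
    (complU : KappaCompl M U K) (maxMs : IsCoatom Mstar) (sCMs : 𝒞(K) ≤ Mstar)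
    (sylR : IsSylowOf r R U) (maxH : IsCoatom H) (sNH : 𝒩(R) ≤ H) :
    TypeF H ∧ U ≤ sigmaCore H ∧ U ⊔ K = M ⊓ H ∧ ¬ H ⊓ 𝒩(U) ≤ M ∧ K ≤ fittingOf (H ⊓ Mstar) ∧
    IsPiHallOf (sigma H)ᶜ (H ⊓ Mstar) H := by
  have PM := P2M.1
  have maxM := PM.1
  have hallK := complU.hallK
  have hallU := complU.hallU
  have ntK := (trivgPmax maxM hallK).2 PM
  have ntU : U ≠ ⊥ := fun e => P2M.2 ((trivg_kappa_compl maxM complU).1 e).2
  obtain ⟨hallE, defE, defM, -, regU, cU⟩ := kappa_compl_context maxM complU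
  replace cU := cU ntK
  have prK := (P2type_structure P2M hallK).2.1
  have qK : IsPGrp (Nat.card K) K := pGrp_of_card_eq prK rfl
  have kq : Nat.card K ∈ kappa M := hallK.piGrp _ prK dvd_rfl
  obtain ⟨L, PL, notjL, uniqK, ⟨hallKs, -⟩, ⟨eK, -⟩, ⟨cZ, defZ, -⟩, -, -, tr, -⟩ :=
    Ptype_embedding PM hallK
  have uK := uniqK K le_rfl prK
  obtain rfl : Mstar = L := eq_uniq_mmax uK maxMs sCMs
  have sKLs : K ≤ sigmaCore Mstar := eK ▸ inf_le_left
  have sLq : Nat.card K ∈ sigma Mstar := mem_of_piGrp_of_card_prime (Msigma_pgroup _) sKLs prK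
  have ntR := ne_bot_of_norm_le maxH sNH
  have sk'r := sylR.pGrp.mem_of_piGrp ntR (hallU.piGrp.of_le sylR.le)
  have sylRM : IsSylowOf r R M := sylR.trans_hall hallU sk'r
  have sEH : U ⊔ K ≤ H :=
    (defE.normal.2.trans (sylR.norm_le_norm (norm_of_le_abelian cU sylR.le))).trans sNH
  have sUH : U ≤ H := le_sup_left.trans sEH
  have sKH : K ≤ H := le_sup_right.trans sEH
  have defU : ⁅U, K⁆ = U := comm_eq_of_regular defE.norm
    (PiNat.coprime' (kappa'_of_hallU hallU) hallK.piGrp) (Or.inr qK.sol) (cent_semiregular regU le_rfl ntK)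
  have notjH : ∀ g, H ≠ M :^ g := by
    rintro g rfl
    have sRH : R ≤ M :^ g := Subgroup.le_normalizer.trans sNH
    refine sk'r (Or.inl ?_)
    rw [← sigmaJ M g]
    exact mem_sigma_iff.2 ⟨hr, (mem_primesOf_of_pGrp sylR.pGrp ntR sRH).2, R,
      (sylRM.conjg g).of_card_eq sRH (card_conjg R g).symm, sNH⟩
  have notjHL : ∀ g, H ≠ Mstar :^ g := by
    rintro g rfl
    have hg : g ∈ Mstar := by
      by_contra hg
      have h := Ptype_Kstar_TI PL hallKs hg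
      rw [eK] at h
      exact ntK (by rw [← h]; exact (inf_eq_left.2 sKH).symm)
    rw [conjg_of_mem hg] at sUH
    have cZ' := abelian_iff_le_cent.1 (abelian_of_cyclic cZ)
    apply ntU
    rw [← cent_semiregular regU le_rfl ntK]
    exact (inf_eq_left.2 ((le_inf hallU.le sUH).trans (defZ.le.trans
      (cZ'.trans (cent_anti le_sup_left))))).symm
  have FH : TypeF H := by
    refine ⟨maxH, ?_⟩
    by_contra h
    obtain ⟨g, e | e⟩ := tr H ⟨maxH, h⟩
    · exact notjH g e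
    · exact notjHL g e
  have disL := sigma_partition maxMs maxH notjHL
  have disM := sigma_partition maxM maxH notjH
  have tiLH : sigmaCore H ⊓ sigmaCore Mstar = ⊥ := (Msigma_pgroup H).inf_eq_bot
    ((Msigma_pgroup Mstar).mono fun p h1 h2 => Set.disjoint_left.1 disL h1 h2)
  have tiMH : sigmaCore M ⊓ sigmaCore H = ⊥ := (Msigma_pgroup M).inf_eq_bot
    ((Msigma_pgroup H).mono fun p h1 h2 => Set.disjoint_left.1 disM h2 h1)
  have s'Hq : Nat.card K ∉ sigma H := Set.disjoint_left.1 disL sLq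
  obtain ⟨D, hallD, sKD⟩ := ex_sigma_compl maxH sKH (qK.piGrp s'Hq)
  have defH := sdprod_sigma maxH hallD
  have sKFD : K ≤ fittingOf D := by
    by_contra h
    obtain ⟨N, maxN, ⟨t2, uN⟩ | ⟨kN, P1N⟩⟩ :=
      primes_non_Fitting_Ftype prK FH hallD (p1Elem_of_prime sKD prK) h
    · exact tau2_sigma' t2 (eq_uniq_mmax uK maxN uN.2.1 ▸ sLq)
    · obtain ⟨g, rfl | rfl⟩ := tr N P1N.1
      · exact P2M.2 (P1typeJ.1 P1N).2
      · exact kappa_sigma'' kN (by rwa [sigmaJ])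
  have sKO : K ≤ pCoreOf (Nat.card K) D := le_pcore_of_le_fitting sKFD qK
  have sOD : pCoreOf (Nat.card K) D ≤ D := pcore_le _ D
  have qO := pcore_pGrp (Nat.card K) D
  have nHsH := (Msigma_normal H).2
  have nHsO : pCoreOf (Nat.card K) D ≤ 𝒩(sigmaCore H) := sOD.trans defH.norm
  have nVH : H ≤ 𝒩(sigmaCore H ⊔ pCoreOf (Nat.card K) D) := by
    conv_lhs => rw [← defH.sup_eq]
    exact sup_le (norm_of_le le_sup_left) (norm_sup defH.norm (pcore_norm _ D))
  have sUHs : U ≤ sigmaCore H := by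
    have h1 : U ≤ sigmaCore H ⊔ pCoreOf (Nat.card K) D := by
      rw [← defU]
      exact (Subgroup.commutator_mono sUH (sKO.trans le_sup_right)).trans (comm_le_right nVH)
    have h2 : IsPiHallOf {Nat.card K}ᶜ (sigmaCore H) (sigmaCore H ⊔ pCoreOf (Nat.card K) D) :=
      pHall_left_of_sup (Or.inr nHsO) rfl ((Msigma_pgroup H).mono fun p h e => s'Hq (e ▸ h))
        (piNat_compl_compl.2 qO)
    exact h2.le_of_normal (sup_le Subgroup.le_normalizer nHsO)
      ((kappa'_of_hallU hallU).mono fun p h e => h (e ▸ kq)) h1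
  have tiMsH : H ⊓ sigmaCore M = ⊥ := by
    rw [eq_bot_iff, ← Msigma_cent_eq_bot maxM hallU ntU]
    refine le_inf inf_le_right (comm_eq_bot_iff.1 ?_)
    rw [eq_bot_iff, ← tiMH]
    exact le_inf ((Subgroup.commutator_mono inf_le_right hallU.le).trans (comm_le_left (Msigma_normal M).2))
      ((Subgroup.commutator_mono inf_le_left sUHs).trans (comm_le_right nHsH))
  have defMH : U ⊔ K = M ⊓ H := by
    rw [inf_comm]
    conv_rhs => rw [← defM.sup_eq, inf_sup_of_right_le (Or.inr defM.norm) sEH, tiMsH, bot_sup_eq]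
  have sDL : D ≤ Mstar := by
    by_cases cO : IsCyclic (pCoreOf (Nat.card K) D)
    · exact ((pcore_norm _ D).trans (norm_le_norm_of_cyclic cO sKO)).trans
        (sub_uniq_mmax uK (cent_le_norm K) (mFT_norm_proper ntK (sub_mmax_proper maxM hallK.le)))
    · have cO' := sigma'_nil_abelian maxH (sOD.trans hallD.le) (hallD.piGrp.of_le sOD) qO.nil
      exact (pcore_norm _ D).trans (norm_noncyclic_sigma maxMs sLq qO
        (((abelian_iff_le_cent.1 cO').trans (cent_anti sKO)).trans sCMs) cO)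
  have regK : sigmaCore H ⊓ 𝒞(K) = ⊥ := by
    by_contra h
    obtain ⟨y, hy, nty⟩ := exists_mem_ne_one h
    obtain ⟨x, hx, ntx⟩ := exists_mem_ne_one ntK
    rcases pi_of_cent_sigma maxH (Subgroup.mem_inf.1 hy).1 nty (Subgroup.mem_inf.2 ⟨sKH hx,
      mem_cent_singleton_comm.1 (cent_le_cent_singleton hx (Subgroup.mem_inf.1 hy).2)⟩) ntx
      ((qK.piGrp s'Hq).piElt hx) with h1 | h1
    · exact ntx (h1.1.eq_one fun p _ _ => typeF_kappa' FH)
    · refine ne_of_not_conj notjHL (eq_uniq_mmax uK maxH ?_)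
      rw [cent_eq_cent_singleton_of_prime prK hx ntx]
      exact h1.2.2.2.1
  have tiHsL : Mstar ⊓ sigmaCore H = ⊥ := by
    rw [eq_bot_iff, ← regK]
    refine le_inf inf_le_right (comm_eq_bot_iff.1 ?_)
    rw [eq_bot_iff, ← tiLH]
    exact le_inf ((Subgroup.commutator_mono inf_le_right sKH).trans (comm_le_left nHsH))
      ((Subgroup.commutator_mono inf_le_left sKLs).trans (comm_le_right (Msigma_normal Mstar).2))
  have defD : H ⊓ Mstar = D := by
    rw [inf_comm]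
    conv_lhs => rw [← defH.sup_eq, inf_sup_of_right_le (Or.inr defH.norm) sDL, tiHsL, bot_sup_eq]
  refine ⟨FH, sUHs, defMH, fun sN => ?_, defD ▸ sKFD, defD ▸ hallD⟩
  have h1 : sigmaCore H ⊓ 𝒩(U) ≤ U := by
    have h2 : sigmaCore H ⊓ 𝒩(U) ≤ sigmaCore H ⊓ (U ⊔ K) := by
      rw [defMH]
      exact le_inf inf_le_left (le_inf ((inf_le_inf_right _ (Msigma_normal H).1).trans sN)
        (inf_le_left.trans (Msigma_normal H).1))
    rwa [inf_sup_of_left_le (Or.inr defE.norm) sUHs,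
      (Msigma_pgroup H).inf_eq_bot (qK.piGrp s'Hq), sup_bot_eq] at h2
  have h2 := nilpotent_sub_norm (notP1type_Msigma_nil (Or.inl FH)) sUHs h1
  exact ne_of_not_conj notjH (eq_mmax maxH maxM ((le_inf le_rfl (h2 ▸ nHsH)).trans sN))

/-- B & G, Lemma 14.13(a). -/
theorem non_disjoint_signalizer_Frobenius {x : G} {M : Subgroup G} (ell1x : Ell1 x)
    (ntMs : (sigmaMmax x).Nontrivial) (hM : M ∈ sigmaMmax x)
    (nsN'M : ¬ IsPiGrp (sigma (sigBase x))ᶜ M) :
    TypeF M ∧ IsPiGrp (tau2 M)ᶜ M ∧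
    ∀ E : Subgroup G, IsPiHallOf (sigma M)ᶜ E M → IsCyclic E ∧ IsFrob M (sigmaCore M) E := by
  have maxM := hM.1
  obtain ⟨uN, -, t2x, -, h⟩ := FT_signalizer_context ell1x ntMs
  obtain ⟨-, t2sM, sb, -⟩ := h M hM
  generalize sigBase x = N at nsN'M uN t2x t2sM sb
  have maxN := uN.1
  obtain ⟨q, hq, qM, sNq⟩ : ∃ q : ℕ, q.Prime ∧ q ∣ Nat.card M ∧ q ∈ sigma N := by
    by_contra hc
    push Not at hc
    exact nsN'M hc
  have bNq : q ∈ beta N := sb ⟨⟨hq, qM⟩, sNq⟩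
  have idq := ((predI_sigma_beta maxN).1 bNq).2
  obtain ⟨p, hp, -, sMp, t2Np⟩ := exists_common_prime ell1x.1 (sigma_elt_of_mem hM.2) t2x
  have b'p : p ∉ beta M := fun h => (tau2_not_beta maxN t2Np).1 ((predI_sigma_beta maxM).1 h).2
  have notj : ∀ g, N ≠ M :^ g := by
    rintro g rfl
    exact tau2_sigma' t2Np (by rwa [sigmaJ])
  have s'q : q ∉ sigma M := fun h => Set.disjoint_left.1 (sigma_partition maxM maxN notj) h sNq
  have uniq : ∀ Q : Subgroup G, IsPnElem q 1 Q M → ∃ g, UniqMax 𝒞(Q) (N :^ g) := by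
    intro Q EqQ
    obtain ⟨S, sylS⟩ := sylow_exists hq N
    obtain ⟨g, -, sQ⟩ := sylow_subJ hq (sigma_Sylow_G sNq sylS) (EqQ.pGrp hq) le_top
    obtain ⟨T, sylT⟩ := sylow_exists hq (sigmaCore (N :^ g))
    exact ⟨g, (cent_der_sigma_uniq hq (isCoatom_conjg.2 maxN) (EqQ.of_le (sQ.trans (conjg_mono g sylS.le)))
      sylT (Or.inl (by rwa [betaJ]))).1⟩
  have FM : TypeF M := by
    refine ⟨maxM, ?_⟩
    by_contra h
    have PM : TypeP M := ⟨maxM, h⟩
    obtain ⟨K, hallK⟩ := ex_kappa_hall maxM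
    have skM : IsPiGrp (sigma M ∪ kappa M) M := by
      by_contra h'
      exact b'p ((P2type_structure ⟨PM, h'⟩ hallK).1 ▸ sMp)
    have kq : q ∈ kappa M := (skM q hq qM).resolve_left s'q
    obtain ⟨Q, EqQ⟩ := p1Elem_exists hq ((hallK.dvd_card_iff hq kq).2 qM)
    obtain ⟨g, uQ⟩ := uniq Q (EqQ.mono hallK.le)
    obtain ⟨L, PL, -, uniqK, ⟨hallKs, hallS⟩, -⟩ := Ptype_embedding PM hallK
    obtain rfl := eq_uniq_mmax uQ PL.1 (uniqK Q EqQ.le (EqQ.card_prime hq)).2.1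
    have t2p : p ∈ tau2 (N :^ g) := by rwa [tau2J]
    exact kappa_tau2' (hallKs.piGrp p hp ((hallS.dvd_card_iff hp sMp).2
      ((partition_pi_mmax PL.1).2 (Or.inr (Or.inl t2p))).2)) t2p
  have t2'M : ∀ r, r ∉ tau2 M := by
    intro r t2r
    have hr := tau2_prime t2r
    obtain ⟨Q, EqQ⟩ := p1Elem_exists hq qM
    obtain ⟨E, hallE, sQE⟩ := ex_sigma_compl maxM EqQ.le ((EqQ.pGrp hq).piGrp s'q)
    obtain ⟨A, ErA⟩ := exists_p2Elem_tau2 hallE t2r
    obtain ⟨g, uQ⟩ := uniq Q EqQ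
    have s'Nr : r ∉ sigma N := fun h => (tau2_not_beta maxM t2r).1 ((predI_sigma_beta maxN).1
      (sb ⟨(partition_pi_mmax maxM).2 (Or.inr (Or.inl t2r)), h⟩)).2
    have t13Nr : r ∈ primesOf N → r ∈ tau1 N ∨ r ∈ tau3 N := by
      intro h
      rcases (partition_pi_mmax maxN).1 h with h | h | h | h
      · exact Or.inl h
      · exact absurd (t2sM h) (tau2_sigma' t2r)
      · exact Or.inr h
      · exact absurd h s'Nr
    by_cases cQ : Q ≤ 𝒞(A)
    · have ErA' : IsPnElem r 2 (A :^ g⁻¹) N :=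
        ErA.conjg_of_le (le_conjg_iff.1 ((le_cent_symm cQ).trans uQ.2.1))
      have h1 := ErA'.le_pRank hr
      have h2 := tau13_rank (t13Nr ⟨hr, ErA'.prime_dvd_card two_pos⟩)
      omega
    · have nsA := (tau2_compl_context maxM hallE t2r ErA).1.1
      have t1q : q ∈ tau1 M := mem_of_not_le_of_index (EqQ.pGrp hq) sQE (norm_cent nsA.2)
        (tau1_cent_tau2Elem_factor maxM hallE t2r ErA).2.2 cQ
      obtain ⟨⟨EA₀, eA₀, -⟩, nj, EA₁, -⟩ := tau1_act_tau2 maxM hallE t2r ErA t1q (EqQ.of_le sQE)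
        (Ftype_regular FM (Or.inl t1q) EqQ) fun h => cQ (comm_eq_bot_iff'.1 h)
      have EA₀N : IsPnElem r 1 ⁅A, Q⁆ N := by
        refine EA₀.of_le ?_
        rw [← eA₀]
        exact (inf_le_right.trans (cent_le_cent_singleton hM.2)).trans uN.2.1
      have EA₁N : IsPnElem r 1 ((A ⊓ 𝒞(Q)) :^ g⁻¹) N :=
        EA₁.conjg_of_le (le_conjg_iff.1 (inf_le_right.trans uQ.2.1))
      obtain ⟨m, -, e⟩ := p1Elem_conj_tau13 (t13Nr ⟨hr, EA₀N.prime_dvd_card one_pos⟩) EA₁N EA₀N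
      exact nj (m * g⁻¹) (by rw [conjg_mul, e])
  refine ⟨FM, fun r _ _ => t2'M r, fun E hallE => ?_⟩
  have regE : Semiregular (sigmaCore M) E := by
    apply semiregular_of_prime_subgroups
    intro X sX prX
    refine Ftype_regular FM ?_ (p1Elem_of_prime (sX.trans hallE.le) prX)
    rcases (partition_pi_sigma_compl maxM hallE).1 ⟨prX, Subgroup.card_dvd_of_le sX⟩ with h | h | h
    · exact Or.inl h
    · exact absurd h (t2'M _)
    · exact Or.inr h
  have defM := sdprod_sigma maxM hallE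
  refine ⟨abelian_regular_cyclic ?_ (Msigma_neq1 maxM) defM.norm regE,
    defM, Msigma_neq1 maxM, sigma_compl_neq1 maxM hallE, regE⟩
  rw [← der_eq_bot_iff]
  by_contra ntE'
  obtain ⟨H, hallH, cHE'⟩ := der_compl_cent_beta' maxM hallE
  have pMs : p ∈ primesOf (sigmaCore M) := by rwa [pi_Msigma maxM]
  apply hallH.ne_bot hp b'p pMs.2
  rw [eq_bot_iff, ← cent_semiregular regE (der_le E) ntE']
  exact le_inf hallH.le (le_cent_symm cHE')

end CA.BG.P14
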