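/-
Interface: B & G section 14 (maximal subgroups of type `𝓟` and counting arguments).
-/
import Cfsg.Agent.BG.I13
import Cfsg.Agent.BG.P14f

set_option autoImplicit false
set_option linter.unusedSectionVars false

namespace CA.BG

open Cfsg CA.FG

universe u

variable {G : Type u} [Group G] [MinSimpleOdd G]

/-! ### elementary facts -/

theorem kappa_prime {M : Subgroup G} {p : ℕ} (h : p ∈ kappa M) : p.Prime := h.1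
theorem kappa_pi {M : Subgroup G} {p : ℕ} (h : p ∈ kappa M) : p ∣ Nat.card M := h.2.1
theorem kappa_sigma' {M : Subgroup G} {p : ℕ} (h : p ∈ kappa M) : p ∉ sigma M := h.2.2.1

theorem mem_kappa_iff {M : Subgroup G} {p : ℕ} :
    p ∈ kappa M ↔ (p ∈ tau1 M ∨ p ∈ tau3 M) ∧
      ∃ P : Subgroup G, IsPnElem p 1 P M ∧ sigmaCore M ⊓ 𝒞(P) ≠ ⊥ :=
  P14.mem_kappa_iff

theorem kappa_tau13 {M : Subgroup G} {p : ℕ} (h : p ∈ kappa M) : p ∈ tau1 M ∨ p ∈ tau3 M :=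
  P14.kappa_tau13 h

theorem kappa_nonregular {M P : Subgroup G} {p : ℕ} (kp : p ∈ kappa M) (EpP : IsPnElem p 1 P M) :
    sigmaCore M ⊓ 𝒞(P) ≠ ⊥ :=
  P14.kappa_nonregular kp EpP

theorem kappaJ (M : Subgroup G) (g : G) : kappa (M :^ g) = kappa M :=
  P14.kappaJ M g
theorem FtypeJ {M : Subgroup G} {g : G} : TypeF (M :^ g) ↔ TypeF M :=
  P14.FtypeJ
theorem PtypeJ {M : Subgroup G} {g : G} : TypeP (M :^ g) ↔ TypeP M :=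
  P14.PtypeJ
theorem P1typeJ {M : Subgroup G} {g : G} : TypeP1 (M :^ g) ↔ TypeP1 M :=
  P14.P1typeJ
theorem P2typeJ {M : Subgroup G} {g : G} : TypeP2 (M :^ g) ↔ TypeP2 M :=
  P14.P2typeJ

theorem typeP_iff_kappa {M : Subgroup G} : TypeP M ↔ IsCoatom M ∧ (kappa M).Nonempty :=
  P14.typeP_iff_kappa
theorem typeF_iff_kappa {M : Subgroup G} : TypeF M ↔ IsCoatom M ∧ kappa M = ∅ :=
  P14.typeF_iff_kappa

theorem ex_kappa_hall {M : Subgroup G} (maxM : IsCoatom M) : ∃ K, IsPiHallOf (kappa M) K M :=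
  P14.ex_kappa_hall maxM

theorem ex_kappa_compl {M K : Subgroup G} (maxM : IsCoatom M) (hallK : IsPiHallOf (kappa M) K M) :
    ∃ U : Subgroup G, KappaCompl M U K :=
  P14.ex_kappa_compl maxM hallK

theorem trivg_kappa {M K : Subgroup G} (maxM : IsCoatom M) (hallK : IsPiHallOf (kappa M) K M) :
    K = ⊥ ↔ TypeF M :=
  P14.trivg_kappa maxM hallK

theorem trivgPmax {M K : Subgroup G} (maxM : IsCoatom M) (hallK : IsPiHallOf (kappa M) K M) :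
    K ≠ ⊥ ↔ TypeP M :=
  P14.trivgPmax maxM hallK

theorem trivg_kappa_compl {M U K : Subgroup G} (maxM : IsCoatom M) (complU : KappaCompl M U K) :
    U = ⊥ ↔ TypeP1 M :=
  P14.trivg_kappa_compl maxM complU

theorem notP1type {M : Subgroup G} (maxM : IsCoatom M) : ¬ TypeP1 M ↔ TypeF M ∨ TypeP2 M :=
  P14.notP1type maxM

theorem sigma_mmax_exists {p : ℕ} (hp : p.Prime) (piGp : p ∣ Nat.card G) :
    ∃ M : Subgroup G, IsCoatom M ∧ p ∈ sigma M :=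
  P14.sigma_mmax_exists hp piGp

theorem Msigma_ell1 {M : Subgroup G} {x : G} (maxM : IsCoatom M) (Msx : x ∈ sigmaCore M) (ntx : x ≠ 1) :
    Ell1 x := ⟨ntx, M, maxM, Msx⟩

/-- A non-identity `σ(M)`-element has `σ`-length one. -/
theorem ell1_of_sigma_elt {M : Subgroup G} {x : G} (maxM : IsCoatom M) (sx : IsPiElt (sigma M) x)
    (ntx : x ≠ 1) : Ell1 x :=
  P14.ell1_of_sigma_elt maxM sx ntx

theorem ell1J {x g : G} : Ell1 (g * x * g⁻¹) ↔ Ell1 x :=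
  P14.ell1J

theorem sigmaMmaxJ {x g : G} {M : Subgroup G} : M :^ g ∈ sigmaMmax (g * x * g⁻¹) ↔ M ∈ sigmaMmax x :=
  P14.sigmaMmaxJ

/-- B & G, Lemma 14.1, with `A = Ω₁(S)`. -/
theorem sigma'_kappa'_facts {M S : Subgroup G} {p : ℕ} (hp : p.Prime) (maxM : IsCoatom M)
    (piMp : p ∣ Nat.card M) (sk'p : p ∉ sigma M ∪ kappa M) (sylS : IsSylowOf p S M) :
    (TypeF M ∨ TypeP2 M) ∧ Nat.card (ohm1 p S) ≤ p ^ 2 ∧ sigmaCore M ⊓ 𝒞(ohm1 p S) = ⊥ ∧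
    Group.IsNilpotent (sigmaCore M) :=
  P14.sigma'_kappa'_facts hp maxM piMp sk'p sylS

theorem notP1type_Msigma_nil {M : Subgroup G} (h : TypeF M ∨ TypeP2 M) :
    Group.IsNilpotent (sigmaCore M) :=
  P14.notP1type_Msigma_nil h

/-- B & G, Proposition 14.2, with `K* = C_{M_σ}(K)`. -/
theorem Ptype_structure {M K : Subgroup G} (PM : TypeP M) (hallK : IsPiHallOf (kappa M) K M) :
    (∃ U : Subgroup G, KappaCompl M U K ∧ K ≤ 𝒩(U) ∧ IsMulCommutative U ∧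
      Semiprime (sigmaCore M) K ∧ Semiregular U K) ∧
    (DProd K (sigmaCore M ⊓ 𝒞(K)) (M ⊓ 𝒩(K)) ∧
      ∀ X : Subgroup G, X ≤ K → (Nat.card X).Prime →
        M ⊓ 𝒩(X) = M ⊓ 𝒩(K) ∧
        ∀ Mstar : Subgroup G, IsCoatom Mstar → 𝒩(X) ≤ Mstar → X ≤ sigmaCore Mstar) ∧
    (sigmaCore M ⊓ 𝒞(K) ≠ ⊥ ∧
      ∀ X : Subgroup G, X ≤ sigmaCore M ⊓ 𝒞(K) → (Nat.card X).Prime → UniqMax 𝒞(X) M) ∧
    ((∀ g, g ∉ M → sigmaCore M ⊓ 𝒞(K) ⊓ M :^ g = ⊥) ∧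
      ∀ g ∈ M, g ∉ 𝒩(K) → K ⊓ K :^ g = ⊥) ∧
    (∀ p ∈ primesOf (sigmaCore M ⊓ 𝒞(K)), ∀ S : Subgroup G, IsSylowOf p S (sigmaCore M) →
      UniqMax S M ∧ ¬ S ≤ sigmaCore M ⊓ 𝒞(K)) ∧
    (∀ Y : Subgroup G, IsPiGrp (sigma M) Y → Y ⊓ (sigmaCore M ⊓ 𝒞(K)) ≠ ⊥ → Y ≤ sigmaCore M) ∧
    (TypeP2 M → sigma M = beta M ∧ (Nat.card K).Prime ∧ Group.IsNilpotent (sigmaCore M) ∧
      NormedTI (sharp (sigmaCore M)) ⊤ M) :=
  P14.Ptype_structure PM hallK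

/-- Skolemized form of 14.2(a). -/
theorem kappa_compl_context {M U K : Subgroup G} (maxM : IsCoatom M) (complU : KappaCompl M U K) :
    IsPiHallOf (sigma M)ᶜ (U ⊔ K) M ∧ SDProd U K (U ⊔ K) ∧ SDProd (sigmaCore M) (U ⊔ K) M ∧
    Semiprime (sigmaCore M) K ∧ Semiregular U K ∧ (K ≠ ⊥ → IsMulCommutative U) :=
  P14.kappa_compl_context maxM complU

/-- B & G, Corollary 14.3. -/
theorem pi_of_cent_sigma {M : Subgroup G} {x x' : G} (maxM : IsCoatom M) (Msx : x ∈ sigmaCore M)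
    (ntx : x ≠ 1) (Cx' : x' ∈ M ⊓ 𝒞[x]) (ntx' : x' ≠ 1) (s'x' : IsPiElt (sigma M)ᶜ x') :
    (IsPiElt (kappa M) x' ∧ 𝒞[x] ≤ M) ∨
    (IsPiElt (tau2 M) x' ∧ Ell1 x' ∧ UniqMax 𝒞[x'] M) :=
  P14.pi_of_cent_sigma maxM Msx ntx Cx' ntx' s'x'

/-- B & G, Theorem 14.4, first part, with `R = R(x)`. -/
theorem FT_signalizer_trans {x : G} (ell1x : Ell1 x) :
    TransOn (sigR x) (sigmaMmax x) ∧ Nat.card (sigR x) = (sigmaMmax x).ncard ∧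
    sigR x ⊲ 𝒞[x] ∧ IsHallOf (sigR x) 𝒞[x] :=
  P14.FT_signalizer_trans ell1x

/-- B & G, Theorem 14.4, second part, with `N = N(x)`, `R = R(x)`. -/
theorem FT_signalizer_context {x : G} (ell1x : Ell1 x) (ntMs : (sigmaMmax x).Nontrivial) :
    UniqMax 𝒞[x] (sigBase x) ∧ sigR x ≠ ⊥ ∧ IsPiElt (tau2 (sigBase x)) x ∧
    (TypeF (sigBase x) ∨ TypeP2 (sigBase x)) ∧
    ∀ M ∈ sigmaMmax x,
      SDProd (sigR x) (M ⊓ sigBase x ⊓ 𝒞[x]) 𝒞[x] ∧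
      tau2 (sigBase x) ⊆ sigma M ∧
      primesOf M ∩ sigma (sigBase x) ⊆ beta (sigBase x) ∧
      IsPiHallOf (sigma (sigBase x))ᶜ (M ⊓ sigBase x) (sigBase x) :=
  P14.FT_signalizer_context ell1x ntMs

theorem cent1_sub_uniq_sigma_mmax {x : G} {M : Subgroup G} (h1 : ¬ (sigmaMmax x).Nontrivial)
    (hM : M ∈ sigmaMmax x) : 𝒞[x] ≤ M :=
  P14.cent1_sub_uniq_sigma_mmax h1 hM

/-- For `x ∈ M_σ^#`: `|𝓜_σ[x]| > 1` iff `C(x) ⊄ M`. -/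
theorem sigmaMmax_nontrivial_iff {x : G} {M : Subgroup G} (ntx : x ≠ 1) (hM : M ∈ sigmaMmax x) :
    (sigmaMmax x).Nontrivial ↔ ¬ 𝒞[x] ≤ M :=
  P14.sigmaMmax_nontrivial_iff ntx hM

theorem sigR_eq_bot {x : G} (h1 : ¬ (sigmaMmax x).Nontrivial) : sigR x = ⊥ :=
  P14.sigR_eq_bot h1

theorem sigBaseJ {x : G} (ell1x : Ell1 x) (g : G) : sigBase (g * x * g⁻¹) = sigBase x :^ g :=
  P14.sigBaseJ ell1x g

theorem sigRJ {x : G} (ell1x : Ell1 x) (g : G) : sigR (g * x * g⁻¹) = sigR x :^ g :=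
  P14.sigRJ ell1x g

/-- B & G, Lemma 14.5(a). -/
theorem sigma_cover_disjoint {x y : G} (ell1x : Ell1 x) (ell1y : Ell1 y) (neqxy : x ≠ y) :
    ∀ r ∈ sigR x, ∀ s ∈ sigR y, x * r ≠ y * s :=
  P14.sigma_cover_disjoint ell1x ell1y neqxy

/-- B & G, Lemma 14.5(c). -/
theorem card_class_support_sigma {M : Subgroup G} (maxM : IsCoatom M) :
    (classSupport (sigmaCover M) ⊤).ncard = (Nat.card (sigmaCore M) - 1) * M.index :=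
  P14.card_class_support_sigma maxM

/-- B & G, Lemma 14.5(b). -/
theorem sigma_support_disjoint {M₁ M₂ : Subgroup G} (maxM₁ : IsCoatom M₁) (maxM₂ : IsCoatom M₂)
    (notj : ∀ g, M₂ ≠ M₁ :^ g) :
    Disjoint (classSupport (sigmaCover M₁) ⊤) (classSupport (sigmaCover M₂) ⊤) :=
  P14.sigma_support_disjoint maxM₁ maxM₂ notj

/-- B & G, Lemma 14.6. -/
theorem sigma_decomposition_dichotomy {g : G} (ntg : g ≠ 1) :
    Xor' (∃ x, Ell1 x ∧ x⁻¹ * g ∈ sigR x)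
      (∃ y, Ell1 y ∧ ∃ M ∈ sigmaMmax y, y⁻¹ * g ∈ M ⊓ 𝒞[y] ∧ y⁻¹ * g ≠ 1 ∧
        IsPiElt (kappa M) (y⁻¹ * g)) :=
  P14.sigma_decomposition_dichotomy ntg

/-- B & G, Theorem 14.7, with `K* = C_{M_σ}(K)`, `Z = K K*`, `Ẑ = zHat K K*`. -/
theorem Ptype_embedding {M K : Subgroup G} (PM : TypeP M) (hallK : IsPiHallOf (kappa M) K M) :
    ∃ Mstar : Subgroup G, TypeP Mstar ∧ (∀ g, Mstar ≠ M :^ g) ∧
    (∀ X : Subgroup G, X ≤ K → (Nat.card X).Prime → UniqMax 𝒞(X) Mstar) ∧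
    (IsPiHallOf (kappa Mstar) (sigmaCore M ⊓ 𝒞(K)) Mstar ∧
      IsPiHallOf (sigma M) (sigmaCore M ⊓ 𝒞(K)) Mstar) ∧
    (sigmaCore Mstar ⊓ 𝒞(sigmaCore M ⊓ 𝒞(K)) = K ∧ kappa M = tau1 M) ∧
    (IsCyclic ↥(K ⊔ (sigmaCore M ⊓ 𝒞(K))) ∧ M ⊓ Mstar = K ⊔ (sigmaCore M ⊓ 𝒞(K)) ∧
      (∀ x ∈ K, x ≠ 1 → M ⊓ 𝒞[x] = K ⊔ (sigmaCore M ⊓ 𝒞(K))) ∧
      (∀ y ∈ sigmaCore M ⊓ 𝒞(K), y ≠ 1 → Mstar ⊓ 𝒞[y] = K ⊔ (sigmaCore M ⊓ 𝒞(K))) ∧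
      ∀ x ∈ K, x ≠ 1 → ∀ y ∈ sigmaCore M ⊓ 𝒞(K), y ≠ 1 →
        𝒞[x * y] = K ⊔ (sigmaCore M ⊓ 𝒞(K))) ∧
    (NormedTI (zHat K (sigmaCore M ⊓ 𝒞(K))) ⊤ (K ⊔ (sigmaCore M ⊓ 𝒞(K))) ∧
      (∀ g, g ∉ M → ∀ z ∈ zHat K (sigmaCore M ⊓ 𝒞(K)), z ∉ M :^ g) ∧
      Nat.card G < 2 * (classSupport (zHat K (sigmaCore M ⊓ 𝒞(K))) ⊤).ncard) ∧
    ((TypeP2 M ∧ (Nat.card K).Prime) ∨ (TypeP2 Mstar ∧ (Nat.card ↥(sigmaCore M ⊓ 𝒞(K))).Prime)) ∧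
    (∀ H : Subgroup G, TypeP H → ∃ g, H = M :^ g ∨ H = Mstar :^ g) ∧
    SDProd ⁅M, M⁆ K M :=
  P14.Ptype_embedding PM hallK

/-- B & G, Corollary 14.8, first part. -/
theorem P1type_trans {M H : Subgroup G} (P1M : TypeP1 M) (P1H : TypeP1 H) : ∃ g, H = M :^ g :=
  P14.P1type_trans P1M P1H

/-- B & G, Corollary 14.9(1). -/
theorem mFT_partition_F (noP : ∀ M : Subgroup G, ¬ TypeP M) {g : G} (ntg : g ≠ 1) :
    ∃ M : Subgroup G, IsCoatom M ∧ g ∈ classSupport (sigmaCover M) ⊤ :=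
  P14.mFT_partition_F noP ntg

/-- B & G, Corollary 14.9(2). -/
theorem mFT_partition_P {M K : Subgroup G} (PM : TypeP M) (hallK : IsPiHallOf (kappa M) K M) :
    (∀ g : G, g ≠ 1 → (∃ N : Subgroup G, IsCoatom N ∧ g ∈ classSupport (sigmaCover N) ⊤) ∨
      g ∈ classSupport (zHat K (sigmaCore M ⊓ 𝒞(K))) ⊤) ∧
    ∀ N : Subgroup G, IsCoatom N →
      Disjoint (classSupport (zHat K (sigmaCore M ⊓ 𝒞(K))) ⊤) (classSupport (sigmaCover N) ⊤) :=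
  P14.mFT_partition_P PM hallK

theorem one_notin_sigmaCover {M : Subgroup G} (maxM : IsCoatom M) : (1 : G) ∉ sigmaCover M :=
  P14.one_notin_sigmaCover maxM

/-- B & G, Lemma 14.11. -/
theorem primes_non_Fitting_Ftype {M E Q : Subgroup G} {q : ℕ} (hq : q.Prime) (FM : TypeF M)
    (hallE : IsPiHallOf (sigma M)ᶜ E M) (EqQ : IsPnElem q 1 Q E) (nsQF : ¬ Q ≤ fittingOf E) :
    ∃ Mstar : Subgroup G, IsCoatom Mstar ∧
      ((q ∈ tau2 Mstar ∧ UniqMax 𝒞(Q) Mstar) ∨ (q ∈ kappa Mstar ∧ TypeP1 Mstar)) :=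
  P14.primes_non_Fitting_Ftype hq FM hallE EqQ nsQF

/-- B & G, Lemma 14.12. -/
theorem P2type_signalizer {M Mstar U K R H : Subgroup G} {r : ℕ} (hr : r.Prime) (P2M : TypeP2 M)
    (complU : KappaCompl M U K) (maxMs : IsCoatom Mstar) (sCMs : 𝒞(K) ≤ Mstar)
    (sylR : IsSylowOf r R U) (maxH : IsCoatom H) (sNH : 𝒩(R) ≤ H) :
    TypeF H ∧ U ≤ sigmaCore H ∧ U ⊔ K = M ⊓ H ∧ ¬ H ⊓ 𝒩(U) ≤ M ∧ K ≤ fittingOf (H ⊓ Mstar) ∧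
    IsPiHallOf (sigma H)ᶜ (H ⊓ Mstar) H :=
  P14.P2type_signalizer hr P2M complU maxMs sCMs sylR maxH sNH

/-- B & G, Lemma 14.13(a). -/
theorem non_disjoint_signalizer_Frobenius {x : G} {M : Subgroup G} (ell1x : Ell1 x)
    (ntMs : (sigmaMmax x).Nontrivial) (hM : M ∈ sigmaMmax x)
    (nsN'M : ¬ IsPiGrp (sigma (sigBase x))ᶜ M) :
    TypeF M ∧ IsPiGrp (tau2 M)ᶜ M ∧
    ∀ E : Subgroup G, IsPiHallOf (sigma M)ᶜ E M → IsCyclic E ∧ IsFrob M (sigmaCore M) E :=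
  P14.non_disjoint_signalizer_Frobenius ell1x ntMs hM nsN'M

end CA.BG
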