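/-
B & G section 15, part a: Lemma 15.1 and Theorem 15.2.
-/
import Cfsg.Agent.BG.I14
import Cfsg.Agent.BG.Fcore
import Cfsg.Agent.BG.I03

set_option autoImplicit false
set_option linter.unusedSectionVars false

namespace CA.BG.P15

open Cfsg CA.FG
open scoped commutatorElement

universe u

variable {G : Type u} [Group G] [MinSimpleOdd G]

theorem Fcore_sub_Msigma {M : Subgroup G} (maxM : IsCoatom M) : fittingHallOf M ≤ sigmaCore M := by
  apply pcore_max (Fcore_normal M)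
  intro p hp hd
  obtain ⟨e, sylP⟩ := Fcore_pcore_Sylow hp hd
  have hdM : p ∣ Nat.card M := hd.trans (Subgroup.card_dvd_of_le (Fcore_le M))
  refine mem_sigma_iff.2 ⟨hp, hdM, _, sylP, ?_⟩
  rw [mmax_normal maxM (pcore_normal _ M) (sylP.ne_bot' hp hdM)]

theorem Fcore_eq_Msigma {M : Subgroup G} (maxM : IsCoatom M) :
    fittingHallOf M = sigmaCore M ↔ Group.IsNilpotent (sigmaCore M) := by
  constructor
  · intro h; rw [← h]; exact Fcore_nil M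
  · intro h
    exact le_antisymm (Fcore_sub_Msigma maxM)
      (Fcore_max (Msigma_Hall maxM).isHallOf (Msigma_normal M).2 h)

theorem kappa_not_tau2 {M : Subgroup G} {p : ℕ} (h : p ∈ kappa M) : p ∉ tau2 M := fun t2 =>
  (kappa_tau13 h).elim (fun h1 => tau2'1 h1 t2) (fun h3 => tau3'2 t2 h3)

theorem tau2_sub_sk' (M : Subgroup G) : tau2 M ⊆ (sigma M ∪ kappa M)ᶜ := by
  rintro p t2 (h | h)
  · exact tau2_sigma' t2 h
  · exact kappa_not_tau2 h t2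

theorem kappaCompl_conjg {M U K : Subgroup G} (h : KappaCompl M U K) {g : G} (hg : g ∈ M) :
    KappaCompl M (U :^ g) (K :^ g) := by
  refine ⟨h.hallK.conjg_of_mem hg, h.hallU.conjg_of_mem hg, ?_⟩
  intro x hx
  rw [← conjg_sup, mem_conjg'] at hx
  obtain ⟨y, hy, rfl⟩ := hx
  obtain ⟨a, ha, b, hb, rfl⟩ := h.mul_grp y hy
  exact ⟨_, conj_mem_conjg g ha, _, conj_mem_conjg g hb, by group⟩

theorem kappa_cyclic {M K : Subgroup G} (maxM : IsCoatom M) (hallK : IsPiHallOf (kappa M) K M) :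
    IsCyclic K := by
  by_cases ntK : K = ⊥
  · rw [ntK]; exact cyclic_bot
  · obtain ⟨L, -, -, -, -, -, ⟨cycZ, -⟩, -⟩ := Ptype_embedding ((trivgPmax maxM hallK).1 ntK) hallK
    exact cyclic_of_le cycZ le_sup_left

theorem der2_sub_Msigma {M : Subgroup G} (maxM : IsCoatom M) : ⁅⁅M, M⁆, ⁅M, M⁆⁆ ≤ sigmaCore M := by
  obtain ⟨E, hallE, -⟩ := ex_sigma_compl maxM bot_le (piGrp_bot _)
  exact (der1_sdprod_sigma maxM hallE).der_le (der_mmax_compl_abelian maxM hallE)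

/-- 15.1(c). -/
theorem kappa_compl_cent {M U K : Subgroup G} (maxM : IsCoatom M) (complU : KappaCompl M U K)
    {X : Subgroup G} (sXU : X ≤ U) (ntX : X ≠ ⊥) (ntC : sigmaCore M ⊓ 𝒞(X) ≠ ⊥) :
    UniqMax 𝒞(X) M ∧ IsCyclic X ∧ IsPiGrp (tau2 M) X := by
  obtain ⟨x, ⟨Msx, cx⟩, ntx⟩ := exists_mem_ne_one ntC
  have sUM := complU.hallU.le
  have key : ∀ y ∈ X, y ≠ 1 → IsPiElt (tau2 M) y ∧ UniqMax 𝒞[y] M := by
    intro y hy nty
    have sk'y : IsPiElt (sigma M ∪ kappa M)ᶜ y := complU.hallU.piGrp.piElt (sXU hy)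
    have cy : y ∈ M ⊓ 𝒞[x] := ⟨sUM (sXU hy), (mem_cent_iff_le_cent_singleton.1 cx) hy⟩
    rcases pi_of_cent_sigma maxM Msx ntx cy nty (sk'y.mono fun p hp h => hp (Or.inl h)) with h | h
    · exact absurd (IsPiElt.eq_one h.1 (sk'y.mono fun p hp h => hp (Or.inr h))) nty
    · exact ⟨h.1, h.2.2⟩
  have t2X : IsPiGrp (tau2 M) X := by
    rw [piGrp_iff_forall_piElt]
    intro y hy
    by_cases nty : y = 1
    · rw [nty]; exact piElt_one _
    · exact (key y hy nty).1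
  have cycX : IsCyclic X := by
    by_contra ncX
    obtain ⟨E, hallE, sXE⟩ := ex_sigma_compl maxM (sXU.trans sUM) (t2X.mono fun p hp => tau2_sigma' hp)
    obtain ⟨E₂, hallE₂, sXE₂⟩ := Hall_superset (sol_of_le (mmax_sol maxM) hallE.le) sXE t2X
    have cXX := abelian_of_le (tau2_compl_abelian maxM hallE hallE₂) sXE₂
    obtain ⟨p, hp, A, EpA⟩ := exists_p2Elem_of_abelian cXX ncX
    have t2p : p ∈ tau2 M := t2X p hp (EpA.prime_dvd_card (by norm_num))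
    have := (tau2_context maxM t2p (EpA.mono (sXU.trans sUM))).2.2.1
    apply ntC
    exact le_bot_iff.1 (this ▸ inf_le_inf_left _ (cent_anti EpA.le))
  obtain ⟨y, hy, rfl⟩ := cyclic_iff_eq_zpowers.1 cycX
  refine ⟨?_, cycX, t2X⟩
  rw [cent_zpowers]
  refine (key y hy ?_).2
  rintro rfl
  exact ntX (by simp)

/-- B & G, Lemma 15.1. -/
theorem kappa_structure {M U K : Subgroup G} (maxM : IsCoatom M) (complU : KappaCompl M U K) :
    (SDProd (sigmaCore M) U (sigmaCore M ⊔ U) ∧ SDProd (sigmaCore M ⊔ U) K M ∧ IsCyclic K ∧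
      ⁅⁅M, M⁆, ⁅M, M⁆⁆ ≤ sigmaCore M) ∧
    (K ≠ ⊥ → SDProd (sigmaCore M) U ⁅M, M⁆ ∧ IsMulCommutative U) ∧
    (∀ X : Subgroup G, X ≤ U → X ≠ ⊥ → sigmaCore M ⊓ 𝒞(X) ≠ ⊥ →
      UniqMax 𝒞(X) M ∧ IsCyclic X ∧ IsPiGrp (tau2 M) X) ∧
    IsMulCommutative (Subgroup.closure {u | u ∈ U ∧ ∃ x ∈ sigmaCore M, x ≠ 1 ∧ u ∈ 𝒞[x]}) ∧
    (U ≠ ⊥ → ∃ U₀ : Subgroup G, U₀ ≤ U ∧ Monoid.exponent U₀ = Monoid.exponent U ∧
      IsFrob (sigmaCore M ⊔ U₀) (sigmaCore M) U₀) := by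
  obtain ⟨hallE, defE, defM, -, -, cUU⟩ := kappa_compl_context maxM complU
  have sUM := complU.hallU.le
  have sKM := complU.hallK.le
  have nMs := (Msigma_normal M).2
  have s'U : IsPiGrp (sigma M)ᶜ U := complU.hallU.piGrp.mono fun p hp h => hp (Or.inl h)
  have defMsU : SDProd (sigmaCore M) U (sigmaCore M ⊔ U) :=
    sdprod_mk (sUM.trans nMs) rfl ((Msigma_pgroup M).inf_eq_bot s'U)
  have k'MsU : IsPiGrp (kappa M)ᶜ (sigmaCore M ⊔ U) :=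
    IsPiGrp.sup ((Msigma_pgroup M).mono fun p hp h => kappa_sigma' h hp)
      (complU.hallU.piGrp.mono fun p hp h => hp (Or.inr h)) (Or.inr (sUM.trans nMs))
  have defM2 : SDProd (sigmaCore M ⊔ U) K M := by
    refine sdprod_mk (norm_sup (sKM.trans nMs) defE.norm) (by rw [sup_assoc]; exact defM.sup_eq) ?_
    rw [inf_comm]; exact complU.hallK.piGrp.inf_eq_bot k'MsU
  have cycK := kappa_cyclic maxM complU.hallK
  have hF : U ≠ ⊥ → _ := fun ntU => FTtypeF_complement maxM complU.hallU.isHallOf s'U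
    (complU.hallU.index.mono (fun p hp t2 => hp (tau2_sub_sk' M t2))) ntU (by
      intro e he nte t13
      by_contra ntC
      have ntz : Subgroup.zpowers e ≠ ⊥ := by simpa using nte
      have := (kappa_compl_cent maxM complU ((Subgroup.zpowers_le).2 he) ntz
        (by rwa [cent_zpowers])).2.2
      apply nte
      refine IsPiElt.eq_one (piGrp_zpowers_iff.1 this) (t13.mono ?_)
      rintro p (h | h) t2
      · exact tau2'1 h t2
      · exact tau3'2 t2 h)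
  refine ⟨⟨defMsU, defM2, cycK, der2_sub_Msigma maxM⟩, fun ntK => ⟨?_, cUU ntK⟩,
    fun X sXU ntX ntC => kappa_compl_cent maxM complU sXU ntX ntC, ?_, fun ntU => (hF ntU).2⟩
  · obtain ⟨L, -, -, -, -, -, -, -, -, -, defM'⟩ :=
      Ptype_embedding ((trivgPmax maxM complU.hallK).1 ntK) complU.hallK
    have h1 : ⁅M, M⁆ ≤ sigmaCore M ⊔ U := defM2.der_le (abelian_of_cyclic cycK)
    have h2 : Nat.card ↥⁅M, M⁆ = Nat.card ↥(sigmaCore M ⊔ U) :=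
      Nat.eq_of_mul_eq_mul_right Nat.card_pos (defM'.card_mul.trans defM2.card_mul.symm)
    rw [Subgroup.eq_of_le_of_card_ge h1 h2.ge]
    exact defMsU
  · by_cases ntU : U = ⊥
    · refine abelian_of_le (abelian_of_cyclic cyclic_bot) ((Subgroup.closure_le _).2 ?_)
      rintro u ⟨hu, -⟩
      exact ntU ▸ hu
    · obtain ⟨⟨A₀, -, cA, hA⟩, -⟩ := hF ntU
      refine abelian_of_le cA ((Subgroup.closure_le _).2 ?_)
      rintro u ⟨hu, x, hx, ntx, cu⟩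
      exact hA x hx ntx ⟨hu, cu⟩

theorem le_centQ_iff {X U V : Subgroup G} (hX : X ≤ 𝒩(V)) (hU : U ≤ 𝒩(V)) :
    X ≤ centQ U V ↔ ⁅X, U⁆ ≤ V := by
  rw [← quot_le_iff hX, quot_cent_iff hX hU]

/-- The first part of the proof of 15.2. -/
theorem Fcore_structure_1 {M K : Subgroup G} (maxM : IsCoatom M) (hallK : IsPiHallOf (kappa M) K M)
    (nnil : ¬ Group.IsNilpotent (sigmaCore M)) {q : ℕ} (hq : q = Nat.card ↥(sigmaCore M ⊓ 𝒞(K))) :
    TypeP1 M ∧ SDProd (sigmaCore M) K M ∧ sigmaCore M = ⁅M, M⁆ ∧ K ≠ ⊥ ∧ Semiprime (sigmaCore M) K ∧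
    q.Prime ∧ sigmaCore M ⊓ 𝒞(K) ≤ pCoreOf q M ∧ IsSylowOf q (pCoreOf q M) M ∧
    Group.IsNilpotent (sigmaCore M /ₛ pCoreOf q M) := by
  have P1M : TypeP1 M := by
    by_contra h
    exact nnil (notP1type_Msigma_nil ((notP1type maxM).1 h))
  have PM := P1M.1
  have ntK := (trivgPmax maxM hallK).2 PM
  obtain ⟨U, complU⟩ := ex_kappa_compl maxM hallK
  have U1 := (trivg_kappa_compl maxM complU).2 P1M
  subst U1
  obtain ⟨-, -, defM, prMsK, -, -⟩ := kappa_compl_context maxM complU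
  rw [bot_sup_eq] at defM
  have defM' : sigmaCore M = ⁅M, M⁆ := by
    have := ((kappa_structure maxM complU).2.1 ntK).1.sup_eq
    rwa [sup_bot_eq] at this
  have solM := mmax_sol maxM
  have sMsM := (Msigma_normal M).1
  have solMs := sol_of_le solM sMsM
  have coMsK : (Nat.card (sigmaCore M)).Coprime (Nat.card K) :=
    (Msigma_pgroup M).coprime (hallK.piGrp.mono fun p hp => kappa_sigma' hp)
  have ntCF : fittingOf (sigmaCore M) ⊓ 𝒞(K) ≠ ⊥ := by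
    intro h
    have h1 := odd_sdprod_primact_commg_sub_Fitting defM (mFT_odd M) solM coMsK.symm prMsK h
    rw [(coprime_der1_sdprod defM coMsK solMs defM'.le).1] at h1
    exact nnil (nil_of_le (fitting_nil _) h1)
  obtain ⟨L, -, -, -, -, -, -, -, hP2, -⟩ := Ptype_embedding PM hallK
  have prq : q.Prime := by
    rcases hP2 with h | h
    · exact absurd P1M.2 h.1.2
    · rw [hq]; exact h.2
  have qKs : IsPGrp q (sigmaCore M ⊓ 𝒞(K)) := pGrp_of_card_eq prq hq.symm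
  have sKsQ : sigmaCore M ⊓ 𝒞(K) ≤ pCoreOf q M := by
    have h1 : sigmaCore M ⊓ 𝒞(K) ≤ fittingOf (sigmaCore M) := by
      rcases inf_eq_bot_or_le_of_card_prime (hq ▸ prq) (fittingOf (sigmaCore M)) with h | h
      · exfalso
        apply ntCF
        rw [← le_bot_iff, ← h]
        exact le_inf (inf_le_inf_right _ (fitting_le _)) inf_le_left
      · exact h
    exact le_pcore_of_le_fitting (h1.trans (Msigma_normal M).fitting_le) qKs
  have sMq : q ∈ sigma M := Msigma_pgroup M q prq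
    (by rw [hq]; exact Subgroup.card_dvd_of_le inf_le_left)
  have sQMs : pCoreOf q M ≤ sigmaCore M :=
    pcore_mono_pi (Set.singleton_subset_iff.2 sMq) M
  have nQM := pcore_norm {q} M
  have nilMsb : Group.IsNilpotent (sigmaCore M /ₛ pCoreOf q M) := by
    obtain ⟨p, hp, hd⟩ := exists_prime_dvd_card ntK
    obtain ⟨K₁, sK₁K, oK₁⟩ := exists_le_card_eq_prime hp hd
    have sK₁M := sK₁K.trans hallK.le
    have coK₁ : (Nat.card (sigmaCore M)).Coprime (Nat.card K₁) :=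
      coMsK.coprime_dvd_right (Subgroup.card_dvd_of_le sK₁K)
    have ti : pCoreOf q M ⊓ K₁ = ⊥ :=
      inf_eq_bot_of_cop (coK₁.coprime_dvd_left (Subgroup.card_dvd_of_le sQMs))
    apply prime_regular_sol_nil (R := K₁ /ₛ pCoreOf q M)
      (quot_norm _ (sK₁M.trans (Msigma_normal M).2)) (sol_quot _ solMs)
    · rw [card_quot_of_inf_eq_bot (sK₁M.trans nQM) ti, oK₁]; exact hp
    · rw [← coprime_quotient_cent sQMs (sK₁M.trans nQM) coK₁ (Or.inl solMs),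
        cent_semiprime prMsK sK₁K (ne_bot_of_card_prime (oK₁ ▸ hp))]
      exact quot_eq_bot_of_le sKsQ
  refine ⟨P1M, defM, defM', ntK, prMsK, prq, sKsQ, ?_, nilMsb⟩
  have nsQ : pCoreOf q M ⊲ sigmaCore M := (pcore_normal _ M).of_le sQMs sMsM
  have h1 := (nilpotent_pcore_Hall {q} nilMsb).quotPre_of nsQ (pcore_pGrp q M)
  rw [quotPre_pcore_of_piGrp nsQ (pcore_pGrp q M), sigmaCore_eq,
    pcore_pcore_of_subset (Set.singleton_subset_iff.2 sMq)] at h1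
  exact IsSylowOf.trans_hall h1 (Msigma_Hall maxM) sMq

/-- The second part of the proof of 15.2, for a `K`-invariant complement `D`. -/
theorem Fcore_structure_2 {M K D : Subgroup G} (maxM : IsCoatom M) (hallK : IsPiHallOf (kappa M) K M)
    (nnil : ¬ Group.IsNilpotent (sigmaCore M)) {q : ℕ} (hq : q = Nat.card ↥(sigmaCore M ⊓ 𝒞(K)))
    (hallD : IsPiHallOf {q}ᶜ D (sigmaCore M)) (nDK : K ≤ 𝒩(D)) :
    (Nat.card K).Prime ∧ ¬ K ≤ 𝒞(pCoreOf q M) ∧ ⁅D, D⁆ ≤ 𝒞(pCoreOf q M) ∧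
      ChiefFactor M (pCoreOf q M ⊓ 𝒞(D)) (pCoreOf q M) ∧
      IsElementaryAbelian q (pCoreOf q M /ₛ (pCoreOf q M ⊓ 𝒞(D))) ∧
      Nat.card (pCoreOf q M /ₛ (pCoreOf q M ⊓ 𝒞(D))) = q ^ Nat.card K ∧
      ∀ X : Subgroup G, X ≤ D → ⁅X, sigmaCore M ⊓ 𝒞(K)⁆ ≤ pCoreOf q M ⊓ 𝒞(D) → X ≤ 𝒞(pCoreOf q M) := by
  obtain ⟨P1M, defM, defM', ntK, prMsK, prq, sKsQ, sylQ, nilMsb⟩ := Fcore_structure_1 maxM hallK nnil hq
  set Q := pCoreOf q M with hQ
  set Ks := sigmaCore M ⊓ 𝒞(K) with hKs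
  set Q₀ := Q ⊓ 𝒞(D) with hQ₀
  have solM := mmax_sol maxM
  have sMsM := (Msigma_normal M).1
  have solMs := sol_of_le solM sMsM
  have sKM := hallK.le
  have sDMs := hallD.le
  have sDM := sDMs.trans sMsM
  have nQM : M ≤ 𝒩(Q) := pcore_norm {q} M
  have qQ : IsPGrp q Q := pcore_pGrp q M
  have sMq : q ∈ sigma M := Msigma_pgroup M q prq
    (by rw [hq]; exact Subgroup.card_dvd_of_le inf_le_left)
  have sQMs : Q ≤ sigmaCore M := pcore_mono_pi (Set.singleton_subset_iff.2 sMq) M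
  have sylQs : IsSylowOf q Q (sigmaCore M) := sylQ.of_le sQMs sMsM
  have defMs : SDProd Q D (sigmaCore M) := sylQs.sdprod (sMsM.trans nQM) hallD
  have coMsK : (Nat.card (sigmaCore M)).Coprime (Nat.card K) :=
    (Msigma_pgroup M).coprime (hallK.piGrp.mono fun p hp => kappa_sigma' hp)
  have coQD : (Nat.card Q).Coprime (Nat.card D) := IsPiGrp.coprime qQ hallD.piGrp
  have coQK : (Nat.card Q).Coprime (Nat.card K) := coMsK.coprime_dvd_left (Subgroup.card_dvd_of_le sQMs)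
  have nilQ := qQ.nil
  have solQ := qQ.sol
  have nilD : Group.IsNilpotent D := by
    obtain ⟨e⟩ := defMs.quot_equiv
    exact nilpotent_of_mulEquiv e.symm
  have ncQD : ¬ D ≤ 𝒞(Q) := by
    intro h
    apply nnil
    rw [← defMs.sup_eq]
    exact nil_sup_of_cent nilQ nilD h
  have ntD : D ≠ ⊥ := by
    rintro rfl
    exact ncQD bot_le
  have frobDK : IsFrob (D ⊔ K) D K := by
    refine isFrob_sup nDK ?_ ntD ntK
    intro x hx ntx
    rw [← le_bot_iff, ← defMs.inf_eq]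
    refine le_inf ?_ inf_le_left
    refine le_trans (inf_le_inf_right _ sDMs) ?_
    rw [prMsK x hx ntx]
    exact sKsQ
  have sDKM : D ⊔ K ≤ M := sup_le sDM sKM
  have coQDK : (Nat.card Q).Coprime (Nat.card ↥(D ⊔ K)) :=
    (Nat.Coprime.mul_right coQD coQK).coprime_dvd_right (card_sup_dvd (Or.inr nDK))
  have nQDK : D ⊔ K ≤ 𝒩(Q) := sDKM.trans nQM
  have nQ₀DK : D ⊔ K ≤ 𝒩(Q₀) := norm_inf nQDK (norm_cent (sup_le Subgroup.le_normalizer nDK))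
  have ltQ₀Q : Q₀ < Q := lt_of_le_of_ne inf_le_left fun h => ncQD (le_cent_symm (h ▸ inf_le_right))
  -- action of `D K` on sections `V / N` of `Q`
  have hsec : ∀ N V : Subgroup G, N ≤ V → V ≤ Q → V ≤ 𝒩(N) → D ⊔ K ≤ 𝒩(N) → D ⊔ K ≤ 𝒩(V) →
      IsFrob ((D ⊔ K) /ₛ N) (D /ₛ N) (K /ₛ N) ∧ (D ⊔ K) /ₛ N ≤ 𝒩(V /ₛ N) ∧
      (Nat.card (V /ₛ N)).Coprime (Nat.card ((D ⊔ K) /ₛ N)) ∧ Group.IsSolvable (V /ₛ N) ∧
      (∀ X : Subgroup G, X ≤ D ⊔ K → (V /ₛ N) ⊓ 𝒞(X /ₛ N) = (V ⊓ 𝒞(X)) /ₛ N) := by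
    intro N V sNV sVQ nNV nN nV
    have coV : (Nat.card V).Coprime (Nat.card ↥(D ⊔ K)) :=
      coQDK.coprime_dvd_left (Subgroup.card_dvd_of_le sVQ)
    have tiN : N ⊓ (D ⊔ K) = ⊥ :=
      inf_eq_bot_of_cop (coV.coprime_dvd_left (Subgroup.card_dvd_of_le sNV))
    have hc : ∀ X : Subgroup G, X ≤ D ⊔ K → (V /ₛ N) ⊓ 𝒞(X /ₛ N) = (V ⊓ 𝒞(X)) /ₛ N := fun X hX =>
      (coprime_quotient_cent sNV (hX.trans nN) (coV.coprime_dvd_right (Subgroup.card_dvd_of_le hX))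
        (Or.inl (sol_of_le solQ sVQ))).symm
    refine ⟨?_, quot_norm _ nV, coprime_quot _ coV, sol_quot _ (sol_of_le solQ sVQ), hc⟩
    have hinj : ∀ X : Subgroup G, X ≤ D ⊔ K → X ≠ ⊥ → X /ₛ N ≠ ⊥ := by
      intro X hX ntX h
      rw [quot_eq_bot_iff (hX.trans nN)] at h
      exact ntX (le_bot_iff.1 (tiN ▸ le_inf h hX))
    rw [quot_sup (le_sup_left.trans nN) (le_sup_right.trans nN)]
    refine isFrob_sup (quot_norm _ nDK) ?_ (hinj D le_sup_left ntD) (hinj K le_sup_right ntK)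
    rintro y hy nty
    obtain ⟨x, hx, rfl⟩ := mem_quot.1 hy
    have ntx : (x : G) ≠ 1 := by
      intro h
      apply nty
      have : x = 1 := Subtype.ext h
      rw [this, map_one]
    have sxK : Subgroup.zpowers (x : G) ≤ K := (Subgroup.zpowers_le).2 hx
    rw [← cent_zpowers, ← quot_zpowers, ← coprime_norm_quotient_cent (sxK.trans nDK)
      ((sxK.trans le_sup_right).trans nN)
      ((coV.coprime_dvd_left (Subgroup.card_dvd_of_le sNV)).coprime_dvd_right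
        (Subgroup.card_dvd_of_le (sxK.trans le_sup_right))) (Or.inl (sol_of_le solQ (sNV.trans sVQ))),
      cent_zpowers, frobDK.2.2.2 x hx ntx, bot_quot]
  -- the minimal invariant section `Q₁ / Q₀`
  have ltN := nilpotent_proper_norm nilQ ltQ₀Q
  have nN : D ⊔ K ≤ 𝒩(Q ⊓ 𝒩(Q₀)) := norm_inf nQDK (norm_norm nQ₀DK)
  have ntNb : (Q ⊓ 𝒩(Q₀)) /ₛ Q₀ ≠ ⊥ := by
    rw [Ne, quot_eq_bot_iff inf_le_right]
    exact fun h => ltN.ne (le_antisymm ltN.le h)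
  obtain ⟨Vb, sVb, minV⟩ := minNormal_exists ntNb (quot_norm Q₀ nN)
  set Q₁ := quotPre Q₀ Vb with hQ₁
  have eVb : Q₁ /ₛ Q₀ = Vb := quot_quotPre Vb
  have sQ₀Q₁ : Q₀ ≤ Q₁ := le_quotPre Vb
  have sQ₁N : Q₁ ≤ Q ⊓ 𝒩(Q₀) := quotPre_le_of_le_quot ltN.le sVb
  have sQ₁Q : Q₁ ≤ Q := sQ₁N.trans inf_le_left
  have nQ₁DK : D ⊔ K ≤ 𝒩(Q₁) := le_norm_quotPre nQ₀DK minV.norm
  obtain ⟨frob₁, n₁, co₁, sol₁, hc₁⟩ := hsec Q₀ Q₁ sQ₀Q₁ sQ₁Q (sQ₁N.trans inf_le_right) nQ₀DK nQ₁DK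
  have regD₁ : (Q₁ /ₛ Q₀) ⊓ 𝒞(D /ₛ Q₀) = ⊥ := by
    rw [hc₁ D le_sup_left]
    exact quot_eq_bot_of_le (inf_le_inf_right _ sQ₁Q)
  have ntQ₁b : Q₁ /ₛ Q₀ ≠ ⊥ := eVb ▸ minV.ne_bot
  have ntCK : (Q₁ ⊓ 𝒞(K)) /ₛ Q₀ ≠ ⊥ := by
    intro h
    rw [← hc₁ K le_sup_right] at h
    have := (Frobenius_Wielandt_fixpoint frob₁ n₁ co₁ sol₁).2.1 h
    apply ntQ₁b
    rw [← regD₁]
    exact (inf_eq_left.2 (le_cent_symm this)).symm
  have prKs : (Nat.card Ks).Prime := hq ▸ prq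
  have eCK : Q₁ ⊓ 𝒞(K) = Ks := by
    rcases eq_bot_or_eq_of_le_card_prime prKs
      (show Q₁ ⊓ 𝒞(K) ≤ Ks from inf_le_inf_right _ (sQ₁Q.trans sQMs)) with h | h
    · rw [h, bot_quot] at ntCK
      exact absurd rfl ntCK
    · exact h
  have sKsQ₁ : Ks ≤ Q₁ := eCK ▸ inf_le_left
  have tiKs : Q₀ ⊓ Ks = ⊥ := by
    rcases inf_eq_bot_or_le_of_card_prime prKs Q₀ with h | h
    · rw [inf_comm]; exact h
    · rw [eCK] at ntCK
      exact absurd (quot_eq_bot_of_le h) ntCK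
  have eQ₁ : Q₁ = Q := by
    apply nilpotent_sub_norm nilQ sQ₁Q
    have nN₁ : D ⊔ K ≤ 𝒩(Q ⊓ 𝒩(Q₁)) := norm_inf nQDK (norm_norm nQ₁DK)
    have sQ₁N₁ : Q₁ ≤ Q ⊓ 𝒩(Q₁) := le_inf sQ₁Q Subgroup.le_normalizer
    obtain ⟨frob₂, n₂, co₂, sol₂, hc₂⟩ := hsec Q₁ (Q ⊓ 𝒩(Q₁)) sQ₁N₁ inf_le_left inf_le_right nQ₁DK nN₁
    have h1 := (Frobenius_Wielandt_fixpoint frob₂ n₂ co₂ sol₂).2.1 (by
      rw [hc₂ K le_sup_right]
      exact quot_eq_bot_of_le (le_trans (inf_le_inf_right _ (inf_le_left.trans sQMs)) sKsQ₁))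
    have h2 := inf_eq_left.2 (le_cent_symm h1)
    rw [hc₂ D le_sup_left, quot_eq_bot_of_le
      (le_trans (inf_le_inf_right _ inf_le_left) sQ₀Q₁)] at h2
    exact (quot_eq_bot_iff inf_le_right).1 h2.symm
  have nQ₀Q : Q ≤ 𝒩(Q₀) := eQ₁ ▸ sQ₁N.trans inf_le_right
  have nQ₀M : M ≤ 𝒩(Q₀) := by
    rw [← defM.sup_eq, ← defMs.sup_eq, sup_assoc]
    exact sup_le nQ₀Q nQ₀DK
  rw [eQ₁] at n₁ co₁ sol₁ hc₁ regD₁ ntQ₁b eVb eCK
  have tiK : Q₀ ⊓ K = ⊥ := inf_eq_bot_of_cop (coQK.coprime_dvd_left (Subgroup.card_dvd_of_le inf_le_left))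
  have oKb : Nat.card (K /ₛ Q₀) = Nat.card K := card_quot_of_inf_eq_bot (sKM.trans nQ₀M) tiK
  have eCKb : (Q /ₛ Q₀) ⊓ 𝒞(K /ₛ Q₀) = Ks /ₛ Q₀ := by rw [hc₁ K le_sup_right, eCK]
  have oKsb : Nat.card (Ks /ₛ Q₀) = q := by
    rw [card_quot_of_inf_eq_bot (sKsQ.trans nQ₀Q) tiKs, hq]
  have prim : Semiprime (Q /ₛ Q₀) (K /ₛ Q₀) := by
    rintro y hy nty
    obtain ⟨x, hx, rfl⟩ := mem_quot.1 hy
    have ntx : (x : G) ≠ 1 := by
      intro h
      apply nty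
      have : x = 1 := Subtype.ext h
      rw [this, map_one]
    have sxK : Subgroup.zpowers (x : G) ≤ K := (Subgroup.zpowers_le).2 hx
    rw [← cent_zpowers, ← quot_zpowers, hc₁ _ (sxK.trans le_sup_right), hc₁ K le_sup_right,
      cent_zpowers, semiprimeS prMsK sQMs le_rfl x hx ntx]
  obtain ⟨prK, oQb, hD'⟩ := Frobenius_primact frob₁ n₁ sol₁ ntQ₁b co₁ prim regD₁
  rw [oKb] at prK
  rw [eCKb, oKsb, oKb] at oQb
  have cQX : ∀ X : Subgroup G, X ≤ D → ⁅Q, X⁆ ≤ Q₀ → X ≤ 𝒞(Q) := fun X sXD h =>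
    stable_factor_cent (K := Q₀) (sXD.trans (le_cent_symm inf_le_right)) inf_le_left h
      (coQD.coprime_dvd_right (Subgroup.card_dvd_of_le sXD))
  have nQ₀D : D ≤ 𝒩(Q₀) := sDM.trans nQ₀M
  have cQbD' : ⁅Q, ⁅D, D⁆⁆ ≤ Q₀ := by
    have h1 := (hD' (by rw [eCKb]; exact isCyclic_of_card_prime (oKsb ▸ prq))).trans inf_le_right
    rw [← quot_comm nQ₀D nQ₀D] at h1
    exact (quot_cent_iff' ((der_le D).trans nQ₀D) nQ₀Q).1 h1
  have minM : MinNormal (Q /ₛ Q₀) (M /ₛ Q₀) := by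
    refine ⟨ntQ₁b, quot_norm _ nQM, fun W hW ntW nW => ?_⟩
    rw [eVb] at hW ⊢
    exact minV.2.2 W hW ntW ((quot_mono _ sDKM).trans nW)
  have chQ : ChiefFactor M Q₀ Q := by
    have := chiefFactor_of_minNormal ⟨inf_le_left.trans sylQ.le, nQ₀M⟩ (quot_mono _ sylQ.le) minM
    rwa [quotPre_quot_of_normal ⟨inf_le_left, nQ₀Q⟩] at this
  refine ⟨prK, ?_, cQX _ (der_le D) cQbD', chQ, ?_, oQb, ?_⟩
  · intro cQK
    have h1 : Q ≤ Ks := le_inf sQMs (le_cent_symm cQK)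
    have h2 : Nat.card (Q /ₛ Q₀) ≤ q := by
      rw [← oKsb]
      exact Subgroup.card_le_of_le (quot_mono _ h1)
    rw [oQb] at h2
    have h3 : q ^ 1 < q ^ Nat.card K := Nat.pow_lt_pow_right prq.one_lt prK.one_lt
    rw [pow_one] at h3
    omega
  · obtain ⟨p, hp, abV⟩ := chQ.abelem solQ
    have h1 : p = q := (abelem_pGrp hp abV).mem_of_piGrp ntQ₁b (IsPiGrp.quot qQ Q₀)
    exact h1 ▸ abV
  · intro X sXD hX
    have nKsK : K ≤ 𝒩(Ks) := norm_of_cent' inf_le_right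
    have nQ₀Ks : Ks ≤ 𝒩(Q₀) := sKsQ.trans nQ₀Q
    set D₁ := D ⊓ centQ Ks Q₀ with hD₁
    have sXD₁ : X ≤ D₁ := le_inf sXD ((le_centQ_iff (sXD.trans nQ₀D) nQ₀Ks).2 hX)
    have sD'D₁ : ⁅D, D⁆ ≤ D₁ := by
      refine le_inf (der_le D) ((le_centQ_iff ((der_le D).trans nQ₀D) nQ₀Ks).2 ?_)
      rw [Subgroup.commutator_comm]
      exact (Subgroup.commutator_mono sKsQ le_rfl).trans cQbD'
    have nD₁ : D ⊔ K ≤ 𝒩(D₁) := by
      refine sup_le (norm_of_comm_le inf_le_left sD'D₁) (norm_inf nDK ?_)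
      exact le_norm_quotPre (sKM.trans nQ₀M) (norm_cent (quot_norm _ nKsK))
    have h1 : (Q /ₛ Q₀) ⊓ 𝒞(D₁ /ₛ Q₀) = Q /ₛ Q₀ := by
      have h2 := minV.2.2 ((Q /ₛ Q₀) ⊓ 𝒞(D₁ /ₛ Q₀)) (eVb ▸ inf_le_left) ?_
        (norm_inf n₁ (norm_cent (quot_norm _ nD₁)))
      · rw [h2, eVb]
      · refine ne_bot_mono (H := Ks /ₛ Q₀) (le_inf (quot_mono _ sKsQ) ?_)
          (ne_bot_of_card_prime (oKsb ▸ prq))
        exact le_cent_symm (quot_le_of_le_quotPre inf_le_right)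
    refine cQX X sXD ?_
    refine (Subgroup.commutator_mono le_rfl sXD₁).trans ?_
    exact (quot_cent_iff nQ₀Q (inf_le_left.trans nQ₀D)).1 (h1 ▸ inf_le_right)

end CA.BG.P15
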