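/-
B & G section 15, part b: Theorem 15.2 (end), Corollaries 15.3-15.6.
-/
import Cfsg.Agent.BG.P15a

set_option autoImplicit false
set_option linter.unusedSectionVars false

namespace CA.BG.P15

open Cfsg CA.FG
open scoped commutatorElement

universe u

variable {G : Type u} [Group G] [MinSimpleOdd G]

theorem Fitting_le_sup_cent {π : Set ℕ} {M Q : Subgroup G} (hallQ : IsPiHallOf π Q M) (nQM : M ≤ 𝒩(Q))
    (nilQ : Group.IsNilpotent Q) : fittingOf M ≤ Q ⊔ (M ⊓ 𝒞(Q)) := by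
  have defF := nilpotent_pcoreC π (fitting_nil M)
  rw [← defF.sup_eq]
  have sQF : Q ≤ fittingOf M := fitting_max ⟨hallQ.le, nQM⟩ nilQ
  refine sup_le_sup (hallQ.le_of_normal nQM (pcore_piGrp _ _) ((pcore_le _ _).trans (fitting_le M)))
    (le_inf ((pcore_le _ _).trans (fitting_le M)) ?_)
  exact defF.cent.trans (cent_anti (nilpotent_le_pcore (fitting_nil M) sQF hallQ.piGrp))

theorem Fitting_le_Fcore_sup_cent (M : Subgroup G) :
    fittingOf M ≤ fittingHallOf M ⊔ (M ⊓ 𝒞(fittingHallOf M)) :=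
  Fitting_le_sup_cent (Fcore_Hall M).pHall (Fcore_norm M) (Fcore_nil M)

/-- B & G, Theorem 15.2(a-c, g), with `p = |K|`, `q = |K*|`, `Q = O_q(M)`. -/
theorem Fcore_structure {M K : Subgroup G} (maxM : IsCoatom M) (hallK : IsPiHallOf (kappa M) K M)
    (neF : fittingHallOf M ≠ sigmaCore M) {q : ℕ} (hq : q = Nat.card ↥(sigmaCore M ⊓ 𝒞(K))) :
    (TypeP1 M ∧ SDProd (sigmaCore M) K M ∧ sigmaCore M = ⁅M, M⁆) ∧
    ((Nat.card K).Prime ∧ q.Prime ∧ q ∣ Nat.card (fittingHallOf M) ∧ q ∈ beta M) ∧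
    IsSylowOf q (pCoreOf q M) M ∧
    (⁅⁅M, M⁆, ⁅M, M⁆⁆ ≤ fittingOf M ∧ pCoreOf q M ⊔ (M ⊓ 𝒞(pCoreOf q M)) = fittingOf M ∧
      fittingOf M < sigmaCore M) ∧
    ∀ D : Subgroup G, IsPiHallOf {q}ᶜ D (sigmaCore M) →
      Group.IsNilpotent D ∧ pCoreOf q M ⊓ 𝒞(D) ⊲ M ∧
      ChiefFactor M (pCoreOf q M ⊓ 𝒞(D)) (pCoreOf q M) ∧
      IsElementaryAbelian q (pCoreOf q M /ₛ (pCoreOf q M ⊓ 𝒞(D))) ∧
      Nat.card (pCoreOf q M /ₛ (pCoreOf q M ⊓ 𝒞(D))) = q ^ Nat.card K ∧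
      sigmaCore M ⊓ centQ (pCoreOf q M) (pCoreOf q M ⊓ 𝒞(D)) = fittingOf M ∧
      sigmaCore M ⊓ centQ (sigmaCore M ⊓ 𝒞(K)) (pCoreOf q M ⊓ 𝒞(D)) = fittingOf M := by
  have nnil : ¬ Group.IsNilpotent (sigmaCore M) := fun h => neF ((Fcore_eq_Msigma maxM).2 h)
  obtain ⟨P1M, defM, defM', ntK, prMsK, prq, sKsQ, sylQ, nilMsb⟩ := Fcore_structure_1 maxM hallK nnil hq
  have solM := mmax_sol maxM
  have sMsM := (Msigma_normal M).1
  have nMsM := (Msigma_normal M).2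
  have solMs := sol_of_le solM sMsM
  have coMsK : (Nat.card (sigmaCore M)).Coprime (Nat.card K) :=
    (Msigma_pgroup M).coprime (hallK.piGrp.mono fun p hp => kappa_sigma' hp)
  obtain ⟨D₀, hallD₀, nD₀K⟩ := coprime_Hall_exists {q}ᶜ (hallK.le.trans nMsM) coMsK solMs
  obtain ⟨prK, ncQK, cQD', chQ, abQ, oQb, hX⟩ := Fcore_structure_2 maxM hallK nnil hq hallD₀ nD₀K
  set Q := pCoreOf q M with hQ
  set Ks := sigmaCore M ⊓ 𝒞(K) with hKs
  set Q₀ := Q ⊓ 𝒞(D₀) with hQ₀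
  have nQM : M ≤ 𝒩(Q) := pcore_norm {q} M
  have qQ : IsPGrp q Q := pcore_pGrp q M
  have sMq : q ∈ sigma M := Msigma_pgroup M q prq
    (by rw [hq]; exact Subgroup.card_dvd_of_le inf_le_left)
  have sQMs : Q ≤ sigmaCore M := pcore_mono_pi (Set.singleton_subset_iff.2 sMq) M
  have sylQs : IsSylowOf q Q (sigmaCore M) := sylQ.of_le sQMs sMsM
  have defMs : SDProd Q D₀ (sigmaCore M) := sylQs.sdprod (sMsM.trans nQM) hallD₀
  have nilD₀ : Group.IsNilpotent D₀ := by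
    obtain ⟨e⟩ := defMs.quot_equiv
    exact nilpotent_of_mulEquiv e.symm
  have sQH : Q ≤ fittingHallOf M := Fcore_max_Sylow sylQ nQM
  have sQF : Q ≤ fittingOf M := pcore_le_fitting q M
  have nsQ₀ : Q₀ ⊲ M := chQ.normal_left
  have sCMs : M ⊓ 𝒞(Q) ≤ sigmaCore M := by
    have nsC : M ⊓ 𝒞(Q) ⊲ M := inf_cent_normalIn_of_norm nQM
    have h1 := coprime_mulG_setI_norm defM.sup_eq defM.norm nsC.2 coMsK
    rw [inf_eq_right.2 nsC.1] at h1
    rw [← h1]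
    refine sup_le inf_le_left ?_
    rcases inf_eq_bot_or_le_of_card_prime prK (M ⊓ 𝒞(Q)) with h | h
    · rw [h]; exact bot_le
    · exact absurd (h.trans inf_le_right) ncQK
  have sCF : M ⊓ 𝒞(Q) ≤ fittingOf M :=
    fitting_max (inf_cent_normalIn_of_norm nQM)
      (nil_of_quot_of_cent inf_le_right (nil_of_le nilMsb (quot_mono _ sCMs)))
  have defF : Q ⊔ (M ⊓ 𝒞(Q)) = fittingOf M :=
    le_antisymm (sup_le sQF sCF) (Fitting_le_sup_cent sylQ nQM qQ.nil)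
  have sFMs : fittingOf M ≤ sigmaCore M := defF ▸ sup_le sQMs sCMs
  have nQ₀Q : Q ≤ 𝒩(Q₀) := sylQ.le.trans nsQ₀.2
  have hF1 : fittingOf M ≤ centQ Q Q₀ := by
    rw [le_centQ_iff ((fitting_le M).trans nsQ₀.2) nQ₀Q, Subgroup.commutator_comm]
    exact Fitting_stab_chief (normalIn_refl M) chQ
  have hF2 : centQ Q Q₀ ≤ centQ Ks Q₀ := quotPre_mono (cent_anti (quot_mono _ sKsQ))
  have hF3 : sigmaCore M ⊓ centQ Ks Q₀ ≤ fittingOf M := by
    have sQC : Q ≤ sigmaCore M ⊓ centQ Ks Q₀ := le_inf sQMs (sQF.trans (hF1.trans hF2))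
    rw [← (defMs.restrict_left sQC inf_le_left).sup_eq, ← defF]
    refine sup_le_sup_left (le_inf (inf_le_right.trans (hallD₀.le.trans sMsM)) ?_) _
    refine hX _ inf_le_right ?_
    rw [← le_centQ_iff (inf_le_right.trans (hallD₀.le.trans (sMsM.trans nsQ₀.2))) (sKsQ.trans nQ₀Q)]
    exact inf_le_left.trans inf_le_right
  refine ⟨⟨P1M, defM, defM'⟩, ⟨prK, prq, ?_, ?_⟩, sylQ, ⟨?_, defF, ?_⟩, ?_⟩
  · rw [hq]; exact Subgroup.card_dvd_of_le (sKsQ.trans sQH)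
  · by_contra b'q
    have h1 := (beta_max_pdiv maxM prq b'q).2.1
    have h2 := h1.eq_of_normal (pcore_norm _ _) hallD₀
    apply nnil
    rw [← defMs.sup_eq]
    refine nil_sup_of_cent qQ.nil nilD₀ ?_
    refine le_cent_of_norm_of_inf_eq_bot (sQMs.trans ?_) defMs.norm (by rw [inf_comm]; exact defMs.inf_eq)
    rw [h2]; exact pcore_norm _ _
  · rw [← defM']
    refine fitting_max ((Msigma_normal M).comm (Msigma_normal M)) ?_
    refine nil_of_le (K := Q ⊔ ⁅D₀, D₀⁆) (nil_sup_of_cent qQ.nil (nil_of_le nilD₀ (der_le _)) cQD') ?_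
    rw [← defMs.sup_eq, comm_sup_self defMs.norm]
    exact sup_le_sup_right (sup_le (der_le Q) (comm_le_left defMs.norm)) _
  · refine lt_of_le_of_ne sFMs fun h => nnil ?_
    rw [← h]; exact fitting_nil M
  · intro D hallD
    obtain ⟨x, hx, rfl⟩ := Hall_trans solMs hallD hallD₀
    have e : Q ⊓ 𝒞(D₀ :^ x) = Q₀ := by
      rw [← conjg_cent, ← conjg_of_mem_norm (nQM (sMsM hx)), ← conjg_inf,
        conjg_of_mem_norm (nsQ₀.2 (sMsM hx))]
    rw [e]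
    exact ⟨nil_conjg.2 nilD₀, nsQ₀, chQ, abQ, oQb,
      le_antisymm ((inf_le_inf_left _ hF2).trans hF3) (le_inf sFMs hF1),
      le_antisymm hF3 (le_inf sFMs (hF1.trans hF2))⟩

/-- B & G, Theorem 15.2, first part. -/
theorem Fcore_structure_a {M : Subgroup G} (maxM : IsCoatom M) :
    fittingHallOf M ≠ ⊥ ∧ fittingHallOf M ≤ sigmaCore M ∧ sigmaCore M ≤ ⁅M, M⁆ ∧ ⁅M, M⁆ < M := by
  refine ⟨?_, Fcore_sub_Msigma maxM, Msigma_der1 maxM, der_lt_of_sol (mmax_sol maxM) (mmax_neq1 maxM)⟩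
  by_cases h : fittingHallOf M = sigmaCore M
  · rw [h]; exact Msigma_neq1 maxM
  · obtain ⟨K, hallK⟩ := ex_kappa_hall maxM
    obtain ⟨-, ⟨-, prq, hd, -⟩, -⟩ := Fcore_structure maxM hallK h rfl
    exact ne_bot_of_prime_dvd_card prq hd

theorem cent_Hall_sigma_compl {M H X : Subgroup G} (maxM : IsCoatom M)
    (hallH : IsHallOf H (sigmaCore M)) (ntH : H ≠ ⊥) (sXC : X ≤ M ⊓ 𝒞(H))
    (s'X : IsPiGrp (sigma M)ᶜ X) : IsCyclic X ∧ IsPiGrp (tau2 M) X := by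
  by_cases ntX : X = ⊥
  · rw [ntX]; exact ⟨cyclic_bot, piGrp_bot _⟩
  have solM := mmax_sol maxM
  have sXM := sXC.trans inf_le_left
  have k'X : IsPiGrp (kappa M)ᶜ X := by
    intro p hp hd kp
    obtain ⟨P, sPX, oP⟩ := exists_le_card_eq_prime hp hd
    obtain ⟨K, hallK, sPK⟩ := Hall_superset solM (sPX.trans sXM) ((pGrp_of_card_eq hp oP).piGrp kp)
    have ntP := ne_bot_of_card_prime (oP ▸ hp)
    have PM := (trivgPmax maxM hallK).1 (ne_bot_mono sPK ntP)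
    obtain ⟨⟨U, -, -, -, prMsK, -⟩, -, -, -, hS, -⟩ := Ptype_structure PM hallK
    have sHKs : H ≤ sigmaCore M ⊓ 𝒞(K) := by
      rw [← cent_semiprime prMsK sPK ntP]
      exact le_inf hallH.1 (le_cent_symm (sPX.trans (sXC.trans inf_le_right)))
    obtain ⟨q, hq, hqd⟩ := exists_prime_dvd_card ntH
    obtain ⟨S, sylS⟩ := sylow_exists hq H
    exact (hS q ⟨hq, hqd.trans (Subgroup.card_dvd_of_le sHKs)⟩ S
      (sylS.trans_isHall hallH hq hqd)).2 (sylS.le.trans sHKs)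
  obtain ⟨K, hallK⟩ := ex_kappa_hall maxM
  obtain ⟨U, complU⟩ := ex_kappa_compl maxM hallK
  have sk'X : IsPiGrp (sigma M ∪ kappa M)ᶜ X := by
    intro p hp hd h
    exact h.elim (s'X p hp hd) (k'X p hp hd)
  obtain ⟨m, hm, sXU⟩ := Hall_subJ solM complU.hallU sXM sk'X
  exact (kappa_compl_cent maxM (kappaCompl_conjg complU hm) sXU ntX
    (ne_bot_mono (le_inf hallH.1 (le_cent_symm (sXC.trans inf_le_right))) ntH)).2

/-- B & G, Corollary 15.3(a). -/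
theorem cent_Hall_sigma_sdprod {M H : Subgroup G} (maxM : IsCoatom M)
    (hallH : IsHallOf H (sigmaCore M)) (ntH : H ≠ ⊥) :
    ∃ X : Subgroup G, SDProd (sigmaCore M ⊓ 𝒞(H)) X (M ⊓ 𝒞(H)) ∧ IsCyclic X ∧
      IsPiGrp (tau2 M) X := by
  obtain ⟨X, hallX⟩ := Hall_exists (sigma M)ᶜ (sol_of_le (mmax_sol maxM) (inf_le_left : M ⊓ 𝒞(H) ≤ M))
  refine ⟨X, ?_, cent_Hall_sigma_compl maxM hallH ntH hallX.le hallX.piGrp⟩
  have h1 := (Msigma_Hall maxM).inf_of_normal (Msigma_normal M).2 (inf_le_left : M ⊓ 𝒞(H) ≤ M)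
  rw [← inf_assoc, inf_eq_left.2 (Msigma_normal M).1] at h1
  exact h1.sdprod (norm_inf (inf_le_left.trans (Msigma_normal M).2)
    (inf_le_right.trans Subgroup.le_normalizer)) hallX

theorem sigma_elt_fusion {M : Subgroup G} (maxM : IsCoatom M) {x a : G} (hx : x ∈ sigmaCore M)
    (hxa : a * x * a⁻¹ ∈ sigmaCore M) : ∃ m ∈ M, a * x * a⁻¹ = m * x * m⁻¹ := by
  by_cases ntx : x = 1
  · exact ⟨1, M.one_mem, by simp [ntx]⟩
  have h1 : M :^ a⁻¹ ∈ sigmaMmax x := ⟨isCoatom_conjg.2 maxM, by rw [MsigmaJ, mem_conjg_inv]; exact hxa⟩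
  obtain ⟨trR, -, nsR, -⟩ := FT_signalizer_trans (Msigma_ell1 maxM hx ntx)
  obtain ⟨k, hk, e⟩ := trR M ⟨maxM, hx⟩ _ h1
  have h2 : a * k ∈ M := by
    apply mem_of_conjg_mmax maxM
    rw [conjg_mul, ← e, conjg_cancel_inv]
  refine ⟨a * k, h2, ?_⟩
  have h3 : k * x = x * k := Subgroup.mem_centralizer_singleton_iff.1 (nsR.1 hk)
  calc a * x * a⁻¹ = a * (x * k * k⁻¹) * a⁻¹ := by group
    _ = a * k * x * (a * k)⁻¹ := by rw [← h3]; group

/-- B & G, Corollary 15.3(b). -/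
theorem sigma_Hall_tame {M H : Subgroup G} (maxM : IsCoatom M) (hallH : IsHallOf H (sigmaCore M))
    {x a : G} (Hx : x ∈ H) (Hxa : a * x * a⁻¹ ∈ H) :
    ∃ b ∈ M ⊓ 𝒩(H), a * x * a⁻¹ = b * x * b⁻¹ := by
  obtain ⟨m, hm, e⟩ := sigma_elt_fusion maxM (hallH.1 Hx) (hallH.1 Hxa)
  rw [e] at Hxa ⊢
  by_cases nHM : M ≤ 𝒩(H)
  · exact ⟨m, ⟨hm, nHM hm⟩, rfl⟩
  have sMsM := (Msigma_normal M).1
  have solM := mmax_sol maxM
  have neF : fittingHallOf M ≠ sigmaCore M := by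
    intro h
    apply nHM
    rw [nilpotent_Hall_pcore ((Fcore_eq_Msigma maxM).1 h) hallH.pHall]
    exact norm_pcore _ (Msigma_normal M).2
  obtain ⟨K, hallK⟩ := ex_kappa_hall maxM
  have nnil : ¬ Group.IsNilpotent (sigmaCore M) := fun h => neF ((Fcore_eq_Msigma maxM).2 h)
  obtain ⟨-, -, -, -, -, prq, -, sylQ, nilMsb⟩ := Fcore_structure_1 maxM hallK nnil rfl
  set q := Nat.card ↥(sigmaCore M ⊓ 𝒞(K)) with hq
  set Q := pCoreOf q M with hQ
  have nQM : M ≤ 𝒩(Q) := pcore_norm {q} M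
  have sHM := hallH.1.trans sMsM
  have sMq : q ∈ sigma M := Msigma_pgroup M q prq (Subgroup.card_dvd_of_le inf_le_left)
  have sQMs : Q ≤ sigmaCore M := pcore_mono_pi (Set.singleton_subset_iff.2 sMq) M
  have nQH : M ≤ 𝒩(Q ⊔ H) := by
    rw [← quotPre_quot (sHM.trans nQM)]
    refine le_norm_quotPre nQM ?_
    rw [nilpotent_Hall_pcore nilMsb (hallH.pHall.quot (sMsM.trans nQM))]
    exact norm_pcore _ (quot_norm _ (Msigma_normal M).2)
  have q'H : ¬ q ∣ Nat.card H := by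
    intro h
    apply nHM
    have : Q ≤ H := hallH.pHall.le_of_norm_le ((pcore_pGrp q M).piGrp ⟨prq, h⟩) sQMs (sHM.trans nQM)
    rwa [sup_eq_right.2 this] at nQH
  have hallH' : IsPiHallOf {q}ᶜ H (Q ⊔ H) :=
    pHall_right_of_sup (Or.inr (sHM.trans nQM)) rfl (by rw [compl_compl]; exact pcore_pGrp q M)
      ((piGrp_compl_singleton_iff prq).2 q'H)
  have h1 := Hall_Frattini_arg (sol_of_le solM (sup_le sylQ.le sHM)) ⟨sup_le sylQ.le sHM, nQH⟩ hallH'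
  rw [sup_assoc, sup_eq_right.2 (show H ≤ M ⊓ 𝒩(H) from le_inf sHM Subgroup.le_normalizer)] at h1
  rw [← h1, mem_sup_of_right_le_norm' (inf_le_left.trans nQM)] at hm
  obtain ⟨n, hn, y, hy, rfl⟩ := hm
  refine ⟨n, hn, ?_⟩
  have h2 : y * x * y⁻¹ ∈ H := by
    have := conj_mem_of_mem_norm' hn.2 Hxa
    convert this using 1
    group
  have h3 : y * x * y⁻¹ * x⁻¹ ∈ Q ⊓ H := by
    refine Subgroup.mem_inf.2 ⟨?_, H.mul_mem h2 (H.inv_mem Hx)⟩
    have := Q.mul_mem hy (conj_mem_of_mem_norm (nQM (sHM Hx)) (Q.inv_mem hy))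
    convert this using 1
    group
  rw [inf_eq_bot_of_cop ((pcore_pGrp q M).coprime_of_not_dvd q'H), Subgroup.mem_bot] at h3
  have h4 : y * x * y⁻¹ = x := mul_inv_eq_one.1 h3
  calc n * y * x * (n * y)⁻¹ = n * (y * x * y⁻¹) * n⁻¹ := by group
    _ = n * x * n⁻¹ := by rw [h4]

/-- B & G, Corollary 15.4. -/
theorem nilpotent_Hall_sigma {H : Subgroup G} (nilH : Group.IsNilpotent H) (hallH : IsHallOf H ⊤) :
    ∃ M : Subgroup G, IsCoatom M ∧ H ≤ sigmaCore M := by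
  by_cases ntH : H = ⊥
  · obtain ⟨M, maxM⟩ := any_mmax (G := G)
    exact ⟨M, maxM, ntH ▸ bot_le⟩
  obtain ⟨p, hp, hd⟩ := exists_prime_dvd_card ntH
  have sylS : IsSylowOf p (pCoreOf p H) H := nilpotent_pcore_Hall {p} nilH
  set S := pCoreOf p H with hS
  have ntS : S ≠ ⊥ := sylS.ne_bot' hp hd
  obtain ⟨M, maxM, sNM⟩ := mmax_exists (mFT_norm_proper ntS (mFT_nil_proper sylS.pGrp.nil))
  refine ⟨M, maxM, ?_⟩
  have sHM : H ≤ M := (pcore_norm _ H).trans sNM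
  have sSM := sylS.le.trans sHM
  have sylSG := sylS.trans_isHall hallH hp hd
  have sylSM : IsSylowOf p S M := sylSG.of_le sSM le_top
  have sp : p ∈ sigma M := mem_sigma_iff.2 ⟨hp, hd.trans (Subgroup.card_dvd_of_le sHM), S, sylSM, sNM⟩
  have sSMs : S ≤ sigmaCore M :=
    (Msigma_Hall maxM).le_of_normal (Msigma_normal M).2 (sylS.pGrp.piGrp sp) sSM
  refine (Msigma_Hall maxM).le_of_normal (Msigma_normal M).2 ?_ sHM
  intro q hq hqd
  by_contra s'q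
  have neq : q ≠ p := fun h => s'q (h ▸ sp)
  have sylR : IsSylowOf q (pCoreOf q H) H := nilpotent_pcore_Hall {q} nilH
  have cRS : pCoreOf q H ≤ 𝒞(S) :=
    sub_nilpotent_cent2 nilH sylR.le sylS.le (sylR.pGrp.coprime_of_ne sylS.pGrp neq)
  obtain ⟨cycR, t2R⟩ := cent_Hall_sigma_compl maxM (sylSG.of_le sSMs le_top).isHallOf ntS
    (le_inf (sylR.le.trans sHM) cRS) (sylR.pGrp.piGrp s'q)
  have t2q : q ∈ tau2 M := sylR.pGrp.mem_of_piGrp (sylR.ne_bot' hq hqd) t2R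
  have sylRM : IsSylowOf q (pCoreOf q H) M :=
    (sylR.trans_isHall hallH hq hqd).of_le (sylR.le.trans sHM) le_top
  have h1 := pRank_le_one_of_cyclic hq cycR
  rw [p_rank_Sylow hq sylRM, (mem_tau2_iff.1 t2q).2.2] at h1
  omega

/-- B & G, Corollary 15.5, with `Y = O_{σ(M)'}(F(M))`. -/
theorem Fitting_structure {M : Subgroup G} (maxM : IsCoatom M) :
    (IsCyclic (piCoreOf (sigma M)ᶜ (fittingOf M)) ∧
      IsPiGrp (tau2 M) (piCoreOf (sigma M)ᶜ (fittingOf M))) ∧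
    (⁅⁅M, M⁆, ⁅M, M⁆⁆ ≤ fittingOf M ∧ fittingHallOf M ⊔ (M ⊓ 𝒞(fittingHallOf M)) = fittingOf M ∧
      DProd (fittingOf (sigmaCore M)) (piCoreOf (sigma M)ᶜ (fittingOf M)) (fittingOf M)) ∧
    (fittingHallOf M ≤ ⁅M, M⁆ ∧ Group.IsNilpotent (⁅M, M⁆ /ₛ fittingHallOf M)) ∧
    (TypeP M → fittingOf M ≤ ⁅M, M⁆) := by
  set Y := piCoreOf (sigma M)ᶜ (fittingOf M) with hY
  have defF : DProd (fittingOf (sigmaCore M)) Y (fittingOf M) := by
    rw [sigmaCore_eq, Fitting_pcore]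
    exact nilpotent_pcoreC _ (fitting_nil M)
  have nsY : Y ⊲ M := (fitting_normal M).pcore _
  have s'Y : IsPiGrp (sigma M)ᶜ Y := pcore_piGrp _ _
  have sHM' : fittingHallOf M ≤ ⁅M, M⁆ := (Fcore_sub_Msigma maxM).trans (Msigma_der1 maxM)
  obtain ⟨K, hallK⟩ := ex_kappa_hall maxM
  by_cases eF : fittingHallOf M = sigmaCore M
  · have nilMs := (Fcore_eq_Msigma maxM).1 eF
    have defF' := defF
    rw [fitting_of_nil nilMs] at defF'
    have hallMs : IsHallOf (sigmaCore M) (sigmaCore M) := (pHall_refl (Msigma_pgroup M)).isHallOf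
    obtain ⟨cycY, t2Y⟩ := cent_Hall_sigma_compl maxM hallMs (Msigma_neq1 maxM)
      (le_inf nsY.1 defF'.cent) s'Y
    refine ⟨⟨cycY, t2Y⟩, ⟨(der2_sub_Msigma maxM).trans defF'.left_le, ?_, defF⟩, ⟨sHM', ?_⟩, ?_⟩
    · refine le_antisymm (sup_le (Fcore_sub_Fitting M) ?_) (Fitting_le_Fcore_sup_cent M)
      rw [eF]
      obtain ⟨X, defC, cycX, -⟩ := cent_Hall_sigma_sdprod maxM hallMs (Msigma_neq1 maxM)
      refine fitting_max (inf_cent_normalIn_of_norm (Msigma_normal M).2) ?_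
      rw [← defC.sup_eq]
      exact nil_sup_of_cent (nil_of_le nilMs inf_le_left) (nil_of_cyclic cycX)
        ((defC.right_le.trans inf_le_right).trans (cent_anti inf_le_left))
    · rw [eF]
      exact nil_of_abelian ((quot_abelian_iff ((der_le M).trans (Msigma_normal M).2)).2
        (der2_sub_Msigma maxM))
    · intro PM
      obtain ⟨U, complU⟩ := ex_kappa_compl maxM hallK
      have defM' := ((kappa_structure maxM complU).2.1 ((trivgPmax maxM hallK).2 PM)).1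
      rw [← defF'.sup_eq, ← defM'.sup_eq]
      exact sup_le_sup_left (complU.hallU.le_of_norm_le (t2Y.mono (tau2_sub_sk' M)) nsY.1
        (complU.hallU.le.trans nsY.2)) _
  · obtain ⟨⟨-, -, defM'⟩, ⟨-, prq, -, -⟩, sylQ, ⟨sM''F, defF2, ltF⟩, hD⟩ :=
      Fcore_structure maxM hallK eF rfl
    set q := Nat.card ↥(sigmaCore M ⊓ 𝒞(K)) with hq
    have Y1 : Y = ⊥ := IsPiGrp.eq_bot ((Msigma_pgroup M).of_le (defF.right_le.trans ltF.le)) s'Y
    have sQH : pCoreOf q M ≤ fittingHallOf M := Fcore_max_Sylow sylQ (pcore_norm _ M)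
    refine ⟨⟨Y1 ▸ cyclic_bot, Y1 ▸ piGrp_bot _⟩, ⟨sM''F, ?_, defF⟩, ⟨sHM', ?_⟩,
      fun _ => defM' ▸ ltF.le⟩
    · refine le_antisymm (sup_le (Fcore_sub_Fitting M) ?_) (Fitting_le_Fcore_sup_cent M)
      rw [← defF2]
      exact le_sup_of_le_right (inf_le_inf_left _ (cent_anti sQH))
    · obtain ⟨D, hallD⟩ := Hall_exists {q}ᶜ (sol_of_le (mmax_sol maxM) (Msigma_normal M).1)
      have sMq : q ∈ sigma M := Msigma_pgroup M q prq (Subgroup.card_dvd_of_le inf_le_left)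
      have sQMs : pCoreOf q M ≤ sigmaCore M := pcore_mono_pi (Set.singleton_subset_iff.2 sMq) M
      have h1 := (sylQ.of_le sQMs (Msigma_normal M).1).sup_compl hallD
      have sDM := hallD.le.trans (Msigma_normal M).1
      refine nil_of_le (nil_quot (fittingHallOf M) (hD D hallD).1) ?_
      rw [← defM', ← h1, quot_le_quot_iff ((sup_le sylQ.le sDM).trans (Fcore_norm M))
        (sDM.trans (Fcore_norm M))]
      exact sup_le_sup_right sQH _

/-- B & G, Corollary 15.6. -/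
theorem Ptype_cyclics {M K : Subgroup G} (PM : TypeP M) (hallK : IsPiHallOf (kappa M) K M) :
    sigmaCore M ⊓ 𝒞(K) ≠ ⊥ ∧ IsCyclic ↥(sigmaCore M ⊓ 𝒞(K)) ∧
    sigmaCore M ⊓ 𝒞(K) ≤ ⁅⁅M, M⁆, ⁅M, M⁆⁆ ∧ sigmaCore M ⊓ 𝒞(K) ≤ fittingHallOf M ∧
    ¬ IsCyclic (fittingHallOf M) := by
  have maxM := PM.1
  obtain ⟨-, -, ⟨ntKs, -⟩, -⟩ := Ptype_structure PM hallK
  obtain ⟨L, -, -, -, -, -, ⟨cycZ, -⟩, -, -, -, defM⟩ := Ptype_embedding PM hallK
  have coM'K : (Nat.card ↥⁅M, M⁆).Coprime (Nat.card K) := by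
    rw [← defM.complIn.relIndex_right]; exact hallK.coprime.symm
  have sKsM'' : sigmaCore M ⊓ 𝒞(K) ≤ ⁅⁅M, M⁆, ⁅M, M⁆⁆ :=
    (inf_le_inf_right _ (Msigma_der1 maxM)).trans
      (coprime_der1_sdprod defM coM'K (sol_of_le (mmax_sol maxM) (der_le M)) le_rfl).2
  refine ⟨ntKs, cyclic_of_le cycZ le_sup_right, sKsM'', ?_, ?_⟩
  · by_cases eF : fittingHallOf M = sigmaCore M
    · rw [eF]; exact inf_le_left
    · have nnil : ¬ Group.IsNilpotent (sigmaCore M) := fun h => eF ((Fcore_eq_Msigma maxM).2 h)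
      obtain ⟨-, -, -, -, -, -, sKsQ, sylQ, -⟩ := Fcore_structure_1 maxM hallK nnil rfl
      exact sKsQ.trans (Fcore_max_Sylow sylQ (pcore_norm _ M))
  · intro cycH
    apply ntKs
    have h1 : ⁅M, M⁆ ≤ fittingOf M := by
      rw [← (Fitting_structure maxM).2.1.2.1]
      exact le_sup_of_le_right (le_inf (der_le M) (der_le_cent_of_cyclic cycH (Fcore_norm M)))
    have h2 : ⁅M, M⁆ ≤ fittingHallOf M :=
      Fcore_max ⟨der_le M, by rw [defM.complIn.relIndex_left]; exact coM'K⟩ (der_normalIn M).2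
        (nil_of_le (fitting_nil M) h1)
    rw [der_eq_bot_iff.2 (abelian_of_cyclic (cyclic_of_le cycH h2))] at sKsM''
    exact le_bot_iff.1 sKsM''

end CA.BG.P15
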