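/-
B & G section 15, part c: Theorems 15.7-15.9.
-/
import Cfsg.Agent.BG.P15b
import Cfsg.Agent.BG.I02

set_option autoImplicit false
set_option linter.unusedSectionVars false

namespace CA.BG.P15

open Cfsg CA.FG
open scoped commutatorElement

universe u

variable {G : Type u} [Group G] [MinSimpleOdd G]

theorem nonTI_sub_Msigma {M : Subgroup G} {g : G} (maxM : IsCoatom M) (notMg : g ∉ M) :
    fittingOf M ⊓ fittingOf M :^ g ≤ sigmaCore M := by
  have sXM : fittingOf M ⊓ fittingOf M :^ g ≤ M := inf_le_left.trans (fitting_le M)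
  refine (Msigma_Hall maxM).le_of_normal (Msigma_normal M).2 ?_ sXM
  intro p hp hd
  by_contra s'p
  obtain ⟨X₁, sX₁, oX₁⟩ := exists_le_card_eq_prime hp hd
  have ntX₁ := ne_bot_of_card_prime (oX₁ ▸ hp)
  have key : ∀ L : Subgroup G, IsCoatom L → p ∉ sigma L → X₁ ≤ fittingOf L → 𝒩(X₁) = L := by
    intro L maxL s'p sXL
    have h1 : X₁ ≤ piCoreOf (sigma L)ᶜ (fittingOf L) :=
      nilpotent_le_pcore (fitting_nil L) sXL ((pGrp_of_card_eq hp oX₁).piGrp s'p)
    exact mmax_normal maxL ((charIn_of_cyclic (Fitting_structure maxL).1.1 h1).trans_normal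
      ((fitting_normal L).pcore _)) ntX₁
  have h1 := key M maxM s'p (sX₁.trans inf_le_left)
  have h2 := key (M :^ g) (isCoatom_conjg.2 maxM) (by rwa [sigmaJ])
    (by rw [← fitting_conjg]; exact sX₁.trans inf_le_right)
  exact conjg_mmax_ne maxM notMg (h2.symm.trans h1)

theorem nonTI_cent_not_sub {M X₁ : Subgroup G} {g : G} (maxM : IsCoatom M) (notMg : g ∉ M)
    (sX₁ : X₁ ≤ fittingOf M ⊓ fittingOf M :^ g) (prX₁ : (Nat.card X₁).Prime) : ¬ 𝒞(X₁) ≤ M := by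
  intro sCM
  have pX₁ := pGrp_of_card_eq prX₁ rfl
  have sp : Nat.card X₁ ∈ sigma M := pX₁.mem_of_piGrp (ne_bot_of_card_prime prX₁)
    ((Msigma_pgroup M).of_le (sX₁.trans (nonTI_sub_Msigma maxM notMg)))
  have h1 : X₁ :^ g⁻¹ ≤ M := by
    rw [← le_conjg_iff]
    exact sX₁.trans (inf_le_right.trans (conjg_mono g (fitting_le M)))
  exact notMg (M.inv_mem_iff.1 (sigma_group_trans_e maxM sp pX₁
    (sX₁.trans (inf_le_left.trans (fitting_le M))) sCM h1))

/-- A subgroup of prime order `q` of `Z(O_q(H))` normal in `M`, for the last part of 15.7. -/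
theorem exp_dvd_of_regular {M U Z : Subgroup G} {q : ℕ} (oZ : Nat.card Z = q)
    (nZM : M ≤ 𝒩(Z)) (sUM : U ≤ M) (reg : Semiregular Z U) : Monoid.exponent U ∣ q - 1 := by
  have h1 := regular_norm_dvd_pred (sUM.trans nZM) reg
  rw [oZ] at h1
  exact Group.exponent_dvd_nat_card.trans h1

/-- B & G, Theorem 15.7, with `H = M_F`, `X = F(M) ∩ F(M)^g` (part (c) in the corrected form). -/
theorem nonTI_Fitting_structure {M : Subgroup G} {g : G} (maxM : IsCoatom M) (notMg : g ∉ M)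
    (ntX : fittingOf M ⊓ fittingOf M :^ g ≠ ⊥) :
    ((TypeF M ∨ TypeP1 M) ∧ fittingHallOf M = sigmaCore M) ∧
    (fittingOf M ⊓ fittingOf M :^ g ≤ fittingHallOf M ∧ IsCyclic ↥(fittingOf M ⊓ fittingOf M :^ g)) ∧
    (⁅M, M⁆ ≤ fittingOf M ∧
      DProd (sigmaCore M) (piCoreOf (sigma M)ᶜ (fittingOf M)) (fittingOf M)) ∧
    (∀ E E₁ E₂ E₃ : Subgroup G, SigmaCompl M E E₁ E₂ E₃ →
      E₃ = ⊥ ∧ E₂ ⊲ E ∧ IsCyclic (E /ₛ E₂)) ∧
    ((TypeF M ∧ IsMulCommutative (fittingHallOf M) ∧ rank (fittingHallOf M) = 2) ∨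
      ∃ p : ℕ, p = Nat.card ↥(fittingOf M ⊓ fittingOf M :^ g) ∧ p.Prime ∧ p ∈ sigma M ∧ p ∉ beta M ∧
        ¬ IsMulCommutative (pCoreOf p (fittingHallOf M)) ∧
        IsCyclic (pPrimeCoreOf p (fittingHallOf M)) ∧
        ((∀ q ∈ primesOf (fittingHallOf M), Monoid.exponent (M /ₛ fittingHallOf M) ∣ q - 1) ∨
          (Nat.card (pCoreOf p (fittingHallOf M)) = p ^ 3 ∧ TypeP1 M ∧
            (fittingHallOf M).relIndex M ∣ p + 1))) := by
  have hnc := fun X₁ => nonTI_cent_not_sub (X₁ := X₁) maxM notMg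
  have sXMs := nonTI_sub_Msigma maxM notMg
  set X := fittingOf M ⊓ fittingOf M :^ g with hX
  have solM := mmax_sol maxM
  have sMsM := (Msigma_normal M).1
  have sXF : X ≤ fittingOf M := inf_le_left
  have sXM : X ≤ M := sXF.trans (fitting_le M)
  obtain ⟨E₀, hallE₀, -⟩ := ex_sigma_compl maxM bot_le (piGrp_bot _)
  obtain ⟨cycI, b'I, -⟩ := (sigma_compl_embedding maxM hallE₀).2.2 g notMg
  have sXI : X ≤ sigmaCore M ⊓ M :^ g :=
    le_inf sXMs (inf_le_right.trans (conjg_mono g (fitting_le M)))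
  have cycX := cyclic_of_le cycI sXI
  obtain ⟨p, hp, hpX⟩ := exists_prime_dvd_card ntX
  have sp : p ∈ sigma M := (Msigma_pgroup M).of_le sXMs p hp hpX
  have b'p : p ∉ beta M := b'I.of_le sXI p hp hpX
  obtain ⟨X₁, sX₁X, oX₁⟩ := exists_le_card_eq_prime hp hpX
  have prX₁ : (Nat.card X₁).Prime := oX₁ ▸ hp
  have ntX₁ := ne_bot_of_card_prime prX₁
  have pX₁ := pGrp_of_card_eq hp oX₁
  have nsCX₁ := hnc X₁ sX₁X prX₁
  -- no uniqueness subgroup of `M` centralizes `X₁`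
  have nuniq : ∀ Y : Subgroup G, Y ≤ M → Y ≤ 𝒞(X₁) → ¬ InUniqueMaximal Y := by
    intro Y sYM cY uY
    exact nsCX₁ (sub_uniq_mmax (def_uniq_mmax uY maxM sYM) cY (mFT_cent_proper ntX₁))
  have rk2 : ∀ Y : Subgroup G, Y ≤ M → Y ≤ 𝒞(X₁) → rank Y ≤ 2 := by
    intro Y sYM cY
    by_contra h
    exact nuniq Y sYM cY (rank3_Uniqueness (sub_mmax_proper maxM sYM) (by omega))
  have hbeta : ∀ q ∈ beta M, ¬ IsSylowOf q (pCoreOf q M) M := by
    intro q bq sylQ
    have hq := beta_prime bq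
    have neq : q ≠ p := fun h => b'p (h ▸ bq)
    have h1 := rk2 _ sylQ.le (sub_nilpotent_cent2 (fitting_nil M) (pcore_le_fitting q M)
      (sX₁X.trans sXF) (sylQ.pGrp.coprime_of_ne pX₁ neq))
    rw [rank_Sylow hq sylQ] at h1
    have := (mem_alpha_iff.1 (beta_sub_alpha M bq)).2
    omega
  obtain ⟨K, hallK⟩ := ex_kappa_hall maxM
  have eF : fittingHallOf M = sigmaCore M := by
    by_contra h
    obtain ⟨-, ⟨-, -, -, bq⟩, sylQ, -⟩ := Fcore_structure maxM hallK h rfl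
    exact hbeta _ bq sylQ
  have nilMs := (Fcore_eq_Msigma maxM).1 eF
  have Mb1 : betaCore M = ⊥ := by
    by_contra h
    obtain ⟨q, hq, hd⟩ := exists_prime_dvd_card h
    refine hbeta q (Mbeta_pgroup M q hq hd) (Fcore_pcore_Sylow hq ?_).2
    rw [eF]
    exact hd.trans (Subgroup.card_dvd_of_le (Mbeta_sub_Msigma maxM))
  have sM'F : ⁅M, M⁆ ≤ fittingOf M := by
    refine fitting_max (der_normalIn M) (beta'_der1_nil maxM ?_ le_rfl)
    exact ((Mbeta_Hall maxM).eq_bot_iff.1 Mb1).of_le (der_le M)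
  have FP1 : TypeF M ∨ TypeP1 M := by
    by_contra h
    rw [not_or] at h
    rcases (notP1type maxM).1 h.2 with h1 | h1
    · exact h.1 h1
    · have := ((Ptype_structure h1.1 hallK).2.2.2.2.2.2 h1).1
      exact b'p (this ▸ sp)
  obtain ⟨⟨-, t2Y⟩, ⟨-, -, defF⟩, -⟩ := Fitting_structure maxM
  rw [fitting_of_nil nilMs] at defF
  refine ⟨⟨FP1, eF⟩, ⟨eF ▸ sXMs, cycX⟩, ⟨sM'F, defF⟩, ?_, ?_⟩
  · intro E E₁ E₂ E₃ complE
    obtain ⟨⟨sE₃E', -⟩, -, ⟨cycE₁, -⟩, ⟨-, -, -, defE⟩, -⟩ := sigma_compl_context maxM complE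
    have E3_1 : E₃ = ⊥ := by
      have t3 := complE.hallE₃.piGrp
      have h1 : E₃ ≤ piCoreOf (sigma M)ᶜ (fittingOf M) := nilpotent_le_pcore (fitting_nil M)
        (sE₃E'.trans ((der_mono complE.hallE.le).trans sM'F)) (t3.mono fun q hq => tau3_sigma' hq)
      exact IsPiGrp.eq_bot (t2Y.of_le h1) (t3.mono fun q hq h2 => tau3'2 h2 hq)
    rw [E3_1, bot_sup_eq] at defE
    refine ⟨E3_1, defE.normal, ?_⟩
    rw [defE.quot_eq]
    exact cyclic_quot _ cycE₁
  rw [eF]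
  set H := sigmaCore M with hH
  have nHM : M ≤ 𝒩(H) := (Msigma_normal M).2
  have sX₁H : X₁ ≤ H := sX₁X.trans sXMs
  by_cases cHH : IsMulCommutative H
  · left
    refine ⟨FP1.resolve_right fun P1M => ?_, cHH, ?_⟩
    · obtain ⟨ntKs, -, sKs, -⟩ := Ptype_cyclics P1M.1 hallK
      obtain ⟨U, complU⟩ := ex_kappa_compl maxM hallK
      have U1 := (trivg_kappa_compl maxM complU).2 P1M
      have := ((kappa_structure maxM complU).2.1 ((trivgPmax maxM hallK).2 P1M.1)).1.sup_eq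
      rw [U1, sup_bot_eq] at this
      rw [← this, der_eq_bot_iff.2 cHH] at sKs
      exact ntKs (le_bot_iff.1 sKs)
    · refine le_antisymm (rk2 H sMsM ((abelian_iff_le_cent.1 cHH).trans (cent_anti sX₁H))) ?_
      by_contra h
      have cycH := (abelian_rank1_cyclic cHH).2 (by omega)
      apply nsCX₁
      rw [← mmax_normal maxM ((charIn_of_cyclic cycH sX₁H).trans_normal (Msigma_normal M)) ntX₁]
      exact cent_le_norm _
  right
  have defH := nilpotent_pcoreC {p} nilMs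
  set P := pCoreOf p H with hP
  set P' := pPrimeCoreOf p H with hP'
  have pP : IsPGrp p P := pcore_pGrp p H
  have nsP : P ⊲ M := (Msigma_normal M).pcore _
  have nsP' : P' ⊲ M := (Msigma_normal M).pcore _
  have sX₁P : X₁ ≤ P := nilpotent_le_pcore nilMs sX₁H pX₁
  have cP'X₁ : P' ≤ 𝒞(X₁) := defH.cent.trans (cent_anti sX₁P)
  have cP'P' : IsMulCommutative P' := by
    have nilP' := nil_of_le nilMs defH.right_le
    rw [abelian_iff_le_cent]
    refine nil_le_of_forall_pcore nilP' fun q hq => ?_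
    have defP' := nilpotent_pcoreC {q} nilP'
    refine le_trans ?_ (cent_anti defP'.sup_eq.ge)
    refine le_cent_sup ?_ (le_cent_symm defP'.cent)
    rw [← abelian_iff_le_cent]
    by_contra h
    exact nuniq _ ((pcore_le _ _).trans nsP'.1) ((pcore_le _ _).trans cP'X₁)
      (nonabelian_Uniqueness hq (pcore_pGrp q P') h)
  have nabP : ¬ IsMulCommutative P := by
    intro h
    apply cHH
    rw [← defH.sup_eq]
    exact abelian_sup h cP'P' (le_cent_symm defH.cent)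
  have uP := nonabelian_Uniqueness hp pP nabP
  have cycP' : IsCyclic P' := by
    rw [abelian_rank1_cyclic cP'P']
    by_contra h
    exact nuniq P' nsP'.1 cP'X₁ (cent_uniq_Uniqueness uP defH.cent (by omega))
  have pX : IsPGrp p X := by
    intro q hq hd
    by_contra neq
    obtain ⟨X₂, sX₂X, oX₂⟩ := exists_le_card_eq_prime hq hd
    have h1 : X₂ ≤ P' := nilpotent_le_pcore nilMs (sX₂X.trans sXMs) ((pGrp_of_card_eq hq oX₂).piGrp neq)
    apply hnc X₂ sX₂X (oX₂ ▸ hq)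
    rw [← mmax_normal maxM ((charIn_of_cyclic cycP' h1).trans_normal nsP')
      (ne_bot_of_card_prime (oX₂ ▸ hq))]
    exact cent_le_norm _
  have sXP : X ≤ P := nilpotent_le_pcore nilMs sXMs pX
  set Z₀ := ohm1 p 𝒵(P) with hZ₀
  have sZ₀Z : Z₀ ≤ 𝒵(P) := ohm1_le _ _
  have ncX₁ : ¬ X₁ ≤ 𝒞(P) := fun h => nuniq P nsP.1 (le_cent_symm h) uP
  have ntP : P ≠ ⊥ := ne_bot_mono sX₁P ntX₁
  have EpX₁ : IsPnElem p 1 X₁ P := (pnElem_one_iff hp).2 ⟨sX₁P, oX₁⟩
  obtain ⟨Z₁, EpZ₁⟩ := p1Elem_exists hp (IsPGrp.dvd_card (pP.of_le (inf_le_left : 𝒵(P) ≤ P))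
    (center_nil_ne_bot pP.nil ntP))
  have EpA : IsPnElem p 2 (Z₁ ⊔ X₁) P := IsPnElem.sup_succ hp (EpZ₁.mono inf_le_left) EpX₁
    (sX₁P.trans (le_cent_symm (EpZ₁.le.trans inf_le_right))) fun h => ncX₁ (h.trans (EpZ₁.le.trans inf_le_right))
  set A := Z₁ ⊔ X₁ with hA
  have sX₁A : X₁ ≤ A := le_sup_right
  have cAX₁ : A ≤ 𝒞(X₁) := (abelian_iff_le_cent.1 EpA.abelian).trans (cent_anti sX₁A)
  have maxA : IsPMaxElem p A ⊤ := by
    by_contra h
    exact nuniq A (EpA.le.trans nsP.1) cAX₁ (nonmaxElem2_Uniqueness hp (EpA.mono le_top) h)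
  obtain ⟨EpZ₀, hA₀⟩ := basic_p2maxElem_structure hp (EpA.mono le_top) maxA pP EpA.le nabP
  have neX₁Z : X₁ ≠ Z₀ := fun h => ncX₁ (h ▸ sZ₀Z.trans inf_le_right)
  obtain ⟨defA, ⟨Y, cycY, sZ₀Y, defC⟩, -⟩ := hA₀ X₁ (EpX₁.of_le sX₁A) neX₁Z
  have oZ₀ : Nat.card Z₀ = p := EpZ₀.card_one
  have oX : Nat.card X = p := by
    have sXC : X ≤ P ⊓ 𝒞(A) := by
      refine le_inf sXP ?_
      rw [← defA.sup_eq]
      exact le_cent_sup ((abelian_iff_le_cent.1 (abelian_of_cyclic cycX)).trans (cent_anti sX₁X))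
        (sXP.trans (le_cent_symm (sZ₀Z.trans inf_le_right)))
    have defX := defC.sdprod.restrict_left sX₁X sXC
    have h1 : X ⊓ Y = ⊥ := by
      by_contra h
      have h2 := ohm1_le_of_cyclic pX cycX (inf_le_left : X ⊓ Y ≤ X) h
      rw [ohm1_eq_of_cyclic hp cycX sX₁X oX₁] at h2
      apply ntX₁
      rw [← le_bot_iff, ← defC.inf_eq]
      exact le_inf le_rfl (h2.trans inf_le_right)
    rw [← defX.sup_eq, h1, sup_bot_eq, oX₁]
  refine ⟨p, oX.symm, hp, sp, b'p, nabP, cycP', ?_⟩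
  have nZ₀M : M ≤ 𝒩(Z₀) := norm_ohm1 _ (norm_inf nsP.2 (norm_cent nsP.2))
  have sZ₀H : Z₀ ≤ H := (sZ₀Z.trans inf_le_left).trans defH.left_le
  -- for every prime `q` of `H`, a normal subgroup of order `q`
  have hZq : ∀ q ∈ primesOf H, q ≠ p → ∃ Z : Subgroup G, Z ≤ P' ∧ Nat.card Z = q ∧ M ≤ 𝒩(Z) := by
    intro q hq neq
    have hd : q ∣ Nat.card P' :=
      ((nilpotent_pcore_Hall {p}ᶜ nilMs).dvd_card_iff hq.1 neq).2 hq.2
    obtain ⟨Z, sZ, oZ⟩ := exists_le_card_eq_prime hq.1 hd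
    exact ⟨Z, sZ, oZ, (charIn_of_cyclic cycP' sZ).norm nsP'.2⟩
  obtain ⟨U, complU⟩ := ex_kappa_compl maxM hallK
  obtain ⟨-, -, defM, prMsK, -, -⟩ := kappa_compl_context maxM complU
  rcases FP1 with FM | P1M
  · left
    have K1 := (trivg_kappa maxM hallK).2 FM
    rw [K1, sup_bot_eq] at defM
    have ntU : U ≠ ⊥ := by
      intro h
      rw [h] at defM
      have := defM.sup_eq
      rw [sup_bot_eq] at this
      exact (Fcore_structure_a maxM).2.2.2.ne
        (le_antisymm (der_le M) (this.ge.trans (Msigma_der1 maxM)))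
    obtain ⟨U₀, sU₀U, eU₀, frob⟩ := (kappa_structure maxM complU).2.2.2.2 ntU
    obtain ⟨e⟩ := defM.quot_equiv
    rw [← Monoid.exponent_eq_of_mulEquiv e, ← eU₀]
    intro q hq
    have sU₀M := sU₀U.trans defM.right_le
    by_cases eq : q = p
    · subst eq
      exact exp_dvd_of_regular oZ₀ nZ₀M sU₀M (semiregularS frob.2.2.2 sZ₀H le_rfl)
    · obtain ⟨Z, sZ, oZ, nZ⟩ := hZq q hq eq
      exact exp_dvd_of_regular oZ nZ sU₀M (semiregularS frob.2.2.2 (sZ.trans defH.right_le) le_rfl)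
  have U1 := (trivg_kappa_compl maxM complU).2 P1M
  rw [U1, bot_sup_eq] at defM
  have sKM := hallK.le
  have ntK := (trivgPmax maxM hallK).2 P1M.1
  have defM' : H = ⁅M, M⁆ := by
    have := ((kappa_structure maxM complU).2.1 ntK).1.sup_eq
    rwa [U1, sup_bot_eq] at this
  set Ks := H ⊓ 𝒞(K) with hKs
  obtain ⟨ntKs, -, sKs, -⟩ := Ptype_cyclics P1M.1 hallK
  have sKsP : Ks ≤ P := by
    refine sKs.trans ?_
    rw [← defM', ← defH.sup_eq, comm_sup_self_of_cent defH.cent, der_eq_bot_iff.2 cP'P', sup_bot_eq]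
    exact der_le P
  have prKs : (Nat.card Ks).Prime := by
    obtain ⟨L, -, -, -, -, -, -, -, hP2, -⟩ := Ptype_embedding P1M.1 hallK
    rcases hP2 with h | h
    · exact absurd P1M.2 h.1.2
    · exact h.2
  have cycK := kappa_cyclic maxM hallK
  have coHK : (Nat.card H).Coprime (Nat.card K) :=
    (Msigma_pgroup M).coprime (hallK.piGrp.mono fun p hp => kappa_sigma' hp)
  have coPK : (Nat.card P).Coprime (Nat.card K) :=
    coHK.coprime_dvd_left (Subgroup.card_dvd_of_le defH.left_le)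
  have hreg : ∀ Z : Subgroup G, Z ≤ H → Z ⊓ Ks = ⊥ → Semiregular Z K := by
    intro Z sZH ti
    refine semiprime_regular (semiprimeS prMsK sZH le_rfl) ?_
    rw [← le_bot_iff, ← ti]
    exact le_inf inf_le_left (inf_le_inf_right _ sZH)
  have hcase2 : Nat.card K ∣ p - 1 → ∀ q ∈ primesOf H, Monoid.exponent (M /ₛ H) ∣ q - 1 := by
    intro hK q hq
    obtain ⟨e⟩ := defM.quot_equiv
    rw [← Monoid.exponent_eq_of_mulEquiv e]
    by_cases eq : q = p
    · subst eq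
      exact Group.exponent_dvd_nat_card.trans hK
    · obtain ⟨Z, sZ, oZ, nZ⟩ := hZq q hq eq
      refine exp_dvd_of_regular oZ nZ sKM (hreg Z (sZ.trans defH.right_le) ?_)
      rw [← le_bot_iff, ← defH.inf_eq, inf_comm]
      exact inf_le_inf sKsP sZ
  rcases inf_eq_bot_or_le_of_card_prime (oZ₀ ▸ hp : (Nat.card Z₀).Prime) Ks with ti | sZ₀Ks
  · left
    apply hcase2
    have := regular_norm_dvd_pred (sKM.trans nZ₀M) (hreg Z₀ sZ₀H ti)
    rwa [oZ₀] at this
  have eKs : Z₀ = Ks :=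
    (eq_bot_or_eq_of_le_card_prime prKs sZ₀Ks).resolve_left (ne_bot_of_card_prime (oZ₀ ▸ hp))
  have hCx : ∀ x ∈ K, x ≠ 1 → P ⊓ 𝒞[x] ≤ Z₀ := by
    intro x hx ntx
    rw [eKs, hKs, ← prMsK x hx ntx]
    exact inf_le_inf_right _ defH.left_le
  by_cases rP : rank P ≤ 2
  · have sylP : IsSylowOf p P ⊤ :=
      IsSylowOf.trans_hall (nilpotent_pcore_Hall {p} nilMs) (Msigma_Hall_G maxM) sp
    obtain ⟨S, C, -, oS, -, cycC, defP, eC⟩ := mFT_rank2_Sylow_cprod hp sylP rP nabP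
    have cZK : K ≤ 𝒞(𝒵(P)) :=
      coprime_abelian_pgroup_faithful_Ohm1 (pP.of_le inf_le_left)
        (sKM.trans (norm_inf nsP.2 (norm_cent nsP.2)))
        (coPK.coprime_dvd_left (Subgroup.card_dvd_of_le inf_le_left)) (abelian_inf_cent P)
        (le_cent_symm (sZ₀Ks.trans inf_le_right))
    have eZ : 𝒵(P) = Z₀ := by
      refine le_antisymm ?_ sZ₀Z
      rw [eKs]
      exact le_inf (inf_le_left.trans defH.left_le) (le_cent_symm cZK)
    have sCZ : C ≤ 𝒵(P) := by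
      refine le_inf defP.right_normal.1 ?_
      rw [← defP.1]
      exact le_cent_sup defP.2 (abelian_iff_le_cent.1 (abelian_of_cyclic cycC))
    have sCS : C ≤ S := by
      rw [← ohm1_of_abelem (abelem_of_le EpZ₀.abelem (sCZ.trans eZ.le)), eC]
      exact inf_le_left
    have oP : Nat.card P = p ^ 3 := by rw [← defP.1, sup_eq_left.2 sCS, oS]
    have h1 := extraspecial3_prime_sdprod_cycle hp oP nabP (sKM.trans nsP.2) cycK
      ((Nat.Prime.coprime_iff_not_dvd hp).1 (coPK.coprime_dvd_left (pP.dvd_card ntP))) (by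
        intro x hx ntx
        refine le_antisymm ((hCx x hx ntx).trans sZ₀Z) (le_inf inf_le_left ?_)
        exact (le_cent_symm cZK).trans (cent_le_cent_singleton hx))
    rcases h1 with h1 | h1
    · right
      refine ⟨oP, P1M, ?_⟩
      rw [defM.complIn.relIndex_left]; exact h1
    · left; exact hcase2 h1
  · left
    apply hcase2
    have rP' : 2 < pRank p P := by rw [← rank_pgroup hp pP]; omega
    have nnP : Narrow p P := (narrow_centP hp pP (mFT_odd P) rP').2 ⟨X₁, sX₁P, oX₁,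
      (p_rank_le_rank hp _).trans (rk2 _ (inf_le_left.trans nsP.1) inf_le_right)⟩
    obtain ⟨x, hx, eK⟩ := cyclic_iff_eq_zpowers.1 cycK
    have h1 := (norm_narrow hp pP (mFT_odd P) nnP (sKM.trans nsP.2) (sol_of_le solM sKM)
      (mFT_odd K)).2.2.2 (by omega) x hx (IsPiGrp.piElt ((piGrp_compl_singleton_iff hp).2
        ((Nat.Prime.coprime_iff_not_dvd hp).1 (coPK.coprime_dvd_left (pP.dvd_card ntP)))) hx)
    rw [eK, Nat.card_zpowers, orderOf_dvd_iff_pow_eq_one]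
    by_contra ntx
    apply nabP
    refine abelian_of_le EpZ₀.abelian (le_trans ?_ (hCx _ (K.pow_mem hx _) ntx))
    exact le_inf le_rfl (mem_cent_iff_le_cent_singleton.1 h1)

/-- B & G, Theorem 15.8. -/
theorem tau2_P2type_signalizer {M Mstar U K R H : Subgroup G} {r q : ℕ} (hr : r.Prime) (P2M : TypeP2 M)
    (complU : KappaCompl M U K) (maxMs : IsCoatom Mstar) (sCMs : 𝒞(K) ≤ Mstar)
    (sylR : IsSylowOf r R U) (maxH : IsCoatom H) (sNH : 𝒩(R) ≤ H) (t2q : q ∈ tau2 H) :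
    (Nat.card K).Prime ∧ tau2 H = {Nat.card K} ∧ IsPiGrp (tau2 M)ᶜ M := by
  have PM := P2M.1
  have maxM := PM.1
  have hallK := complU.hallK
  have prK : (Nat.card K).Prime := ((Ptype_structure PM hallK).2.2.2.2.2.2 P2M).2.1
  obtain ⟨FH, sUHs, -, -, sKF, hallD⟩ := P2type_signalizer hr P2M complU maxMs sCMs sylR maxH sNH
  obtain ⟨L, PL, -, uniqL, ⟨hallKs, -⟩, ⟨defK, -⟩, -⟩ := Ptype_embedding PM hallK
  have eL : Mstar = L := eq_uniq_mmax (uniqL K le_rfl prK) maxMs sCMs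
  subst eL
  set L := Mstar
  set D := H ⊓ L with hD
  set p := Nat.card K with hp
  have pK : IsPGrp p K := pGrp_of_card_eq prK rfl
  have ntK := ne_bot_of_card_prime prK
  have sKLs : K ≤ sigmaCore L := defK ▸ inf_le_left
  have sKLF : K ≤ fittingHallOf L := defK ▸ (Ptype_cyclics PL hallKs).2.2.2.1
  have sylP : IsSylowOf p (pCoreOf p L) L := (Fcore_pcore_Sylow prK (Subgroup.card_dvd_of_le sKLF)).2
  set P := pCoreOf p L with hP
  have sLp : p ∈ sigma L := pK.mem_of_piGrp ntK ((Msigma_pgroup L).of_le sKLs)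
  have sPLs : P ≤ sigmaCore L := pcore_mono_pi (Set.singleton_subset_iff.2 sLp) L
  have uP : UniqMax P L := ((Ptype_structure PL hallKs).2.2.2.2.1 p
    (by rw [defK]; exact ⟨prK, dvd_rfl⟩) P (sylP.of_le sPLs (Msigma_normal L).1)).1
  have key : ∀ q ∈ tau2 H, q = p ∧ ∃ A : Subgroup G, IsPnElem q 2 A D ∧ K ≤ 𝒞(A) ∧ ¬ IsMulCommutative P := by
    intro q t2q
    have hq := tau2_prime t2q
    obtain ⟨A, EqA⟩ := p_rank_witness hq D
    rw [((tau2E hallD).1 t2q).2] at EqA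
    obtain ⟨⟨nsA, hE1⟩, ⟨sCD, -⟩, -⟩ := tau2_compl_context maxH hallD t2q EqA
    have qA := EqA.pGrp hq
    have cKA : K ≤ 𝒞(A) := by
      by_cases e : q = p
      · subst e
        exact (hE1 K ((pnElem_one_iff hq).2 ⟨sKF.trans (fitting_le D), rfl⟩)).trans
          (abelian_iff_le_cent.1 EqA.abelian)
      · exact sub_nilpotent_cent2 (fitting_nil D) sKF (fitting_max nsA qA.nil)
          (pK.coprime_of_ne qA (Ne.symm e))
    have EqAL : IsPnElem q 2 A L := EqA.mono inf_le_right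
    have sLq : q ∈ sigma L := by
      by_contra s'q
      have t2L : q ∈ tau2 L := by
        refine mem_tau2_iff.2 ⟨hq, s'q, le_antisymm ?_ (EqAL.le_pRank hq)⟩
        by_contra h
        exact s'q (alpha_sub_sigma maxMs (mem_alpha_iff.2 ⟨hq, by omega⟩))
      apply ntK
      rw [← le_bot_iff, ← (tau2_context maxMs t2L EqAL).2.2.1]
      exact le_inf sKLs cKA
    have sALs : A ≤ sigmaCore L :=
      (Msigma_Hall maxMs).le_of_normal (Msigma_normal L).2 (qA.piGrp sLq) EqAL.le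
    have sAF : A ≤ fittingOf L := by
      by_cases eF : fittingHallOf L = sigmaCore L
      · exact sALs.trans (eF ▸ Fcore_sub_Fitting L)
      · obtain ⟨D', hallD'⟩ := Hall_exists {p}ᶜ (sol_of_le (mmax_sol maxMs) (Msigma_normal L).1)
        obtain ⟨-, nsQ₀, -, -, -, -, h⟩ :=
          (Fcore_structure maxMs hallKs eF (q := p) (by rw [defK])).2.2.2.2 D' hallD'
        rw [← h, defK]
        refine le_inf sALs ((le_centQ_iff (EqAL.le.trans nsQ₀.2)
          (sKLs.trans ((Msigma_normal L).1.trans nsQ₀.2))).2 ?_)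
        rw [comm_eq_bot_iff'.2 cKA]
        exact bot_le
    have ncPA : ¬ P ≤ 𝒞(A) := by
      intro h
      have := eq_uniq_mmax uP maxH (h.trans (sCD.trans inf_le_left))
      exact PL.2 (this ▸ FH.2)
    have eqp : q = p := by
      by_contra e
      exact ncPA (sub_nilpotent_cent2 (fitting_nil L) (pcore_le_fitting p L) sAF
        (sylP.pGrp.coprime_of_ne qA (Ne.symm e)))
    refine ⟨eqp, A, EqA, cKA, fun cPP => ncPA ?_⟩
    exact (abelian_iff_le_cent.1 cPP).trans (cent_anti (le_pcore_of_le_fitting sAF (eqp ▸ qA)))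
  obtain ⟨eqp, A, EqA, cKA, nabP⟩ := key q t2q
  subst eqp
  refine ⟨prK, Set.ext fun s => ⟨fun h => (key s h).1, fun h => h ▸ t2q⟩, ?_⟩
  intro s hs hd t2s
  obtain ⟨-, ⟨oA₀, -⟩, -⟩ := nonabelian_tau2 maxH hallD t2q EqA sylP.pGrp nabP
  set A₀ := A ⊓ 𝒞(sigmaCore H) with hA₀
  obtain ⟨hallE, defE, -, -, regU, -⟩ := kappa_compl_context maxM complU
  obtain ⟨B, EsB⟩ := p_rank_witness hs (U ⊔ K)
  rw [((tau2E hallE).1 t2s).2] at EsB
  have sBU : B ≤ U := (complU.hallU.of_le le_sup_left hallE.le).le_of_normal defE.normal.2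
    ((EsB.pGrp hs).piGrp (tau2_sub_sk' M t2s)) EsB.le
  have cA₀U : A₀ ≤ 𝒞(U) := inf_le_right.trans (cent_anti sUHs)
  have sA₀E : A₀ ≤ U ⊔ K :=
    (cA₀U.trans (cent_anti sBU)).trans (tau2_compl_context maxM hallE t2s EsB).2.1.1
  have kp : p ∈ kappa M := pK.mem_of_piGrp ntK hallK.piGrp
  have sA₀K : A₀ ≤ K := hallK.le_of_norm_le ((pGrp_of_card_eq prK oA₀).piGrp kp) (sA₀E.trans hallE.le)
    (norm_of_cent (cKA.trans (cent_anti inf_le_left)))
  have ntU : U ≠ ⊥ := ne_bot_mono sBU (EsB.ne_bot hs (by norm_num))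
  apply ntU
  rw [← cent_semiregular regU sA₀K (ne_bot_of_card_prime (oA₀ ▸ prK))]
  exact (inf_eq_left.2 (le_cent_symm cA₀U)).symm

/-- A maximal subgroup of type `𝓕` with `τ₂(M) = ∅` is a Frobenius group. -/
theorem typeF_Frobenius {M E : Subgroup G} (FM : TypeF M) (t2'M : IsPiGrp (tau2 M)ᶜ M)
    (hallE : IsPiHallOf (sigma M)ᶜ E M) : IsFrob M (sigmaCore M) E := by
  have maxM := FM.1
  refine ⟨sdprod_sigma maxM hallE, Msigma_neq1 maxM, sigma_compl_neq1 maxM hallE, ?_⟩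
  intro e he nte
  by_contra h
  obtain ⟨y, ⟨hy, cy⟩, nty⟩ := exists_mem_ne_one h
  have Me := hallE.le he
  rcases pi_of_cent_sigma maxM hy nty ⟨Me, mem_cent_singleton_comm.1 cy⟩ nte (hallE.piGrp.piElt he)
    with h1 | h1
  · exact nte (h1.1.eq_one (FM.2.piElt Me))
  · exact nte (h1.1.eq_one (t2'M.piElt Me))

/-- B & G, Theorem 15.9(a, b). -/
theorem nonFtype_signalizer_base {M : Subgroup G} {x : G} (maxM : IsCoatom M) (Msx : x ∈ sigmaCore M)
    (ntx : x ≠ 1) (nsCM : ¬ 𝒞[x] ≤ M) (notFN : ¬ TypeF (sigBase x)) :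
    TypeF M ∧ IsPiGrp (tau2 M)ᶜ M ∧ TypeP2 (sigBase x) ∧
    ∃ E : Subgroup G, IsPiHallOf (sigma M)ᶜ E M ∧ IsCyclic E ∧ IsFrob M (sigmaCore M) E := by
  have ell1x := Msigma_ell1 maxM Msx ntx
  have hM : M ∈ sigmaMmax x := ⟨maxM, Msx⟩
  obtain ⟨uN, -, t2x, hN, hMN⟩ := FT_signalizer_context ell1x ((sigmaMmax_nontrivial_iff ntx hM).2 nsCM)
  obtain ⟨-, st2, -, hallMN⟩ := hMN M hM
  set N := sigBase x with hNdef
  have P2N : TypeP2 N := hN.resolve_left notFN
  have maxN := uN.1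
  obtain ⟨K₀, hallK₀⟩ := ex_kappa_hall maxN
  obtain ⟨U₀, complU₀⟩ := ex_kappa_compl maxN hallK₀
  obtain ⟨n, hn, e⟩ := Hall_trans (mmax_sol maxN) hallMN (kappa_compl_context maxN complU₀).1
  have complU := kappaCompl_conjg complU₀ hn
  rw [conjg_sup] at e
  set U := U₀ :^ n
  set K := K₀ :^ n
  have sUM : U ≤ M := le_sup_left.trans (e.ge.trans inf_le_left)
  obtain ⟨y, hy, pry⟩ := exists_prime_orderOf_mem_zpowers ntx
  set r := orderOf y with hr
  have t2r : r ∈ tau2 N := t2x.of_mem_zpowers hy r pry dvd_rfl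
  obtain ⟨R, sylR⟩ := sylow_exists pry U
  have sylRN : IsSylowOf r R N := sylR.trans_hall complU.hallU (tau2_sub_sk' N t2r)
  have ncR : ¬ IsCyclic R :=
    not_cyclic_of_pRank pry (by rw [p_rank_Sylow pry sylRN, (mem_tau2_iff.1 t2r).2.2])
  have sNM : 𝒩(R) ≤ M := norm_noncyclic_sigma maxM (st2 t2r) sylR.pGrp (sylR.le.trans sUM) ncR
  obtain ⟨Ns, maxNs, sCNs⟩ := mmax_exists (mFT_cent_proper ((trivgPmax maxN complU.hallK).2 P2N.1))
  have FM := (P2type_signalizer pry P2N complU maxNs sCNs sylR maxM sNM).1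
  have t2'M : IsPiGrp (tau2 M)ᶜ M := by
    intro q hq hd t2q
    have h1 := (tau2_P2type_signalizer pry P2N complU maxNs sCNs sylR maxM sNM t2q).2.2
    refine h1 r pry ?_ t2r
    exact (sylRN.pGrp.dvd_card (ne_bot_of_not_cyclic ncR)).trans (Subgroup.card_dvd_of_le sylRN.le)
  refine ⟨FM, t2'M, P2N, ?_⟩
  obtain ⟨E, hallE, -⟩ := ex_sigma_compl maxM bot_le (piGrp_bot _)
  refine ⟨E, hallE, ?_, typeF_Frobenius FM t2'M hallE⟩
  obtain ⟨g, cg, notMg⟩ := SetLike.not_le_iff_exists.1 nsCM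
  have Fx : x ∈ fittingOf M :=
    fitting_max (Msigma_normal M) (notP1type_Msigma_nil (Or.inl FM)) Msx
  have ntX : fittingOf M ⊓ fittingOf M :^ g ≠ ⊥ := by
    refine ne_bot_of_mem ⟨Fx, ?_⟩ ntx
    have h1 : g * x * g⁻¹ = x := by
      rw [Subgroup.mem_centralizer_singleton_iff.1 cg]; group
    have := conj_mem_conjg g Fx
    rwa [h1] at this
  obtain ⟨⟨E₁, hallE₁⟩, E₃, hallE₃⟩ := ex_tau13_compl maxM hallE
  obtain ⟨E₂, complE⟩ := ex_tau2_compl maxM hallE hallE₁ hallE₃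
  obtain ⟨E3_1, -, -⟩ := (nonTI_Fitting_structure maxM notMg ntX).2.2.2.1 E E₁ E₂ E₃ complE
  have E2_1 : E₂ = ⊥ := complE.hallE₂.eq_bot_iff.2 (t2'M.of_le hallE.le)
  obtain ⟨-, -, ⟨cycE₁, -⟩, ⟨-, -, -, defE⟩, -⟩ := sigma_compl_context maxM complE
  have := defE.sup_eq
  rw [E3_1, E2_1, bot_sup_eq, bot_sup_eq] at this
  exact this ▸ cycE₁

end CA.BG.P15
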