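/-
Interface: B & G section 15 (the subgroup `M_F = Cfsg.fittingHallOf M`).  Owner: lead.
-/
import Cfsg.Agent.BG.I14
import Cfsg.Agent.BG.Fcore
import Cfsg.Agent.BG.P15c

set_option autoImplicit false
set_option linter.unusedSectionVars false

namespace CA.BG

open Cfsg CA.FG

universe u

variable {G : Type u} [Group G]



variable [MinSimpleOdd G]

theorem Fcore_sub_Msigma {M : Subgroup G} (maxM : IsCoatom M) : fittingHallOf M ≤ sigmaCore M :=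
  P15.Fcore_sub_Msigma maxM

theorem Fcore_eq_Msigma {M : Subgroup G} (maxM : IsCoatom M) :
    fittingHallOf M = sigmaCore M ↔ Group.IsNilpotent (sigmaCore M) :=
  P15.Fcore_eq_Msigma maxM

/-- B & G, Lemma 15.1. -/
theorem kappa_structure {M U K : Subgroup G} (maxM : IsCoatom M) (complU : KappaCompl M U K) :
    (SDProd (sigmaCore M) U (sigmaCore M ⊔ U) ∧ SDProd (sigmaCore M ⊔ U) K M ∧ IsCyclic K ∧
      ⁅⁅M, M⁆, ⁅M, M⁆⁆ ≤ sigmaCore M) ∧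
    (K ≠ ⊥ → SDProd (sigmaCore M) U ⁅M, M⁆ ∧ IsMulCommutative U) ∧
    (∀ X : Subgroup G, X ≤ U → X ≠ ⊥ → sigmaCore M ⊓ 𝒞(X) ≠ ⊥ →
      UniqMax 𝒞(X) M ∧ IsCyclic X ∧ IsPiGrp (tau2 M) X) ∧
    IsMulCommutative (Subgroup.closure {u | u ∈ U ∧ ∃ x ∈ sigmaCore M, x ≠ 1 ∧ u ∈ 𝒞[x]}) ∧
    (U ≠ ⊥ → ∃ U₀ : Subgroup G, U₀ ≤ U ∧ Monoid.exponent U₀ = Monoid.exponent U ∧
      IsFrob (sigmaCore M ⊔ U₀) (sigmaCore M) U₀) :=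
  P15.kappa_structure maxM complU

/-- B & G, Theorem 15.2, first part. -/
theorem Fcore_structure_a {M : Subgroup G} (maxM : IsCoatom M) :
    fittingHallOf M ≠ ⊥ ∧ fittingHallOf M ≤ sigmaCore M ∧ sigmaCore M ≤ ⁅M, M⁆ ∧ ⁅M, M⁆ < M :=
  P15.Fcore_structure_a maxM

/-- B & G, Theorem 15.2(a-c, g), with `p = |K|`, `q = |K*|`, `Q = O_q(M)`. -/
theorem Fcore_structure {M K : Subgroup G} (maxM : IsCoatom M) (hallK : IsPiHallOf (kappa M) K M)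
    (neF : fittingHallOf M ≠ sigmaCore M) {q : ℕ} (hq : q = Nat.card ↥(sigmaCore M ⊓ 𝒞(K))) :
    (TypeP1 M ∧ SDProd (sigmaCore M) K M ∧ sigmaCore M = ⁅M, M⁆) ∧
    ((Nat.card K).Prime ∧ q.Prime ∧ q ∣ Nat.card (fittingHallOf M) ∧ q ∈ beta M) ∧
    IsSylowOf q (pCoreOf q M) M ∧
    (⁅⁅M, M⁆, ⁅M, M⁆⁆ ≤ fittingOf M ∧ pCoreOf q M ⊔ (M ⊓ 𝒞(pCoreOf q M)) = fittingOf M ∧
      fittingOf M < sigmaCore M) ∧
    ∀ D : Subgroup G, IsPiHallOf {q}ᶜ D (sigmaCore M) →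
      Group.IsNilpotent D ∧ pCoreOf q M ⊓ 𝒞(D) ⊲ M ∧
      ChiefFactor M (pCoreOf q M ⊓ 𝒞(D)) (pCoreOf q M) ∧
      IsElementaryAbelian q (pCoreOf q M /ₛ (pCoreOf q M ⊓ 𝒞(D))) ∧
      Nat.card (pCoreOf q M /ₛ (pCoreOf q M ⊓ 𝒞(D))) = q ^ Nat.card K ∧
      sigmaCore M ⊓ centQ (pCoreOf q M) (pCoreOf q M ⊓ 𝒞(D)) = fittingOf M ∧
      sigmaCore M ⊓ centQ (sigmaCore M ⊓ 𝒞(K)) (pCoreOf q M ⊓ 𝒞(D)) = fittingOf M :=
  P15.Fcore_structure maxM hallK neF hq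

/-- B & G, Corollary 15.3(a). -/
theorem cent_Hall_sigma_sdprod {M H : Subgroup G} (maxM : IsCoatom M)
    (hallH : IsHallOf H (sigmaCore M)) (ntH : H ≠ ⊥) :
    ∃ X : Subgroup G, SDProd (sigmaCore M ⊓ 𝒞(H)) X (M ⊓ 𝒞(H)) ∧ IsCyclic X ∧
      IsPiGrp (tau2 M) X :=
  P15.cent_Hall_sigma_sdprod maxM hallH ntH

/-- B & G, Corollary 15.3(b). -/
theorem sigma_Hall_tame {M H : Subgroup G} (maxM : IsCoatom M) (hallH : IsHallOf H (sigmaCore M))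
    {x a : G} (Hx : x ∈ H) (Hxa : a * x * a⁻¹ ∈ H) :
    ∃ b ∈ M ⊓ 𝒩(H), a * x * a⁻¹ = b * x * b⁻¹ :=
  P15.sigma_Hall_tame maxM hallH Hx Hxa

/-- B & G, Corollary 15.4. -/
theorem nilpotent_Hall_sigma {H : Subgroup G} (nilH : Group.IsNilpotent H) (hallH : IsHallOf H ⊤) :
    ∃ M : Subgroup G, IsCoatom M ∧ H ≤ sigmaCore M :=
  P15.nilpotent_Hall_sigma nilH hallH

/-- B & G, Corollary 15.5, with `Y = O_{σ(M)'}(F(M))`. -/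
theorem Fitting_structure {M : Subgroup G} (maxM : IsCoatom M) :
    (IsCyclic (piCoreOf (sigma M)ᶜ (fittingOf M)) ∧
      IsPiGrp (tau2 M) (piCoreOf (sigma M)ᶜ (fittingOf M))) ∧
    (⁅⁅M, M⁆, ⁅M, M⁆⁆ ≤ fittingOf M ∧ fittingHallOf M ⊔ (M ⊓ 𝒞(fittingHallOf M)) = fittingOf M ∧
      DProd (fittingOf (sigmaCore M)) (piCoreOf (sigma M)ᶜ (fittingOf M)) (fittingOf M)) ∧
    (fittingHallOf M ≤ ⁅M, M⁆ ∧ Group.IsNilpotent (⁅M, M⁆ /ₛ fittingHallOf M)) ∧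
    (TypeP M → fittingOf M ≤ ⁅M, M⁆) :=
  P15.Fitting_structure maxM

/-- B & G, Corollary 15.6. -/
theorem Ptype_cyclics {M K : Subgroup G} (PM : TypeP M) (hallK : IsPiHallOf (kappa M) K M) :
    sigmaCore M ⊓ 𝒞(K) ≠ ⊥ ∧ IsCyclic ↥(sigmaCore M ⊓ 𝒞(K)) ∧
    sigmaCore M ⊓ 𝒞(K) ≤ ⁅⁅M, M⁆, ⁅M, M⁆⁆ ∧ sigmaCore M ⊓ 𝒞(K) ≤ fittingHallOf M ∧
    ¬ IsCyclic (fittingHallOf M) :=
  P15.Ptype_cyclics PM hallK

/-- B & G, Theorem 15.7, with `H = M_F`, `X = F(M) ∩ F(M)^g` (part (c) in the corrected form). -/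
theorem nonTI_Fitting_structure {M : Subgroup G} {g : G} (maxM : IsCoatom M) (notMg : g ∉ M)
    (ntX : fittingOf M ⊓ fittingOf M :^ g ≠ ⊥) :
    ((TypeF M ∨ TypeP1 M) ∧ fittingHallOf M = sigmaCore M) ∧
    (fittingOf M ⊓ fittingOf M :^ g ≤ fittingHallOf M ∧ IsCyclic ↥(fittingOf M ⊓ fittingOf M :^ g)) ∧
    (⁅M, M⁆ ≤ fittingOf M ∧
      DProd (sigmaCore M) (piCoreOf (sigma M)ᶜ (fittingOf M)) (fittingOf M)) ∧
    (∀ E E₁ E₂ E₃ : Subgroup G, SigmaCompl M E E₁ E₂ E₃ →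
      E₃ = ⊥ ∧ E₂ ⊲ E ∧ IsCyclic (E /ₛ E₂)) ∧
    ((TypeF M ∧ IsMulCommutative (fittingHallOf M) ∧ rank (fittingHallOf M) = 2) ∨
      ∃ p : ℕ, p = Nat.card ↥(fittingOf M ⊓ fittingOf M :^ g) ∧ p.Prime ∧ p ∈ sigma M ∧ p ∉ beta M ∧
        ¬ IsMulCommutative (pCoreOf p (fittingHallOf M)) ∧
        IsCyclic (pPrimeCoreOf p (fittingHallOf M)) ∧
        ((∀ q ∈ primesOf (fittingHallOf M), Monoid.exponent (M /ₛ fittingHallOf M) ∣ q - 1) ∨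
          (Nat.card (pCoreOf p (fittingHallOf M)) = p ^ 3 ∧ TypeP1 M ∧
            (fittingHallOf M).relIndex M ∣ p + 1))) :=
  P15.nonTI_Fitting_structure maxM notMg ntX

/-- B & G, Theorem 15.8. -/
theorem tau2_P2type_signalizer {M Mstar U K R H : Subgroup G} {r q : ℕ} (hr : r.Prime) (P2M : TypeP2 M)
    (complU : KappaCompl M U K) (maxMs : IsCoatom Mstar) (sCMs : 𝒞(K) ≤ Mstar)
    (sylR : IsSylowOf r R U) (maxH : IsCoatom H) (sNH : 𝒩(R) ≤ H) (t2q : q ∈ tau2 H) :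
    (Nat.card K).Prime ∧ tau2 H = {Nat.card K} ∧ IsPiGrp (tau2 M)ᶜ M :=
  P15.tau2_P2type_signalizer hr P2M complU maxMs sCMs sylR maxH sNH t2q

/-- B & G, Theorem 15.9(a, b). -/
theorem nonFtype_signalizer_base {M : Subgroup G} {x : G} (maxM : IsCoatom M) (Msx : x ∈ sigmaCore M)
    (ntx : x ≠ 1) (nsCM : ¬ 𝒞[x] ≤ M) (notFN : ¬ TypeF (sigBase x)) :
    TypeF M ∧ IsPiGrp (tau2 M)ᶜ M ∧ TypeP2 (sigBase x) ∧
    ∃ E : Subgroup G, IsPiHallOf (sigma M)ᶜ E M ∧ IsCyclic E ∧ IsFrob M (sigmaCore M) E :=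
  P15.nonFtype_signalizer_base maxM Msx ntx nsCM notFN

end CA.BG
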