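/-
Elementary facts on type `P` data (`Cfsg.IsTypePWith`), valid in any finite group.
-/
import Cfsg.Agent.BG.Fcore

set_option autoImplicit false
set_option linter.unusedSectionVars false

namespace CA.BG

open Cfsg CA.FG

universe u

variable {G : Type u} [Group G] [Finite G]

theorem snc_dprod {W₁ W₂ : Subgroup G} (h : IsSelfNormalizingCyclic W₁ W₂) : DProd W₁ W₂ (W₁ ⊔ W₂) :=
  dprod_mk (le_cent_symm (le_cent_iff_forall.2 h.2.2.2.1)) rfl h.2.2.1

theorem snc_cyclic {W₁ W₂ : Subgroup G} (h : IsSelfNormalizingCyclic W₁ W₂) :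
    IsCyclic ↥(W₁ ⊔ W₂) := h.2.2.2.2.1

theorem snc_mul_mem {W₁ W₂ : Subgroup G} (h : W₁ ⊓ W₂ = ⊥) {a b : G} (ha : a ∈ W₁)
    (hb : b ∈ W₂) (ha1 : a ≠ 1) (hb1 : b ≠ 1) :
    a * b ∈ ((W₁ ⊔ W₂ : Subgroup G) : Set G) \ (↑W₁ ∪ ↑W₂) := by
  refine ⟨Subgroup.mul_mem_sup ha hb, ?_⟩
  rintro (h1 | h1)
  · have : b ∈ W₁ ⊓ W₂ := ⟨(Subgroup.mul_mem_cancel_left _ ha).1 h1, hb⟩
    rw [h] at this
    exact hb1 this
  · have : a ∈ W₁ ⊓ W₂ := ⟨ha, (Subgroup.mul_mem_cancel_right _ hb).1 h1⟩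
    rw [h] at this
    exact ha1 this

theorem cent1_le_normalizer_singleton (x : G) : 𝒞[x] ≤ Subgroup.normalizer ({x} : Set G) := by
  intro g hg
  have h := Subgroup.mem_centralizer_singleton_iff.1 hg
  rw [Subgroup.mem_set_normalizer_iff]
  intro y
  simp only [Set.mem_singleton_iff]
  constructor
  · rintro rfl
    rw [h]; group
  · intro hy
    have : y = g⁻¹ * x * g := by rw [← hy]; group
    rw [this, mul_assoc, ← h]; group

theorem snc_cent1 {W₁ W₂ : Subgroup G} (h : IsSelfNormalizingCyclic W₁ W₂) {w : G}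
    (hw : w ∈ ((W₁ ⊔ W₂ : Subgroup G) : Set G) \ (↑W₁ ∪ ↑W₂)) : 𝒞[w] = W₁ ⊔ W₂ := by
  apply le_antisymm
  · rw [← h.2.2.2.2.2 {w} (Set.singleton_subset_iff.2 hw) (Set.singleton_nonempty w)]
    exact cent1_le_normalizer_singleton w
  · exact (abelian_iff_le_cent.1 (abelian_of_cyclic (snc_cyclic h))).trans (cent_le_cent_singleton hw.1)

variable {M W₁ U W₂ : Subgroup G}

theorem typeP_sdprod_M (hP : IsTypePWith M W₁ U W₂) : SDProd ⁅M, M⁆ W₁ M :=
  hP.W₁_compl.sdprod (der_normalIn M).2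

theorem typeP_sdprod_der (hP : IsTypePWith M W₁ U W₂) : SDProd (fittingHallOf M) U ⁅M, M⁆ :=
  hP.U_compl.sdprod ((der_normalIn M).1.trans (Fcore_norm M))

theorem typeP_der_Hall (hP : IsTypePWith M W₁ U W₂) : IsHallOf ⁅M, M⁆ M := by
  refine ⟨(der_normalIn M).1, ?_⟩
  rw [hP.W₁_compl.relIndex_left, ← hP.W₁_compl.relIndex_right]
  exact hP.W₁_hall.symm

theorem typeP_coprime_HU (hP : IsTypePWith M W₁ U W₂) :
    (Nat.card (fittingHallOf M)).Coprime (Nat.card U) := by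
  rw [← hP.U_compl.relIndex_left]
  exact (Fcore_Hall M).2.coprime_dvd_right
    (relIndex_dvd_relIndex_of_le hP.U_compl.left_le (der_normalIn M).1)

/-- `C_M(x) = W₁ W₂` for `x ∈ W₁^#`. -/
theorem typeP_cent1 (hP : IsTypePWith M W₁ U W₂) {x : G} (hx : x ∈ W₁) (ntx : x ≠ 1) :
    M ⊓ 𝒞[x] = W₁ ⊔ W₂ := by
  have h1 : W₁ ≤ M ⊓ 𝒞[x] := le_inf hP.W₁_compl.right_le
    ((abelian_iff_le_cent.1 (abelian_of_cyclic hP.W₁_cyclic)).trans (cent_le_cent_singleton hx))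
  have h2 := ((typeP_sdprod_M hP).restrict_right h1 inf_le_left).sup_eq
  rw [← h2, sup_comm, ← hP.W₂_centralizer x hx ntx]
  congr 1
  rw [inf_right_comm, inf_eq_right.2 (der_normalIn M).1]

theorem typeP_Fitting_inf_U (hP : IsTypePWith M W₁ U W₂) :
    fittingOf M ⊓ U = U ⊓ 𝒞(fittingHallOf M) := by
  apply le_antisymm
  · refine le_inf inf_le_right ?_
    exact sub_nilpotent_cent2 (fitting_nil M) inf_le_left (Fcore_sub_Fitting M)
      ((typeP_coprime_HU hP).symm.coprime_dvd_left (Subgroup.card_dvd_of_le inf_le_right))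
  · refine le_inf ?_ inf_le_left
    rw [← hP.fitting_eq]
    exact le_sup_of_le_right (inf_le_inf_right _ (hP.U_compl.right_le.trans (der_normalIn M).1))

theorem typeP_Fitting (hP : IsTypePWith M W₁ U W₂) :
    fittingOf M = fittingHallOf M ⊔ (U ⊓ 𝒞(fittingHallOf M)) := by
  rw [← typeP_Fitting_inf_U hP]
  exact ((typeP_sdprod_der hP).restrict_left (Fcore_sub_Fitting M) hP.fitting_le).sup_eq.symm

theorem typeP_derU_cent (hP : IsTypePWith M W₁ U W₂) : ⁅U, U⁆ ≤ 𝒞(fittingHallOf M) := by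
  have h1 : ⁅U, U⁆ ≤ fittingOf M ⊓ U := by
    refine le_inf ?_ (der_normalIn U).1
    rw [← hP.fitting_eq]
    exact (Subgroup.commutator_mono hP.U_compl.right_le hP.U_compl.right_le).trans hP.derived_two_le
  rw [typeP_Fitting_inf_U hP] at h1
  exact h1.trans inf_le_right

theorem typeP_U_not_cent (hP : IsTypePWith M W₁ U W₂) (ntU : U ≠ ⊥) : ¬ U ≤ 𝒞(fittingHallOf M) := by
  intro h
  have h1 : Group.IsNilpotent ↥⁅M, M⁆ := by
    rw [← hP.U_compl.sup_eq]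
    exact nil_sup_of_cent (Fcore_nil M) hP.U_nilpotent h
  have h2 := Fcore_max (typeP_der_Hall hP) (der_normalIn M).2 h1
  apply ntU
  rw [← hP.U_compl.inf_eq]
  exact (inf_eq_right.2 (hP.U_compl.right_le.trans h2)).symm

theorem typeP_W2_eq {W₂' : Subgroup G} (hW : IsSelfNormalizingCyclic W₁ W₂) (sW₂M : W₂ ≤ M)
    (hP : IsTypePWith M W₁ U W₂') : W₂' = W₂ := by
  obtain ⟨a, ha, nta⟩ := exists_mem_ne_one hW.1
  obtain ⟨b, hb, ntb⟩ := exists_mem_ne_one hW.2.1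
  have cW := abelian_iff_le_cent.1 (abelian_of_cyclic (snc_cyclic hW))
  have cW' := abelian_iff_le_cent.1 (abelian_of_cyclic (snc_cyclic hP.selfNormalizing))
  have h1 : W₁ ⊔ W₂ ≤ W₁ ⊔ W₂' := by
    rw [← typeP_cent1 hP ha nta]
    exact le_inf (sup_le hP.W₁_compl.right_le sW₂M)
      (cW.trans (cent_le_cent_singleton (Subgroup.mem_sup_left ha)))
  have hab := snc_mul_mem hW.2.2.1 ha hb nta ntb
  have h2 : W₁ ⊔ W₂' ≤ W₁ ⊔ W₂ := by
    rw [← snc_cent1 hW hab]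
    exact cW'.trans (cent_le_cent_singleton (h1 hab.1))
  have h3 := le_antisymm h2 h1
  apply eq_of_cyclic_of_card_eq (snc_cyclic hW) (le_sup_right.trans h2) le_sup_right
  have e1 := (snc_dprod hW).card_mul
  have e2 := (snc_dprod hP.selfNormalizing).card_mul
  rw [h3, ← e1] at e2
  exact Nat.eq_of_mul_eq_mul_left Nat.card_pos e2

end CA.BG
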