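/-
B & G section 16 / Peterfalvi section 8, part a: facts valid in any finite group.
-/
import Cfsg.Agent.BG.Def16
import Cfsg.Agent.BG.TypeP
import Cfsg.Agent.BG.I03
import Cfsg.Agent.FG.Frattini

set_option autoImplicit false
set_option linter.unusedSectionVars false

namespace CA.BG.P16

open Cfsg CA.FG
open scoped commutatorElement

universe u

variable {G : Type u} [Group G] [Finite G]

theorem conj_eq_of_abelian {W : Subgroup G} (cW : IsMulCommutative W) {g a : G} (hg : g ∈ W) (ha : a ∈ W) :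
    g * a * g⁻¹ = a := by
  rw [abelian_iff_forall.1 cW g hg a ha]; group

theorem mem_zHat_conj {W₁ W₂ : Subgroup G} {g a : G} :
    g * a * g⁻¹ ∈ zHat (W₁ :^ g) (W₂ :^ g) ↔ a ∈ zHat W₁ W₂ := by
  simp only [zHat, Set.mem_diff, Set.mem_union, SetLike.mem_coe, ← conjg_sup, conj_mem_conjg_iff]

theorem snc_normedTI {W₁ W₂ : Subgroup G} (h : IsSelfNormalizingCyclic W₁ W₂) :
    NormedTI (zHat W₁ W₂) ⊤ (W₁ ⊔ W₂) := by
  obtain ⟨a, ha, nta⟩ := exists_mem_ne_one h.1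
  obtain ⟨b, hb, ntb⟩ := exists_mem_ne_one h.2.1
  have hne : (zHat W₁ W₂).Nonempty := ⟨_, snc_mul_mem h.2.2.1 ha hb nta ntb⟩
  have cycW := snc_cyclic h
  refine ⟨hne, le_top, fun v hv g _ => ⟨fun hg => ?_, fun hg => ?_⟩⟩
  · have h1 : g ∈ 𝒩(W₁ ⊔ W₂) := by
      rw [← conjg_eq_self_iff]
      conv_lhs => rw [← snc_cent1 h hv]
      rw [conjg_cent1, snc_cent1 h hg]
    rw [← h.2.2.2.2.2 (zHat W₁ W₂) subset_rfl hne, Subgroup.mem_set_normalizer_iff]
    intro y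
    have e1 := conjg_of_mem_norm (norm_le_norm_of_cyclic cycW le_sup_left h1)
    have e2 := conjg_of_mem_norm (norm_le_norm_of_cyclic cycW le_sup_right h1)
    conv_rhs => rw [← e1, ← e2]
    exact mem_zHat_conj.symm
  · rwa [conj_eq_of_abelian (abelian_of_cyclic cycW) hg hv.1]

theorem snc_of_normedTI {W₁ W₂ : Subgroup G} (nt₁ : W₁ ≠ ⊥) (nt₂ : W₂ ≠ ⊥) (ti : W₁ ⊓ W₂ = ⊥)
    (cyc : IsCyclic ↥(W₁ ⊔ W₂)) (h : NormedTI (zHat W₁ W₂) ⊤ (W₁ ⊔ W₂)) :
    IsSelfNormalizingCyclic W₁ W₂ := by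
  have cW := abelian_of_cyclic cyc
  refine ⟨nt₁, nt₂, ti, fun a ha b hb => abelian_iff_forall.1 cW a (Subgroup.mem_sup_left ha) b
    (Subgroup.mem_sup_right hb), cyc, ?_⟩
  rintro X sX ⟨x, hx⟩
  apply le_antisymm
  · intro g hg
    exact (h.2.2 x (sX hx) g trivial).1 (sX ((Subgroup.mem_set_normalizer_iff.1 hg x).1 hx))
  · intro g hg
    rw [Subgroup.mem_set_normalizer_iff]
    intro y
    constructor
    · intro hy
      rwa [conj_eq_of_abelian cW hg (sX hy).1]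
    · intro hy
      have h1 : y ∈ W₁ ⊔ W₂ := by
        have := (W₁ ⊔ W₂).mul_mem ((W₁ ⊔ W₂).mul_mem ((W₁ ⊔ W₂).inv_mem hg) (sX hy).1) hg
        convert this using 1
        group
      rwa [conj_eq_of_abelian cW hg h1] at hy

theorem zHat_comm (W₁ W₂ : Subgroup G) : zHat W₁ W₂ = zHat W₂ W₁ := by
  rw [zHat, zHat, sup_comm, Set.union_comm]

theorem snc_sym {W₁ W₂ : Subgroup G} (h : IsSelfNormalizingCyclic W₁ W₂) :
    IsSelfNormalizingCyclic W₂ W₁ := by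
  refine snc_of_normedTI h.2.1 h.1 (by rw [inf_comm]; exact h.2.2.1) ?_ ?_
  · rw [sup_comm]; exact snc_cyclic h
  · rw [sup_comm, zHat_comm]; exact snc_normedTI h

theorem snc_coprime {W₁ W₂ : Subgroup G} (h : IsSelfNormalizingCyclic W₁ W₂) :
    (Nat.card W₁).Coprime (Nat.card W₂) :=
  ((snc_dprod h).cyclic_iff (cyclic_of_le (snc_cyclic h) le_sup_left)
    (cyclic_of_le (snc_cyclic h) le_sup_right)).1 (snc_cyclic h)

theorem snc_conjg {W₁ W₂ : Subgroup G} (h : IsSelfNormalizingCyclic W₁ W₂) (x : G) :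
    IsSelfNormalizingCyclic (W₁ :^ x) (W₂ :^ x) := by
  have hT := snc_normedTI h
  refine snc_of_normedTI (by rw [Ne, conjg_eq_bot]; exact h.1) (by rw [Ne, conjg_eq_bot]; exact h.2.1)
    (by rw [← conjg_inf, h.2.2.1, conjg_bot]) (by rw [← conjg_sup, cyclic_conjg]; exact snc_cyclic h)
    ⟨?_, le_top, ?_⟩
  · obtain ⟨a, ha⟩ := hT.1
    exact ⟨_, mem_zHat_conj.2 ha⟩
  · intro a ha g _
    have e1 : a = x * (x⁻¹ * a * x) * x⁻¹ := by group
    have e2 : g * a * g⁻¹ = x * ((x⁻¹ * g * x) * (x⁻¹ * a * x) * (x⁻¹ * g * x)⁻¹) * x⁻¹ := by group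
    rw [e1, mem_zHat_conj] at ha
    rw [e2, mem_zHat_conj, hT.2.2 _ ha _ trivial, ← conjg_sup, mem_conjg]

theorem semiregular_conjg {K H : Subgroup G} (h : Semiregular K H) (g : G) :
    Semiregular (K :^ g) (H :^ g) := by
  intro x hx ntx
  obtain ⟨y, hy, rfl⟩ := mem_conjg'.1 hx
  rw [← conjg_cent1, ← conjg_inf, h y hy (by rintro rfl; exact ntx (by group)), conjg_bot]

theorem isFrob_conjg {M K H : Subgroup G} (h : IsFrob M K H) (g : G) :
    IsFrob (M :^ g) (K :^ g) (H :^ g) :=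
  ⟨h.1.conjg g, by rw [Ne, conjg_eq_bot]; exact h.2.1, by rw [Ne, conjg_eq_bot]; exact h.2.2.1,
    semiregular_conjg h.2.2.2 g⟩

theorem ofTypeF_conjg {M U : Subgroup G} (h : OfTypeF M U) (g : G) : OfTypeF (M :^ g) (U :^ g) := by
  obtain ⟨⟨ntH, ntU, defM⟩, ⟨U₁, nsU₁, cU₁, hU₁⟩, U₀, sU₀, eU₀, frob⟩ := h
  refine ⟨⟨?_, ?_, ?_⟩, ⟨U₁ :^ g, conjg_normalIn_iff.2 nsU₁, abelian_conjg.2 cU₁, ?_⟩,
    U₀ :^ g, conjg_mono g sU₀, by rw [exponent_conjg, exponent_conjg, eU₀], ?_⟩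
  · rw [FcoreJ, Ne, conjg_eq_bot]; exact ntH
  · rw [Ne, conjg_eq_bot]; exact ntU
  · rw [FcoreJ]; exact defM.conjg g
  · rw [FcoreJ]
    intro x hx ntx
    obtain ⟨y, hy, rfl⟩ := mem_conjg'.1 hx
    rw [← conjg_cent1, ← conjg_inf]
    exact conjg_mono g (hU₁ y hy (by rintro rfl; exact ntx (by group)))
  · rw [FcoreJ, ← conjg_sup]; exact isFrob_conjg frob g

theorem Fcore_compl_conj {M U V : Subgroup G} (defU : SDProd (fittingHallOf M) U M)
    (defV : SDProd (fittingHallOf M) V M) : ∃ x ∈ fittingHallOf M, V = U :^ x := by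
  refine SchurZassenhaus_trans_sol (sol_of_nil (Fcore_nil M)) defU.norm
    (defU.sup_eq.symm ▸ defV.right_le) ?_ ?_
  · rw [← defU.complIn.relIndex_left]; exact (Fcore_Hall M).2
  · rw [← defU.complIn.relIndex_left, ← defV.complIn.relIndex_left]

theorem compl_of_typeF {M U V : Subgroup G} (defM : SDProd (fittingHallOf M) V M) (h : OfTypeF M U) :
    OfTypeF M V := by
  obtain ⟨x, hx, rfl⟩ := Fcore_compl_conj h.1.2.2 defM
  have := ofTypeF_conjg h x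
  rwa [conjg_of_mem (Fcore_le M hx)] at this

theorem compl_of_typeI {M U V : Subgroup G} (defM : SDProd (fittingHallOf M) V M) (h : OfTypeI M U) :
    OfTypeI M V := by
  refine ⟨compl_of_typeF defM h.1, ?_⟩
  obtain ⟨x, hx, rfl⟩ := Fcore_compl_conj h.1.1.2.2 defM
  rw [exponent_conjg]
  exact h.2

theorem typeP_W2_cyclic {M W₁ U W₂ : Subgroup G} (hP : IsTypePWith M W₁ U W₂) : IsCyclic W₂ :=
  cyclic_of_le (snc_cyclic hP.selfNormalizing) le_sup_right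

theorem typeP_W2_ne_bot {M W₁ U W₂ : Subgroup G} (hP : IsTypePWith M W₁ U W₂) : W₂ ≠ ⊥ :=
  hP.selfNormalizing.2.1

theorem of_typeP_sol {M W₁ U W₂ : Subgroup G} (hP : IsTypePWith M W₁ U W₂) : Group.IsSolvable M :=
  sol_of_der (sol_of_der (sol_of_nil (nil_of_le (fitting_nil M) (hP.fitting_eq ▸ hP.derived_two_le))))

theorem typeP_cent_compl {M W₁ U W₂ : Subgroup G} (hP : IsTypePWith M W₁ U W₂) :
    ⁅M, M⁆ ⊓ 𝒞(W₁) = W₂ := by
  obtain ⟨x, hx, e⟩ := cyclic_iff_eq_zpowers.1 hP.W₁_cyclic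
  have ntx : x ≠ 1 := by
    rintro rfl
    exact hP.W₁_ne (by simpa using e)
  rw [← hP.W₂_centralizer x hx ntx, ← cent_zpowers, ← e]

theorem typeP_cent_core_compl {M W₁ U W₂ : Subgroup G} (hP : IsTypePWith M W₁ U W₂) :
    fittingHallOf M ⊓ 𝒞(W₁) = W₂ := by
  apply le_antisymm
  · rw [← typeP_cent_compl hP]
    exact inf_le_inf_right _ hP.U_compl.left_le
  · exact le_inf (hP.W₂_le.trans inf_le_left) ((typeP_cent_compl hP).ge.trans inf_le_right)

theorem typeP_semiregular_U {M W₁ U W₂ : Subgroup G} (hP : IsTypePWith M W₁ U W₂) :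
    Semiregular U W₁ := by
  intro x hx ntx
  rw [← le_bot_iff, ← hP.U_compl.inf_eq]
  refine le_inf ?_ inf_le_left
  refine le_trans (inf_le_inf_right _ hP.U_compl.right_le) ?_
  rw [hP.W₂_centralizer x hx ntx]
  exact hP.W₂_le.trans inf_le_left

theorem typeP_Frobenius_UW1 {M W₁ U W₂ : Subgroup G} (hP : IsTypePWith M W₁ U W₂) (ntU : U ≠ ⊥) :
    IsFrob (U ⊔ W₁) U W₁ :=
  isFrob_sup hP.U_normal (typeP_semiregular_U hP) ntU hP.W₁_ne

theorem typeP_sdprod_UW1 {M W₁ U W₂ : Subgroup G} (hP : IsTypePWith M W₁ U W₂) :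
    SDProd (fittingHallOf M) (U ⊔ W₁) M ∧ SDProd U W₁ (U ⊔ W₁) := by
  have sUM' := hP.U_compl.right_le
  have sUW : U ⊔ W₁ ≤ M := sup_le (sUM'.trans (der_le M)) hP.W₁_compl.right_le
  refine ⟨sdprod_mk (sUW.trans (Fcore_norm M)) ?_ ?_, sdprod_mk hP.U_normal rfl ?_⟩
  · rw [← sup_assoc, hP.U_compl.sup_eq, hP.W₁_compl.sup_eq]
  · rw [← le_bot_iff, ← hP.U_compl.inf_eq]
    refine le_inf inf_le_left ?_
    have h1 := inf_sup_of_left_le (Or.inr hP.U_normal) sUM'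
    rw [hP.W₁_compl.inf_eq, sup_bot_eq] at h1
    exact (inf_le_inf_right _ hP.U_compl.left_le).trans h1.le
  · rw [← le_bot_iff, ← hP.W₁_compl.inf_eq]
    exact inf_le_inf_right _ sUM'

theorem typePF_exclusion {M W₁ U W₂ : Subgroup G} (hP : IsTypePWith M W₁ U W₂) (K : Subgroup G) :
    ¬ OfTypeF M K := by
  rintro ⟨⟨-, -, defK⟩, -, U₀, sU₀, eU₀, frob⟩
  obtain ⟨p, hp, hd⟩ := exists_prime_dvd_card hP.W₁_ne
  have h1 : p ∣ Nat.card K := by
    rw [← defK.complIn.relIndex_left]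
    refine hd.trans ?_
    rw [← hP.W₁_compl.relIndex_left]
    exact Subgroup.relIndex_dvd_of_le_left _ hP.U_compl.left_le
  have h2 : p ∣ Nat.card U₀ := by
    obtain ⟨x, hx, ox⟩ := exists_mem_orderOf_eq hp h1
    have h3 : p ∣ Monoid.exponent K := by
      rw [← ox, ← Subgroup.orderOf_mk x hx]
      exact Monoid.order_dvd_exponent _
    rw [← eU₀] at h3
    exact h3.trans Group.exponent_dvd_nat_card
  obtain ⟨X, sXU₀, oX⟩ := exists_le_card_eq_prime hp h2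
  have hallW₁ : IsHallOf W₁ M := ⟨hP.W₁_compl.right_le, hP.W₁_hall⟩
  obtain ⟨a, ha, sXW₁⟩ := Hall_subJ (of_typeP_sol hP) hallW₁.pHall (sXU₀.trans (sU₀.trans defK.right_le))
    ((pGrp_of_card_eq hp oX).piGrp ⟨hp, hd⟩)
  have h4 := cent_semiregular frob.2.2.2 sXU₀ (ne_bot_of_card_prime (oX ▸ hp))
  apply typeP_W2_ne_bot hP
  rw [← conjg_eq_bot (g := a), ← typeP_cent_core_compl hP, conjg_inf, conjg_cent,
    conjg_of_mem_norm (Fcore_norm M ha), ← le_bot_iff, ← h4]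
  exact inf_le_inf_left _ (cent_anti sXW₁)

theorem typeP_coprime_derW1 {M W₁ U W₂ : Subgroup G} (hP : IsTypePWith M W₁ U W₂) :
    (Nat.card ↥⁅M, M⁆).Coprime (Nat.card W₁) := by
  rw [← hP.W₁_compl.relIndex_right]; exact hP.W₁_hall.symm

theorem of_typeP_compl_conj {M W₁ U W₂ W₁' : Subgroup G} (hP : IsTypePWith M W₁ U W₂)
    (defM : SDProd ⁅M, M⁆ W₁' M) : ∃ x ∈ M, W₁' = W₁ :^ x := by
  obtain ⟨x, hx, e⟩ := SchurZassenhaus_trans_sol (sol_of_le (of_typeP_sol hP) (der_le M))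
    (typeP_sdprod_M hP).norm (hP.W₁_compl.sup_eq.symm ▸ defM.right_le) (typeP_coprime_derW1 hP)
    (by rw [← defM.complIn.relIndex_left, ← hP.W₁_compl.relIndex_left])
  exact ⟨x, der_le M hx, e⟩

theorem conj_of_typeP {M W₁ U W₂ : Subgroup G} (hP : IsTypePWith M W₁ U W₂) (x : G) :
    IsTypePWith (M :^ x) (W₁ :^ x) (U :^ x) (W₂ :^ x) where
  W₁_ne := by rw [Ne, conjg_eq_bot]; exact hP.W₁_ne
  W₁_cyclic := cyclic_conjg.2 hP.W₁_cyclic
  W₁_hall := by rw [card_conjg, relIndex_conjg]; exact hP.W₁_hall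
  W₁_compl := by rw [← conjg_comm]; exact hP.W₁_compl.conjg x
  U_nilpotent := nil_conjg.2 hP.U_nilpotent
  U_normal := conjg_le_norm_iff.2 hP.U_normal
  U_compl := by rw [← conjg_comm, FcoreJ]; exact hP.U_compl.conjg x
  H_not_cyclic := by rw [FcoreJ, cyclic_conjg]; exact hP.H_not_cyclic
  derived_two_le := by
    rw [FcoreJ, ← conjg_comm, ← conjg_comm, ← conjg_cent, ← conjg_inf, ← conjg_sup]
    exact conjg_mono x hP.derived_two_le
  fitting_eq := by rw [FcoreJ, ← conjg_cent, ← conjg_inf, ← conjg_sup, hP.fitting_eq, fitting_conjg]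
  fitting_le := by rw [← fitting_conjg, ← conjg_comm]; exact conjg_mono x hP.fitting_le
  W₂_le := by
    rw [FcoreJ, ← conjg_comm, ← conjg_comm, ← conjg_inf]
    exact conjg_mono x hP.W₂_le
  W₂_centralizer := by
    intro y hy nty
    obtain ⟨z, hz, rfl⟩ := mem_conjg'.1 hy
    rw [← conjg_comm, ← conjg_cent1, ← conjg_inf,
      hP.W₂_centralizer z hz (by rintro rfl; exact nty (by group))]
  selfNormalizing := snc_conjg hP.selfNormalizing x

theorem typeP_U_Hall {M W₁ U W₂ : Subgroup G} (hP : IsTypePWith M W₁ U W₂) :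
    IsPiHallOf (primesOf (fittingHallOf M))ᶜ U ⁅M, M⁆ :=
  hP.U_compl.pHall_compl ((Fcore_Hall M).pHall.of_le hP.U_compl.left_le (der_le M))

theorem of_typeP_conj {M W₁ U W₂ W₁' U' W₂' : Subgroup G} (hP : IsTypePWith M W₁ U W₂)
    (hP' : IsTypePWith M W₁' U' W₂') :
    ∃ x ∈ M, U :^ x = U' ∧ W₁ :^ x = W₁' ∧ W₂ :^ x = W₂' := by
  obtain ⟨x, hx, rfl⟩ := of_typeP_compl_conj hP (typeP_sdprod_M hP')
  have hPx := conj_of_typeP hP x
  rw [conjg_of_mem hx] at hPx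
  obtain ⟨y, hy, e⟩ := coprime_Hall_trans (typeP_sdprod_M hP').norm (typeP_coprime_derW1 hP')
    (sol_of_le (of_typeP_sol hP) (der_le M)) (typeP_U_Hall hP') hP'.U_normal (typeP_U_Hall hPx) hPx.U_normal
  have hyM : y ∈ M := der_le M hy.1
  have e1 : W₁ :^ (y * x) = W₁ :^ x := by rw [conjg_mul, conjg_of_mem_cent hy.2]
  refine ⟨y * x, M.mul_mem hyM hx, by rw [conjg_mul, e], e1, ?_⟩
  rw [← typeP_cent_compl hP, ← typeP_cent_compl hP', conjg_inf, conjg_cent, e1,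
    conjg_of_mem_norm ((der_normalIn M).2 (M.mul_mem hyM hx))]

theorem typeP_Fitting_dprod {M W₁ U W₂ : Subgroup G} (hP : IsTypePWith M W₁ U W₂) :
    DProd (fittingHallOf M) (U ⊓ 𝒞(fittingHallOf M)) (fittingOf M) := by
  refine dprod_mk inf_le_right (typeP_Fitting hP).symm ?_
  rw [← le_bot_iff, ← hP.U_compl.inf_eq]
  exact inf_le_inf_left _ inf_le_left

theorem typeP_pair_sym {S T W₁ W₂ : Subgroup G} (h : TypePPair S T W₁ W₂) : TypePPair T S W₂ W₁ where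
  cycTI := snc_sym h.cycTI
  maxS := h.maxT
  maxT := h.maxS
  defS := h.defT
  defT := h.defS
  inf_eq := by rw [inf_comm, sup_comm]; exact h.inf_eq
  type2 := h.type2.symm
  S_ne_one := h.T_ne_one
  T_ne_one := h.S_ne_one
  conj := fun M maxM hM => (h.conj M maxM hM).imp fun _ hg => hg.symm

theorem FTtype_range (M : Subgroup G) : 0 < FTtype M ∧ FTtype M ≤ 5 := by
  unfold FTtype
  split_ifs <;> omega

theorem FTder_type1 {M : Subgroup G} (h : FTtype M = 1) : FTder M = M := if_pos h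
theorem FTder_typeP {M : Subgroup G} (h : FTtype M ≠ 1) : FTder M = ⁅M, M⁆ := if_neg h

theorem FTder_normal (M : Subgroup G) : FTder M ⊲ M := by
  by_cases h : FTtype M = 1
  · rw [FTder_type1 h]; exact normalIn_refl M
  · rw [FTder_typeP h]; exact der_normalIn M

theorem FTsupp0_type1 {M : Subgroup G} (h : FTtype M = 1) : FTsupp0 M = FTsupp M := by
  refine Set.union_eq_left.2 ?_
  rintro x ⟨hx, h1, -⟩
  rw [FTder_type1 h] at h1
  exact absurd ((piGrp_primesOf M).piElt hx) h1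

theorem FTsupp_sub0 (M : Subgroup G) : FTsupp M ⊆ FTsupp0 M := Set.subset_union_left

theorem FTsupp_sub_der (M : Subgroup G) : FTsupp M ⊆ sharp (FTder M) := fun _ h => ⟨h.1, h.2.1⟩

theorem FTsupp_sub_sharp (M : Subgroup G) : FTsupp M ⊆ sharp M := fun _ h =>
  ⟨(FTder_normal M).1 h.1, h.2.1⟩

theorem FTsupp0_sub_sharp (M : Subgroup G) : FTsupp0 M ⊆ sharp M := by
  rintro x (h | ⟨hx, h1, -⟩)
  · exact FTsupp_sub_sharp M h
  · refine ⟨hx, ?_⟩
    rintro rfl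
    exact h1 (piElt_one _)

theorem sigmaCore_normal (M : Subgroup G) : sigmaCore M ⊲ M := pcore_normal (sigma M) M

theorem FTsupp1_sub_sharp (M : Subgroup G) : FTsupp1 M ⊆ sharp M := fun _ h =>
  ⟨(sigmaCore_normal M).1 h.1, h.2⟩

theorem conj_ne_one {x a : G} (h : a ≠ 1) : x * a * x⁻¹ ≠ 1 := by
  intro h1
  apply h
  calc a = x⁻¹ * (x * a * x⁻¹) * x := by group
    _ = 1 := by rw [h1]; group

theorem FTsupp1_norm {M : Subgroup G} {x a : G} (hx : x ∈ M) (ha : a ∈ FTsupp1 M) :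
    x * a * x⁻¹ ∈ FTsupp1 M :=
  ⟨conj_mem_of_le_norm (sigmaCore_normal M).2 hx ha.1, conj_ne_one ha.2⟩

theorem FTsupp_norm {M : Subgroup G} {x a : G} (hx : x ∈ M) (ha : a ∈ FTsupp M) :
    x * a * x⁻¹ ∈ FTsupp M := by
  obtain ⟨h1, h2, y, hy, nty, cy⟩ := ha
  refine ⟨conj_mem_of_le_norm (FTder_normal M).2 hx h1, conj_ne_one h2, x * y * x⁻¹,
    conj_mem_of_le_norm (sigmaCore_normal M).2 hx hy, conj_ne_one nty, ?_⟩
  rw [← conjg_cent1]
  exact conj_mem_conjg x cy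

theorem piElt_conj_iff {π : Set ℕ} {x a : G} : IsPiElt π (x * a * x⁻¹) ↔ IsPiElt π a := by
  unfold IsPiElt
  rw [orderOf_conj]

theorem FTsupp0_norm {M : Subgroup G} {x a : G} (hx : x ∈ M) (ha : a ∈ FTsupp0 M) :
    x * a * x⁻¹ ∈ FTsupp0 M := by
  rcases ha with h | ⟨ha, h1, h2⟩
  · exact Or.inl (FTsupp_norm hx h)
  · exact Or.inr ⟨M.mul_mem (M.mul_mem hx ha) (M.inv_mem hx), by rwa [piElt_conj_iff],
      by rwa [piElt_conj_iff]⟩

theorem FTDadeSupp_mono (M : Subgroup G) {A B : Set G} (h : A ⊆ B) : FTDadeSupp M A ⊆ FTDadeSupp M B := by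
  rintro g ⟨a, ha, hg⟩
  exact ⟨a, h ha, hg⟩

theorem FTDadeSupp_norm {M : Subgroup G} {A : Set G} {g : G} (h : g ∈ FTDadeSupp M A) (y : G) :
    y * g * y⁻¹ ∈ FTDadeSupp M A := by
  obtain ⟨a, ha, r, hr, z, rfl⟩ := h
  exact ⟨a, ha, r, hr, y * z, by group⟩

theorem sub_FTDadeSupp (M : Subgroup G) (A : Set G) : A ⊆ FTDadeSupp M A := fun a ha =>
  ⟨a, ha, 1, Subgroup.one_mem _, 1, by group⟩

theorem restr_Dade_hyp {A B : Set G} {L : Subgroup G} {H : G → Subgroup G} (h : DadeHypothesis A L H)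
    (sBA : B ⊆ A) (nBL : ∀ x ∈ L, ∀ b ∈ B, x * b * x⁻¹ ∈ B) : DadeHypothesis B L H where
  one_not_mem := fun h1 => h.one_not_mem (sBA h1)
  subset := sBA.trans h.subset
  conj_mem := nBL
  fusion := fun a ha g hg => h.fusion a (sBA ha) g (sBA hg)
  le_centralizer := fun a ha => h.le_centralizer a (sBA ha)
  conj_mem_H := fun a ha => h.conj_mem_H a (sBA ha)
  inf_eq_bot := fun a ha => h.inf_eq_bot a (sBA ha)
  sup_eq := fun a ha => h.sup_eq a (sBA ha)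
  coprime := fun a ha b hb => h.coprime a (sBA ha) b (sBA hb)

theorem normedTI_sharp_of {K M : Subgroup G} (nKM : M ≤ 𝒩(K)) (ntK : K ≠ ⊥)
    (h : ∀ g, g ∉ M → K ⊓ K :^ g = ⊥) : NormedTI (sharp K) ⊤ M := by
  obtain ⟨x, hx, ntx⟩ := exists_mem_ne_one ntK
  refine ⟨⟨x, hx, ntx⟩, le_top, fun a ha g _ => ⟨fun hg => ?_, fun hg => ?_⟩⟩
  · by_contra notMg
    exact ne_bot_of_mem (H := K ⊓ K :^ g) ⟨hg.1, conj_mem_conjg g ha.1⟩ hg.2 (h g notMg)
  · exact ⟨conj_mem_of_le_norm nKM hg ha.1, conj_ne_one ha.2⟩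

theorem Frobenius_of_typeF {M U : Subgroup G} (h : IsFrob M (fittingHallOf M) U) : OfTypeF M U := by
  refine ⟨⟨h.2.1, h.2.2.1, h.1⟩, ⟨⊥, bot_normalIn U, abelian_of_cyclic cyclic_bot, fun x hx ntx => ?_⟩,
    U, le_rfl, rfl, ?_⟩
  · exact (semiregular_sym h.2.2.2 x hx ntx).le
  · rw [h.1.sup_eq]; exact h

end CA.BG.P16
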