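/-
B & G section 16, part b: the types of the maximal subgroups.
-/
import Cfsg.Agent.BG.I15
import Cfsg.Agent.BG.P16a

set_option autoImplicit false
set_option linter.unusedSectionVars false

namespace CA.BG.P16

open Cfsg CA.FG Subgroup

universe u

variable {G : Type u} [Group G]

theorem FTtype_eq_one_iff {M : Subgroup G} : FTtype M = 1 ↔ IsPiGrp (kappa M)ᶜ M := by
  unfold FTtype; split_ifs <;> simp_all

theorem FTtype_eq_two_iff {M : Subgroup G} :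
    FTtype M = 2 ↔ ¬ IsPiGrp (kappa M)ᶜ M ∧ sigmaCore M ≠ ⁅M, M⁆ := by
  unfold FTtype; split_ifs <;> simp_all

theorem FTtype_gt_two_iff {M : Subgroup G} :
    2 < FTtype M ↔ ¬ IsPiGrp (kappa M)ᶜ M ∧ sigmaCore M = ⁅M, M⁆ := by
  unfold FTtype; split_ifs <;> simp_all

theorem FTtype_eq_five_iff {M : Subgroup G} :
    FTtype M = 5 ↔ 2 < FTtype M ∧ sigmaCore M = fittingHallOf M := by
  unfold FTtype; split_ifs with h1 h2 h3 h4
  · simp
  · simp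
  · simp [h3]
  · simp [h3]
  · simp [h3]

theorem FTtype_eq_three_iff {M : Subgroup G} (h2 : 2 < FTtype M) (h5 : FTtype M ≠ 5) :
    FTtype M = 3 ↔ IsMulCommutative (sigmaCore M /ₛ fittingHallOf M) := by
  revert h2 h5
  unfold FTtype; split_ifs with h1 h2 h3 h4
  · simp
  · simp
  · simp
  · simp [h4]
  · simp [h4]

variable [MinSimpleOdd G]

theorem typeF_compl_card {M U U₀ : Subgroup G} (h : TypeFCompl M U U₀) :
    Nat.card U₀ = Monoid.exponent U := by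
  obtain ⟨-, eU, frob⟩ := h
  haveI := odd_regular_Zgroup (mFT_odd U₀) frob.2.1 frob.1.norm frob.2.2.2
  rw [← eU, IsZGroup.exponent_eq_card]

theorem typeF_Frobenius_iff {M U : Subgroup G} (h : OfTypeF M U) :
    IsFrob M (fittingHallOf M) U ↔ IsZGroup U := by
  refine ⟨fun frob => odd_regular_Zgroup (mFT_odd U) frob.2.1 frob.1.norm frob.2.2.2, fun zU => ?_⟩
  obtain ⟨⟨-, -, defM⟩, -, U₀, hU₀⟩ := h
  have h1 := typeF_compl_card hU₀
  rw [IsZGroup.exponent_eq_card] at h1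
  have h2 : U₀ = U := Subgroup.eq_of_le_of_card_ge hU₀.1 h1.ge
  have h3 := hU₀.2.2
  rwa [h2, defM.sup_eq] at h3

theorem FTtypeJ (M : Subgroup G) (g : G) : FTtype (M :^ g) = FTtype M := by
  have h1 : IsPiGrp (kappa (M :^ g))ᶜ (M :^ g) ↔ IsPiGrp (kappa M)ᶜ M := by
    rw [kappaJ, piGrp_conjg]
  have h2 : sigmaCore (M :^ g) ≠ ⁅M :^ g, M :^ g⁆ ↔ sigmaCore M ≠ ⁅M, M⁆ := by
    rw [MsigmaJ, ← conjg_comm, Ne, conjg_inj]
  have h3 : sigmaCore (M :^ g) = fittingHallOf (M :^ g) ↔ sigmaCore M = fittingHallOf M := by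
    rw [MsigmaJ, FcoreJ, conjg_inj]
  have h4 : IsMulCommutative (sigmaCore (M :^ g) /ₛ fittingHallOf (M :^ g)) ↔
      IsMulCommutative (sigmaCore M /ₛ fittingHallOf M) := by
    rw [quot_abelian_iff ((Msigma_normal _).1.trans (Fcore_norm _)),
      quot_abelian_iff ((Msigma_normal _).1.trans (Fcore_norm _)), MsigmaJ, FcoreJ, ← conjg_comm,
      conjg_le_conjg]
  unfold FTtype
  classical
  exact if_congr h1 rfl (if_congr h2 rfl (if_congr h3 rfl (if_congr h4 rfl rfl)))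

theorem FTderJ (M : Subgroup G) (g : G) : FTder (M :^ g) = FTder M :^ g := by
  unfold FTder
  rw [FTtypeJ]
  split_ifs
  · rfl
  · rw [conjg_comm]

theorem conj_eq_one_iff {g a : G} : g * a * g⁻¹ = 1 ↔ a = 1 := by
  constructor
  · intro h
    by_contra h1
    exact conj_ne_one h1 h
  · rintro rfl; simp

theorem FTsupp1J (M : Subgroup G) (g a : G) : g * a * g⁻¹ ∈ FTsupp1 (M :^ g) ↔ a ∈ FTsupp1 M := by
  simp only [FTsupp1, sharp, Set.mem_setOf_eq, MsigmaJ, conj_mem_conjg_iff, Ne, conj_eq_one_iff]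

theorem FTsuppJ (M : Subgroup G) (g a : G) : g * a * g⁻¹ ∈ FTsupp (M :^ g) ↔ a ∈ FTsupp M := by
  simp only [FTsupp, Set.mem_setOf_eq, MsigmaJ, FTderJ, conj_mem_conjg_iff, Ne, conj_eq_one_iff]
  refine and_congr_right fun _ => and_congr_right fun _ => ⟨?_, ?_⟩
  · rintro ⟨x, hx, ntx, cx⟩
    obtain ⟨y, hy, rfl⟩ := mem_conjg'.1 hx
    rw [← conjg_cent1, conj_mem_conjg_iff] at cx
    exact ⟨y, hy, fun h => ntx (conj_eq_one_iff.2 h), cx⟩
  · rintro ⟨x, hx, ntx, cx⟩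
    refine ⟨g * x * g⁻¹, conj_mem_conjg g hx, conj_ne_one ntx, ?_⟩
    rw [← conjg_cent1, conj_mem_conjg_iff]; exact cx

theorem primesOf_conjg (M : Subgroup G) (g : G) : primesOf (M :^ g) = primesOf M := by
  simp only [primesOf, card_conjg]

theorem FTsupp0J (M : Subgroup G) (g a : G) : g * a * g⁻¹ ∈ FTsupp0 (M :^ g) ↔ a ∈ FTsupp0 M := by
  simp only [FTsupp0, Set.mem_union, FTsuppJ, Set.mem_setOf_eq, FTderJ, primesOf_conjg,
    conj_mem_conjg_iff, piElt_conj_iff]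

theorem FTtype_Fmax {M : Subgroup G} (maxM : IsCoatom M) : TypeF M ↔ FTtype M = 1 := by
  rw [FTtype_eq_one_iff]; exact ⟨fun h => h.2, fun h => ⟨maxM, h⟩⟩

theorem FTtype_Pmax {M : Subgroup G} (maxM : IsCoatom M) : TypeP M ↔ FTtype M ≠ 1 := by
  rw [Ne, FTtype_eq_one_iff]; exact ⟨fun h => h.2, fun h => ⟨maxM, h⟩⟩

theorem P1_iff_Msigma_der {M : Subgroup G} (PM : TypeP M) : TypeP1 M ↔ sigmaCore M = ⁅M, M⁆ := by
  have maxM := PM.1
  obtain ⟨K, hallK⟩ := ex_kappa_hall maxM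
  obtain ⟨U, complU⟩ := ex_kappa_compl maxM hallK
  obtain ⟨defM', -⟩ := (kappa_structure maxM complU).2.1 ((trivgPmax maxM hallK).2 PM)
  rw [← trivg_kappa_compl maxM complU]
  constructor
  · rintro rfl
    rw [← defM'.sup_eq, sup_bot_eq]
  · intro h
    rw [← defM'.inf_eq, eq_comm, inf_eq_right, h]
    exact defM'.right_le

theorem FTtype_P1max {M : Subgroup G} (maxM : IsCoatom M) : TypeP1 M ↔ 2 < FTtype M := by
  rw [FTtype_gt_two_iff]
  exact ⟨fun h => ⟨h.1.2, (P1_iff_Msigma_der h.1).1 h⟩,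
    fun h => (P1_iff_Msigma_der ⟨maxM, h.1⟩).2 h.2⟩

theorem FTtype_P2max {M : Subgroup G} (maxM : IsCoatom M) : TypeP2 M ↔ FTtype M = 2 := by
  rw [FTtype_eq_two_iff]
  constructor
  · intro h
    exact ⟨h.1.2, fun h1 => h.2 ((P1_iff_Msigma_der h.1).2 h1).2⟩
  · intro h
    exact ⟨⟨maxM, h.1⟩, fun h1 => h.2 ((P1_iff_Msigma_der ⟨maxM, h.1⟩).1 ⟨⟨maxM, h.1⟩, h1⟩)⟩

theorem mmax_Fcore_neq1 {M : Subgroup G} (maxM : IsCoatom M) : fittingHallOf M ≠ ⊥ :=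
  (Fcore_structure_a maxM).1

theorem norm_mmax_Fcore {M : Subgroup G} (maxM : IsCoatom M) : 𝒩(fittingHallOf M) = M :=
  mmax_normal maxM (Fcore_normal M) (mmax_Fcore_neq1 maxM)

theorem FTcore_sub_der1 {M : Subgroup G} (maxM : IsCoatom M) : sigmaCore M ≤ ⁅M, M⁆ := Msigma_der1 maxM

theorem FTcore_sub_FTder {M : Subgroup G} (maxM : IsCoatom M) : sigmaCore M ≤ FTder M := by
  by_cases h : FTtype M = 1
  · rw [FTder_type1 h]; exact (Msigma_normal M).1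
  · rw [FTder_typeP h]; exact Msigma_der1 maxM

theorem FTcore_type_le2 {M : Subgroup G} (maxM : IsCoatom M) (h : FTtype M ≤ 2) :
    sigmaCore M = fittingHallOf M := by
  refine ((Fcore_eq_Msigma maxM).2 (notP1type_Msigma_nil ((notP1type maxM).1 ?_))).symm
  rw [FTtype_P1max maxM]; omega

theorem FTcore_type_gt2 {M : Subgroup G} (_maxM : IsCoatom M) (h : 2 < FTtype M) :
    sigmaCore M = ⁅M, M⁆ := (FTtype_gt_two_iff.1 h).2

theorem Fcore_eq_FTcore {M : Subgroup G} (maxM : IsCoatom M) :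
    fittingHallOf M = sigmaCore M ↔ FTtype M = 1 ∨ FTtype M = 2 ∨ FTtype M = 5 := by
  have := FTtype_range M
  constructor
  · intro h
    by_cases h2 : 2 < FTtype M
    · exact Or.inr (Or.inr (FTtype_eq_five_iff.2 ⟨h2, h.symm⟩))
    · omega
  · rintro (h | h | h)
    · exact (FTcore_type_le2 maxM (by omega)).symm
    · exact (FTcore_type_le2 maxM (by omega)).symm
    · exact (FTtype_eq_five_iff.1 h).2.symm

theorem FTsupp1_sub {M : Subgroup G} (maxM : IsCoatom M) : FTsupp1 M ⊆ FTsupp M :=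
  fun a ha => ⟨FTcore_sub_FTder maxM ha.1, ha.2, a, ha.1, ha.2, mem_cent_singleton_self a⟩

theorem FTsupp1_sub0 {M : Subgroup G} (maxM : IsCoatom M) : FTsupp1 M ⊆ FTsupp0 M :=
  (FTsupp1_sub maxM).trans (FTsupp_sub0 M)

theorem Fcore_sub_FTsupp1 {M : Subgroup G} (maxM : IsCoatom M) : sharp (fittingHallOf M) ⊆ FTsupp1 M :=
  fun _ ha => ⟨Fcore_sub_Msigma maxM ha.1, ha.2⟩

theorem Fitting_sub_FTsupp {M : Subgroup G} (maxM : IsCoatom M) : sharp (fittingOf M) ⊆ FTsupp M := by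
  intro a ha
  have nsH : fittingHallOf M ⊲ fittingOf M :=
    (Fcore_normal M).of_le (Fcore_sub_Fitting M) (fitting_le M)
  obtain ⟨x, hx, ntx⟩ := exists_mem_ne_one (meet_center_nil (fitting_nil M) nsH (mmax_Fcore_neq1 maxM))
  refine ⟨?_, ha.2, x, Fcore_sub_Msigma maxM hx.1, ntx, mem_cent_iff_le_cent_singleton.1 hx.2.2 ha.1⟩
  by_cases h : FTtype M = 1
  · rw [FTder_type1 h]; exact fitting_le M ha.1
  · rw [FTder_typeP h]; exact (Fitting_structure maxM).2.2.2 ((FTtype_Pmax maxM).2 h) ha.1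

theorem FTsupp_eq1 {M : Subgroup G} (maxM : IsCoatom M) (h : 2 < FTtype M) : FTsupp M = FTsupp1 M := by
  refine Set.Subset.antisymm (fun a ha => ⟨?_, ha.2.1⟩) (FTsupp1_sub maxM)
  have h1 := ha.1
  rw [FTder_typeP (by omega), ← FTcore_type_gt2 maxM h] at h1
  exact h1

theorem FTsupp1_nonempty {M : Subgroup G} (maxM : IsCoatom M) : (FTsupp1 M).Nonempty := by
  obtain ⟨x, hx, ntx⟩ := exists_mem_ne_one (Msigma_neq1 maxM)
  exact ⟨x, hx, ntx⟩

/-! ### type `P` data -/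

theorem typeP_kappa_Hall {M W₁ U W₂ : Subgroup G} (maxM : IsCoatom M) (hP : IsTypePWith M W₁ U W₂) :
    TypeP M ∧ IsPiHallOf (kappa M) W₁ M := by
  have defM := typeP_sdprod_M hP
  have kW₁ : IsPiGrp (kappa M) W₁ := by
    intro p hp hd
    have hallW : IsHallOf W₁ M := ⟨defM.right_le, hP.W₁_hall⟩
    rw [mem_kappa_iff]
    refine ⟨Or.inl (mem_tau1_iff.2 ⟨hp, ?_, ?_, ?_⟩), ?_⟩
    · refine der1_quo_sigma' maxM hp ?_
      rwa [defM.complIn.relIndex_left]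
    · rw [← p_rank_Hall hp hallW.pHall ⟨hp, hd⟩]
      have h1 := pRank_le_one_of_cyclic hp hP.W₁_cyclic
      have h2 := (pRank_pos_iff hp).2 hd
      omega
    · intro h
      exact hp.one_lt.ne' (Nat.eq_one_of_dvd_coprimes (typeP_coprime_derW1 hP) h hd)
    · obtain ⟨P, hPe⟩ := p1Elem_exists hp hd
      refine ⟨P, hPe.mono defM.right_le, ne_bot_mono ?_ (typeP_W2_ne_bot hP)⟩
      rw [← typeP_cent_core_compl hP]
      exact inf_le_inf (Fcore_sub_Msigma maxM) (cent_anti hPe.le)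
  have PM : TypeP M := by
    obtain ⟨p, hp, hd⟩ := exists_prime_dvd_card hP.W₁_ne
    exact typeP_iff_kappa.2 ⟨maxM, p, kW₁ p hp hd⟩
  obtain ⟨K, hallK, sWK⟩ := Hall_superset (mmax_sol maxM) defM.right_le kW₁
  obtain ⟨-, -, -, -, -, -, -, -, -, -, defK⟩ := Ptype_embedding PM hallK
  have : W₁ = K := Subgroup.eq_of_le_of_card_ge sWK (by
    rw [← defK.complIn.relIndex_left, defM.complIn.relIndex_left])
  exact ⟨PM, this ▸ hallK⟩

theorem typeP_Msigma_cent {M W₁ U W₂ : Subgroup G} (maxM : IsCoatom M) (hP : IsTypePWith M W₁ U W₂) :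
    sigmaCore M ⊓ 𝒞(W₁) = W₂ := by
  apply le_antisymm
  · rw [← typeP_cent_compl hP]; exact inf_le_inf_right _ (Msigma_der1 maxM)
  · conv_lhs => rw [← typeP_cent_core_compl hP]
    exact inf_le_inf_right _ (Fcore_sub_Msigma maxM)

theorem typeP_kappaCompl {M W₁ U W₂ : Subgroup G} (maxM : IsCoatom M) (hP : IsTypePWith M W₁ U W₂)
    (hF : sigmaCore M = fittingHallOf M) : KappaCompl M U W₁ := by
  obtain ⟨PM, hallK⟩ := typeP_kappa_Hall maxM hP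
  obtain ⟨V, complV⟩ := ex_kappa_compl maxM hallK
  obtain ⟨defM', -⟩ := (kappa_structure maxM complV).2.1 hP.W₁_ne
  refine ⟨hallK, complV.hallU.of_card_eq (hP.U_compl.right_le.trans (der_le M)) ?_, fun x hx => ?_⟩
  · rw [← hP.U_compl.relIndex_left, ← defM'.complIn.relIndex_left, hF]
  · obtain ⟨a, ha, b, hb, rfl⟩ := (mem_sup_of_right_le_norm hP.U_normal).1 hx
    exact ⟨a, ha, b, hb, rfl⟩

theorem typePfacts {M W₁ U W₂ : Subgroup G} (maxM : IsCoatom M) (hP : IsTypePWith M W₁ U W₂) :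
    TypeP M ∧ IsPiHallOf (kappa M) W₁ M ∧ sigmaCore M ⊓ 𝒞(W₁) = W₂ ∧
    (TypeP1 M ↔ U = ⊥ ∨ 𝒩(U) ≤ M) := by
  obtain ⟨PM, hallK⟩ := typeP_kappa_Hall maxM hP
  refine ⟨PM, hallK, typeP_Msigma_cent maxM hP, fun P1M => ?_, fun h => ?_⟩
  · refine or_iff_not_imp_left.2 fun ntU => ?_
    obtain ⟨p, hp, hd⟩ := exists_prime_dvd_card ntU
    have defMs := (P1_iff_Msigma_der PM).1 P1M
    have sUM' := hP.U_compl.right_le
    have sp : p ∈ sigma M := Msigma_pgroup M p hp (hd.trans (card_dvd_of_le (defMs ▸ sUM')))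
    have sylP : IsSylowOf p (pCoreOf p U) U := nilpotent_pcore_Hall {p} hP.U_nilpotent
    have hallU : IsHallOf U ⁅M, M⁆ := (typeP_U_Hall hP).isHallOf
    have sylP' := (sylP.trans_isHall hallU hp hd).trans_isHall (typeP_der_Hall hP) hp
      (hd.trans (card_dvd_of_le sUM'))
    exact (charIn_pcore {p} U).norm_le.trans (norm_sigma_Sylow sp sylP')
  · by_contra nP1
    have P2M : TypeP2 M := ⟨PM, fun h => nP1 ⟨PM, h⟩⟩
    have hF := FTcore_type_le2 maxM ((FTtype_P2max maxM).1 P2M).le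
    have complU := typeP_kappaCompl maxM hP hF
    have ntU : U ≠ ⊥ := fun h => nP1 ((trivg_kappa_compl maxM complU).1 h)
    obtain ⟨Ms, maxMs, sCMs⟩ := mmax_exists (mFT_cent_proper hP.W₁_ne)
    obtain ⟨r, hr, hd⟩ := exists_prime_dvd_card ntU
    obtain ⟨R, sylR⟩ := sylow_exists hr U
    obtain ⟨H, maxH, sNH⟩ := mmax_exists (mFT_norm_proper (sylR.ne_bot' hr hd)
      (mFT_nil_proper sylR.pGrp.nil))
    obtain ⟨-, -, -, nsN, -⟩ := P2type_signalizer hr P2M complU maxMs sCMs sylR maxH sNH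
    exact nsN (inf_le_right.trans (h.resolve_left ntU))

theorem typeP_data {M K : Subgroup G} (PM : TypeP M) (hallK : IsPiHallOf (kappa M) K M) :
    ∃ U, IsTypePWith M K U (sigmaCore M ⊓ 𝒞(K)) := by
  have maxM := PM.1
  obtain ⟨Ms, -, -, -, -, -, ⟨cycZ, -, cK, -⟩, ⟨tiZ, -⟩, -, -, defM⟩ := Ptype_embedding PM hallK
  obtain ⟨-, ⟨sM''F, defF, -⟩, ⟨sHM', nilq⟩, sFM'⟩ := Fitting_structure maxM
  obtain ⟨ntKs, -, sKsM'', sKsH, ncH⟩ := Ptype_cyclics PM hallK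
  have ntK := (trivgPmax maxM hallK).2 PM
  have coM'K : (Nat.card ↥⁅M, M⁆).Coprime (Nat.card K) := by
    rw [← defM.complIn.relIndex_right]; exact hallK.coprime.symm
  obtain ⟨U, hallU, nUK⟩ := coprime_Hall_exists (primesOf (fittingHallOf M))ᶜ defM.norm coM'K
    (sol_of_le (mmax_sol maxM) (der_le M))
  have hallH := (Fcore_Hall M).pHall.of_le sHM' (der_le M)
  have defM' : SDProd (fittingHallOf M) U ⁅M, M⁆ :=
    hallH.sdprod ((der_le M).trans (Fcore_norm M)) hallU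
  have sKsM' : sigmaCore M ⊓ 𝒞(K) ≤ ⁅M, M⁆ := sKsH.trans sHM'
  have tiK : K ⊓ (sigmaCore M ⊓ 𝒞(K)) = ⊥ := by
    rw [← le_bot_iff, ← defM.inf_eq, inf_comm]
    exact inf_le_inf_right _ sKsM'
  refine ⟨U, ntK, P15.kappa_cyclic maxM hallK, hallK.coprime, defM.complIn, ?_, nUK, defM'.complIn, ncH,
    defF ▸ sM''F, defF, sFM' PM, le_inf sKsH sKsM'', fun x hx ntx => ?_,
    snc_of_normedTI ntK ntKs tiK cycZ tiZ⟩
  · obtain ⟨e⟩ := defM'.quot_equiv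
    exact Group.nilpotent_of_mulEquiv e.symm
  · have h1 : ⁅M, M⁆ ⊓ 𝒞[x] = ⁅M, M⁆ ⊓ (M ⊓ 𝒞[x]) := by rw [← inf_assoc, inf_eq_left.2 (der_le M)]
    rw [h1, cK x hx ntx, inf_sup_of_right_le (Or.inr (norm_of_cent inf_le_right)) sKsM', defM.inf_eq,
      bot_sup_eq]

theorem FTtypeP_witness {M : Subgroup G} (maxM : IsCoatom M) (h : FTtype M ≠ 1) :
    ∃ W₁ U W₂, IsTypePWith M W₁ U W₂ := by
  obtain ⟨K, hallK⟩ := ex_kappa_hall maxM
  obtain ⟨U, hU⟩ := typeP_data ((FTtype_Pmax maxM).2 h) hallK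
  exact ⟨K, U, _, hU⟩

theorem FTtypeP_neq1 {M W₁ U W₂ : Subgroup G} (maxM : IsCoatom M) (hP : IsTypePWith M W₁ U W₂) :
    FTtype M ≠ 1 := (FTtype_Pmax maxM).1 (typePfacts maxM hP).1

theorem compl_of_typeII_IV {M W₁ U W₂ : Subgroup G} (maxM : IsCoatom M) (hP : IsTypePWith M W₁ U W₂)
    (h : FTtype M ≠ 5) : OfTypeII_IV M W₁ U W₂ := by
  obtain ⟨PM, hallK, -, hP1⟩ := typePfacts maxM hP
  have n5 : TypeP1 M → fittingHallOf M ≠ sigmaCore M := fun P1M e =>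
    h (FTtype_eq_five_iff.2 ⟨(FTtype_P1max maxM).1 P1M, e.symm⟩)
  refine ⟨hP, fun U1 => ?_, ?_, normedTI_sharp_of (fitting_norm M) (mmax_Fitting_neq1 maxM) fun g hg => ?_⟩
  · have P1M := hP1.2 (Or.inl U1)
    refine n5 P1M ?_
    rw [(P1_iff_Msigma_der PM).1 P1M, ← hP.U_compl.sup_eq, U1, sup_bot_eq]
  · by_cases P1M : TypeP1 M
    · exact (Fcore_structure maxM hallK (n5 P1M) rfl).2.1.1
    · exact ((Ptype_structure PM hallK).2.2.2.2.2.2 ⟨PM, fun h => P1M ⟨PM, h⟩⟩).2.1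
  · by_contra ntX
    obtain ⟨⟨h1, h2⟩, -⟩ := nonTI_Fitting_structure maxM hg ntX
    exact n5 (h1.resolve_left fun FM => PM.2 FM.2) h2

theorem compl_of_typeII {M W₁ U W₂ : Subgroup G} (maxM : IsCoatom M) (hP : IsTypePWith M W₁ U W₂)
    (h : FTtype M = 2) : OfTypeII M W₁ U W₂ := by
  have h24 := compl_of_typeII_IV maxM hP (by omega)
  obtain ⟨PM, hallK, -, hP1⟩ := typePfacts maxM hP
  have hF := FTcore_type_le2 maxM h.le
  have complU := typeP_kappaCompl maxM hP hF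
  obtain ⟨-, hb, -, -, he⟩ := kappa_structure maxM complU
  have cUU := (hb hP.W₁_ne).2
  have defF : fittingHallOf ⁅M, M⁆ = fittingHallOf M :=
    le_antisymm (Fcore_le_of_normal_Hall (typeP_der_Hall hP) (der_normalIn M).2)
      (Fcore_le_of_le hP.U_compl.left_le (der_le M))
  refine ⟨h24, cUU, fun sN => ?_, ?_, defF⟩
  · have := (FTtype_P1max maxM).1 (hP1.2 (Or.inr sN)); omega
  · obtain ⟨U₀, h1, h2, h3⟩ := he h24.2.1
    refine ⟨?_, ⟨U, normalIn_refl U, cUU, fun _ _ _ => inf_le_left⟩, U₀, h1, h2, ?_⟩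
    · rw [defF]; exact ⟨mmax_Fcore_neq1 maxM, h24.2.1, typeP_sdprod_der hP⟩
    · rw [defF, ← hF]; exact h3

theorem typeIII_IV_aux {M W₁ U W₂ : Subgroup G} (maxM : IsCoatom M) (hP : IsTypePWith M W₁ U W₂)
    (h2 : 2 < FTtype M) (h5 : FTtype M ≠ 5) : 𝒩(U) ≤ M ∧ (FTtype M = 3 ↔ IsMulCommutative U) := by
  have h24 := compl_of_typeII_IV maxM hP h5
  refine ⟨((typePfacts maxM hP).2.2.2.1 ((FTtype_P1max maxM).2 h2)).resolve_left h24.2.1, ?_⟩
  obtain ⟨e⟩ := (typeP_sdprod_der hP).quot_equiv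
  rw [FTtype_eq_three_iff h2 h5, FTcore_type_gt2 maxM h2, abelian_congr e]

theorem compl_of_typeIII {M W₁ U W₂ : Subgroup G} (maxM : IsCoatom M) (hP : IsTypePWith M W₁ U W₂)
    (h : FTtype M = 3) : OfTypeIII M W₁ U W₂ := by
  obtain ⟨h1, h2⟩ := typeIII_IV_aux maxM hP (by omega) (by omega)
  exact ⟨compl_of_typeII_IV maxM hP (by omega), h2.1 h, h1⟩

theorem compl_of_typeIV {M W₁ U W₂ : Subgroup G} (maxM : IsCoatom M) (hP : IsTypePWith M W₁ U W₂)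
    (h : FTtype M = 4) : OfTypeIV M W₁ U W₂ := by
  obtain ⟨h1, h2⟩ := typeIII_IV_aux maxM hP (by omega) (by omega)
  exact ⟨compl_of_typeII_IV maxM hP (by omega), fun h3 => by have := h2.2 h3; omega, h1⟩

theorem nonTI_Fcore {M : Subgroup G} (maxM : IsCoatom M)
    (h : ¬ NormedTI (sharp (fittingHallOf M)) ⊤ M) :
    ∃ g, g ∉ M ∧ fittingOf M ⊓ fittingOf M :^ g ≠ ⊥ := by
  by_contra h1
  push Not at h1
  refine h (normedTI_sharp_of (Fcore_norm M) (mmax_Fcore_neq1 maxM) fun g hg => ?_)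
  rw [← le_bot_iff, ← h1 g hg]
  exact inf_le_inf (Fcore_sub_Fitting M) (conjg_mono g (Fcore_sub_Fitting M))

theorem compl_of_typeV {M W₁ U W₂ : Subgroup G} (maxM : IsCoatom M) (hP : IsTypePWith M W₁ U W₂)
    (h : FTtype M = 5) : OfTypeV M W₁ U W₂ := by
  obtain ⟨h2, hF⟩ := FTtype_eq_five_iff.1 h
  have defH : fittingHallOf M = ⁅M, M⁆ := hF.symm.trans (FTcore_type_gt2 maxM h2)
  have defM := typeP_sdprod_M hP
  rw [← defH] at defM
  refine ⟨hP, ?_, or_iff_not_imp_left.2 fun nTI => ?_⟩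
  · rw [← hP.U_compl.inf_eq, eq_comm, inf_eq_right, defH]; exact hP.U_compl.right_le
  obtain ⟨g, hg, ntX⟩ := nonTI_Fcore maxM nTI
  obtain ⟨-, ⟨sXH, -⟩, -, -, ⟨FM, -⟩ | ⟨p, oX, hp, -, -, -, cyc, he⟩⟩ :=
    nonTI_Fitting_structure maxM hg ntX
  · have := (FTtype_Fmax maxM).1 FM; omega
  have piHp : p ∈ primesOf (fittingHallOf M) := ⟨hp, oX ▸ card_dvd_of_le sXH⟩
  refine ⟨p, piHp, cyc, ?_⟩
  rcases he with he | ⟨h3, -, h4⟩
  · left
    obtain ⟨e⟩ := defM.quot_equiv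
    haveI := hP.W₁_cyclic
    rw [← IsCyclic.exponent_eq_card, Monoid.exponent_eq_of_mulEquiv e]
    exact he p piHp
  · right
    rw [defM.complIn.relIndex_left] at h4
    exact ⟨h3, h4⟩

theorem FTtype1_of_typeF {M U : Subgroup G} (maxM : IsCoatom M) (h : OfTypeF M U) : FTtype M = 1 := by
  by_contra h1
  obtain ⟨W₁, V, W₂, hP⟩ := FTtypeP_witness maxM h1
  exact typePF_exclusion hP U h

theorem typeI_of_type1 {M : Subgroup G} (maxM : IsCoatom M) (h : FTtype M = 1) : ∃ U, OfTypeI M U := by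
  have FM := (FTtype_Fmax maxM).2 h
  have hF := FTcore_type_le2 maxM (by omega)
  have hallK : IsPiHallOf (kappa M) ⊥ M := pHall_bot FM.2
  obtain ⟨U, complU⟩ := ex_kappa_compl maxM hallK
  obtain ⟨⟨defMsU, defM, -⟩, -, -, cU₁, he⟩ := kappa_structure maxM complU
  have nP1 : ¬ TypeP1 M := fun P1M => P1M.1.2 FM.2
  have ntU : U ≠ ⊥ := fun h => nP1 ((trivg_kappa_compl maxM complU).1 h)
  have h1 := defM.sup_eq
  rw [sup_bot_eq] at h1
  rw [h1, hF] at defMsU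
  obtain ⟨U₀, sU₀, eU₀, frob⟩ := he ntU
  rw [hF] at frob
  refine ⟨U, ⟨⟨mmax_Fcore_neq1 maxM, ntU, defMsU⟩, ⟨_, ⟨?_, norm_closure ?_⟩, cU₁, ?_⟩, U₀, sU₀, eU₀, frob⟩,
    or_iff_not_imp_left.2 fun nTI => ?_⟩
  · exact (closure_le _).2 fun u hu => hu.1
  · rintro a ha u ⟨hu, x, hx, ntx, cx⟩
    refine ⟨U.mul_mem (U.mul_mem ha hu) (U.inv_mem ha), a * x * a⁻¹,
      conj_mem_of_le_norm (Msigma_normal M).2 (defMsU.right_le ha) hx, conj_ne_one ntx, ?_⟩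
    rw [← conjg_cent1]; exact conj_mem_conjg a cx
  · intro x hx ntx u hu
    exact subset_closure ⟨hu.1, x, hF ▸ hx, ntx, hu.2⟩
  · obtain ⟨g, hg, ntX⟩ := nonTI_Fcore maxM nTI
    obtain ⟨-, ⟨sXH, -⟩, -, -, ⟨-, h2⟩ | ⟨p, oX, hp, -, -, -, cyc, he⟩⟩ :=
      nonTI_Fitting_structure maxM hg ntX
    · exact Or.inl h2
    have piHp : p ∈ primesOf (fittingHallOf M) := ⟨hp, oX ▸ card_dvd_of_le sXH⟩
    refine Or.inr ⟨?_, p, piHp, cyc⟩
    obtain ⟨e⟩ := defMsU.quot_equiv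
    rw [Monoid.exponent_eq_of_mulEquiv e]
    exact he.resolve_right fun h => nP1 h.2.1

theorem FTtype1P {M : Subgroup G} (maxM : IsCoatom M) : FTtype M = 1 ↔ ∃ U, OfTypeI M U :=
  ⟨typeI_of_type1 maxM, fun ⟨_, h⟩ => FTtype1_of_typeF maxM h.1⟩

theorem FTtype1_iff_typeF {M : Subgroup G} (maxM : IsCoatom M) : FTtype M = 1 ↔ ∃ U, OfTypeF M U :=
  ⟨fun h => (typeI_of_type1 maxM h).imp fun _ h => h.1, fun ⟨_, h⟩ => FTtype1_of_typeF maxM h⟩

theorem FTtype2P {M : Subgroup G} (maxM : IsCoatom M) :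
    FTtype M = 2 ↔ ∃ W₁ U W₂, OfTypeII M W₁ U W₂ := by
  constructor
  · intro h
    obtain ⟨W₁, U, W₂, hP⟩ := FTtypeP_witness maxM (by omega)
    exact ⟨W₁, U, W₂, compl_of_typeII maxM hP h⟩
  · rintro ⟨W₁, U, W₂, ⟨hP, ntU, -⟩, -, nsN, -⟩
    obtain ⟨PM, -, -, hP1⟩ := typePfacts maxM hP
    exact (FTtype_P2max maxM).1 ⟨PM, fun h => (hP1.1 ⟨PM, h⟩).elim ntU nsN⟩

theorem FTtype5P {M : Subgroup G} (maxM : IsCoatom M) :
    FTtype M = 5 ↔ ∃ W₁ U W₂, OfTypeV M W₁ U W₂ := by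
  constructor
  · intro h
    obtain ⟨W₁, U, W₂, hP⟩ := FTtypeP_witness maxM (by omega)
    exact ⟨W₁, U, W₂, compl_of_typeV maxM hP h⟩
  · rintro ⟨W₁, U, W₂, hP, U1, -⟩
    by_contra h
    exact (compl_of_typeII_IV maxM hP h).2.1 U1

theorem FTtype3P {M : Subgroup G} (maxM : IsCoatom M) :
    FTtype M = 3 ↔ ∃ W₁ U W₂, OfTypeIII M W₁ U W₂ := by
  constructor
  · intro h
    obtain ⟨W₁, U, W₂, hP⟩ := FTtypeP_witness maxM (by omega)
    exact ⟨W₁, U, W₂, compl_of_typeIII maxM hP h⟩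
  · rintro ⟨W₁, U, W₂, ⟨hP, ntU, -⟩, cUU, sN⟩
    have h2 := (FTtype_P1max maxM).1 ((typePfacts maxM hP).2.2.2.2 (Or.inr sN))
    exact (typeIII_IV_aux maxM hP h2 fun h => ntU (compl_of_typeV maxM hP h).2.1).2.2 cUU

theorem FTtype4P {M : Subgroup G} (maxM : IsCoatom M) :
    FTtype M = 4 ↔ ∃ W₁ U W₂, OfTypeIV M W₁ U W₂ := by
  constructor
  · intro h
    obtain ⟨W₁, U, W₂, hP⟩ := FTtypeP_witness maxM (by omega)
    exact ⟨W₁, U, W₂, compl_of_typeIV maxM hP h⟩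
  · rintro ⟨W₁, U, W₂, ⟨hP, ntU, -⟩, ncUU, sN⟩
    have h2 := (FTtype_P1max maxM).1 ((typePfacts maxM hP).2.2.2.2 (Or.inr sN))
    have h5 : FTtype M ≠ 5 := fun h => ntU (compl_of_typeV maxM hP h).2.1
    have h3 : FTtype M ≠ 3 := fun h => ncUU ((typeIII_IV_aux maxM hP h2 h5).2.1 h)
    have := FTtype_range M
    omega

theorem FTsupp_Frobenius {M U : Subgroup G} (maxM : IsCoatom M) (h : IsFrob M (fittingHallOf M) U) :
    FTtype M = 1 ∧ FTsupp M = sharp (fittingHallOf M) := by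
  have h1 := FTtype1_of_typeF maxM (Frobenius_of_typeF h)
  refine ⟨h1, Set.Subset.antisymm ?_ ((Fcore_sub_FTsupp1 maxM).trans (FTsupp1_sub maxM))⟩
  rintro a ⟨ha, nta, x, hx, ntx, cx⟩
  rw [FTder_type1 h1] at ha
  rw [FTcore_type_le2 maxM (by omega)] at hx
  exact ⟨Frobenius_cent1_ker h hx ntx ⟨ha, cx⟩, nta⟩

/-! ### pairs of type `P` -/

theorem pair_of_embedding {M K : Subgroup G} (PM : TypeP M) (hallK : IsPiHallOf (kappa M) K M) :
    ∃ T, TypePPair M T K (sigmaCore M ⊓ 𝒞(K)) ∧ (∀ g, T ≠ M :^ g) ∧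
      ∀ X : Subgroup G, X ≤ K → (Nat.card X).Prime → UniqMax 𝒞(X) T := by
  obtain ⟨T, PT, notj, uT, ⟨hallKs, -⟩, -, ⟨-, defZ, -⟩, -, h2, hconj, defM⟩ := Ptype_embedding PM hallK
  obtain ⟨-, -, -, -, -, -, -, -, -, -, defT⟩ := Ptype_embedding PT hallKs
  obtain ⟨U, hP⟩ := typeP_data PM hallK
  refine ⟨T, ⟨hP.selfNormalizing, PM.1, PT.1, defM, defT, defZ, ?_, (FTtype_Pmax PM.1).1 PM,
    (FTtype_Pmax PT.1).1 PT, fun H maxH hH => hconj H ((FTtype_Pmax maxH).2 hH)⟩, notj, uT⟩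
  exact h2.imp (fun h => (FTtype_P2max PM.1).1 h.1) (fun h => (FTtype_P2max PT.1).1 h.1)

theorem FTtypeP_pair_cases (G : Type u) [Group G] [MinSimpleOdd G] :
    (∀ M : Subgroup G, IsCoatom M → FTtype M = 1) ∨ ∃ S T W₁ W₂ : Subgroup G, TypePPair S T W₁ W₂ := by
  refine or_iff_not_imp_left.2 fun h => ?_
  push Not at h
  obtain ⟨M, maxM, hM⟩ := h
  obtain ⟨K, hallK⟩ := ex_kappa_hall maxM
  obtain ⟨T, h, -⟩ := pair_of_embedding ((FTtype_Pmax maxM).2 hM) hallK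
  exact ⟨M, T, _, _, h⟩

theorem typeP_pairW {S T W₁ W₂ : Subgroup G} (h : TypePPair S T W₁ W₂) : ∃ U, IsTypePWith S W₁ U W₂ := by
  obtain ⟨V₁, U, V₂, hP⟩ := FTtypeP_witness h.maxS h.S_ne_one
  obtain ⟨x, hx, e⟩ := of_typeP_compl_conj hP h.defS
  have hP' := conj_of_typeP hP x
  rw [conjg_of_mem hx, ← e] at hP'
  have sW₂ : W₂ ≤ S := le_sup_right.trans (h.inf_eq.ge.trans inf_le_left)
  rw [typeP_W2_eq h.cycTI sW₂ hP'] at hP'
  exact ⟨_, hP'⟩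

theorem typeP_pair_notJ {S T W₁ W₂ : Subgroup G} (h : TypePPair S T W₁ W₂) (g : G) : T ≠ S :^ g := by
  rintro rfl
  obtain ⟨K, hallK⟩ := ex_kappa_hall h.maxS
  obtain ⟨T, hT, notj, -⟩ := pair_of_embedding ((FTtype_Pmax h.maxS).2 h.S_ne_one) hallK
  obtain ⟨a, e | e⟩ := h.conj T hT.maxT hT.T_ne_one
  · exact notj a e
  · exact notj (a * g) (by rw [conjg_mul]; exact e)

theorem FTtypeP_pair_witness {M W₁ U W₂ : Subgroup G} (maxM : IsCoatom M) (hP : IsTypePWith M W₁ U W₂) :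
    ∃ T, TypePPair M T W₁ W₂ ∧ ∃ V, IsTypePWith T W₂ V W₁ := by
  obtain ⟨PM, hallK, defKs, -⟩ := typePfacts maxM hP
  obtain ⟨T, h, -⟩ := pair_of_embedding PM hallK
  rw [defKs] at h
  exact ⟨T, h, typeP_pairW (typeP_pair_sym h)⟩

theorem of_typeP_pair {M T W₁ U V W₂ : Subgroup G} (maxM : IsCoatom M) (hP : IsTypePWith M W₁ U W₂)
    (maxT : IsCoatom T) (hT : IsTypePWith T W₂ V W₁) : TypePPair M T W₁ W₂ := by
  obtain ⟨PM, hallK, defKs, -⟩ := typePfacts maxM hP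
  obtain ⟨T', h, -, uT'⟩ := pair_of_embedding PM hallK
  rw [defKs] at h
  obtain ⟨PT, hallW₂, defW₁, -⟩ := typePfacts maxT hT
  obtain ⟨p, hp, hd⟩ := exists_prime_dvd_card hP.W₁_ne
  obtain ⟨X, sX, oX⟩ := exists_le_card_eq_prime hp hd
  have uT := (Ptype_structure PT hallW₂).2.2.1.2 X (defW₁ ▸ sX) (oX ▸ hp)
  rwa [eq_uniq_mmax (uT' X sX (oX ▸ hp)) maxT uT.2.1]

theorem FTcore_facts {M : Subgroup G} (maxM : IsCoatom M) :
    IsHallOf (fittingHallOf M) ⊤ ∧ IsHallOf (sigmaCore M) ⊤ ∧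
    ∀ (p : ℕ) (S : Subgroup G), p.Prime → IsSylowOf p S (sigmaCore M) → S ≠ ⊥ → 𝒩(S) ≤ M := by
  have sH := Fcore_sub_Msigma maxM
  refine ⟨(((Fcore_Hall M).pHall.of_le sH (Msigma_normal M).1).trans (Msigma_Hall_G maxM) ?_).isHallOf,
    (Msigma_Hall_G maxM).isHallOf, fun p S hp sylS ntS => ?_⟩
  · exact piGrp_iff_primesOf_subset.1 ((Msigma_pgroup M).of_le sH)
  · have sp : p ∈ sigma M := sylS.pGrp.mem_of_piGrp ntS ((Msigma_pgroup M).of_le sylS.le)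
    exact norm_sigma_Sylow sp (sylS.trans_hall (Msigma_Hall maxM) sp)

end CA.BG.P16
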