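/-
B & G section 16, part c: the supports `A₁(M), A(M), A₀(M)` and the Dade hypothesis.
-/
import Cfsg.Agent.BG.P16b

set_option autoImplicit false
set_option linter.unusedSectionVars false

namespace CA.BG.P16

open Cfsg CA.FG Subgroup

universe u

variable {G : Type u} [Group G] [MinSimpleOdd G]

theorem FTder_eq_sup {M U K : Subgroup G} (maxM : IsCoatom M) (complU : KappaCompl M U K) :
    FTder M = sigmaCore M ⊔ U := by
  obtain ⟨⟨-, defM, -⟩, hb, -⟩ := kappa_structure maxM complU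
  by_cases h : FTtype M = 1
  · have K1 := (trivg_kappa maxM complU.hallK).2 ((FTtype_Fmax maxM).2 h)
    rw [FTder_type1 h, ← defM.sup_eq, K1, sup_bot_eq]
    conv_lhs => rw [← defM.sup_eq, K1, sup_bot_eq]
  · rw [FTder_typeP h, (hb ((trivgPmax maxM complU.hallK).2 ((FTtype_Pmax maxM).2 h))).1.sup_eq]

theorem FTder_Hall {M : Subgroup G} (maxM : IsCoatom M) : IsPiHallOf (kappa M)ᶜ (FTder M) M := by
  obtain ⟨K, hallK⟩ := ex_kappa_hall maxM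
  obtain ⟨U, complU⟩ := ex_kappa_compl maxM hallK
  rw [FTder_eq_sup maxM complU]
  exact (kappa_structure maxM complU).1.2.1.complIn.symm.pHall_compl hallK

theorem mem_FTder_iff {M : Subgroup G} (maxM : IsCoatom M) {x : G} (hx : x ∈ M) :
    x ∈ FTder M ↔ IsPiElt (kappa M)ᶜ x :=
  ⟨fun h => (FTder_Hall maxM).piGrp.piElt h,
    fun h => (FTder_Hall maxM).mem_of_normal (FTder_normal M).2 h hx⟩

theorem mem_Msigma_iff {M : Subgroup G} (maxM : IsCoatom M) {x : G} (hx : x ∈ M) :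
    x ∈ sigmaCore M ↔ IsPiElt (sigma M) x :=
  ⟨fun h => (Msigma_pgroup M).piElt h,
    fun h => (Msigma_Hall maxM).mem_of_normal (Msigma_normal M).2 h hx⟩

theorem mem_FTsupp0_iff {M : Subgroup G} (maxM : IsCoatom M) {x : G} :
    x ∈ FTsupp0 M ↔ x ∈ FTsupp M ∨ (x ∈ M ∧ ¬ IsPiElt (kappa M)ᶜ x ∧ ¬ IsPiElt (kappa M) x) := by
  refine or_congr_right (and_congr_right fun hx => ?_)
  have hall := FTder_Hall maxM
  have key : ∀ p : ℕ, p.Prime → p ∣ orderOf x → (p ∈ primesOf (FTder M) ↔ p ∉ kappa M) := by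
    intro p hp hd
    refine ⟨fun h => hall.piGrp p hp h.2, fun h => ⟨hp, (hall.dvd_card_iff hp h).2 ?_⟩⟩
    exact hd.trans (orderOf_dvd_card_of_mem hx)
  refine and_congr (not_congr ⟨fun h p hp hd => (key p hp hd).1 (h p hp hd),
    fun h p hp hd => (key p hp hd).2 (h p hp hd)⟩) (not_congr ⟨fun h p hp hd => ?_, fun h p hp hd => ?_⟩)
  · by_contra h1
    exact h p hp hd ((key p hp hd).2 h1)
  · exact fun h1 => (key p hp hd).1 h1 (h p hp hd)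

theorem FTsupp_kappa' {M : Subgroup G} (maxM : IsCoatom M) {x : G} (h : x ∈ FTsupp M) :
    IsPiElt (kappa M)ᶜ x := (FTder_Hall maxM).piGrp.piElt h.1

theorem FTsupp0_typeP {M W₁ U W₂ : Subgroup G} (maxM : IsCoatom M) (hP : IsTypePWith M W₁ U W₂) :
    FTsupp0 M \ FTsupp M = classSupport (zHat W₁ W₂) M := by
  obtain ⟨PM, hallK, -, -⟩ := typePfacts maxM hP
  have t1 := FTtypeP_neq1 maxM hP
  have defM := typeP_sdprod_M hP
  have sW₂ : W₂ ≤ ⁅M, M⁆ := typeP_cent_compl hP ▸ inf_le_left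
  have memD : ∀ x ∈ M, x ∈ ⁅M, M⁆ ↔ IsPiElt (kappa M)ᶜ x := fun x hx => by
    rw [← mem_FTder_iff maxM hx, FTder_typeP t1]
  ext x
  constructor
  · rintro ⟨h0, h1⟩
    obtain ⟨hx, nk', nk⟩ := ((mem_FTsupp0_iff maxM).1 h0).resolve_left h1
    obtain ⟨y, z, hy, hz, ky, k'z, e, c⟩ := exists_piPart (kappa M) x
    have My : y ∈ M := zpowers_le.2 hx hy
    have Mz : z ∈ M := zpowers_le.2 hx hz
    have nty : y ≠ 1 := by rintro rfl; rw [one_mul] at e; exact nk' (e ▸ k'z)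
    have ntz : z ≠ 1 := by rintro rfl; rw [mul_one] at e; exact nk (e ▸ ky)
    obtain ⟨m, hm, sy⟩ := Hall_Jsub (mmax_sol maxM) hallK (zpowers_le.2 My) (piGrp_zpowers_iff.2 ky)
    have h2 : m * y * m⁻¹ ∈ W₁ := sy (conj_mem_conjg m (mem_zpowers y))
    have h3 : m * z * m⁻¹ ∈ W₂ := by
      rw [← hP.W₂_centralizer _ h2 (conj_ne_one nty)]
      refine ⟨(memD _ (M.mul_mem (M.mul_mem hm Mz) (M.inv_mem hm))).2 (k'z.conj m), ?_⟩
      rw [← conjg_cent1]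
      exact conj_mem_conjg m (mem_centralizer_singleton_iff.2 c.symm)
    refine ⟨_, snc_mul_mem hP.selfNormalizing.2.2.1 h2 h3 (conj_ne_one nty) (conj_ne_one ntz), m⁻¹,
      M.inv_mem hm, ?_⟩
    rw [e]; group
  · rintro ⟨w, hw, m, hm, rfl⟩
    have dW := snc_dprod hP.selfNormalizing
    obtain ⟨a, ha, b, hb, rfl⟩ := (mem_sup_of_right_le_norm (norm_of_cent dW.cent)).1 hw.1
    have Mab : a * b ∈ M := M.mul_mem (defM.right_le ha) (der_le M (sW₂ hb))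
    have nk' : ¬ IsPiElt (kappa M)ᶜ (a * b) := fun h => by
      have h1 : a ∈ ⁅M, M⁆ := by
        have := mul_mem ((memD _ Mab).2 h) (inv_mem (sW₂ hb))
        rwa [mul_inv_cancel_right] at this
      have h2 : a = 1 := by
        have : a ∈ ⁅M, M⁆ ⊓ W₁ := ⟨h1, ha⟩
        rwa [defM.inf_eq, mem_bot] at this
      exact hw.2 (Or.inr (by rw [h2, one_mul]; exact hb))
    have nk : ¬ IsPiElt (kappa M) (a * b) := fun h => by
      have ka := hallK.piGrp.piElt ha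
      have k'b := (memD _ (der_le M (sW₂ hb))).1 (sW₂ hb)
      have h1 := h.of_mem_zpowers (mem_zpowers_mul_of_coprime'
        (hP.selfNormalizing.2.2.2.1 a ha b hb) (PiNat.coprime ka k'b))
      exact hw.2 (Or.inl (by rw [h1.eq_one k'b, mul_one]; exact ha))
    refine ⟨FTsupp0_norm hm ((mem_FTsupp0_iff maxM).2 (Or.inr ⟨Mab, nk', nk⟩)), fun h => nk' ?_⟩
    exact piElt_conj_iff.1 (FTsupp_kappa' maxM h)

theorem FTtypeP_supp0_def {M W₁ U W₂ : Subgroup G} (maxM : IsCoatom M) (hP : IsTypePWith M W₁ U W₂) :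
    FTsupp0 M = FTsupp M ∪ classSupport (zHat W₁ W₂) M := by
  rw [← FTsupp0_typeP maxM hP, Set.union_diff_cancel (FTsupp_sub0 M)]

theorem FTsupp_diff_uniq {M : Subgroup G} (maxM : IsCoatom M) {a z : G} (ha : a ∈ FTsupp M)
    (hz : z ∈ zpowers a) (ntz : z ≠ 1) (s'z : IsPiElt (sigma M)ᶜ z) :
    IsPiElt (tau2 M) z ∧ Ell1 z ∧ UniqMax 𝒞[z] M := by
  obtain ⟨x, hx, ntx, cx⟩ := ha.2.2
  have Mz : z ∈ M := zpowers_le.2 ((FTder_normal M).1 ha.1) hz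
  refine (pi_of_cent_sigma maxM hx ntx ⟨Mz, zpowers_le.2 cx hz⟩ ntz s'z).resolve_left fun h => ntz ?_
  exact h.1.eq_one ((FTsupp_kappa' maxM ha).of_mem_zpowers hz)

theorem FTsupp_diff_TI {M : Subgroup G} (maxM : IsCoatom M) {a g : G} (ha : a ∈ FTsupp M)
    (na : a ∉ sigmaCore M) (hg : g * a * g⁻¹ ∈ FTsupp M) : g ∈ M := by
  obtain ⟨y, z, hy, hz, sy, s'z, e, c⟩ := exists_piPart (sigma M) a
  have ntz : z ≠ 1 := by
    rintro rfl
    rw [mul_one] at e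
    exact na ((mem_Msigma_iff maxM ((FTder_normal M).1 ha.1)).2 (e ▸ sy))
  obtain ⟨-, -, u1⟩ := FTsupp_diff_uniq maxM ha hz ntz s'z
  obtain ⟨-, -, u2⟩ := FTsupp_diff_uniq maxM hg (z := g * z * g⁻¹)
    (by rw [← conjg_zpowers]; exact conj_mem_conjg g hz) (conj_ne_one ntz) (s'z.conj g)
  refine mem_of_uniqMax_le_conjg u2 ?_
  rw [← conjg_cent1]; exact conjg_mono g u1.2.1

theorem FTsupp0_diff_TI {M : Subgroup G} (maxM : IsCoatom M) {a g : G} (ha : a ∈ FTsupp0 M)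
    (na : a ∉ sigmaCore M) (hg : g * a * g⁻¹ ∈ FTsupp0 M) : g ∈ M := by
  by_cases hA : a ∈ FTsupp M
  · refine FTsupp_diff_TI maxM hA na (((mem_FTsupp0_iff maxM).1 hg).resolve_right fun h => h.2.1 ?_)
    exact (FTsupp_kappa' maxM hA).conj g
  have hA' : g * a * g⁻¹ ∉ FTsupp M := fun h =>
    (((mem_FTsupp0_iff maxM).1 ha).resolve_left hA).2.1 (piElt_conj_iff.1 (FTsupp_kappa' maxM h))
  have t1 : FTtype M ≠ 1 := fun h => hA (FTsupp0_type1 h ▸ ha)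
  obtain ⟨W₁, U, W₂, hP⟩ := FTtypeP_witness maxM t1
  have h1 : a ∈ FTsupp0 M \ FTsupp M := ⟨ha, hA⟩
  have h2 : g * a * g⁻¹ ∈ FTsupp0 M \ FTsupp M := ⟨hg, hA'⟩
  rw [FTsupp0_typeP maxM hP] at h1 h2
  obtain ⟨w, hw, m, hm, rfl⟩ := h1
  obtain ⟨w', hw', m', hm', e⟩ := h2
  have sWM : W₁ ⊔ W₂ ≤ M := sup_le hP.W₁_compl.right_le
    (hP.W₂_le.trans (inf_le_left.trans (Fcore_le M)))
  have h3 : m'⁻¹ * g * m ∈ W₁ ⊔ W₂ := by
    refine ((snc_normedTI hP.selfNormalizing).2.2 w hw _ (mem_top _)).1 ?_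
    have : m'⁻¹ * g * m * w * (m'⁻¹ * g * m)⁻¹ = m'⁻¹ * (g * (m * w * m⁻¹) * g⁻¹) * m' := by group
    rw [this, e]
    simpa [mul_assoc] using hw'
  have := M.mul_mem (M.mul_mem hm' (sWM h3)) (M.inv_mem hm)
  simpa [mul_assoc] using this

theorem FTsupp0_diff_cent {M : Subgroup G} (maxM : IsCoatom M) {a : G} (ha : a ∈ FTsupp0 M)
    (na : a ∉ sigmaCore M) : 𝒞[a] ≤ M := fun g hg =>
  FTsupp0_diff_TI maxM ha na (by
    rw [mem_centralizer_singleton_iff.1 hg, mul_inv_cancel_right]; exact ha)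

theorem FTtypeI_II_facts {M U : Subgroup G} (maxM : IsCoatom M) (h : FTtype M ≤ 2)
    (defM : SDProd (fittingHallOf M) U (FTder M)) :
    (∀ (p : ℕ) (S : Subgroup G), p.Prime → IsSylowOf p S U → IsMulCommutative S ∧ rank S ≤ 2) ∧
    (∀ X : Subgroup G, X ≠ ⊥ → X ≤ U → fittingHallOf M ⊓ 𝒞(X) ≠ ⊥ → UniqMax 𝒞(X) M) ∧
    ((FTsupp M \ FTsupp1 M).Nonempty → NormedTI (FTsupp M \ FTsupp1 M) ⊤ M) := by
  have hF := FTcore_type_le2 maxM h
  rw [← hF] at defM ⊢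
  obtain ⟨K, hallK⟩ := ex_kappa_hall maxM
  obtain ⟨V, complV⟩ := ex_kappa_compl maxM hallK
  have sUM : U ≤ M := defM.right_le.trans (FTder_normal M).1
  have hallU : IsPiHallOf (sigma M ∪ kappa M)ᶜ U M := by
    refine complV.hallU.of_card_eq sUM ?_
    rw [← defM.complIn.relIndex_left, FTder_eq_sup maxM complV,
      (kappa_structure maxM complV).1.1.complIn.relIndex_left]
  refine ⟨fun p S hp sylS => ?_, fun X ntX sXU ntC => ?_, fun ne => ⟨ne, le_top, fun a ha g _ => ?_⟩⟩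
  · have s'S : IsPiGrp (sigma M)ᶜ S := (hallU.piGrp.of_le sylS.le).mono fun q hq h => hq (Or.inl h)
    refine ⟨sigma'_nil_abelian maxM (sylS.le.trans sUM) s'S sylS.pGrp.nil, ?_⟩
    by_cases S1 : S = ⊥
    · rw [S1, FG.rank_bot]; omega
    rw [rank_pgroup hp sylS.pGrp]
    refine (pRank_mono hp (sylS.le.trans sUM)).trans (not_lt.1 fun h3 => ?_)
    exact sylS.pGrp.mem_of_piGrp S1 s'S (alpha_sub_sigma maxM (mem_alpha_iff.2 ⟨hp, h3⟩))
  · obtain ⟨m, hm, rfl⟩ := Hall_trans (mmax_sol maxM) hallU complV.hallU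
    exact (P15.kappa_compl_cent maxM (P15.kappaCompl_conjg complV hm) sXU ntX ntC).1
  · refine ⟨fun hg => FTsupp_diff_TI maxM ha.1 (fun h => ha.2 ⟨h, ha.1.2.1⟩) hg.1,
      fun hg => ⟨FTsupp_norm hg ha.1, fun h1 => ha.2 ?_⟩⟩
    simpa [mul_assoc] using FTsupp1_norm (M.inv_mem hg) h1

theorem FTsupp0_fusion {M : Subgroup G} (maxM : IsCoatom M) {a g : G} (ha : a ∈ FTsupp0 M)
    (hag : g * a * g⁻¹ ∈ FTsupp0 M) : ∃ x ∈ M, x * a * x⁻¹ = g * a * g⁻¹ := by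
  by_cases h : a ∈ sigmaCore M
  · obtain ⟨m, hm, e⟩ := P15.sigma_elt_fusion maxM h
      ((mem_Msigma_iff maxM (FTsupp0_sub_sharp M hag).1).2 (((Msigma_pgroup M).piElt h).conj g))
    exact ⟨m, hm, e.symm⟩
  · exact ⟨g, FTsupp0_diff_TI maxM ha h hag, rfl⟩

theorem sigBase_facts {M : Subgroup G} (maxM : IsCoatom M) {x : G} (hx : x ∈ sigmaCore M) (ntx : x ≠ 1)
    (nsCM : ¬ 𝒞[x] ≤ M) :
    IsCoatom (sigBase x) ∧ FTtype (sigBase x) ≤ 2 ∧ fittingHallOf (sigBase x) = sigmaCore (sigBase x) ∧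
      (∀ g, sigBase x ≠ M :^ g) := by
  have ntMs := (sigmaMmax_nontrivial_iff ntx ⟨maxM, hx⟩).2 nsCM
  obtain ⟨uN, -, t2x, FP2, -⟩ := FT_signalizer_context (Msigma_ell1 maxM hx ntx) ntMs
  have maxN := uN.1
  have t2 : FTtype (sigBase x) ≤ 2 := by
    have := (notP1type maxN).2 FP2
    rw [FTtype_P1max maxN] at this; omega
  refine ⟨maxN, t2, (FTcore_type_le2 maxN t2).symm, fun g e => ntx ?_⟩
  refine ((Msigma_pgroup M).piElt hx).eq_one (t2x.mono fun p hp => ?_)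
  have := tau2_sigma' hp
  rwa [e, sigmaJ] at this

theorem FTsupport_facts {M : Subgroup G} (maxM : IsCoatom M) {x : G} (hx : x ∈ FTsupp0 M)
    (nsCM : ¬ 𝒞[x] ≤ M) :
    x ∈ FTsupp1 M ∧ UniqMax 𝒞[x] (sigBase x) ∧
    (SDProd (fittingHallOf (sigBase x)) (M ⊓ sigBase x) (sigBase x) ∧
      SDProd (fittingHallOf (sigBase x) ⊓ 𝒞[x]) (M ⊓ 𝒞[x]) 𝒞[x]) ∧
    (∀ y ∈ FTsupp0 M, (Nat.card (fittingHallOf (sigBase x))).Coprime (Nat.card ↥(M ⊓ 𝒞[y]))) ∧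
    (x ∈ FTsupp (sigBase x) ∧ x ∉ FTsupp1 (sigBase x)) ∧
    FTtype (sigBase x) ≤ 2 ∧
    (FTtype (sigBase x) = 2 → ∃ E, IsFrob M (fittingHallOf M) E) := by
  have Msx : x ∈ sigmaCore M := by
    by_contra h; exact nsCM (FTsupp0_diff_cent maxM hx h)
  have ntx := (FTsupp0_sub_sharp M hx).2
  have ell1x := Msigma_ell1 maxM Msx ntx
  have hM : M ∈ sigmaMmax x := ⟨maxM, Msx⟩
  have ntMs := (sigmaMmax_nontrivial_iff ntx hM).2 nsCM
  obtain ⟨uN, ntR, t2x, FP2, hctx⟩ := FT_signalizer_context ell1x ntMs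
  obtain ⟨defC, -, -, hallMN⟩ := hctx M hM
  obtain ⟨maxN, t2, hF, notj⟩ := sigBase_facts maxM Msx ntx nsCM
  rw [hF]
  have Nx : x ∈ sigBase x := uN.2.1 (mem_cent_singleton_self x)
  refine ⟨⟨Msx, ntx⟩, uN, ⟨sdprod_sigma maxN hallMN, ?_⟩, fun y hy => ?_, ⟨⟨?_, ntx, ?_⟩, fun h => ntx ?_⟩,
    t2, fun h2 => ?_⟩
  · rwa [inf_assoc, inf_eq_right.2 uN.2.1] at defC
  · by_cases h : IsPiGrp (sigma (sigBase x))ᶜ M
    · exact (Msigma_pgroup _).coprime (h.inf_left _)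
    obtain ⟨FM, -, frob⟩ := non_disjoint_signalizer_Frobenius ell1x ntMs hM h
    obtain ⟨E, hallE, -⟩ := ex_sigma_compl maxM bot_le (piGrp_bot _)
    have frobM := (frob E hallE).2
    have t1 := (FTtype_Fmax maxM).1 FM
    have hFM := FTcore_type_le2 maxM (by omega)
    rw [FTsupp0_type1 t1, (FTsupp_Frobenius maxM (hFM ▸ frobM)).2, ← hFM] at hy
    refine PiNat.coprime_of_disjoint (Msigma_pgroup _)
      ((Msigma_pgroup M).of_le (Frobenius_cent1_ker frobM hy.1 hy.2)) fun p h1 h2 => ?_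
    exact Set.disjoint_left.1 (sigma_partition maxM maxN notj) h2 h1
  · exact (mem_FTder_iff maxN Nx).2 (t2x.mono fun p hp h => P15.kappa_not_tau2 h hp)
  · obtain ⟨r, hr, ntr⟩ := exists_mem_ne_one ntR
    exact ⟨r, hr.1, ntr, mem_cent_singleton_comm.1 hr.2⟩
  · exact ((Msigma_pgroup _).piElt h.1).eq_one (t2x.mono fun p hp => tau2_sigma' hp)
  · obtain ⟨FM, -, -, E, -, -, frob⟩ := nonFtype_signalizer_base maxM Msx ntx nsCM fun h => by
      have := (FTtype_Fmax maxN).1 h; omega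
    have t1 := (FTtype_Fmax maxM).1 FM
    exact ⟨E, FTcore_type_le2 maxM (by omega) ▸ frob⟩

theorem norm_FTsuppX {M : Subgroup G} (maxM : IsCoatom M) {A : Set G} (sA1 : FTsupp1 M ⊆ A)
    (sAM : A ⊆ M) {g : G} (hg : ∀ a ∈ A, g * a * g⁻¹ ∈ A) : g ∈ M := by
  rw [← mmax_normal maxM (Msigma_normal M) (Msigma_neq1 maxM)]
  refine mem_norm_of_forall fun x hx => ?_
  by_cases x1 : x = 1
  · rw [x1]; simp
  exact (mem_Msigma_iff maxM (sAM (hg x (sA1 ⟨hx, x1⟩)))).2 (((Msigma_pgroup M).piElt hx).conj g)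

theorem FTsig_of_le {M : Subgroup G} {x : G} (h : 𝒞[x] ≤ M) : FTsig M x = ⊥ := if_pos h

theorem FTsig_of_not_le {M : Subgroup G} {x : G} (h : ¬ 𝒞[x] ≤ M) :
    FTsig M x = fittingHallOf (sigBase x) ⊓ 𝒞[x] := if_neg h

theorem FT_Dade0_hyp {M : Subgroup G} (maxM : IsCoatom M) : DadeHypothesis (FTsupp0 M) M (FTsig M) := by
  have key : ∀ a ∈ FTsupp0 M, SDProd (FTsig M a) (M ⊓ 𝒞[a]) 𝒞[a] := by
    intro a ha
    by_cases h : 𝒞[a] ≤ M
    · rw [FTsig_of_le h, inf_eq_right.2 h]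
      exact sdprod_mk (norm_bot _) (bot_sup_eq _) (bot_inf_eq _)
    · rw [FTsig_of_not_le h]; exact (FTsupport_facts maxM ha h).2.2.1.2
  refine ⟨fun h => (FTsupp0_sub_sharp M h).2 rfl, fun a ha => (FTsupp0_sub_sharp M ha).1,
    fun x hx a ha => FTsupp0_norm hx ha, fun a ha g hg => FTsupp0_fusion maxM ha hg,
    fun a ha => (key a ha).left_le, fun a ha c hc u hu => conj_mem_of_le_norm (key a ha).normal.2 hc hu,
    fun a ha => (key a ha).inf_eq, fun a ha => (key a ha).sup_eq, fun a ha b hb => ?_⟩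
  by_cases h : 𝒞[a] ≤ M
  · rw [FTsig_of_le h, card_bot]; exact Nat.coprime_one_left _
  · rw [FTsig_of_not_le h]
    exact ((FTsupport_facts maxM ha h).2.2.2.1 b hb).coprime_dvd_left (card_dvd_of_le inf_le_left)

theorem FT_Dade_hyp {M : Subgroup G} (maxM : IsCoatom M) : DadeHypothesis (FTsupp M) M (FTsig M) :=
  restr_Dade_hyp (FT_Dade0_hyp maxM) (FTsupp_sub0 M) fun _ hx _ ha => FTsupp_norm hx ha

theorem FT_Dade1_hyp {M : Subgroup G} (maxM : IsCoatom M) : DadeHypothesis (FTsupp1 M) M (FTsig M) :=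
  restr_Dade_hyp (FT_Dade0_hyp maxM) (FTsupp1_sub0 maxM) fun _ hx _ ha => FTsupp1_norm hx ha

theorem FT_DadeF_hyp {M : Subgroup G} (maxM : IsCoatom M) :
    DadeHypothesis (sharp (fittingHallOf M)) M (FTsig M) :=
  restr_Dade_hyp (FT_Dade0_hyp maxM) ((Fcore_sub_FTsupp1 maxM).trans (FTsupp1_sub0 maxM))
    fun _ hx _ ha => ⟨conj_mem_of_le_norm (Fcore_norm M) hx ha.1, conj_ne_one ha.2⟩

theorem FTsigJ {M : Subgroup G} (maxM : IsCoatom M) {a : G} (ha : a ∈ FTsupp0 M) (g : G) :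
    FTsig (M :^ g) (g * a * g⁻¹) = FTsig M a :^ g := by
  by_cases h : 𝒞[a] ≤ M
  · rw [FTsig_of_le h, FTsig_of_le, conjg_bot]
    rw [← conjg_cent1]; exact conjg_mono g h
  · have h1 := (FTsupport_facts maxM ha h).1
    rw [FTsig_of_not_le h, FTsig_of_not_le, sigBaseJ (Msigma_ell1 maxM h1.1 h1.2), FcoreJ, conjg_inf,
      conjg_cent1]
    rwa [← conjg_cent1, conjg_le_conjg]

theorem FTDadeSuppJ {M : Subgroup G} (maxM : IsCoatom M) {A B : Set G} (sA : A ⊆ FTsupp0 M) {g : G}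
    (h : ∀ a, g * a * g⁻¹ ∈ B ↔ a ∈ A) : FTDadeSupp (M :^ g) B = FTDadeSupp M A := by
  ext z
  constructor
  · rintro ⟨b, hb, r, hr, y, rfl⟩
    have e : b = g * (g⁻¹ * b * g) * g⁻¹ := by group
    have ha : g⁻¹ * b * g ∈ A := (h _).1 (e ▸ hb)
    rw [e, FTsigJ maxM (sA ha), mem_conjg] at hr
    exact ⟨_, ha, _, hr, y * g, by group⟩
  · rintro ⟨a, ha, r, hr, y, rfl⟩
    refine ⟨_, (h a).2 ha, g * r * g⁻¹, ?_, y * g⁻¹, by group⟩
    rw [FTsigJ maxM (sA ha)]; exact conj_mem_conjg g hr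

theorem FT_Dade1_supportJ {M : Subgroup G} (maxM : IsCoatom M) (g : G) :
    FTDadeSupp (M :^ g) (FTsupp1 (M :^ g)) = FTDadeSupp M (FTsupp1 M) :=
  FTDadeSuppJ maxM (FTsupp1_sub0 maxM) (FTsupp1J M g)

theorem FT_Dade_supportJ {M : Subgroup G} (maxM : IsCoatom M) (g : G) :
    FTDadeSupp (M :^ g) (FTsupp (M :^ g)) = FTDadeSupp M (FTsupp M) :=
  FTDadeSuppJ maxM (FTsupp_sub0 M) (FTsuppJ M g)

theorem FT_Dade0_supportJ {M : Subgroup G} (maxM : IsCoatom M) (g : G) :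
    FTDadeSupp (M :^ g) (FTsupp0 (M :^ g)) = FTDadeSupp M (FTsupp0 M) :=
  FTDadeSuppJ maxM subset_rfl (FTsupp0J M g)

theorem FTtypeII_ker_TI {M : Subgroup G} (maxM : IsCoatom M) (h : FTtype M = 2) :
    NormedTI (FTsupp0 M) ⊤ M ∧ NormedTI (FTsupp M) ⊤ M ∧ NormedTI (FTsupp1 M) ⊤ M := by
  have P2M := (FTtype_P2max maxM).2 h
  obtain ⟨K, hallK⟩ := ex_kappa_hall maxM
  have tiMs := ((Ptype_structure P2M.1 hallK).2.2.2.2.2.2 P2M).2.2.2
  have key : ∀ a ∈ FTsupp0 M, ∀ g, g * a * g⁻¹ ∈ FTsupp0 M → g ∈ M := by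
    intro a ha g hg
    by_cases h : a ∈ sigmaCore M
    · refine (tiMs.2.2 a ⟨h, (FTsupp0_sub_sharp M ha).2⟩ g (mem_top g)).1 ⟨?_, (FTsupp0_sub_sharp M hg).2⟩
      exact (mem_Msigma_iff maxM (FTsupp0_sub_sharp M hg).1).2 (((Msigma_pgroup M).piElt h).conj g)
    · exact FTsupp0_diff_TI maxM ha h hg
  have ne := FTsupp1_nonempty maxM
  exact ⟨⟨ne.mono (FTsupp1_sub0 maxM), le_top, fun a ha g _ => ⟨key a ha g, fun hg => FTsupp0_norm hg ha⟩⟩,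
    ⟨ne.mono (FTsupp1_sub maxM), le_top, fun a ha g _ =>
      ⟨fun hg => key a (FTsupp_sub0 M ha) g (FTsupp_sub0 M hg), fun hg => FTsupp_norm hg ha⟩⟩, tiMs⟩

theorem FTcore_primes {p : ℕ} (hp : p.Prime) (piGp : p ∣ Nat.card G) :
    ∃ M : Subgroup G, IsCoatom M ∧ p ∣ Nat.card (sigmaCore M) := by
  obtain ⟨M, maxM, sp⟩ := sigma_mmax_exists hp piGp
  rw [← pi_Msigma maxM] at sp
  exact ⟨M, maxM, sp.2⟩

theorem FTcore_coprime {M L : Subgroup G} (maxM : IsCoatom M) (maxL : IsCoatom L) (notj : ∀ g, L ≠ M :^ g) :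
    (Nat.card (sigmaCore M)).Coprime (Nat.card (sigmaCore L)) :=
  PiNat.coprime_of_disjoint (Msigma_pgroup M) (Msigma_pgroup L)
    fun _ h => Set.disjoint_left.1 (sigma_partition maxM maxL notj) h

theorem FTsig_eq_sigR {M : Subgroup G} (maxM : IsCoatom M) {x : G} (hx : x ∈ FTsupp1 M) :
    FTsig M x = sigR x := by
  by_cases h : 𝒞[x] ≤ M
  · rw [FTsig_of_le h, sigR_eq_bot]
    rw [sigmaMmax_nontrivial_iff hx.2 ⟨maxM, hx.1⟩]; exact not_not.2 h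
  · rw [FTsig_of_not_le h, (sigBase_facts maxM hx.1 hx.2 h).2.2.1]; rfl

theorem FT_Dade1_support_eq {M : Subgroup G} (maxM : IsCoatom M) :
    FTDadeSupp M (FTsupp1 M) = classSupport (sigmaCover M) ⊤ := by
  ext z
  constructor
  · rintro ⟨a, ha, r, hr, y, rfl⟩
    exact ⟨_, ⟨a, ha.1, ha.2, r, FTsig_eq_sigR maxM ha ▸ hr, rfl⟩, y, mem_top y, rfl⟩
  · rintro ⟨_, ⟨a, ha, nta, r, hr, rfl⟩, y, -, rfl⟩
    exact ⟨a, ⟨ha, nta⟩, r, (FTsig_eq_sigR maxM ⟨ha, nta⟩).symm ▸ hr, y, rfl⟩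

theorem card_FT_Dade1_support {M : Subgroup G} (maxM : IsCoatom M) :
    (FTDadeSupp M (FTsupp1 M)).ncard = (Nat.card (sigmaCore M) - 1) * M.index := by
  rw [FT_Dade1_support_eq maxM, card_class_support_sigma maxM]

theorem one_notin_FT_Dade0_support {M : Subgroup G} (maxM : IsCoatom M) :
    (1 : G) ∉ FTDadeSupp M (FTsupp0 M) := by
  rintro ⟨a, ha, r, hr, y, e⟩
  have e1 : a = r⁻¹ := eq_inv_of_mul_eq_one_left (conj_eq_one_iff.1 e.symm)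
  have h : a ∈ FTsig M a ⊓ (M ⊓ 𝒞[a]) :=
    ⟨by nth_rw 2 [e1]; exact Subgroup.inv_mem _ hr, (FTsupp0_sub_sharp M ha).1, mem_cent_singleton_self a⟩
  rw [(FT_Dade0_hyp maxM).inf_eq_bot a ha, mem_bot] at h
  exact (FTsupp0_sub_sharp M ha).2 h

theorem FT_Dade_support_partition_F (allF : ∀ M : Subgroup G, IsCoatom M → FTtype M = 1) {g : G}
    (ntg : g ≠ 1) : ∃ M : Subgroup G, IsCoatom M ∧ g ∈ FTDadeSupp M (FTsupp1 M) := by
  obtain ⟨M, maxM, h⟩ := mFT_partition_F (fun M PM => (FTtype_Pmax PM.1).1 PM (allF M PM.1)) ntg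
  exact ⟨M, maxM, (FT_Dade1_support_eq maxM).symm ▸ h⟩

theorem FT_Dade_support_partition_P {S T W₁ W₂ : Subgroup G} (h : TypePPair S T W₁ W₂) :
    (∀ g : G, g ≠ 1 → (∃ M : Subgroup G, IsCoatom M ∧ g ∈ FTDadeSupp M (FTsupp1 M)) ∨
      g ∈ classSupport (zHat W₁ W₂) ⊤) ∧
    ∀ M : Subgroup G, IsCoatom M → Disjoint (classSupport (zHat W₁ W₂) ⊤) (FTDadeSupp M (FTsupp1 M)) := by
  obtain ⟨U, hP⟩ := typeP_pairW h
  obtain ⟨PS, hallK, defKs, -⟩ := typePfacts h.maxS hP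
  obtain ⟨h1, h2⟩ := mFT_partition_P PS hallK
  rw [defKs] at h1 h2
  refine ⟨fun g ntg => (h1 g ntg).imp_left fun ⟨M, maxM, hg⟩ =>
    ⟨M, maxM, (FT_Dade1_support_eq maxM).symm ▸ hg⟩, fun M maxM => ?_⟩
  rw [FT_Dade1_support_eq maxM]; exact h2 M maxM

theorem FT_Dade1_support_disjoint {S T : Subgroup G} (maxS : IsCoatom S) (maxT : IsCoatom T)
    (notj : ∀ g, T ≠ S :^ g) : Disjoint (FTDadeSupp S (FTsupp1 S)) (FTDadeSupp T (FTsupp1 T)) := by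
  rw [FT_Dade1_support_eq maxS, FT_Dade1_support_eq maxT]
  exact sigma_support_disjoint maxS maxT notj

theorem notj_conjg {S T : Subgroup G} (notj : ∀ g, T ≠ S :^ g) (h g : G) : T :^ h ≠ S :^ g := fun e =>
  notj (h⁻¹ * g) (by rw [conjg_mul, ← e, conjg_inv_cancel])

theorem notj_symm {S T : Subgroup G} (notj : ∀ g, T ≠ S :^ g) (g : G) : S ≠ T :^ g := fun e =>
  notj g⁻¹ (by rw [e, conjg_inv_cancel])

theorem supp_part_a2 {S T : Subgroup G} (maxS : IsCoatom S) (maxT : IsCoatom T)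
    (notj : ∀ g, T ≠ S :^ g) {x : G} (h1 : x ∈ FTsupp1 S) (h2 : x ∈ FTsupp T) :
    UniqMax 𝒞[x] T ∧ ¬ 𝒞[x] ≤ S ∧ x ∉ FTsupp1 T := by
  have s'x : IsPiElt (sigma T)ᶜ x := ((Msigma_pgroup S).piElt h1.1).mono
    fun _ h => Set.disjoint_left.1 (sigma_partition maxS maxT notj) h
  obtain ⟨-, -, u⟩ := FTsupp_diff_uniq maxT h2 (mem_zpowers x) h1.2 s'x
  refine ⟨u, fun h => notj 1 ?_, fun h => h1.2 (((Msigma_pgroup T).piElt h.1).eq_one s'x)⟩
  rw [conjg_one, eq_uniq_mmax u maxS h]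

theorem supp_part_a1 {S T : Subgroup G} (maxS : IsCoatom S) (maxT : IsCoatom T)
    (notj : ∀ g, T ≠ S :^ g) : FTsupports S T ↔ ¬ Disjoint (FTsupp1 S) (FTsupp T) := by
  rw [Set.not_disjoint_iff]
  constructor
  · rintro ⟨x, hx, nsC, sC⟩
    obtain ⟨h1, u, -, -, ⟨h2, -⟩, -⟩ := FTsupport_facts maxS (FTsupp_sub0 S hx) nsC
    exact ⟨x, h1, eq_uniq_mmax u maxT sC ▸ h2⟩
  · rintro ⟨x, h1, h2⟩
    obtain ⟨u, nsC, -⟩ := supp_part_a2 maxS maxT notj h1 h2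
    exact ⟨x, FTsupp1_sub maxS h1, nsC, u.2.1⟩

theorem supp_part_b {S T : Subgroup G} (maxS : IsCoatom S) (maxT : IsCoatom T)
    (notj : ∀ g, T ≠ S :^ g) :
    (∃ g, FTsupports S (T :^ g)) ↔ ¬ Disjoint (FTDadeSupp S (FTsupp1 S)) (FTDadeSupp T (FTsupp T)) := by
  rw [Set.not_disjoint_iff]
  constructor
  · rintro ⟨g, h⟩
    obtain ⟨x, h1, h2⟩ := Set.not_disjoint_iff.1
      ((supp_part_a1 maxS (isCoatom_conjg.2 maxT) (notj_conjg notj g)).1 h)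
    exact ⟨x, sub_FTDadeSupp S _ h1, FT_Dade_supportJ maxT g ▸ sub_FTDadeSupp _ _ h2⟩
  · rintro ⟨z, hz1, y, hy, s, hs, v, e⟩
    have ny : y ∉ sigmaCore T := fun h => Set.disjoint_left.1 (FT_Dade1_support_disjoint maxS maxT notj) hz1
      ⟨y, ⟨h, hy.2.1⟩, s, hs, v, e⟩
    rw [FTsig_of_le (FTsupp0_diff_cent maxT (FTsupp_sub0 T hy) ny), mem_bot] at hs
    obtain ⟨x, hx, r, hr, u, rfl⟩ := hz1
    rw [hs, mul_one] at e
    have e1 : x * r = (u⁻¹ * v) * y * (u⁻¹ * v)⁻¹ := by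
      rw [mul_inv_rev, inv_inv]
      calc x * r = u⁻¹ * (u * (x * r) * u⁻¹) * u := by group
        _ = _ := by rw [e]; group
    set w := u⁻¹ * v
    have maxT' : IsCoatom (T :^ w) := isCoatom_conjg.2 maxT
    have notj' := notj_conjg notj w
    have hy' : x * r ∈ FTsupp (T :^ w) := by rw [e1]; exact (FTsuppJ T w y).2 hy
    have fin : r = 1 → ∃ g, FTsupports S (T :^ g) := by
      rintro rfl
      rw [mul_one] at hy'
      exact ⟨w, (supp_part_a1 maxS maxT' notj').2 (Set.not_disjoint_iff.2 ⟨x, hx, hy'⟩)⟩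
    by_cases sC : 𝒞[x] ≤ S
    · rw [FTsig_of_le sC, mem_bot] at hr
      exact fin hr
    obtain ⟨-, uN, -⟩ := FTsupport_facts maxS (FTsupp1_sub0 maxS hx) sC
    by_cases hN : ∃ g, sigBase x = T :^ g
    · obtain ⟨g, hg⟩ := hN
      exact ⟨g, x, FTsupp1_sub maxS hx, sC, hg ▸ uN.2.1⟩
    push Not at hN
    rw [FTsig_eq_sigR maxS hx] at hr
    have s'xr : IsPiElt (sigma (T :^ w))ᶜ (x * r) := by
      rw [sigmaJ]
      refine IsPiElt.mul (((Msigma_pgroup S).piElt hx.1).mono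
        fun _ h => Set.disjoint_left.1 (sigma_partition maxS maxT notj) h)
        (((Msigma_pgroup _).piElt hr.1).mono
        fun _ h => Set.disjoint_right.1 (sigma_partition maxT uN.1 hN) h) ?_
      exact (mem_centralizer_singleton_iff.1 hr.2).symm
    obtain ⟨-, ell1y, -⟩ := FTsupp_diff_uniq maxT' hy' (mem_zpowers _) hy'.2.1 s'xr
    refine fin ?_
    by_contra ntr
    exact sigma_cover_disjoint (Msigma_ell1 maxS hx.1 hx.2) ell1y (fun h => ntr (left_eq_mul.1 h)) r hr 1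
      (one_mem _) (mul_one _).symm

theorem FT_Dade_support_disjoint {S T : Subgroup G} (maxS : IsCoatom S) (maxT : IsCoatom T)
    (notj : ∀ g, T ≠ S :^ g) :
    ((FTsupports S T ↔ ¬ Disjoint (FTsupp1 S) (FTsupp T)) ∧
      ∀ x ∈ FTsupp1 S, x ∈ FTsupp T → ¬ 𝒞[x] ≤ S ∧ x ∉ FTsupp1 T) ∧
    ((∃ g, FTsupports S (T :^ g)) ↔
      ¬ Disjoint (FTDadeSupp S (FTsupp1 S)) (FTDadeSupp T (FTsupp T))) ∧
    (Disjoint (FTDadeSupp S (FTsupp1 S)) (FTDadeSupp T (FTsupp T)) ∨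
      Disjoint (FTDadeSupp T (FTsupp1 T)) (FTDadeSupp S (FTsupp S))) := by
  refine ⟨⟨supp_part_a1 maxS maxT notj, fun x h1 h2 => (supp_part_a2 maxS maxT notj h1 h2).2⟩,
    supp_part_b maxS maxT notj, ?_⟩
  by_contra h
  push Not at h
  obtain ⟨g, y, hy, nsC, sC⟩ := (supp_part_b maxS maxT notj).2 h.1
  obtain ⟨k, hk⟩ := (supp_part_b maxT maxS (notj_symm notj)).2 h.2
  obtain ⟨z, hz1, hz2⟩ := Set.not_disjoint_iff.1
    ((supp_part_a1 maxT (isCoatom_conjg.2 maxS) (notj_conjg (notj_symm notj) k)).1 hk)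
  obtain ⟨-, u, -, co, -, t2, -⟩ := FTsupport_facts maxS (FTsupp_sub0 S hy) nsC
  have maxT' : IsCoatom (T :^ g) := isCoatom_conjg.2 maxT
  rw [← eq_uniq_mmax u maxT' sC] at co t2
  have e : z = k * (k⁻¹ * z * k) * k⁻¹ := by group
  rw [e, FTsuppJ] at hz2
  have co1 := co _ (FTsupp_sub0 S hz2)
  rw [← FTcore_type_le2 maxT' t2, MsigmaJ, card_conjg] at co1
  refine hz1.2 (orderOf_eq_one_iff.1 (Nat.eq_one_of_dvd_coprimes co1 (orderOf_dvd_card_of_mem hz1.1) ?_))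
  rw [e, orderOf_conj]
  have e2 : k⁻¹ * (k * (k⁻¹ * z * k) * k⁻¹) * k = k⁻¹ * z * k := by group
  rw [e2]
  exact orderOf_dvd_card_of_mem ⟨(FTsupp_sub_sharp S hz2).1, mem_cent_singleton_self _⟩

end CA.BG.P16
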