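/-
Interface: B & G section 16 and the group-theoretic part of Peterfalvi section 8.  Owner: lead.
`M_F = fittingHallOf M`, `M_s = sigmaCore M`, `W = W₁ ⊔ W₂`, the cyclic TI set is `zHat W₁ W₂`,
`A₁(M) = FTsupp1 M`, `A(M) = FTsupp M`, `A₀(M) = FTsupp0 M`, `A~(M, A) = FTDadeSupp M A`, `R_M = FTsig M`,
`N[x] = sigBase x`.  Elementary facts on type `P` data are (proved) in `BG/TypeP`, on `M_F` in `BG/Fcore`.
-/
import Cfsg.Agent.BG.I15
import Cfsg.Agent.BG.Def16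
import Cfsg.Agent.BG.TypeP
import Cfsg.Agent.BG.P16c

set_option autoImplicit false
set_option linter.unusedSectionVars false

namespace CA.BG

open Cfsg CA.FG

universe u

variable {G : Type u} [Group G]

section General

variable [Finite G]

/-! ### facts valid in any finite group -/

theorem snc_normedTI {W₁ W₂ : Subgroup G} (h : IsSelfNormalizingCyclic W₁ W₂) :
    NormedTI (zHat W₁ W₂) ⊤ (W₁ ⊔ W₂) :=
  P16.snc_normedTI h

theorem snc_of_normedTI {W₁ W₂ : Subgroup G} (nt₁ : W₁ ≠ ⊥) (nt₂ : W₂ ≠ ⊥) (ti : W₁ ⊓ W₂ = ⊥)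
    (cyc : IsCyclic ↥(W₁ ⊔ W₂)) (h : NormedTI (zHat W₁ W₂) ⊤ (W₁ ⊔ W₂)) :
    IsSelfNormalizingCyclic W₁ W₂ :=
  P16.snc_of_normedTI nt₁ nt₂ ti cyc h

theorem snc_sym {W₁ W₂ : Subgroup G} (h : IsSelfNormalizingCyclic W₁ W₂) :
    IsSelfNormalizingCyclic W₂ W₁ :=
  P16.snc_sym h

theorem snc_coprime {W₁ W₂ : Subgroup G} (h : IsSelfNormalizingCyclic W₁ W₂) :
    (Nat.card W₁).Coprime (Nat.card W₂) :=
  P16.snc_coprime h

theorem zHat_comm (W₁ W₂ : Subgroup G) : zHat W₁ W₂ = zHat W₂ W₁ :=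
  P16.zHat_comm W₁ W₂

theorem compl_of_typeF {M U V : Subgroup G} (defM : SDProd (fittingHallOf M) V M) (h : OfTypeF M U) :
    OfTypeF M V :=
  P16.compl_of_typeF defM h

theorem compl_of_typeI {M U V : Subgroup G} (defM : SDProd (fittingHallOf M) V M) (h : OfTypeI M U) :
    OfTypeI M V :=
  P16.compl_of_typeI defM h

theorem typeP_W2_cyclic {M W₁ U W₂ : Subgroup G} (hP : IsTypePWith M W₁ U W₂) : IsCyclic W₂ :=
  P16.typeP_W2_cyclic hP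

theorem typeP_W2_ne_bot {M W₁ U W₂ : Subgroup G} (hP : IsTypePWith M W₁ U W₂) : W₂ ≠ ⊥ :=
  P16.typeP_W2_ne_bot hP

theorem of_typeP_sol {M W₁ U W₂ : Subgroup G} (hP : IsTypePWith M W₁ U W₂) : Group.IsSolvable M :=
  P16.of_typeP_sol hP

theorem typeP_cent_compl {M W₁ U W₂ : Subgroup G} (hP : IsTypePWith M W₁ U W₂) :
    ⁅M, M⁆ ⊓ 𝒞(W₁) = W₂ :=
  P16.typeP_cent_compl hP

theorem typeP_cent_core_compl {M W₁ U W₂ : Subgroup G} (hP : IsTypePWith M W₁ U W₂) :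
    fittingHallOf M ⊓ 𝒞(W₁) = W₂ :=
  P16.typeP_cent_core_compl hP

/-- `W₁` acts fixed point freely on `U`. -/
theorem typeP_semiregular_U {M W₁ U W₂ : Subgroup G} (hP : IsTypePWith M W₁ U W₂) :
    Semiregular U W₁ :=
  P16.typeP_semiregular_U hP

/-- `U W₁` is a Frobenius group when `U ≠ 1`. -/
theorem typeP_Frobenius_UW1 {M W₁ U W₂ : Subgroup G} (hP : IsTypePWith M W₁ U W₂) (ntU : U ≠ ⊥) :
    IsFrob (U ⊔ W₁) U W₁ :=
  P16.typeP_Frobenius_UW1 hP ntU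

/-- `M = M_F ⋊ U W₁`. -/
theorem typeP_sdprod_UW1 {M W₁ U W₂ : Subgroup G} (hP : IsTypePWith M W₁ U W₂) :
    SDProd (fittingHallOf M) (U ⊔ W₁) M ∧ SDProd U W₁ (U ⊔ W₁) :=
  P16.typeP_sdprod_UW1 hP

theorem typePF_exclusion {M W₁ U W₂ : Subgroup G} (hP : IsTypePWith M W₁ U W₂) (K : Subgroup G) :
    ¬ OfTypeF M K :=
  P16.typePF_exclusion hP K

theorem of_typeP_compl_conj {M W₁ U W₂ W₁' : Subgroup G} (hP : IsTypePWith M W₁ U W₂)
    (defM : SDProd ⁅M, M⁆ W₁' M) : ∃ x ∈ M, W₁' = W₁ :^ x :=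
  P16.of_typeP_compl_conj hP defM

theorem conj_of_typeP {M W₁ U W₂ : Subgroup G} (hP : IsTypePWith M W₁ U W₂) (x : G) :
    IsTypePWith (M :^ x) (W₁ :^ x) (U :^ x) (W₂ :^ x) :=
  P16.conj_of_typeP hP x

theorem of_typeP_conj {M W₁ U W₂ W₁' U' W₂' : Subgroup G} (hP : IsTypePWith M W₁ U W₂)
    (hP' : IsTypePWith M W₁' U' W₂') :
    ∃ x ∈ M, U :^ x = U' ∧ W₁ :^ x = W₁' ∧ W₂ :^ x = W₂' :=
  P16.of_typeP_conj hP hP'

/-- Peterfalvi (8.5)(a); (b) is `typeP_derU_cent`, `typeP_U_not_cent`; (c) is `snc_normedTI`. -/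
theorem typeP_Fitting_dprod {M W₁ U W₂ : Subgroup G} (hP : IsTypePWith M W₁ U W₂) :
    DProd (fittingHallOf M) (U ⊓ 𝒞(fittingHallOf M)) (fittingOf M) :=
  P16.typeP_Fitting_dprod hP

theorem typeP_pair_sym {S T W₁ W₂ : Subgroup G} (h : TypePPair S T W₁ W₂) : TypePPair T S W₂ W₁ :=
  P16.typeP_pair_sym h

theorem FTtype_range (M : Subgroup G) : 0 < FTtype M ∧ FTtype M ≤ 5 :=
  P16.FTtype_range M

theorem FTder_type1 {M : Subgroup G} (h : FTtype M = 1) : FTder M = M :=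
  P16.FTder_type1 h
theorem FTder_typeP {M : Subgroup G} (h : FTtype M ≠ 1) : FTder M = ⁅M, M⁆ :=
  P16.FTder_typeP h
theorem FTder_normal (M : Subgroup G) : FTder M ⊲ M :=
  P16.FTder_normal M

theorem FTsupp0_type1 {M : Subgroup G} (h : FTtype M = 1) : FTsupp0 M = FTsupp M :=
  P16.FTsupp0_type1 h
theorem FTsupp_sub0 (M : Subgroup G) : FTsupp M ⊆ FTsupp0 M :=
  P16.FTsupp_sub0 M
theorem FTsupp_sub_der (M : Subgroup G) : FTsupp M ⊆ sharp (FTder M) :=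
  P16.FTsupp_sub_der M
theorem FTsupp_sub_sharp (M : Subgroup G) : FTsupp M ⊆ sharp M :=
  P16.FTsupp_sub_sharp M
theorem FTsupp0_sub_sharp (M : Subgroup G) : FTsupp0 M ⊆ sharp M :=
  P16.FTsupp0_sub_sharp M
theorem FTsupp1_sub_sharp (M : Subgroup G) : FTsupp1 M ⊆ sharp M :=
  P16.FTsupp1_sub_sharp M

theorem FTsupp1_norm {M : Subgroup G} {x a : G} (hx : x ∈ M) (ha : a ∈ FTsupp1 M) :
    x * a * x⁻¹ ∈ FTsupp1 M :=
  P16.FTsupp1_norm hx ha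
theorem FTsupp_norm {M : Subgroup G} {x a : G} (hx : x ∈ M) (ha : a ∈ FTsupp M) :
    x * a * x⁻¹ ∈ FTsupp M :=
  P16.FTsupp_norm hx ha
theorem FTsupp0_norm {M : Subgroup G} {x a : G} (hx : x ∈ M) (ha : a ∈ FTsupp0 M) :
    x * a * x⁻¹ ∈ FTsupp0 M :=
  P16.FTsupp0_norm hx ha

theorem FTDadeSupp_mono (M : Subgroup G) {A B : Set G} (h : A ⊆ B) : FTDadeSupp M A ⊆ FTDadeSupp M B :=
  P16.FTDadeSupp_mono M h
theorem FTDadeSupp_norm {M : Subgroup G} {A : Set G} {g : G} (h : g ∈ FTDadeSupp M A) (y : G) :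
    y * g * y⁻¹ ∈ FTDadeSupp M A :=
  P16.FTDadeSupp_norm h y
theorem sub_FTDadeSupp (M : Subgroup G) (A : Set G) : A ⊆ FTDadeSupp M A :=
  P16.sub_FTDadeSupp M A

/-- The restriction of a Dade hypothesis to an `L`-invariant subset. -/
theorem restr_Dade_hyp {A B : Set G} {L : Subgroup G} {H : G → Subgroup G} (h : DadeHypothesis A L H)
    (sBA : B ⊆ A) (nBL : ∀ x ∈ L, ∀ b ∈ B, x * b * x⁻¹ ∈ B) : DadeHypothesis B L H :=
  P16.restr_Dade_hyp h sBA nBL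

end General

variable [MinSimpleOdd G]

/-! ### types F and I -/

theorem Frobenius_of_typeF {M U : Subgroup G} (h : IsFrob M (fittingHallOf M) U) : OfTypeF M U :=
  P16.Frobenius_of_typeF h

/-- Peterfalvi (8.2)(a). -/
theorem typeF_compl_card {M U U₀ : Subgroup G} (h : TypeFCompl M U U₀) :
    Nat.card U₀ = Monoid.exponent U :=
  P16.typeF_compl_card h

/-- Peterfalvi (8.2)(b). -/
theorem typeF_Frobenius_iff {M U : Subgroup G} (h : OfTypeF M U) :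
    IsFrob M (fittingHallOf M) U ↔ IsZGroup U :=
  P16.typeF_Frobenius_iff h

/-! ### `FTtype`, conjugation -/

theorem FTtypeJ (M : Subgroup G) (g : G) : FTtype (M :^ g) = FTtype M :=
  P16.FTtypeJ M g
theorem FTderJ (M : Subgroup G) (g : G) : FTder (M :^ g) = FTder M :^ g :=
  P16.FTderJ M g
theorem FTsupp1J (M : Subgroup G) (g a : G) : g * a * g⁻¹ ∈ FTsupp1 (M :^ g) ↔ a ∈ FTsupp1 M :=
  P16.FTsupp1J M g a
theorem FTsuppJ (M : Subgroup G) (g a : G) : g * a * g⁻¹ ∈ FTsupp (M :^ g) ↔ a ∈ FTsupp M :=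
  P16.FTsuppJ M g a
theorem FTsupp0J (M : Subgroup G) (g a : G) : g * a * g⁻¹ ∈ FTsupp0 (M :^ g) ↔ a ∈ FTsupp0 M :=
  P16.FTsupp0J M g a
theorem FT_Dade1_supportJ {M : Subgroup G} (maxM : IsCoatom M) (g : G) :
    FTDadeSupp (M :^ g) (FTsupp1 (M :^ g)) = FTDadeSupp M (FTsupp1 M) :=
  P16.FT_Dade1_supportJ maxM g
theorem FT_Dade_supportJ {M : Subgroup G} (maxM : IsCoatom M) (g : G) :
    FTDadeSupp (M :^ g) (FTsupp (M :^ g)) = FTDadeSupp M (FTsupp M) :=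
  P16.FT_Dade_supportJ maxM g
theorem FT_Dade0_supportJ {M : Subgroup G} (maxM : IsCoatom M) (g : G) :
    FTDadeSupp (M :^ g) (FTsupp0 (M :^ g)) = FTDadeSupp M (FTsupp0 M) :=
  P16.FT_Dade0_supportJ maxM g

theorem FTtype_Fmax {M : Subgroup G} (maxM : IsCoatom M) : TypeF M ↔ FTtype M = 1 :=
  P16.FTtype_Fmax maxM
theorem FTtype_Pmax {M : Subgroup G} (maxM : IsCoatom M) : TypeP M ↔ FTtype M ≠ 1 :=
  P16.FTtype_Pmax maxM
theorem FTtype_P1max {M : Subgroup G} (maxM : IsCoatom M) : TypeP1 M ↔ 2 < FTtype M :=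
  P16.FTtype_P1max maxM
theorem FTtype_P2max {M : Subgroup G} (maxM : IsCoatom M) : TypeP2 M ↔ FTtype M = 2 :=
  P16.FTtype_P2max maxM

/-! ### the core `M_s = M_σ` and the supports -/

theorem mmax_Fcore_neq1 {M : Subgroup G} (maxM : IsCoatom M) : fittingHallOf M ≠ ⊥ :=
  P16.mmax_Fcore_neq1 maxM
theorem norm_mmax_Fcore {M : Subgroup G} (maxM : IsCoatom M) : 𝒩(fittingHallOf M) = M :=
  P16.norm_mmax_Fcore maxM
theorem FTcore_sub_der1 {M : Subgroup G} (maxM : IsCoatom M) : sigmaCore M ≤ ⁅M, M⁆ :=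
  P16.FTcore_sub_der1 maxM
theorem FTcore_sub_FTder {M : Subgroup G} (maxM : IsCoatom M) : sigmaCore M ≤ FTder M :=
  P16.FTcore_sub_FTder maxM
theorem Fcore_eq_FTcore {M : Subgroup G} (maxM : IsCoatom M) :
    fittingHallOf M = sigmaCore M ↔ FTtype M = 1 ∨ FTtype M = 2 ∨ FTtype M = 5 :=
  P16.Fcore_eq_FTcore maxM
theorem FTcore_type_le2 {M : Subgroup G} (maxM : IsCoatom M) (h : FTtype M ≤ 2) :
    sigmaCore M = fittingHallOf M :=
  P16.FTcore_type_le2 maxM h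
theorem FTcore_type_gt2 {M : Subgroup G} (maxM : IsCoatom M) (h : 2 < FTtype M) :
    sigmaCore M = ⁅M, M⁆ :=
  P16.FTcore_type_gt2 maxM h

theorem FTsupp1_sub {M : Subgroup G} (maxM : IsCoatom M) : FTsupp1 M ⊆ FTsupp M :=
  P16.FTsupp1_sub maxM
theorem FTsupp1_sub0 {M : Subgroup G} (maxM : IsCoatom M) : FTsupp1 M ⊆ FTsupp0 M :=
  P16.FTsupp1_sub0 maxM
theorem Fcore_sub_FTsupp1 {M : Subgroup G} (maxM : IsCoatom M) : sharp (fittingHallOf M) ⊆ FTsupp1 M :=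
  P16.Fcore_sub_FTsupp1 maxM
theorem Fitting_sub_FTsupp {M : Subgroup G} (maxM : IsCoatom M) : sharp (fittingOf M) ⊆ FTsupp M :=
  P16.Fitting_sub_FTsupp maxM
theorem FTsupp_eq1 {M : Subgroup G} (maxM : IsCoatom M) (h : 2 < FTtype M) : FTsupp M = FTsupp1 M :=
  P16.FTsupp_eq1 maxM h
theorem FTsupp1_nonempty {M : Subgroup G} (maxM : IsCoatom M) : (FTsupp1 M).Nonempty :=
  P16.FTsupp1_nonempty maxM
/-- For a Frobenius group `M` with kernel `M_F`, `A(M) = M_F^#`. -/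
theorem FTsupp_Frobenius {M U : Subgroup G} (maxM : IsCoatom M) (h : IsFrob M (fittingHallOf M) U) :
    FTtype M = 1 ∧ FTsupp M = sharp (fittingHallOf M) :=
  P16.FTsupp_Frobenius maxM h

/-! ### the types of maximal subgroups (B & G Theorem I, Peterfalvi (8.8)-(8.10)) -/

theorem FTtype1P {M : Subgroup G} (maxM : IsCoatom M) : FTtype M = 1 ↔ ∃ U, OfTypeI M U :=
  P16.FTtype1P maxM
theorem FTtype1_iff_typeF {M : Subgroup G} (maxM : IsCoatom M) : FTtype M = 1 ↔ ∃ U, OfTypeF M U :=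
  P16.FTtype1_iff_typeF maxM
theorem FTtype2P {M : Subgroup G} (maxM : IsCoatom M) :
    FTtype M = 2 ↔ ∃ W₁ U W₂, OfTypeII M W₁ U W₂ :=
  P16.FTtype2P maxM
theorem FTtype3P {M : Subgroup G} (maxM : IsCoatom M) :
    FTtype M = 3 ↔ ∃ W₁ U W₂, OfTypeIII M W₁ U W₂ :=
  P16.FTtype3P maxM
theorem FTtype4P {M : Subgroup G} (maxM : IsCoatom M) :
    FTtype M = 4 ↔ ∃ W₁ U W₂, OfTypeIV M W₁ U W₂ :=
  P16.FTtype4P maxM
theorem FTtype5P {M : Subgroup G} (maxM : IsCoatom M) :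
    FTtype M = 5 ↔ ∃ W₁ U W₂, OfTypeV M W₁ U W₂ :=
  P16.FTtype5P maxM

theorem FTtypeP_witness {M : Subgroup G} (maxM : IsCoatom M) (h : FTtype M ≠ 1) :
    ∃ W₁ U W₂, IsTypePWith M W₁ U W₂ :=
  P16.FTtypeP_witness maxM h

theorem FTtypeP_neq1 {M W₁ U W₂ : Subgroup G} (maxM : IsCoatom M) (hP : IsTypePWith M W₁ U W₂) :
    FTtype M ≠ 1 :=
  P16.FTtypeP_neq1 maxM hP

theorem typePfacts {M W₁ U W₂ : Subgroup G} (maxM : IsCoatom M) (hP : IsTypePWith M W₁ U W₂) :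
    TypeP M ∧ IsPiHallOf (kappa M) W₁ M ∧ sigmaCore M ⊓ 𝒞(W₁) = W₂ ∧
    (TypeP1 M ↔ U = ⊥ ∨ 𝒩(U) ≤ M) :=
  P16.typePfacts maxM hP

theorem compl_of_typeII_IV {M W₁ U W₂ : Subgroup G} (maxM : IsCoatom M) (hP : IsTypePWith M W₁ U W₂)
    (h : FTtype M ≠ 5) : OfTypeII_IV M W₁ U W₂ :=
  P16.compl_of_typeII_IV maxM hP h
theorem compl_of_typeII {M W₁ U W₂ : Subgroup G} (maxM : IsCoatom M) (hP : IsTypePWith M W₁ U W₂)
    (h : FTtype M = 2) : OfTypeII M W₁ U W₂ :=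
  P16.compl_of_typeII maxM hP h
theorem compl_of_typeIII {M W₁ U W₂ : Subgroup G} (maxM : IsCoatom M) (hP : IsTypePWith M W₁ U W₂)
    (h : FTtype M = 3) : OfTypeIII M W₁ U W₂ :=
  P16.compl_of_typeIII maxM hP h
theorem compl_of_typeIV {M W₁ U W₂ : Subgroup G} (maxM : IsCoatom M) (hP : IsTypePWith M W₁ U W₂)
    (h : FTtype M = 4) : OfTypeIV M W₁ U W₂ :=
  P16.compl_of_typeIV maxM hP h
theorem compl_of_typeV {M W₁ U W₂ : Subgroup G} (maxM : IsCoatom M) (hP : IsTypePWith M W₁ U W₂)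
    (h : FTtype M = 5) : OfTypeV M W₁ U W₂ :=
  P16.compl_of_typeV maxM hP h

/-- Peterfalvi (8.8). -/
theorem FTtypeP_pair_cases (G : Type u) [Group G] [MinSimpleOdd G] :
    (∀ M : Subgroup G, IsCoatom M → FTtype M = 1) ∨ ∃ S T W₁ W₂ : Subgroup G, TypePPair S T W₁ W₂ :=
  P16.FTtypeP_pair_cases G

theorem typeP_pair_notJ {S T W₁ W₂ : Subgroup G} (h : TypePPair S T W₁ W₂) (g : G) : T ≠ S :^ g :=
  P16.typeP_pair_notJ h g

/-- Peterfalvi (8.9). -/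
theorem typeP_pairW {S T W₁ W₂ : Subgroup G} (h : TypePPair S T W₁ W₂) : ∃ U, IsTypePWith S W₁ U W₂ :=
  P16.typeP_pairW h

theorem FTtypeP_pair_witness {M W₁ U W₂ : Subgroup G} (maxM : IsCoatom M) (hP : IsTypePWith M W₁ U W₂) :
    ∃ T, TypePPair M T W₁ W₂ ∧ ∃ V, IsTypePWith T W₂ V W₁ :=
  P16.FTtypeP_pair_witness maxM hP

theorem of_typeP_pair {M T W₁ U V W₂ : Subgroup G} (maxM : IsCoatom M) (hP : IsTypePWith M W₁ U W₂)
    (maxT : IsCoatom T) (hT : IsTypePWith T W₂ V W₁) : TypePPair M T W₁ W₂ :=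
  P16.of_typeP_pair maxM hP maxT hT

/-- Peterfalvi (8.11). -/
theorem FTcore_facts {M : Subgroup G} (maxM : IsCoatom M) :
    IsHallOf (fittingHallOf M) ⊤ ∧ IsHallOf (sigmaCore M) ⊤ ∧
    ∀ (p : ℕ) (S : Subgroup G), p.Prime → IsSylowOf p S (sigmaCore M) → S ≠ ⊥ → 𝒩(S) ≤ M :=
  P16.FTcore_facts maxM

/-- Peterfalvi (8.12). -/
theorem FTtypeI_II_facts {M U : Subgroup G} (maxM : IsCoatom M) (h : FTtype M ≤ 2)
    (defM : SDProd (fittingHallOf M) U (FTder M)) :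
    (∀ (p : ℕ) (S : Subgroup G), p.Prime → IsSylowOf p S U → IsMulCommutative S ∧ rank S ≤ 2) ∧
    (∀ X : Subgroup G, X ≠ ⊥ → X ≤ U → fittingHallOf M ⊓ 𝒞(X) ≠ ⊥ → UniqMax 𝒞(X) M) ∧
    ((FTsupp M \ FTsupp1 M).Nonempty → NormedTI (FTsupp M \ FTsupp1 M) ⊤ M) :=
  P16.FTtypeI_II_facts maxM h defM

/-- Peterfalvi (8.13)(a). -/
theorem FTsupp0_fusion {M : Subgroup G} (maxM : IsCoatom M) {a g : G} (ha : a ∈ FTsupp0 M)
    (hag : g * a * g⁻¹ ∈ FTsupp0 M) : ∃ x ∈ M, x * a * x⁻¹ = g * a * g⁻¹ :=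
  P16.FTsupp0_fusion maxM ha hag

/-- Peterfalvi (8.13)(b, c), with `L = N[x]`, `H = L_F`. -/
theorem FTsupport_facts {M : Subgroup G} (maxM : IsCoatom M) {x : G} (hx : x ∈ FTsupp0 M)
    (nsCM : ¬ 𝒞[x] ≤ M) :
    x ∈ FTsupp1 M ∧ UniqMax 𝒞[x] (sigBase x) ∧
    (SDProd (fittingHallOf (sigBase x)) (M ⊓ sigBase x) (sigBase x) ∧
      SDProd (fittingHallOf (sigBase x) ⊓ 𝒞[x]) (M ⊓ 𝒞[x]) 𝒞[x]) ∧
    (∀ y ∈ FTsupp0 M, (Nat.card (fittingHallOf (sigBase x))).Coprime (Nat.card ↥(M ⊓ 𝒞[y]))) ∧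
    (x ∈ FTsupp (sigBase x) ∧ x ∉ FTsupp1 (sigBase x)) ∧
    FTtype (sigBase x) ≤ 2 ∧
    (FTtype (sigBase x) = 2 → ∃ E, IsFrob M (fittingHallOf M) E) :=
  P16.FTsupport_facts maxM hx nsCM

/-- Peterfalvi (8.15), first assertion. -/
theorem norm_FTsuppX {M : Subgroup G} (maxM : IsCoatom M) {A : Set G} (sA1 : FTsupp1 M ⊆ A)
    (sAM : A ⊆ M) {g : G} (hg : ∀ a ∈ A, g * a * g⁻¹ ∈ A) : g ∈ M :=
  P16.norm_FTsuppX maxM sA1 sAM hg

/-- Peterfalvi (8.15), second assertion. -/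
theorem FT_Dade0_hyp {M : Subgroup G} (maxM : IsCoatom M) : DadeHypothesis (FTsupp0 M) M (FTsig M) :=
  P16.FT_Dade0_hyp maxM
theorem FT_Dade_hyp {M : Subgroup G} (maxM : IsCoatom M) : DadeHypothesis (FTsupp M) M (FTsig M) :=
  P16.FT_Dade_hyp maxM
theorem FT_Dade1_hyp {M : Subgroup G} (maxM : IsCoatom M) : DadeHypothesis (FTsupp1 M) M (FTsig M) :=
  P16.FT_Dade1_hyp maxM
theorem FT_DadeF_hyp {M : Subgroup G} (maxM : IsCoatom M) :
    DadeHypothesis (sharp (fittingHallOf M)) M (FTsig M) :=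
  P16.FT_DadeF_hyp maxM

theorem FTsupp0_typeP {M W₁ U W₂ : Subgroup G} (maxM : IsCoatom M) (hP : IsTypePWith M W₁ U W₂) :
    FTsupp0 M \ FTsupp M = classSupport (zHat W₁ W₂) M :=
  P16.FTsupp0_typeP maxM hP

theorem FTtypeP_supp0_def {M W₁ U W₂ : Subgroup G} (maxM : IsCoatom M) (hP : IsTypePWith M W₁ U W₂) :
    FTsupp0 M = FTsupp M ∪ classSupport (zHat W₁ W₂) M :=
  P16.FTtypeP_supp0_def maxM hP

/-- Peterfalvi (8.16). -/
theorem FTtypeII_ker_TI {M : Subgroup G} (maxM : IsCoatom M) (h : FTtype M = 2) :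
    NormedTI (FTsupp0 M) ⊤ M ∧ NormedTI (FTsupp M) ⊤ M ∧ NormedTI (FTsupp1 M) ⊤ M :=
  P16.FTtypeII_ker_TI maxM h

/-- Peterfalvi (8.17)(a1). -/
theorem FTcore_primes {p : ℕ} (hp : p.Prime) (piGp : p ∣ Nat.card G) :
    ∃ M : Subgroup G, IsCoatom M ∧ p ∣ Nat.card (sigmaCore M) :=
  P16.FTcore_primes hp piGp

/-- Peterfalvi (8.17)(a2). -/
theorem FTcore_coprime {M L : Subgroup G} (maxM : IsCoatom M) (maxL : IsCoatom L) (notj : ∀ g, L ≠ M :^ g) :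
    (Nat.card (sigmaCore M)).Coprime (Nat.card (sigmaCore L)) :=
  P16.FTcore_coprime maxM maxL notj

/-- Peterfalvi (8.17)(b). -/
theorem card_FT_Dade1_support {M : Subgroup G} (maxM : IsCoatom M) :
    (FTDadeSupp M (FTsupp1 M)).ncard = (Nat.card (sigmaCore M) - 1) * M.index :=
  P16.card_FT_Dade1_support maxM

theorem one_notin_FT_Dade0_support {M : Subgroup G} (maxM : IsCoatom M) :
    (1 : G) ∉ FTDadeSupp M (FTsupp0 M) :=
  P16.one_notin_FT_Dade0_support maxM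

/-- Peterfalvi (8.17)(c), covering in case (8.8)(a); disjointness is `FT_Dade1_support_disjoint`. -/
theorem FT_Dade_support_partition_F (allF : ∀ M : Subgroup G, IsCoatom M → FTtype M = 1) {g : G}
    (ntg : g ≠ 1) : ∃ M : Subgroup G, IsCoatom M ∧ g ∈ FTDadeSupp M (FTsupp1 M) :=
  P16.FT_Dade_support_partition_F allF ntg

/-- Peterfalvi (8.17)(c), case (8.8)(b). -/
theorem FT_Dade_support_partition_P {S T W₁ W₂ : Subgroup G} (h : TypePPair S T W₁ W₂) :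
    (∀ g : G, g ≠ 1 → (∃ M : Subgroup G, IsCoatom M ∧ g ∈ FTDadeSupp M (FTsupp1 M)) ∨
      g ∈ classSupport (zHat W₁ W₂) ⊤) ∧
    ∀ M : Subgroup G, IsCoatom M → Disjoint (classSupport (zHat W₁ W₂) ⊤) (FTDadeSupp M (FTsupp1 M)) :=
  P16.FT_Dade_support_partition_P h

/-- Peterfalvi (8.18). -/
theorem FT_Dade_support_disjoint {S T : Subgroup G} (maxS : IsCoatom S) (maxT : IsCoatom T)
    (notj : ∀ g, T ≠ S :^ g) :
    ((FTsupports S T ↔ ¬ Disjoint (FTsupp1 S) (FTsupp T)) ∧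
      ∀ x ∈ FTsupp1 S, x ∈ FTsupp T → ¬ 𝒞[x] ≤ S ∧ x ∉ FTsupp1 T) ∧
    ((∃ g, FTsupports S (T :^ g)) ↔
      ¬ Disjoint (FTDadeSupp S (FTsupp1 S)) (FTDadeSupp T (FTsupp T))) ∧
    (Disjoint (FTDadeSupp S (FTsupp1 S)) (FTDadeSupp T (FTsupp T)) ∨
      Disjoint (FTDadeSupp T (FTsupp1 T)) (FTDadeSupp S (FTsupp S))) :=
  P16.FT_Dade_support_disjoint maxS maxT notj

theorem FT_Dade1_support_disjoint {S T : Subgroup G} (maxS : IsCoatom S) (maxT : IsCoatom T)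
    (notj : ∀ g, T ≠ S :^ g) : Disjoint (FTDadeSupp S (FTsupp1 S)) (FTDadeSupp T (FTsupp1 T)) :=
  P16.FT_Dade1_support_disjoint maxS maxT notj

end CA.BG
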